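import Groth.Agent.MorLib.FormallyEtaleHom
import Groth.Agent.MorLib.FSmoothSection
import Mathlib

/-! Formal smoothness and unramifiedness of stalk maps. -/

set_option autoImplicit false

universe u

open CategoryTheory CategoryTheory.Limits AlgebraicGeometry TopologicalSpace Opposite

namespace Groth.Agent.Synt29.StalkFormal

variable {X Y : Scheme.{u}} (f : X ⟶ Y)

lemma formallyUnramified_iff_stalkMap :
    FormallyUnramified f ↔ ∀ x, (f.stalkMap x).hom.FormallyUnramified := by
  refine ⟨fun _ x => FormallyUnramified.stalkMap f x, fun h => ⟨fun {U} hU {V} hV e => ?_⟩⟩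
  refine RingHom.FormallyUnramified.ofLocalizationPrime _ fun J hJ => ?_
  let x : X := hV.fromSpec ⟨J, hJ⟩
  have hx : x ∈ V := by
    rw [← hV.opensRange_fromSpec]
    exact ⟨⟨J, hJ⟩, rfl⟩
  have hJ' : (hV.primeIdealOf ⟨x, hx⟩).asIdeal = J := by
    have : hV.primeIdealOf ⟨x, hx⟩ = ⟨J, hJ⟩ :=
      hV.fromSpec.isOpenEmbedding.injective (hV.fromSpec_primeIdealOf ⟨x, hx⟩)
    rw [this]
  have key := (RingHom.FormallyUnramified.respectsIso.arrow_mk_iso_iff
    (IsAffineOpen.arrowStalkMapIso f U hU V hV e hx)).mp (h x)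
  have gen : ∀ {R S : Type u} [CommRing R] [CommRing S] (φ : R →+* S) (p : Ideal S) [p.IsPrime]
      (q : Ideal R) [q.IsPrime] (hq : q = p.comap φ) (P : Ideal S) [P.IsPrime], p = P →
      (Localization.localRingHom q p φ hq).FormallyUnramified →
      (Localization.localRingHom (P.comap φ) P φ rfl).FormallyUnramified := by
    intro R S _ _ φ p _ q _ hq P _ hP hl
    subst hP hq
    exact hl
  exact gen (f.appLE U V e).hom _ _
    (congr($(IsAffineOpen.comap_primeIdealOf_appLE U hU V hV e hx).1).symm) J hJ' key

lemma formallySmooth_stalkMap (hf : MoreMor.IsFormallySmoothHom f) (x : X) :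
    (f.stalkMap x).hom.FormallySmooth := by
  obtain ⟨U, hU, hfx, -⟩ := Opens.isBasis_iff_nbhd.mp Y.isBasis_affineOpens
    (Opens.mem_top (f x))
  obtain ⟨V, hV, hx, e⟩ := Opens.isBasis_iff_nbhd.mp X.isBasis_affineOpens
    (show x ∈ f ⁻¹ᵁ U from hfx)
  have h := MorLib.formallySmooth_appLE_of_isFormallySmoothHom f hf V U hV hU e
  have gen : ∀ {R S : Type u} [CommRing R] [CommRing S] (φ : R →+* S) (p : Ideal S) [p.IsPrime]
      (q : Ideal R) [q.IsPrime] (hq : q = p.comap φ),
      φ.FormallySmooth → (Localization.localRingHom q p φ hq).FormallySmooth := by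
    intro R S _ _ φ p _ q _ hq hφ
    algebraize [φ]
    let ψ := Localization.localRingHom q p φ hq
    let _ : Algebra (Localization.AtPrime q) (Localization.AtPrime p) := ψ.toAlgebra
    have : IsScalarTower R (Localization.AtPrime q) (Localization.AtPrime p) :=
      IsScalarTower.of_algebraMap_eq fun r =>
        (IsScalarTower.algebraMap_apply R S (Localization.AtPrime p) r).trans
          (Localization.localRingHom_to_map _ _ _ hq r).symm
    have : Algebra.FormallySmooth S (Localization.AtPrime p) :=
      Algebra.FormallySmooth.of_isLocalization p.primeCompl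
    have : Algebra.FormallySmooth R (Localization.AtPrime p) :=
      Algebra.FormallySmooth.comp R S _
    exact Algebra.FormallySmooth.localization_base q.primeCompl
  exact (RingHom.FormallySmooth.respectsIso.arrow_mk_iso_iff
    (IsAffineOpen.arrowStalkMapIso f U hU V hV e hx)).mpr
    (gen (f.appLE U V e).hom _ _
      (congr($(IsAffineOpen.comap_primeIdealOf_appLE U hU V hV e hx).1).symm) h)

lemma formallySmooth_stalkMap_of_etale [Etale f] (x : X) :
    (f.stalkMap x).hom.FormallySmooth := by
  refine formallySmooth_stalkMap f ?_ x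
  exact MorLib.isFormallySmoothHom_of_appLE f fun U V hU hV e => by
    have := HasRingHomProperty.appLE (P := @Etale) f ‹_› ⟨V, hV⟩ ⟨U, hU⟩ e
    have h2 : (f.appLE V U e).hom.FormallyEtale := this.formallyEtale
    let _ := (f.appLE V U e).hom.toAlgebra
    have : Algebra.FormallyEtale Γ(Y, V) Γ(X, U) := h2
    infer_instance

end Groth.Agent.Synt29.StalkFormal
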