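import Mathlib
import Groth.Prelude.Def_RegImm
import Groth.Agent.SmoothDim.Basic
import Groth.Agent.SmallFlat.LCI

/-!
# Global and local complete intersections over a field: localisation and locality
-/

universe u

open TensorProduct

set_option linter.style.haveILetI false

namespace Groth.Agent.Synt29

variable {k : Type u} [Field k] {S : Type u} [CommRing S] [Algebra k S]

theorem card_le_ringKrullDim_add [Nontrivial S] {ι σ : Type*} [Finite ι] [Finite σ]
    (P : Algebra.Presentation k S ι σ) :
    ((Nat.card ι : ℕ) : WithBot ℕ∞) ≤ ringKrullDim S + (Nat.card σ : ℕ) := by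
  let n := Nat.card ι
  let c := Nat.card σ
  let Q := P.reindex (Finite.equivFin ι).symm (Finite.equivFin σ).symm
  let A := MvPolynomial (Fin n) k
  let φ : A →+* S := (MvPolynomial.aeval (R := k) Q.val).toRingHom
  have hker : RingHom.ker φ = Ideal.span (Set.range Q.relation) := by
    rw [Q.span_range_relation_eq_ker, Algebra.Generators.ker_eq_ker_aeval_val]
    rfl
  obtain ⟨m, hm, hle⟩ := Ideal.exists_le_maximal (RingHom.ker φ) (RingHom.ker_ne_top φ)
  have h1 := Ideal.height_le_ringKrullDim_quotient_add_encard (p := m) (Set.range Q.relation)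
    (fun x hx => hle (hker.ge (Ideal.subset_span hx)))
  have hM : m.height = (n : ℕ∞) := by
    rw [PrimeSpectrum.height_eq_orderHeight ⟨m, hm.isPrime⟩]
    exact SmoothDim.height_maximal_mvPolynomial k n ⟨m, hm.isPrime⟩ hm
  rw [hM] at h1
  refine le_trans h1 (add_le_add ?_ ?_)
  · exact (ringKrullDim_eq_of_ringEquiv ((Ideal.quotEquivOfEq hker.symm).trans
      (RingHom.quotientKerEquivOfSurjective Q.aeval_val_surjective))).le
  · have h2 : (Set.range Q.relation).encard ≤ (c : ℕ∞) := by
      rw [← Set.image_univ]
      exact (Set.encard_image_le _ _).trans (by simp [c])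
    exact WithBot.coe_le_coe.2 h2

theorem isGlobalCI_of_presentation {ι σ : Type*} [Finite ι] [Finite σ]
    (P : Algebra.Presentation k S ι σ) (hle : Nat.card σ ≤ Nat.card ι)
    (hdim : ringKrullDim S ≤ ((Nat.card ι - Nat.card σ : ℕ) : WithBot ℕ∞)) :
    Synt.IsGlobalCI k S := by
  rcases subsingleton_or_nontrivial S with h | h
  · exact Or.inl h
  let Q := P.reindex (Finite.equivFin ι).symm (Finite.equivFin σ).symm
  refine Or.inr ⟨Nat.card ι, Nat.card σ, hle, MvPolynomial.aeval Q.val, Q.relation,
    Q.aeval_val_surjective, ?_, le_antisymm hdim ?_⟩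
  · rw [Q.span_range_relation_eq_ker, Algebra.Generators.ker_eq_ker_aeval_val]
    rfl
  · have h1 := card_le_ringKrullDim_add P
    obtain ⟨d, hd⟩ := WithBot.ne_bot_iff_exists.1
      (fun hb : ringKrullDim S = ⊥ => WithBot.bot_lt_coe 0 |>.not_ge (hb ▸ ringKrullDim_nonneg_of_nontrivial (R := S)))
    rw [← hd] at h1 ⊢
    have h3 : ((Nat.card ι : ℕ) : ℕ∞) ≤ d + (Nat.card σ : ℕ∞) := WithBot.coe_le_coe.1 h1
    refine WithBot.coe_le_coe.2 ?_
    cases d with
    | top => exact le_top
    | coe d =>
      rw [← Nat.cast_add, Nat.cast_le] at h3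
      exact Nat.cast_le.2 (by omega)

theorem exists_presentation_of_isGlobalCI (h : Synt.IsGlobalCI k S) [Nontrivial S] :
    ∃ (n c : ℕ) (_ : Algebra.Presentation k S (Fin n) (Fin c)),
      c ≤ n ∧ ringKrullDim S = ((n - c : ℕ) : WithBot ℕ∞) := by
  rcases h with h | ⟨n, c, hcn, φ, r, hφ, hker, hdim⟩
  · exact absurd h (not_subsingleton S)
  have haev : MvPolynomial.aeval (fun i => φ (MvPolynomial.X i)) = φ := MvPolynomial.algHom_ext (by simp)
  let G : Algebra.Generators k S (Fin n) := .ofSurjective (fun i => φ (MvPolynomial.X i)) (by rwa [haev])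
  refine ⟨n, c, { toGenerators := G, relation := r, span_range_relation_eq_ker := ?_ }, hcn, hdim⟩
  rw [Algebra.Generators.ker_eq_ker_aeval_val]
  show _ = RingHom.ker (MvPolynomial.aeval (fun i => φ (MvPolynomial.X i))).toRingHom
  rw [haev, hker]

theorem isGlobalCI_away (h : Synt.IsGlobalCI k S) (g : S) (T : Type u) [CommRing T] [Algebra k T]
    [Algebra S T] [IsScalarTower k S T] [IsLocalization.Away g T] : Synt.IsGlobalCI k T := by
  rcases subsingleton_or_nontrivial S with hS | hS
  · exact Or.inl ((algebraMap S T).codomain_trivial)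
  obtain ⟨n, c, P, hcn, hdim⟩ := exists_presentation_of_isGlobalCI h
  refine isGlobalCI_of_presentation ((Algebra.Presentation.localizationAway T g).comp P) ?_ ?_
  · simp only [Nat.card_sum, Nat.card_unique, Nat.card_fin]; omega
  · refine le_trans (le_trans ?_ hdim.le) (le_of_eq ?_)
    · exact Order.krullDim_le_of_strictMono (PrimeSpectrum.comap (algebraMap S T))
        (Monotone.strictMono_of_injective (fun _ _ h => Ideal.comap_mono h)
          (PrimeSpectrum.localization_comap_injective T (Submonoid.powers g)))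
    · simp only [Nat.card_sum, Nat.card_unique, Nat.card_fin]
      norm_cast
      rw [show 1 + n - (1 + c) = n - c by omega]

/-- Transport of `IsGlobalCI` along a pair of compatible isomorphisms. -/
theorem isGlobalCI_of_equiv {k' : Type u} [Field k'] {T : Type u} [CommRing T] [Algebra k' T]
    (σ : k ≃+* k') (e : S ≃+* T) (he : ∀ a, e (algebraMap k S a) = algebraMap k' T (σ a))
    (h : Synt.IsGlobalCI k S) : Synt.IsGlobalCI k' T := by
  rcases h with h | ⟨n, c, hcn, φ, r, hφ, hker, hdim⟩
  · exact Or.inl e.symm.toEquiv.subsingleton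
  let ρ : MvPolynomial (Fin n) k ≃+* MvPolynomial (Fin n) k' := MvPolynomial.mapEquiv (Fin n) σ
  let ψ : MvPolynomial (Fin n) k' →ₐ[k'] T :=
    { (e.toRingHom.comp φ.toRingHom).comp ρ.symm.toRingHom with
      commutes' := fun b => by
        show e (φ (ρ.symm (MvPolynomial.C b))) = algebraMap k' T b
        rw [show ρ.symm (MvPolynomial.C b) = MvPolynomial.C (σ.symm b) from by
          rw [RingEquiv.symm_apply_eq]; simp [ρ, MvPolynomial.mapEquiv_apply]]
        rw [← MvPolynomial.algebraMap_eq, AlgHom.commutes, he, RingEquiv.apply_symm_apply] }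
  refine Or.inr ⟨n, c, hcn, ψ, fun i => ρ (r i), e.surjective.comp (hφ.comp ρ.symm.surjective), ?_, ?_⟩
  · have h2 : RingHom.ker ψ.toRingHom = (RingHom.ker φ.toRingHom).comap ρ.symm := by
      ext x
      show e (φ (ρ.symm x)) = 0 ↔ φ (ρ.symm x) = 0
      exact map_eq_zero_iff e e.injective
    rw [h2, hker, Ideal.comap_symm, Ideal.map_span, ← Set.range_comp]
    rfl
  · rw [← hdim]
    exact (ringKrullDim_eq_of_ringEquiv e).symm

theorem isLCIOver_away (h : Synt.IsLCIOver k S) (g : S) (T : Type u) [CommRing T] [Algebra k T]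
    [Algebra S T] [IsScalarTower k S T] [IsLocalization.Away g T] : Synt.IsLCIOver k T := by
  have hfk := h.1
  have : Algebra.FiniteType S T := IsLocalization.finiteType_of_monoid_fg (Submonoid.powers g) T
  refine ⟨Algebra.FiniteType.trans (S := S) inferInstance inferInstance, fun P => ?_⟩
  obtain ⟨a, ha, haCI⟩ := h.2 (PrimeSpectrum.comap (algebraMap S T) P)
  refine ⟨algebraMap S T a, ha, ?_⟩
  have h1 : IsLocalization.Away (g * a) (Localization.Away (algebraMap S T a)) :=
    IsLocalization.Away.mul' T _ g a
  let L := Localization.Away (algebraMap S (Localization.Away a) g)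
  have h2 : IsLocalization.Away (g * a) L := IsLocalization.Away.mul (Localization.Away a) L a g
  let e : L ≃ₐ[S] Localization.Away (algebraMap S T a) := IsLocalization.algEquiv (Submonoid.powers (g * a)) _ _
  refine isGlobalCI_of_equiv (RingEquiv.refl k) e.toRingEquiv (fun x => ?_)
    (isGlobalCI_away haCI (algebraMap S (Localization.Away a) g) L)
  rw [IsScalarTower.algebraMap_apply k S L, IsScalarTower.algebraMap_apply k S (Localization.Away (algebraMap S T a))]
  exact e.commutes _

theorem isLCIOver_of_equiv {k' : Type u} [Field k'] {T : Type u} [CommRing T] [Algebra k' T]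
    (σ : k ≃+* k') (e : S ≃+* T) (he : ∀ a, e (algebraMap k S a) = algebraMap k' T (σ a))
    (h : Synt.IsLCIOver k S) : Synt.IsLCIOver k' T := by
  refine ⟨?_, fun P => ?_⟩
  · have h1 : (algebraMap k S).FiniteType := RingHom.finiteType_algebraMap.2 h.1
    have h2 : ((e.toRingHom.comp (algebraMap k S)).comp σ.symm.toRingHom).FiniteType :=
      ((RingHom.FiniteType.of_surjective e.toRingHom e.surjective).comp h1).comp
        (RingHom.FiniteType.of_surjective σ.symm.toRingHom σ.symm.surjective)
    rw [show (e.toRingHom.comp (algebraMap k S)).comp σ.symm.toRingHom = algebraMap k' T from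
      RingHom.ext fun b => (he (σ.symm b)).trans (by rw [RingEquiv.apply_symm_apply])] at h2
    exact RingHom.finiteType_algebraMap.1 h2
  · obtain ⟨a, ha, haCI⟩ := h.2 (PrimeSpectrum.comap e.toRingHom P)
    refine ⟨e a, ha, ?_⟩
    let e' : Localization.Away a ≃+* Localization.Away (e a) :=
      IsLocalization.ringEquivOfRingEquiv _ _ e (show Submonoid.map e.toMonoidHom (Submonoid.powers a) = Submonoid.powers (e a) from Submonoid.map_powers e.toMonoidHom a)
    refine isGlobalCI_of_equiv σ e' (fun x => ?_) haCI
    rw [IsScalarTower.algebraMap_apply k S (Localization.Away a),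
      IsScalarTower.algebraMap_apply k' T (Localization.Away (e a)), ← he]
    exact IsLocalization.ringEquivOfRingEquiv_eq _ _

theorem isLCIOver_of_span (s : Set S) (hs : Ideal.span s = ⊤) [Algebra.FiniteType k S]
    (h : ∀ g ∈ s, Synt.IsLCIOver k (Localization.Away g)) : Synt.IsLCIOver k S := by
  refine ⟨inferInstance, fun P => ?_⟩
  obtain ⟨g, hg, hgP⟩ : ∃ g ∈ s, g ∉ P.asIdeal := by
    by_contra! hc
    exact P.2.ne_top (top_le_iff.1 (hs ▸ Ideal.span_le.2 hc))
  obtain ⟨Q, hQ⟩ : P ∈ Set.range (PrimeSpectrum.comap (algebraMap S (Localization.Away g))) := by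
    rw [PrimeSpectrum.localization_away_comap_range (Localization.Away g) g]; exact hgP
  obtain ⟨a', ha', haCI⟩ := (h g hg).2 Q
  obtain ⟨m, a, ha⟩ := IsLocalization.Away.surj g a'
  refine ⟨g * a, fun hga => ?_, ?_⟩
  · rcases P.2.mem_or_mem hga with h1 | h1
    · exact hgP h1
    · rw [← hQ] at h1
      have h2 : algebraMap S (Localization.Away g) a ∈ Q.asIdeal := h1
      rw [← ha] at h2
      rcases Q.2.mem_or_mem h2 with h3 | h3
      · exact ha' h3
      · exact Q.2.ne_top (Ideal.eq_top_of_isUnit_mem _ h3 ((IsLocalization.Away.algebraMap_isUnit g).pow m))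
  · have hass : Associated a' (algebraMap S (Localization.Away g) a) :=
      ⟨((IsLocalization.Away.algebraMap_isUnit g).pow m).unit, ha⟩
    have : IsLocalization.Away (algebraMap S (Localization.Away g) a) (Localization.Away a') :=
      IsLocalization.Away.of_associated hass
    have h1 : IsLocalization.Away (g * a) (Localization.Away a') :=
      IsLocalization.Away.mul' (Localization.Away g) _ g a
    let e : Localization.Away a' ≃ₐ[S] Localization.Away (g * a) :=
      IsLocalization.algEquiv (Submonoid.powers (g * a)) _ _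
    refine isGlobalCI_of_equiv (RingEquiv.refl k) e.toRingEquiv (fun x => ?_) haCI
    rw [IsScalarTower.algebraMap_apply k S (Localization.Away a'),
      IsScalarTower.algebraMap_apply k S (Localization.Away (g * a))]
    exact e.commutes _

end Groth.Agent.Synt29
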