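import Mathlib
import Groth.Agent.Synt29.GCI

/-!
# Syntomic ring maps form a local property
-/

universe u

open TensorProduct

set_option linter.style.haveILetI false

namespace Groth.Agent.Synt29

variable {R : Type u} [CommRing R]

theorem algebraMap_isUnit_fiber_iff (r : R) (p : PrimeSpectrum R) :
    IsUnit (algebraMap R p.asIdeal.ResidueField r) ↔ r ∉ p.asIdeal := by
  rw [isUnit_iff_ne_zero, ne_eq, Ideal.algebraMap_residueField_eq_zero]

section fibre

variable (r : R) (R' : Type u) [CommRing R'] [Algebra R R'] [IsLocalization.Away r R']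
variable (S' : Type u) [CommRing S'] [Algebra R' S'] [Algebra R S'] [IsScalarTower R R' S']

/-- The residue fields of a localisation. -/
noncomputable def residueEquiv (p' : PrimeSpectrum R') :
    (p'.asIdeal.under R).ResidueField ≃+* p'.asIdeal.ResidueField :=
  RingEquiv.ofBijective (Ideal.ResidueField.map (p'.asIdeal.under R) p'.asIdeal (algebraMap R R') rfl)
    ((RingHom.surjectiveOnStalks_of_isLocalization (M := Submonoid.powers r) R').residueFieldMap_bijective
      (p'.asIdeal.under R) p'.asIdeal rfl)

theorem residueEquiv_algebraMap (p' : PrimeSpectrum R') (a : R) :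
    residueEquiv r R' p' (algebraMap R _ a) = algebraMap R' _ (algebraMap R R' a) :=
  Ideal.ResidueField.map_algebraMap _ _ _ rfl a

theorem exists_fiberEquiv (p' : PrimeSpectrum R') :
    ∃ e : (p'.asIdeal.under R).Fiber S' ≃+* p'.asIdeal.Fiber S',
      ∀ x, e (algebraMap (p'.asIdeal.under R).ResidueField _ x) =
        algebraMap p'.asIdeal.ResidueField _ (residueEquiv r R' p' x) := by
  let κ := (p'.asIdeal.under R).ResidueField
  let κ' := p'.asIdeal.ResidueField
  let F := (p'.asIdeal.under R).Fiber S'
  let F' := p'.asIdeal.Fiber S'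
  let σ := residueEquiv r R' p'
  let iL : κ →+* F' := (algebraMap κ' F').comp σ.toRingHom
  let iR : S' →+* F' := (Algebra.TensorProduct.includeRight (R := R') (A := κ') (B := S')).toRingHom
  let fL : κ →ₐ[R] F' := ⟨iL, fun a => by
    show (σ (algebraMap R κ a)) ⊗ₜ[R'] (1 : S') = (algebraMap R κ' a) ⊗ₜ[R'] (1 : S')
    rw [residueEquiv_algebraMap, ← IsScalarTower.algebraMap_apply R R' κ']⟩
  let fR : S' →ₐ[R] F' := ⟨iR, fun a => by
    show (1 : κ') ⊗ₜ[R'] (algebraMap R S' a) = (algebraMap R κ' a) ⊗ₜ[R'] (1 : S')
    rw [IsScalarTower.algebraMap_apply R R' κ']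
    rw [IsScalarTower.algebraMap_apply R R' S', Algebra.algebraMap_eq_smul_one (R := R') (A := S'),
      TensorProduct.tmul_smul, TensorProduct.smul_tmul', Algebra.smul_def, mul_one]⟩
  let Φ : F →ₐ[R] F' := Algebra.TensorProduct.lift fL fR (fun _ _ => Commute.all _ _)
  let jR : S' →+* F := (Algebra.TensorProduct.includeRight (R := R) (A := κ) (B := S')).toRingHom
  letI : Algebra R' F := (jR.comp (algebraMap R' S')).toAlgebra
  let jL : κ' →+* F := (algebraMap κ F).comp σ.symm.toRingHom
  have hcomm : jL.comp (algebraMap R' κ') = jR.comp (algebraMap R' S') := by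
    refine IsLocalization.ringHom_ext (Submonoid.powers r) (RingHom.ext fun a => ?_)
    show (σ.symm (algebraMap R' κ' (algebraMap R R' a))) ⊗ₜ[R] (1 : S') =
      (1 : κ) ⊗ₜ[R] (algebraMap R' S' (algebraMap R R' a))
    rw [← residueEquiv_algebraMap r R' p' a, RingEquiv.symm_apply_apply,
      ← IsScalarTower.algebraMap_apply R R' S', Algebra.algebraMap_eq_smul_one (R := R) (A := S'),
      TensorProduct.tmul_smul, TensorProduct.smul_tmul', Algebra.smul_def, mul_one]
  let gL : κ' →ₐ[R'] F := ⟨jL, fun a => RingHom.congr_fun hcomm a⟩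
  let gR : S' →ₐ[R'] F := ⟨jR, fun a => rfl⟩
  let Ψ : F' →ₐ[R'] F := Algebra.TensorProduct.lift gL gR (fun _ _ => Commute.all _ _)
  have hΦ : ∀ (a : κ) (s : S'), Φ (a ⊗ₜ[R] s) = σ a ⊗ₜ[R'] s := fun a s => by
    show Φ _ = _
    rw [Algebra.TensorProduct.lift_tmul]
    show (σ a ⊗ₜ[R'] (1 : S')) * ((1 : κ') ⊗ₜ[R'] s) = _
    rw [Algebra.TensorProduct.tmul_mul_tmul, mul_one, one_mul]
  have hΨ : ∀ (a : κ') (s : S'), Ψ (a ⊗ₜ[R'] s) = σ.symm a ⊗ₜ[R] s := fun a s => by
    show Ψ _ = _
    rw [Algebra.TensorProduct.lift_tmul]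
    show (σ.symm a ⊗ₜ[R] (1 : S')) * ((1 : κ) ⊗ₜ[R] s) = _
    rw [Algebra.TensorProduct.tmul_mul_tmul, mul_one, one_mul]
  have h1 : Φ.toRingHom.comp Ψ.toRingHom = RingHom.id F' := RingHom.ext fun z => by
    show Φ (Ψ z) = z
    induction z using TensorProduct.induction_on with
    | zero => rw [map_zero, map_zero]
    | tmul a s => rw [hΨ, hΦ, RingEquiv.apply_symm_apply]
    | add x y hx hy => rw [map_add, map_add, hx, hy]
  have h2 : Ψ.toRingHom.comp Φ.toRingHom = RingHom.id F := RingHom.ext fun z => by
    show Ψ (Φ z) = z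
    induction z using TensorProduct.induction_on with
    | zero => rw [map_zero, map_zero]
    | tmul a s => rw [hΦ, hΨ, RingEquiv.symm_apply_apply]
    | add x y hx hy => rw [map_add, map_add, hx, hy]
  exact ⟨RingEquiv.ofRingHom Φ.toRingHom Ψ.toRingHom h1 h2, fun x => hΦ x 1⟩

end fibre

theorem isLCIOver_of_subsingleton (k S : Type u) [Field k] [CommRing S] [Algebra k S] [Subsingleton S] :
    Synt.IsLCIOver k S :=
  ⟨Algebra.FiniteType.of_surjective (Algebra.ofId k S) fun x => ⟨0, Subsingleton.elim _ _⟩,
    fun p => (p.2.ne_top (Subsingleton.elim _ _)).elim⟩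

variable {S : Type u} [CommRing S] [Algebra R S]

theorem isSyntomic_away_target (h : Synt.IsSyntomic R S) (g : S) (T : Type u) [CommRing T] [Algebra R T]
    [Algebra S T] [IsScalarTower R S T] [IsLocalization.Away g T] : Synt.IsSyntomic R T := by
  obtain ⟨hfl, hfp, hf⟩ := h
  have : Algebra.FinitePresentation S T := IsLocalization.Away.finitePresentation g
  have : Module.Flat S T := IsLocalization.flat T (Submonoid.powers g)
  refine ⟨Module.Flat.trans R S T, Algebra.FinitePresentation.trans R S T, fun p => ?_⟩
  let ι : p.asIdeal.Fiber S →ₐ[p.asIdeal.ResidueField] p.asIdeal.Fiber T :=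
    Algebra.TensorProduct.map (AlgHom.id _ _) (IsScalarTower.toAlgHom R S T)
  letI : Algebra (p.asIdeal.Fiber S) (p.asIdeal.Fiber T) := ι.toRingHom.toAlgebra
  haveI : IsScalarTower p.asIdeal.ResidueField (p.asIdeal.Fiber S) (p.asIdeal.Fiber T) :=
    .of_algebraMap_eq fun x => (ι.commutes x).symm
  haveI hloc := IsLocalization.tensorProduct_tensorProduct_right R p.asIdeal.ResidueField (Submonoid.powers g) T
    (RingHom.ext fun s => by
      show ι ((1 : p.asIdeal.ResidueField) ⊗ₜ[R] s) = _
      exact Algebra.TensorProduct.map_tmul _ _ _ _)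
  haveI : IsLocalization.Away
      ((Algebra.TensorProduct.includeRight : S →ₐ[R] p.asIdeal.Fiber S) g) (p.asIdeal.Fiber T) := by
    show IsLocalization (Submonoid.powers _) _
    rw [← Submonoid.map_powers]
    exact hloc
  exact isLCIOver_away (hf p) ((Algebra.TensorProduct.includeRight : S →ₐ[R] p.asIdeal.Fiber S) g) (p.asIdeal.Fiber T)

theorem isSyntomic_of_span (s : Set S) (hs : Ideal.span s = ⊤)
    (h : ∀ g ∈ s, Synt.IsSyntomic R (Localization.Away g)) : Synt.IsSyntomic R S := by
  have hfp : Algebra.FinitePresentation R S :=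
    Algebra.FinitePresentation.of_span_eq_top_target s hs fun g hg => (h g hg).2.1
  have hfl : Module.Flat R S := by
    refine Module.flat_of_isLocalized_span S S s hs
      (fun g => Localization.Away (g : S)) (fun g => Algebra.linearMap S _) ?_
    exact fun g => (h g g.2).1
  refine ⟨hfl, hfp, fun p => ?_⟩
  refine isLCIOver_of_span ((Algebra.TensorProduct.includeRight : S →ₐ[R] p.asIdeal.Fiber S) '' s) ?_ ?_
  · rw [← Ideal.map_span, hs, Ideal.map_top]
  · rintro _ ⟨g, hg, rfl⟩
    let T := Localization.Away g
    let F := p.asIdeal.Fiber S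
    let ι : F →ₐ[p.asIdeal.ResidueField] p.asIdeal.Fiber T :=
      Algebra.TensorProduct.map (AlgHom.id _ _) (IsScalarTower.toAlgHom R S T)
    letI : Algebra F (p.asIdeal.Fiber T) := ι.toRingHom.toAlgebra
    haveI : IsScalarTower p.asIdeal.ResidueField F (p.asIdeal.Fiber T) :=
      .of_algebraMap_eq fun x => (ι.commutes x).symm
    haveI hloc := IsLocalization.tensorProduct_tensorProduct_right R p.asIdeal.ResidueField (Submonoid.powers g) T
      (RingHom.ext fun s => by
        show ι ((1 : p.asIdeal.ResidueField) ⊗ₜ[R] s) = _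
        exact Algebra.TensorProduct.map_tmul _ _ _ _)
    haveI : IsLocalization.Away
        ((Algebra.TensorProduct.includeRight : S →ₐ[R] F) g) (p.asIdeal.Fiber T) := by
      show IsLocalization (Submonoid.powers _) _
      rw [← Submonoid.map_powers]
      exact hloc
    let e : p.asIdeal.Fiber T ≃ₐ[F] Localization.Away ((Algebra.TensorProduct.includeRight : S →ₐ[R] F) g) :=
      IsLocalization.algEquiv (Submonoid.powers ((Algebra.TensorProduct.includeRight : S →ₐ[R] F) g)) _ _
    refine isLCIOver_of_equiv (RingEquiv.refl _) e.toRingEquiv (fun x => ?_) ((h g hg).2.2 p)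
    rw [IsScalarTower.algebraMap_apply p.asIdeal.ResidueField F (p.asIdeal.Fiber T),
      IsScalarTower.algebraMap_apply p.asIdeal.ResidueField F (Localization.Away _)]
    exact e.commutes _

theorem isSyntomic_of_away_source (r : R) (R' : Type u) [CommRing R'] [Algebra R R'] [IsLocalization.Away r R']
    (S' : Type u) [CommRing S'] [Algebra R' S'] [Algebra R S'] [IsScalarTower R R' S']
    (h : Synt.IsSyntomic R' S') : Synt.IsSyntomic R S' := by
  obtain ⟨hfl, hfp, hf⟩ := h
  have : Algebra.FinitePresentation R R' := IsLocalization.Away.finitePresentation r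
  have : Module.Flat R R' := IsLocalization.flat R' (Submonoid.powers r)
  refine ⟨Module.Flat.trans R R' S', Algebra.FinitePresentation.trans R R' S', fun p => ?_⟩
  by_cases hr : r ∈ p.asIdeal
  · have : Subsingleton (p.asIdeal.Fiber S') := by
      refine subsingleton_of_zero_eq_one ?_
      obtain ⟨u, hu⟩ := (IsLocalization.Away.algebraMap_isUnit (S := R') r).exists_right_inv
      have h1 : algebraMap R p.asIdeal.ResidueField r = 0 := Ideal.algebraMap_residueField_eq_zero.2 hr
      rw [Algebra.TensorProduct.one_def]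
      calc (0 : p.asIdeal.Fiber S')
          = (algebraMap R p.asIdeal.ResidueField r) ⊗ₜ[R] (algebraMap R' S' u) := by rw [h1, TensorProduct.zero_tmul]
        _ = (1 : p.asIdeal.ResidueField) ⊗ₜ[R] (r • algebraMap R' S' u) := by
            rw [TensorProduct.tmul_smul, TensorProduct.smul_tmul', Algebra.smul_def, mul_one]
        _ = 1 ⊗ₜ[R] 1 := by
            rw [Algebra.smul_def, IsScalarTower.algebraMap_apply R R' S', ← map_mul, hu, map_one]
    exact isLCIOver_of_subsingleton _ _
  · obtain ⟨p', hp'⟩ : p ∈ Set.range (PrimeSpectrum.comap (algebraMap R R')) := by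
      rw [PrimeSpectrum.localization_away_comap_range R' r]; exact hr
    subst hp'
    obtain ⟨e, he⟩ := exists_fiberEquiv r R' S' p'
    refine isLCIOver_of_equiv (residueEquiv r R' p').symm e.symm (fun b => ?_) (hf p')
    apply e.injective
    refine (e.apply_symm_apply _).trans ?_
    exact (congrArg (algebraMap p'.asIdeal.ResidueField _) ((residueEquiv r R' p').apply_symm_apply b)).symm.trans
      (he _).symm

theorem isSyntomic_away_base (h : Synt.IsSyntomic R S) (r : R) (R' S' : Type u) [CommRing R'] [CommRing S']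
    [Algebra R R'] [IsLocalization.Away r R'] [Algebra S S'] [IsLocalization.Away (algebraMap R S r) S']
    [Algebra R' S'] [Algebra R S'] [IsScalarTower R R' S'] [IsScalarTower R S S'] :
    Synt.IsSyntomic R' S' := by
  have h1 : Synt.IsSyntomic R S' := isSyntomic_away_target h (algebraMap R S r) S'
  obtain ⟨hfl, hfp, hf⟩ := h1
  have : Algebra.FiniteType R R' := IsLocalization.finiteType_of_monoid_fg (Submonoid.powers r) R'
  refine ⟨?_, Algebra.FinitePresentation.of_restrict_scalars_finitePresentation R R' S', fun p' => ?_⟩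
  · exact (Module.flat_iff_of_isLocalization (S := R') (p := Submonoid.powers r) (M := S')).2 hfl
  · obtain ⟨e, he⟩ := exists_fiberEquiv r R' S' p'
    exact isLCIOver_of_equiv (residueEquiv r R' p') e he (hf ⟨p'.asIdeal.under R, inferInstance⟩)

/-- The property of ring maps of being syntomic. -/
def RingHomIsSyntomic {R S : Type u} [CommRing R] [CommRing S] (f : R →+* S) : Prop :=
  letI := f.toAlgebra
  Synt.IsSyntomic R S

theorem ringHomIsSyntomic_algebraMap {R S : Type u} [CommRing R] [CommRing S] [a : Algebra R S] :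
    RingHomIsSyntomic (algebraMap R S) ↔ Synt.IsSyntomic R S := by
  show @Synt.IsSyntomic R _ S _ (algebraMap R S).toAlgebra ↔ _
  rw [show (algebraMap R S).toAlgebra = a from Algebra.algebra_ext _ _ fun _ => rfl]

theorem syntomic_localizationAwayPreserves : RingHom.LocalizationAwayPreserves RingHomIsSyntomic := by
  intro R S _ _ f r R' S' _ _ _ _ _ _ hf
  letI := f.toAlgebra
  letI : Algebra R' S' := (IsLocalization.Away.map R' S' f r).toAlgebra
  letI : Algebra R S' := ((algebraMap S S').comp f).toAlgebra
  haveI : IsScalarTower R S S' := .of_algebraMap_eq fun _ => rfl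
  haveI : IsScalarTower R R' S' := .of_algebraMap_eq fun x => by
    show algebraMap S S' (f x) = IsLocalization.Away.map R' S' f r (algebraMap R R' x)
    rw [IsLocalization.Away.map, IsLocalization.map_eq]
  haveI : IsLocalization.Away (algebraMap R S r) S' := ‹IsLocalization.Away (f r) S'›
  exact isSyntomic_away_base (R := R) (S := S) hf r R' S'

theorem syntomic_sourceAway : RingHom.StableUnderCompositionWithLocalizationAwaySource RingHomIsSyntomic := by
  intro R S T _ _ _ _ r _ f hf
  letI := f.toAlgebra
  letI : Algebra R T := (f.comp (algebraMap R S)).toAlgebra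
  haveI : IsScalarTower R S T := .of_algebraMap_eq fun _ => rfl
  exact isSyntomic_of_away_source r S T hf

theorem syntomic_targetAway : RingHom.StableUnderCompositionWithLocalizationAwayTarget RingHomIsSyntomic := by
  intro R S T _ _ _ _ s _ f hf
  letI := f.toAlgebra
  letI : Algebra R T := ((algebraMap S T).comp f).toAlgebra
  haveI : IsScalarTower R S T := .of_algebraMap_eq fun _ => rfl
  exact isSyntomic_away_target (R := R) (S := S) hf s T

theorem syntomic_ofLocalizationSpanTarget : RingHom.OfLocalizationSpanTarget RingHomIsSyntomic := by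
  intro R S _ _ f s hs h
  letI := f.toAlgebra
  refine isSyntomic_of_span (R := R) (S := S) s hs fun g hg => ?_
  exact ringHomIsSyntomic_algebraMap.1 (h ⟨g, hg⟩)

theorem syntomic_propertyIsLocal : RingHom.PropertyIsLocal RingHomIsSyntomic where
  localizationAwayPreserves := syntomic_localizationAwayPreserves
  ofLocalizationSpanTarget := syntomic_ofLocalizationSpanTarget
  ofLocalizationSpan := syntomic_ofLocalizationSpanTarget.ofLocalizationSpan syntomic_sourceAway
  StableUnderCompositionWithLocalizationAwayTarget := syntomic_targetAway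

end Groth.Agent.Synt29
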