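import Mathlib
import Groth.Agent.Synt29.Syntomic

/-!
# Syntomic morphisms of schemes through affine opens
-/

universe u

open AlgebraicGeometry CategoryTheory

namespace Groth.Agent.Synt29

theorem isSyntomicMor_eq_affineLocally :
    (fun {X Y : Scheme.{u}} (f : X ⟶ Y) => Synt.IsSyntomicMor f : MorphismProperty Scheme.{u}) =
      affineLocally RingHomIsSyntomic := by
  have : HasRingHomProperty (affineLocally RingHomIsSyntomic) RingHomIsSyntomic :=
    ⟨syntomic_propertyIsLocal, rfl⟩
  ext X Y f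
  rw [HasRingHomProperty.iff_exists_appLE (P := affineLocally RingHomIsSyntomic) syntomic_sourceAway]
  constructor
  · intro h x
    obtain ⟨U, V, e, hx, hUV⟩ := h x
    exact ⟨V, U, hx, e, hUV⟩
  · intro h x
    obtain ⟨V, U, hx, e, hUV⟩ := h x
    exact ⟨U, V, e, hx, hUV⟩

/-- Syntomic morphisms form a property of ring-map type. -/
theorem hasRingHomProperty_isSyntomicMor :
    HasRingHomProperty (fun {X Y : Scheme.{u}} (f : X ⟶ Y) => Synt.IsSyntomicMor f : MorphismProperty Scheme.{u})
      RingHomIsSyntomic :=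
  ⟨syntomic_propertyIsLocal, isSyntomicMor_eq_affineLocally⟩

theorem isSyntomicMor_iff_appLE {X S : Scheme.{u}} (f : X ⟶ S) :
    Synt.IsSyntomicMor f ↔
      ∀ (U : X.affineOpens) (V : S.affineOpens) (e : U.1 ≤ f ⁻¹ᵁ V.1),
        RingHomIsSyntomic (f.appLE V.1 U.1 e).hom := by
  have := hasRingHomProperty_isSyntomicMor.{u}
  exact (HasRingHomProperty.iff_appLE
    (P := (fun {X Y : Scheme.{u}} (f : X ⟶ Y) => Synt.IsSyntomicMor f : MorphismProperty Scheme.{u})) (f := f)).trans
    ⟨fun h U V e => h V U e, fun h V U e => h U V e⟩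

theorem isSyntomic_iff_isSyntomicMor {R S : Type u} [CommRing R] [CommRing S] [Algebra R S] :
    Synt.IsSyntomicMor (Spec.map (CommRingCat.ofHom (algebraMap R S))) ↔ Synt.IsSyntomic R S := by
  have := hasRingHomProperty_isSyntomicMor.{u}
  exact (HasRingHomProperty.Spec_iff
    (P := (fun {X Y : Scheme.{u}} (f : X ⟶ Y) => Synt.IsSyntomicMor f : MorphismProperty Scheme.{u}))).trans
    ringHomIsSyntomic_algebraMap

end Groth.Agent.Synt29
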