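import Mathlib
import Groth.Agent.FlatLoc6.Regular

/-!
# Sequences regular on the closed fibre of a flat module (EGA 0_IV 15.1.16)
-/

universe u

open IsLocalRing RingTheory.Sequence Pointwise TensorProduct

set_option linter.style.haveILetI false

namespace Groth.Agent.Synt29

variable {A B : Type u} [CommRing A] [IsLocalRing A] [IsNoetherianRing A] [CommRing B] [IsLocalRing B]
  [IsNoetherianRing B] [Algebra A B] [IsLocalHom (algebraMap A B)]

open Groth.Agent.FlatLoc6

variable (A) in
/-- Dividing by `y` commutes with passing to the closed fibre. -/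
noncomputable def quotSMulTopFibreEquiv (N : Type u) [AddCommGroup N] [Module B N] (y : B) :
    QuotSMulTop y (N ⧸ mN A B N) ≃ₗ[B] (QuotSMulTop y N) ⧸ mN A B (QuotSMulTop y N) :=
  let S : Submodule B N := mN A B N
  let T : Submodule B N := y • ⊤
  have h1 : (y • ⊤ : Submodule B (N ⧸ S)) = (S ⊔ T).map S.mkQ := by
    rw [Submodule.map_sup, Submodule.map_pointwise_smul, Submodule.map_top, Submodule.range_mkQ,
      Submodule.mkQ_map_self, bot_sup_eq]
  have h2 : mN A B (QuotSMulTop y N) = (S ⊔ T).map T.mkQ := by
    rw [Submodule.map_sup, Submodule.map_smul'', Submodule.map_top, Submodule.range_mkQ,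
      Submodule.mkQ_map_self, sup_bot_eq]
  (Submodule.quotEquivOfEq _ _ h1).trans <| (Submodule.quotientQuotientEquivQuotient S (S ⊔ T) le_sup_left).trans
    <| (Submodule.quotientQuotientEquivQuotient T (S ⊔ T) le_sup_right).symm.trans
      (Submodule.quotEquivOfEq _ _ h2.symm)

/-- A sequence regular on the closed fibre of a flat finite module is regular and has flat quotient. -/
theorem weaklyRegular_and_flat_of_fibre : ∀ (rs : List B) (N : Type u) [AddCommGroup N] [Module B N]
    [Module A N] [IsScalarTower A B N] [Module.Finite B N] [Module.Flat A N],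
    IsWeaklyRegular (N ⧸ mN A B N) rs →
    IsWeaklyRegular N rs ∧ Module.Flat A (N ⧸ (Ideal.ofList rs • ⊤ : Submodule B N)) := by
  intro rs
  induction rs with
  | nil =>
    intro N _ _ _ _ _ _ _
    refine ⟨IsWeaklyRegular.nil B N, ?_⟩
    exact Module.Flat.of_linearEquiv
      ((Submodule.quotEquivOfEqBot _ (by simp)).restrictScalars A)
  | cons y rs ih =>
    intro N _ _ _ _ _ _ h
    rw [isWeaklyRegular_cons_iff] at h
    have hy : RegFib A N y := regFib_iff.2 h.1
    haveI := flat_quotSMulTop (A := A) hy
    obtain ⟨h1, h2⟩ := ih (QuotSMulTop y N) (((quotSMulTopFibreEquiv A N y).isWeaklyRegular_congr rs).1 h.2)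
    refine ⟨(isWeaklyRegular_cons_iff _ _ _).2 ⟨regular_self hy, h1⟩, ?_⟩
    exact Module.Flat.of_linearEquiv
      ((Submodule.quotOfListConsSMulTopEquivQuotSMulTopInner N y rs).restrictScalars A)

end Groth.Agent.Synt29
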