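import Mathlib
import Groth.Agent.Synt29.RegSeq
import Groth.Agent.FlatLoc6.FiberRing
import Groth.Agent.FlatLoc6.Loc
import Groth.Agent.FlatLoc6.RegCM
import Groth.Agent.LC.ExtDim
import Groth.Agent.LC.DepthExt

/-!
# Flatness of quotients by sequences cutting regular fibres down in dimension

If `R → B` is flat with regular fibres of pure dimension `n` and `fs` is a list of `c` elements whose
zero locus in every fibre has dimension at most `n - c`, then `B ⧸ (fs)` is flat over `R` and `fs` is
regular at every point of its zero locus (`R`, `B` Noetherian).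
-/

universe u

open IsLocalRing RingTheory.Sequence TensorProduct Order

set_option linter.style.haveILetI false

namespace Groth.Agent.Synt29

variable {R B : Type u} [CommRing R] [CommRing B] [Algebra R B]

/-- The bound on the codimension of the zero locus at a point of a fibre. -/
theorem height_bound (n c : ℕ) (p : Ideal R) [p.IsPrime] (fs : List B)
    (hdim : ∀ Q : PrimeSpectrum (p.Fiber B), height Q + coheight Q = n)
    (hfs : ringKrullDim (p.Fiber B ⧸ (Ideal.ofList fs).map
      (Algebra.TensorProduct.includeRight : B →ₐ[R] p.Fiber B)) + (c : ℕ) ≤ (n : ℕ))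
    (q : Ideal B) [q.IsPrime] [hq : q.LiesOver p] (hmem : ∀ f ∈ fs, f ∈ q) (Q : PrimeSpectrum (p.Fiber B))
    (hQ : Q.asIdeal.comap (Algebra.TensorProduct.includeRight : B →ₐ[R] p.Fiber B) = q)
    (C : Type u) [CommRing C] [Algebra (Localization.AtPrime q) C] [Algebra B C]
    [IsScalarTower B (Localization.AtPrime q) C]
    (hsurj : Function.Surjective (algebraMap (Localization.AtPrime q) C))
    (hp : p.map (algebraMap R B) ⊔ Ideal.ofList fs ≤ RingHom.ker (algebraMap B C)) :
    ringKrullDim C + (c : ℕ) ≤ (height Q : WithBot ℕ∞) := by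
  let I : Ideal (p.Fiber B) := (Ideal.ofList fs).map (Algebra.TensorProduct.includeRight : B →ₐ[R] p.Fiber B)
  let Z := {P : PrimeSpectrum (p.Fiber B) // I ≤ P.asIdeal}
  have hQI : I ≤ Q.asIdeal := by
    rw [Ideal.map_le_iff_le_comap, hQ, Ideal.ofList, Ideal.span_le]
    exact hmem
  let zQ : Z := ⟨Q, hQI⟩
  -- points of `C` as primes of the fibre below `Q`
  have hlie : ∀ P : PrimeSpectrum C, P.asIdeal.comap (algebraMap B C) ∈ p.primesOver B := by
    intro P
    haveI : (P.asIdeal.comap (algebraMap B C)).IsPrime := inferInstance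
    refine ⟨inferInstance, ⟨?_⟩⟩
    have hle : P.asIdeal.comap (algebraMap B C) ≤ q := by
      intro x hx
      by_contra hxq
      refine P.2.ne_top (Ideal.eq_top_of_isUnit_mem _ hx ?_)
      rw [IsScalarTower.algebraMap_apply B (Localization.AtPrime q) C]
      exact (IsLocalization.map_units (Localization.AtPrime q) (⟨x, hxq⟩ : q.primeCompl)).map _
    refine le_antisymm (fun r hr => ?_) (fun r hr => ?_)
    · have h0 : algebraMap B C (algebraMap R B r) = 0 := hp (Ideal.mem_sup_left (Ideal.mem_map_of_mem _ hr))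
      show algebraMap B C (algebraMap R B r) ∈ P.asIdeal
      rw [h0]; exact zero_mem _
    · rw [hq.over]
      exact hle hr
  let φ := PrimeSpectrum.primesOverOrderIsoFiber R B p
  have hφ : ∀ P, (φ P).asIdeal.comap (Algebra.TensorProduct.includeRight : B →ₐ[R] p.Fiber B) = P.1 := fun P => by
    rw [← PrimeSpectrum.coe_primesOverOrderIsoFiber_symm_apply, OrderIso.symm_apply_apply]
  let g : PrimeSpectrum C → Set.Iic zQ := fun P => ⟨⟨φ ⟨_, hlie P⟩, by
      rw [Ideal.map_le_iff_le_comap, hφ]
      exact fun x hx => by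
        show algebraMap B C x ∈ P.asIdeal
        rw [(hp (Ideal.mem_sup_right hx) : algebraMap B C x = 0)]; exact zero_mem _⟩, by
      show φ ⟨_, hlie P⟩ ≤ Q
      rw [← φ.symm.le_iff_le, OrderIso.symm_apply_apply]
      show (⟨_, hlie P⟩ : p.primesOver B).1 ≤ (φ.symm Q).1
      rw [PrimeSpectrum.coe_primesOverOrderIsoFiber_symm_apply, hQ]
      intro x hx
      by_contra hxq
      refine P.2.ne_top (Ideal.eq_top_of_isUnit_mem _ hx ?_)
      rw [IsScalarTower.algebraMap_apply B (Localization.AtPrime q) C]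
      exact (IsLocalization.map_units (Localization.AtPrime q) (⟨x, hxq⟩ : q.primeCompl)).map _⟩
  have hinj : Function.Injective (fun P : PrimeSpectrum C => PrimeSpectrum.comap (algebraMap B C) P) := by
    rw [IsScalarTower.algebraMap_eq B (Localization.AtPrime q) C]
    intro P P' h
    exact PrimeSpectrum.comap_injective_of_surjective _ hsurj
      (PrimeSpectrum.localization_comap_injective (Localization.AtPrime q) q.primeCompl h)
  have hg : StrictMono g := by
    refine Monotone.strictMono_of_injective (fun P P' h => ?_) fun P P' h => hinj ?_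
    · exact φ.monotone (show (⟨_, hlie P⟩ : p.primesOver B) ≤ ⟨_, hlie P'⟩ from Ideal.comap_mono h)
    · have h2 : φ ⟨_, hlie P⟩ = φ ⟨_, hlie P'⟩ := congrArg (fun z : Set.Iic zQ => z.1.1) h
      exact PrimeSpectrum.ext (congrArg Subtype.val (φ.injective h2))
  have h1 : ringKrullDim C ≤ (height zQ : WithBot ℕ∞) := by
    rw [height_eq_krullDim_Iic]
    exact krullDim_le_of_strictMono g hg
  -- the fibre of the zero locus
  let j : PrimeSpectrum (p.Fiber B ⧸ I) ≃o Z :=
    Ideal.primeSpectrumQuotientOrderIsoZeroLocus I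
  have h2 : (height zQ + coheight zQ : ℕ∞) + (c : ℕ) ≤ (n : ℕ∞) := by
    haveI : Nonempty Z := ⟨zQ⟩
    have h : ((height zQ + coheight zQ : ℕ∞) : WithBot ℕ∞) ≤ krullDim Z := by
      rw [krullDim_eq_iSup_height_add_coheight_of_nonempty]
      exact WithBot.coe_le_coe.2 (le_iSup (fun a : Z => height a + coheight a) zQ)
    rw [← Order.krullDim_eq_of_orderIso j] at h
    have h3 := le_trans (add_le_add h le_rfl) hfs
    exact_mod_cast h3
  have h3 : coheight Q ≤ coheight zQ := by
    refine coheight_le_iff'.2 fun ser hser => ?_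
    let ser' : LTSeries Z := ⟨ser.length, fun i => ⟨ser i, hQI.trans (hser ▸ ser.head_le i)⟩, ser.step⟩
    exact length_le_coheight (p := ser') (show zQ ≤ ser'.head from hser.ge)
  refine le_trans (add_le_add h1 le_rfl) ?_
  have h4 := hdim Q
  have : height zQ + (c : ℕ∞) ≤ height Q := by
    have hfin : coheight Q ≠ ⊤ := fun h => by simp [h] at h4
    refine (ENat.add_le_add_iff_right hfin).1 ?_
    calc height zQ + (c : ℕ∞) + coheight Q = height zQ + coheight Q + c := by ring
      _ ≤ height zQ + coheight zQ + c := by gcongr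
      _ ≤ n := h2
      _ = height Q + coheight Q := h4.symm
  exact_mod_cast this

variable [IsNoetherianRing R] [IsNoetherianRing B] [Module.Flat R B]

/-- Local regularity and flatness of the quotients by the initial segments. -/
theorem weaklyRegular_and_flat_localization_take (n : ℕ) (fs : List B)
    (hreg : ∀ p : PrimeSpectrum R, IsRegularRing (p.asIdeal.Fiber B))
    (hdim : ∀ (p : PrimeSpectrum R) (Q : PrimeSpectrum (p.asIdeal.Fiber B)), height Q + coheight Q = n)
    (hfs : ∀ p : PrimeSpectrum R, ringKrullDim (p.asIdeal.Fiber B ⧸ (Ideal.ofList fs).map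
      (Algebra.TensorProduct.includeRight : B →ₐ[R] p.asIdeal.Fiber B)) + (fs.length : ℕ) ≤ (n : ℕ))
    (q : Ideal B) [q.IsPrime] (hmem : ∀ f ∈ fs, f ∈ q) :
    IsWeaklyRegular (Localization.AtPrime q) (fs.map (algebraMap B (Localization.AtPrime q))) ∧
      ∀ i : ℕ, Module.Flat R
        (Localization.AtPrime q ⧸ (Ideal.ofList (fs.take i)).map (algebraMap B (Localization.AtPrime q))) := by
  let p : Ideal R := q.comap (algebraMap R B)
  haveI : q.LiesOver p := ⟨rfl⟩
  letI := Localization.AtPrime.algebraOfLiesOver p q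
  haveI := FlatLoc6.isLocalHom_atPrime p q
  let A := Localization.AtPrime p
  let Bq := Localization.AtPrime q
  haveI : IsNoetherianRing A := IsLocalization.isNoetherianRing p.primeCompl _ inferInstance
  haveI : IsNoetherianRing Bq := IsLocalization.isNoetherianRing q.primeCompl _ inferInstance
  haveI : Module.Flat B Bq := IsLocalization.flat Bq q.primeCompl
  haveI : Module.Flat R Bq := Module.Flat.trans R B Bq
  haveI : Module.Flat A Bq := (Module.flat_iff_of_isLocalization (S := A) (p := p.primeCompl) (M := Bq)).2 inferInstance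
  let J : Ideal Bq := p.map (algebraMap R Bq)
  have hJ : (FlatLoc6.mN A Bq Bq : Ideal Bq) = J := by
    show (maximalIdeal A).map (algebraMap A Bq) • (⊤ : Ideal Bq) = J
    rw [Ideal.smul_eq_mul, Ideal.mul_top, FlatLoc6.map_maximalIdeal_eq p q]
  let fq := fs.map (algebraMap B Bq)
  obtain ⟨Q, hQ⟩ := FlatLoc6.exists_fiber_prime p q rfl
  have hdimL : ringKrullDim (Bq ⧸ J) = (height Q : WithBot ℕ∞) := by
    obtain ⟨h1, -⟩ := FlatLoc6.fib_of_fiber_prime p Q.asIdeal q hQ
    rw [PrimeSpectrum.height_eq_orderHeight Q] at h1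
    rw [← h1, FlatLoc6.fibDim_self]
  have hregL : IsRegularLocalRing (Bq ⧸ J) := by
    obtain ⟨e⟩ : Nonempty (Localization.AtPrime Q.asIdeal ≃+* Bq ⧸ J) := by
      have key : ∀ (q' : Ideal B) [q'.IsPrime], Q.asIdeal.comap Algebra.TensorProduct.includeRight = q' →
          Nonempty (Localization.AtPrime Q.asIdeal ≃+* EGA4.FibLocRing R B q') := by
        intro q' _ h
        subst h
        exact FlatLoc6.exists_fibLocEquiv p Q.asIdeal
      exact key q hQ
    haveI := hreg ⟨p, inferInstance⟩
    haveI := IsRegularRing.isRegularLocalRing_localization (R := p.Fiber B) Q.asIdeal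
    exact IsRegularLocalRing.of_ringEquiv (R := Localization.AtPrime Q.asIdeal) e
  let L := Bq ⧸ J
  haveI : IsRegularLocalRing L := hregL
  haveI : LocCoh.IsCohenMacaulayLocalRing L := by
    haveI := LC.gorenstein_of_isRegularLocalRing (R := L)
    exact LC.isCohenMacaulayLocalRing_of_gorenstein
  let fl := fq.map (Ideal.Quotient.mk J)
  have hfl : ∀ x ∈ fl, x ∈ maximalIdeal L := by
    intro x hx
    obtain ⟨y, hy, rfl⟩ := List.mem_map.1 hx
    obtain ⟨f, hf, rfl⟩ := List.mem_map.1 hy
    have h1 : algebraMap B Bq f ∈ maximalIdeal Bq := by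
      rw [← IsLocalization.AtPrime.map_eq_maximalIdeal q Bq]
      exact Ideal.mem_map_of_mem _ (hmem f hf)
    haveI : IsLocalHom (Ideal.Quotient.mk J) := IsLocalHom.of_surjective _ Ideal.Quotient.mk_surjective
    exact fun hu => h1 ((isUnit_map_iff (Ideal.Quotient.mk J) _).1 hu)
  have hbound : ringKrullDim (L ⧸ Ideal.ofList fl) + (fs.length : ℕ) ≤ (height Q : WithBot ℕ∞) := by
    refine height_bound n fs.length p fs (hdim ⟨p, inferInstance⟩) (hfs ⟨p, inferInstance⟩) q hmem Q hQ
      (L ⧸ Ideal.ofList fl) (Ideal.Quotient.mk_surjective.comp Ideal.Quotient.mk_surjective) ?_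
    rw [sup_le_iff, Ideal.map_le_iff_le_comap]
    refine ⟨fun r hr => ?_, ?_⟩
    · show algebraMap B (L ⧸ Ideal.ofList fl) (algebraMap R B r) = 0
      have h0 : (Ideal.Quotient.mk J) (algebraMap R Bq r) = 0 :=
        Ideal.Quotient.eq_zero_iff_mem.2 (Ideal.mem_map_of_mem _ hr)
      rw [IsScalarTower.algebraMap_apply B Bq (L ⧸ Ideal.ofList fl), ← IsScalarTower.algebraMap_apply R B Bq]
      show Ideal.Quotient.mk _ (Ideal.Quotient.mk J _) = 0
      rw [h0, map_zero]
    · rw [Ideal.ofList, Ideal.span_le]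
      intro f hf
      show algebraMap B (L ⧸ Ideal.ofList fl) f = 0
      rw [IsScalarTower.algebraMap_apply B Bq (L ⧸ Ideal.ofList fl)]
      show Ideal.Quotient.mk _ (Ideal.Quotient.mk J _) = 0
      exact Ideal.Quotient.eq_zero_iff_mem.2 (Ideal.subset_span (List.mem_map_of_mem (List.mem_map_of_mem hf)))
  have hne : Ideal.ofList fl ≠ ⊤ := fun h => (maximalIdeal.isMaximal L).ne_top
    (top_le_iff.1 (h ▸ Ideal.span_le.2 fun x hx => hfl x hx))
  have hCM : LocCoh.IsCohenMacaulayModule L L := by
    have := (inferInstance : LocCoh.IsCohenMacaulayLocalRing L).supportDim_eq_depth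
    exact this
  have hwL : IsWeaklyRegular L fl := by
    refine (LC.idealDepth_ofList_eq_length_iff fl hfl).1 (le_antisymm (LC.idealDepth_ofList_le_length fl hfl) ?_)
    have h := LC.supportDim_eq_add_idealDepth L hCM hne
    have e1 : Module.supportDim L (L ⧸ (Ideal.ofList fl • ⊤ : Submodule L L)) = ringKrullDim (L ⧸ Ideal.ofList fl) := by
      rw [Module.supportDim_eq_of_equiv (Submodule.quotEquivOfEq _ _
        (show (Ideal.ofList fl • ⊤ : Submodule L L) = Ideal.ofList fl by rw [Ideal.smul_eq_mul, Ideal.mul_top])),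
        Module.supportDim_eq_ringKrullDim_quotient_annihilator, Ideal.annihilator_quotient]
    rw [Module.supportDim_self_eq_ringKrullDim, hdimL, e1] at h
    rw [h] at hbound
    haveI : Nontrivial (L ⧸ Ideal.ofList fl) := Ideal.Quotient.nontrivial_iff.2 hne
    obtain ⟨d, hd⟩ := WithBot.ne_bot_iff_exists.1 (fun hb : ringKrullDim (L ⧸ Ideal.ofList fl) = ⊥ =>
      WithBot.bot_lt_coe 0 |>.not_ge (hb ▸ ringKrullDim_nonneg_of_nontrivial (R := L ⧸ Ideal.ofList fl)))
    rw [← hd] at hbound h
    simp only [fl, fq, List.length_map]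
    have hd' : d ≠ ⊤ := by
      rintro rfl
      have h5 : height Q = ⊤ := by
        have := h.symm
        rw [← WithBot.coe_add, WithBot.coe_inj, top_add] at this
        exact this.symm
      have h6 := hdim ⟨p, inferInstance⟩ Q
      rw [h5] at h6
      simp at h6
    have h7 : d + (fs.length : ℕ∞) ≤ d + LocCoh.idealDepth (Ideal.ofList fl) L :=
      WithBot.coe_le_coe.1 (by exact_mod_cast hbound)
    exact (ENat.add_le_add_iff_left hd').1 h7
  have hwN : IsWeaklyRegular (Bq ⧸ FlatLoc6.mN A Bq Bq) fq := by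
    rw [(Submodule.quotEquivOfEq _ _ hJ).isWeaklyRegular_congr fq]
    exact (isWeaklyRegular_map_algebraMap_iff L L fq).1 hwL
  obtain ⟨h1, -⟩ := weaklyRegular_and_flat_of_fibre (A := A) fq Bq hwN
  refine ⟨h1, fun i => ?_⟩
  have hwi : IsWeaklyRegular (Bq ⧸ FlatLoc6.mN A Bq Bq) (fq.take i) := by
    refine ((isWeaklyRegular_append_iff _ (fq.take i) (fq.drop i)).1 ?_).1
    rwa [List.take_append_drop]
  obtain ⟨-, h2⟩ := weaklyRegular_and_flat_of_fibre (A := A) (fq.take i) Bq hwi
  have e : (Ideal.ofList (fq.take i) • ⊤ : Submodule Bq Bq) = (Ideal.ofList (fs.take i)).map (algebraMap B Bq) := by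
    rw [Ideal.smul_eq_mul, Ideal.mul_top, Ideal.map_ofList, List.map_take]
  haveI : Module.Flat A (Bq ⧸ (Ideal.ofList (fs.take i)).map (algebraMap B Bq)) :=
    Module.Flat.of_linearEquiv ((Submodule.quotEquivOfEq _ _ e.symm).restrictScalars A)
  exact (Module.flat_iff_of_isLocalization (S := A) (p := p.primeCompl)
    (M := Bq ⧸ (Ideal.ofList (fs.take i)).map (algebraMap B Bq))).1 inferInstance

/-- Local regularity and flatness of the quotient. -/
theorem weaklyRegular_and_flat_localization (n : ℕ) (fs : List B)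
    (hreg : ∀ p : PrimeSpectrum R, IsRegularRing (p.asIdeal.Fiber B))
    (hdim : ∀ (p : PrimeSpectrum R) (Q : PrimeSpectrum (p.asIdeal.Fiber B)), height Q + coheight Q = n)
    (hfs : ∀ p : PrimeSpectrum R, ringKrullDim (p.asIdeal.Fiber B ⧸ (Ideal.ofList fs).map
      (Algebra.TensorProduct.includeRight : B →ₐ[R] p.asIdeal.Fiber B)) + (fs.length : ℕ) ≤ (n : ℕ))
    (q : Ideal B) [q.IsPrime] (hmem : ∀ f ∈ fs, f ∈ q) :
    IsWeaklyRegular (Localization.AtPrime q) (fs.map (algebraMap B (Localization.AtPrime q))) ∧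
      Module.Flat R (Localization.AtPrime q ⧸ (Ideal.ofList fs).map (algebraMap B (Localization.AtPrime q))) := by
  obtain ⟨h1, h2⟩ := weaklyRegular_and_flat_localization_take n fs hreg hdim hfs q hmem
  refine ⟨h1, ?_⟩
  have := h2 fs.length
  rwa [List.take_length] at this

/-- Flatness of the quotient. -/
theorem flat_quotient_of_fibre_dim (n : ℕ) (fs : List B)
    (hreg : ∀ p : PrimeSpectrum R, IsRegularRing (p.asIdeal.Fiber B))
    (hdim : ∀ (p : PrimeSpectrum R) (Q : PrimeSpectrum (p.asIdeal.Fiber B)), height Q + coheight Q = n)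
    (hfs : ∀ p : PrimeSpectrum R, ringKrullDim (p.asIdeal.Fiber B ⧸ (Ideal.ofList fs).map
      (Algebra.TensorProduct.includeRight : B →ₐ[R] p.asIdeal.Fiber B)) + (fs.length : ℕ) ≤ (n : ℕ)) :
    Module.Flat R (B ⧸ Ideal.ofList fs) := by
  let I := Ideal.ofList fs
  let qq : Ideal (B ⧸ I) → Ideal B := fun P => P.comap (Ideal.Quotient.mk I)
  haveI hloc : ∀ (P : Ideal (B ⧸ I)) [P.IsMaximal], IsLocalization.AtPrime (Localization.AtPrime (qq P) ⧸ I.map (algebraMap B (Localization.AtPrime (qq P)))) P := fun P _ => by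
    haveI : P.LiesOver (qq P) := ⟨rfl⟩
    show IsLocalization P.primeCompl _
    rw [← Ideal.algebraMapSubmonoid_primeCompl_of_liesOver_surjective P (qq P) Ideal.Quotient.mk_surjective]
    infer_instance
  haveI htower : ∀ (P : Ideal (B ⧸ I)) [P.IsMaximal], IsScalarTower R (B ⧸ I) (Localization.AtPrime (qq P) ⧸ I.map (algebraMap B (Localization.AtPrime (qq P)))) := fun P _ => by
    show IsScalarTower R (B ⧸ I) (Localization.AtPrime (qq P) ⧸ I.map (algebraMap B (Localization.AtPrime (qq P))))
    exact IsScalarTower.to₁₃₄ R B (B ⧸ I) _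
  refine @Module.flat_of_isLocalized_maximal R (B ⧸ I) _ _ _ (B ⧸ I) _ _ _ _ (fun P _ => (Localization.AtPrime (qq P) ⧸ I.map (algebraMap B (Localization.AtPrime (qq P))))) _ _ _
    (fun P _ => htower P) (fun P _ => Algebra.linearMap (B ⧸ I) (Localization.AtPrime (qq P) ⧸ I.map (algebraMap B (Localization.AtPrime (qq P))))) (fun P _ => inferInstance) fun P _ => ?_
  refine (weaklyRegular_and_flat_localization n fs hreg hdim hfs (qq P) fun f hf => ?_).2
  show Ideal.Quotient.mk I f ∈ P
  rw [show Ideal.Quotient.mk I f = 0 from Ideal.Quotient.eq_zero_iff_mem.2 (Ideal.subset_span (s := {x | x ∈ fs}) hf)]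
  exact zero_mem _

end Groth.Agent.Synt29
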