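import Mathlib
import Groth.Agent.Synt29.Syntomic
import Groth.Agent.Synt29.FibreDim
import Groth.Agent.VarDim.Basic

/-!
# Relative global complete intersections: fibres, and flatness over a Noetherian base
-/

universe u

open TensorProduct Order

set_option linter.style.haveILetI false

namespace Groth.Agent.Synt29

variable (R : Type u) [CommRing R] {n c : ℕ} (F : Fin c → MvPolynomial (Fin n) R)

/-- The polynomials with coefficients pushed along `R → T`. -/
noncomputable abbrev mapPoly (T : Type u) [CommRing T] [Algebra R T] : Fin c → MvPolynomial (Fin n) T :=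
  fun i => MvPolynomial.map (algebraMap R T) (F i)

/-- Base change of a presented algebra. -/
noncomputable def baseChangeEquiv (T : Type u) [CommRing T] [Algebra R T] :
    T ⊗[R] Synt.RelGCIRing R n c F ≃ₐ[T] Synt.RelGCIRing T n c (mapPoly R F T) :=
  let P : Algebra.Presentation R (Synt.RelGCIRing R n c F) (Fin n) (Fin c) := Algebra.Presentation.naive
  ((Ideal.quotientKerAlgEquivOfSurjective (f := MvPolynomial.aeval (P.baseChange T).val)
      (P.baseChange T).aeval_val_surjective).symm.trans
    (Ideal.quotientEquivAlgOfEq T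
      (show RingHom.ker (MvPolynomial.aeval (P.baseChange T).val) = Ideal.span (Set.range (mapPoly R F T)) from
        (P.span_range_relation_eq_ker_baseChange T).symm)))

variable {R F}

theorem ringKrullDim_relGCIRing_ge {k : Type u} [Field k] (G : Fin c → MvPolynomial (Fin n) k)
    [Nontrivial (Synt.RelGCIRing k n c G)] :
    ((n - c : ℕ) : WithBot ℕ∞) ≤ ringKrullDim (Synt.RelGCIRing k n c G) := by
  have h := card_le_ringKrullDim_add (k := k) (Algebra.Presentation.naive (R := k) (v := G))
  rw [Nat.card_fin, Nat.card_fin] at h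
  obtain ⟨d, hd⟩ := WithBot.ne_bot_iff_exists.1 (fun hb : ringKrullDim (Synt.RelGCIRing k n c G) = ⊥ =>
    WithBot.bot_lt_coe 0 |>.not_ge (hb ▸ ringKrullDim_nonneg_of_nontrivial (R := Synt.RelGCIRing k n c G)))
  rw [← hd] at h ⊢
  have h3 : ((n : ℕ) : ℕ∞) ≤ d + (c : ℕ∞) := WithBot.coe_le_coe.1 h
  refine WithBot.coe_le_coe.2 ?_
  cases d with
  | top => exact le_top
  | coe d =>
    rw [← Nat.cast_add, Nat.cast_le] at h3
    exact Nat.cast_le.2 (by omega)

theorem isRelGCI_iff (R : Type u) [CommRing R] (F : Fin c → MvPolynomial (Fin n) R) :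
    Synt.IsRelGCI R n c F ↔ ∀ p : PrimeSpectrum R,
      Nontrivial (Synt.RelGCIRing p.asIdeal.ResidueField n c (mapPoly R F p.asIdeal.ResidueField)) →
        c ≤ n ∧ ringKrullDim (Synt.RelGCIRing p.asIdeal.ResidueField n c (mapPoly R F p.asIdeal.ResidueField)) ≤
          ((n - c : ℕ) : WithBot ℕ∞) := by
  refine forall_congr' fun p => ?_
  let e := (baseChangeEquiv R F p.asIdeal.ResidueField).toRingEquiv
  constructor
  · intro h hn
    haveI := hn
    obtain ⟨h1, h2⟩ := h e.toEquiv.nontrivial
    exact ⟨h1, ((ringKrullDim_eq_of_ringEquiv e).symm.trans h2).le⟩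
  · intro h hn
    haveI := hn
    haveI : Nontrivial (Synt.RelGCIRing p.asIdeal.ResidueField n c (mapPoly R F p.asIdeal.ResidueField)) :=
      e.symm.toEquiv.nontrivial
    obtain ⟨h1, h2⟩ := h inferInstance
    exact ⟨h1, (ringKrullDim_eq_of_ringEquiv e).trans (le_antisymm h2 (ringKrullDim_relGCIRing_ge _))⟩

/-- A presentation with the expected dimension is a global complete intersection. -/
theorem isGlobalCI_relGCIRing {k : Type u} [Field k] (G : Fin c → MvPolynomial (Fin n) k)
    (h : Nontrivial (Synt.RelGCIRing k n c G) →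
      c ≤ n ∧ ringKrullDim (Synt.RelGCIRing k n c G) ≤ ((n - c : ℕ) : WithBot ℕ∞)) :
    Synt.IsGlobalCI k (Synt.RelGCIRing k n c G) := by
  rcases subsingleton_or_nontrivial (Synt.RelGCIRing k n c G) with hs | hs
  · exact Or.inl hs
  obtain ⟨h1, h2⟩ := h hs
  exact isGlobalCI_of_presentation (Algebra.Presentation.naive (R := k) (v := G)) (by simpa using h1)
    (by simpa using h2)

theorem isLCIOver_fiber_relGCIRing {R : Type u} [CommRing R] {F : Fin c → MvPolynomial (Fin n) R}
    (h : Synt.IsRelGCI R n c F) (p : PrimeSpectrum R) :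
    Synt.IsLCIOver p.asIdeal.ResidueField (p.asIdeal.Fiber (Synt.RelGCIRing R n c F)) := by
  let k := p.asIdeal.ResidueField
  have h1 : Synt.IsGlobalCI k (Synt.RelGCIRing k n c (mapPoly R F k)) :=
    isGlobalCI_relGCIRing _ ((isRelGCI_iff R F).1 h p)
  haveI : Algebra.FiniteType k (Synt.RelGCIRing k n c (mapPoly R F k)) :=
    Algebra.FiniteType.of_surjective (Ideal.Quotient.mkₐ k _) Ideal.Quotient.mk_surjective
  let e := baseChangeEquiv R F k
  exact isLCIOver_of_equiv (RingEquiv.refl k) e.symm.toRingEquiv (fun a => e.symm.commutes a)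
    (SmallFlat.isLCIOver_of_isGlobalCI h1)

theorem ofList_ofFn {A : Type u} [CommRing A] {m : ℕ} (f : Fin m → A) :
    Ideal.ofList (List.ofFn f) = Ideal.span (Set.range f) := by
  rw [Ideal.ofList]
  congr 1
  ext x
  simp [List.mem_ofFn]

/-- A relative global complete intersection over a Noetherian ring is flat. -/
theorem flat_relGCIRing_of_noetherian {R : Type u} [CommRing R] [IsNoetherianRing R]
    {F : Fin c → MvPolynomial (Fin n) R} (h : Synt.IsRelGCI R n c F) :
    Module.Flat R (Synt.RelGCIRing R n c F) := by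
  let B := MvPolynomial (Fin n) R
  have key : Module.Flat R (B ⧸ Ideal.ofList (List.ofFn F)) := by
    refine flat_quotient_of_fibre_dim n (List.ofFn F) (fun p => ?_) (fun p Q => ?_) (fun p => ?_)
    · exact IsRegularRing.of_ringEquiv (R := MvPolynomial (Fin n) p.asIdeal.ResidueField)
        (MvPolynomial.algebraTensorAlgEquiv R p.asIdeal.ResidueField).toRingEquiv.symm
    · let k := p.asIdeal.ResidueField
      let o : PrimeSpectrum (p.asIdeal.Fiber B) ≃o PrimeSpectrum (MvPolynomial (Fin n) k) :=
        PrimeSpectrum.comapEquiv (MvPolynomial.algebraTensorAlgEquiv R k).toRingEquiv.symm |>.symm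
      rw [← height_orderIso o, ← coheight_orderIso o]
      refine VarDim.height_add_coheight_eq k n (MvPolynomial (Fin n) k) ?_ _
      rw [MvPolynomial.ringKrullDim_of_isNoetherianRing, ringKrullDim_eq_zero_of_field, zero_add]
      simp
    · let k := p.asIdeal.ResidueField
      rw [ofList_ofFn, List.length_ofFn]
      let J := (Ideal.span (Set.range F)).map (Algebra.TensorProduct.includeRight : B →ₐ[R] p.asIdeal.Fiber B)
      let e1 := (Algebra.TensorProduct.tensorQuotientEquiv (R := R) k B k (Ideal.span (Set.range F))).toRingEquiv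
      have he : ringKrullDim (p.asIdeal.Fiber B ⧸ J) = ringKrullDim (p.asIdeal.Fiber (Synt.RelGCIRing R n c F)) :=
        (ringKrullDim_eq_of_ringEquiv e1).symm
      rw [he]
      rcases subsingleton_or_nontrivial (p.asIdeal.Fiber (Synt.RelGCIRing R n c F)) with hs | hs
      · rw [ringKrullDim_eq_bot_of_subsingleton]
        simp
      · obtain ⟨h1, h2⟩ := h p hs
        rw [h2, ← Nat.cast_add, Nat.sub_add_cancel h1]
  rw [ofList_ofFn] at key
  exact key

theorem isSyntomic_relGCIRing_of_noetherian {R : Type u} [CommRing R] [IsNoetherianRing R]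
    {F : Fin c → MvPolynomial (Fin n) R} (h : Synt.IsRelGCI R n c F) :
    Synt.IsSyntomic R (Synt.RelGCIRing R n c F) :=
  ⟨flat_relGCIRing_of_noetherian h,
    Algebra.FinitePresentation.quotient (Submodule.fg_span (Set.finite_range F)),
    isLCIOver_fiber_relGCIRing h⟩

end Groth.Agent.Synt29
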