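import Mathlib
import Groth.Agent.Synt29.RelGCI
import Groth.Agent.FibDim.Alg
import Groth.Agent.FibDim.BaseChange

/-!
# Descent of relative global complete intersections to finite type `ℤ`-algebras
-/

universe u

open TensorProduct Order Topology

set_option linter.style.haveILetI false
set_option backward.isDefEq.respectTransparency.types false
set_option maxHeartbeats 1000000

namespace Groth.Agent.Synt29

/-- Extending the ground field keeps the dimension. -/
theorem ringKrullDim_tensor_field (k K F : Type u) [Field k] [Field K] [Algebra k K] [CommRing F] [Algebra k F]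
    [Algebra.FiniteType k F] [Nontrivial F] : ringKrullDim (K ⊗[k] F) = ringKrullDim F := by
  obtain ⟨m, g, hinj, hfin⟩ := exists_finite_inj_algHom_of_fg k F
  have hF : ringKrullDim F = (m : WithBot ℕ∞) := by
    letI := g.toRingHom.toAlgebra
    haveI : Module.Finite (MvPolynomial (Fin m) k) F := hfin
    haveI : FaithfulSMul (MvPolynomial (Fin m) k) F := (faithfulSMul_iff_algebraMap_injective _ _).mpr hinj
    rw [VarDim.ringKrullDim_eq_of_isIntegral (R := MvPolynomial (Fin m) k),
      MvPolynomial.ringKrullDim_of_isNoetherianRing, ringKrullDim_eq_zero_of_field, zero_add]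
    simp
  let g0 := Algebra.TensorProduct.map (AlgHom.id K K) g
  let g' := g0.comp (MvPolynomial.algebraTensorAlgEquiv k K).symm.toAlgHom
  have hinj' : Function.Injective g' := by
    have h0 : Function.Injective g0 := by
      intro x y hxy
      refine Module.Flat.lTensor_preserves_injective_linearMap (M := K) g.toLinearMap hinj ?_
      have key : ∀ z, g0 z = g.toLinearMap.lTensor K z := fun z => by
        induction z using TensorProduct.induction_on with
        | zero => simp
        | tmul a b => simp [g0]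
        | add a b ha hb => rw [map_add, map_add, ha, hb]
      rw [← key, ← key]; exact hxy
    exact h0.comp (MvPolynomial.algebraTensorAlgEquiv k K).symm.injective
  have hfin' : g'.Finite := FibDim.finite_tensorMap g hfin
  letI := g'.toRingHom.toAlgebra
  haveI : Module.Finite (MvPolynomial (Fin m) K) (K ⊗[k] F) := hfin'
  haveI : FaithfulSMul (MvPolynomial (Fin m) K) (K ⊗[k] F) := (faithfulSMul_iff_algebraMap_injective _ _).mpr hinj'
  rw [hF, VarDim.ringKrullDim_eq_of_isIntegral (R := MvPolynomial (Fin m) K),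
    MvPolynomial.ringKrullDim_of_isNoetherianRing, ringKrullDim_eq_zero_of_field, zero_add]
  simp

variable {n c : ℕ}

/-- The fibre dimensions of a presentation are insensitive to the field of definition. -/
theorem ringKrullDim_mapPoly {R : Type u} [CommRing R] (F : Fin c → MvPolynomial (Fin n) R)
    (k K : Type u) [Field k] [Field K] [Algebra R k] [Algebra R K] [Algebra k K] [IsScalarTower R k K]
    [Nontrivial (Synt.RelGCIRing k n c (mapPoly R F k))] :
    ringKrullDim (Synt.RelGCIRing K n c (mapPoly R F K)) = ringKrullDim (Synt.RelGCIRing k n c (mapPoly R F k)) := by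
  haveI : Algebra.FiniteType k (Synt.RelGCIRing k n c (mapPoly R F k)) :=
    Algebra.FiniteType.of_surjective (Ideal.Quotient.mkₐ k _) Ideal.Quotient.mk_surjective
  have e := (baseChangeEquiv k (mapPoly R F k) K).toRingEquiv
  have h : mapPoly k (mapPoly R F k) K = mapPoly R F K := funext fun i => by
    simp only [mapPoly, MvPolynomial.map_map, ← IsScalarTower.algebraMap_eq]
  rw [h] at e
  rw [← ringKrullDim_eq_of_ringEquiv (R := K ⊗[k] Synt.RelGCIRing k n c (mapPoly R F k)) e]
  exact ringKrullDim_tensor_field k K _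

theorem nontrivial_mapPoly {R : Type u} [CommRing R] (F : Fin c → MvPolynomial (Fin n) R)
    (k K : Type u) [Field k] [Field K] [Algebra R k] [Algebra R K] [Algebra k K] [IsScalarTower R k K]
    [Nontrivial (Synt.RelGCIRing K n c (mapPoly R F K))] :
    Nontrivial (Synt.RelGCIRing k n c (mapPoly R F k)) := by
  by_contra hs
  rw [not_nontrivial_iff_subsingleton] at hs
  have e := (baseChangeEquiv k (mapPoly R F k) K).toRingEquiv
  have h : mapPoly k (mapPoly R F k) K = mapPoly R F K := funext fun i => by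
    simp only [mapPoly, MvPolynomial.map_map, ← IsScalarTower.algebraMap_eq]
  rw [h] at e
  haveI : Subsingleton (K ⊗[k] Synt.RelGCIRing k n c (mapPoly R F k)) := inferInstance
  haveI := e.symm.toEquiv.subsingleton
  exact not_subsingleton (Synt.RelGCIRing K n c (mapPoly R F K)) inferInstance

theorem exists_lift_prime_aux {R₀ R₁ k₀ k₁ Fib : Type u} [CommRing R₀] [CommRing R₁] [Algebra R₀ R₁]
    [Field k₀] [Field k₁] [Algebra k₀ k₁] [CommRing Fib] [Algebra k₀ Fib]
    (ψ0 : MvPolynomial (Fin n) R₀ →+* Fib) (τ0 : R₀ →+* k₀) (τ1 : R₁ →+* k₁)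
    (hτ : ∀ r, algebraMap k₀ k₁ (τ0 r) = τ1 (algebraMap R₀ R₁ r))
    (hψ0 : ∀ r, ψ0 (MvPolynomial.C r) = algebraMap k₀ Fib (τ0 r))
    (J : Ideal (MvPolynomial (Fin n) R₀))
    (hJ : (1 : MvPolynomial (Fin n) R₁) ∈ J.map (MvPolynomial.map (algebraMap R₀ R₁)))
    (Q₀ : PrimeSpectrum Fib) : ¬ J ≤ Q₀.asIdeal.comap ψ0 := by
  intro hle
  let ι : Fib →+* Fib ⊗[k₀] k₁ := algebraMap Fib (Fib ⊗[k₀] k₁)
  let ρ : k₁ →ₐ[k₀] Fib ⊗[k₀] k₁ := Algebra.TensorProduct.includeRight
  let ψ1 : MvPolynomial (Fin n) R₁ →+* Fib ⊗[k₀] k₁ :=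
    MvPolynomial.eval₂Hom (ρ.toRingHom.comp τ1) (fun i => ι (ψ0 (MvPolynomial.X i)))
  have hcomm : ψ1.comp (MvPolynomial.map (algebraMap R₀ R₁)) = ι.comp ψ0 := by
    refine MvPolynomial.ringHom_ext (fun r => ?_) (fun i => by simp [ψ1])
    simp only [RingHom.comp_apply, MvPolynomial.map_C, ψ1, MvPolynomial.eval₂Hom_C, ← hτ]
    show ρ (algebraMap k₀ k₁ (τ0 r)) = ι (ψ0 (MvPolynomial.C r))
    rw [hψ0, AlgHom.commutes, IsScalarTower.algebraMap_apply k₀ Fib (Fib ⊗[k₀] k₁)]
  obtain ⟨Q₁, hQ₁⟩ := PrimeSpectrum.comap_surjective_of_faithfullyFlat (A := Fib) (B := Fib ⊗[k₀] k₁) Q₀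
  have h1 : J.map (MvPolynomial.map (algebraMap R₀ R₁)) ≤ Q₁.asIdeal.comap ψ1 := by
    rw [Ideal.map_le_iff_le_comap, Ideal.comap_comap, hcomm, ← Ideal.comap_comap]
    refine hle.trans (le_of_eq ?_)
    rw [← hQ₁]
    rfl
  have h2 : ψ1 1 ∈ Q₁.asIdeal := h1 hJ
  rw [map_one] at h2
  exact Q₁.2.ne_top ((Ideal.eq_top_iff_one _).2 h2)

/-- A point of a fibre after extending coefficients. -/
theorem exists_lift_prime {R₀ R₁ : Type u} [CommRing R₀] [CommRing R₁] [Algebra R₀ R₁]
    (F₀ : Fin c → MvPolynomial (Fin n) R₀) (J : Ideal (MvPolynomial (Fin n) R₀))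
    (hJ : (1 : MvPolynomial (Fin n) R₁) ∈ J.map (MvPolynomial.map (algebraMap R₀ R₁)))
    (p₁ : PrimeSpectrum R₁) (Q₀ : PrimeSpectrum ((p₁.asIdeal.under R₀).Fiber (Synt.RelGCIRing R₀ n c F₀))) :
    ¬ J ≤ Q₀.asIdeal.comap (((Algebra.TensorProduct.includeRight :
      Synt.RelGCIRing R₀ n c F₀ →ₐ[R₀] (p₁.asIdeal.under R₀).Fiber (Synt.RelGCIRing R₀ n c F₀)) :
        Synt.RelGCIRing R₀ n c F₀ →+* _).comp (Ideal.Quotient.mk _)) := by
  letI : Algebra (p₁.asIdeal.under R₀).ResidueField p₁.asIdeal.ResidueField :=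
    (Ideal.ResidueField.map (p₁.asIdeal.under R₀) p₁.asIdeal (algebraMap R₀ R₁) rfl).toAlgebra
  refine exists_lift_prime_aux (Fib := (p₁.asIdeal.under R₀).Fiber (Synt.RelGCIRing R₀ n c F₀)) _ (algebraMap R₀ (p₁.asIdeal.under R₀).ResidueField)
    (algebraMap R₁ p₁.asIdeal.ResidueField)
    (fun r => Ideal.ResidueField.map_algebraMap _ _ _ rfl r) (fun r => ?_) J hJ Q₀
  show (Algebra.TensorProduct.includeRight : Synt.RelGCIRing R₀ n c F₀ →ₐ[R₀] _) (algebraMap R₀ _ r) = _
  rw [AlgHom.commutes]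
  rfl

theorem exists_descent {R : Type u} [CommRing R] {F : Fin c → MvPolynomial (Fin n) R}
    (h : Synt.IsRelGCI R n c F) :
    ∃ (R₀ : Subalgebra ℤ R) (F₀ : Fin c → MvPolynomial (Fin n) R₀), Algebra.FiniteType ℤ R₀ ∧
      (∀ i, MvPolynomial.map (algebraMap R₀ R) (F₀ i) = F i) ∧ Synt.IsRelGCI R₀ n c F₀ := by
  classical
  let s₀ : Finset R := Finset.univ.biUnion fun i => (F i).coeffs
  let A₀ : Subalgebra ℤ R := Algebra.adjoin ℤ (s₀ : Set R)
  haveI : Algebra.FiniteType ℤ A₀ := (Subalgebra.fg_iff_finiteType A₀).1 ⟨s₀, rfl⟩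
  have hlift : ∀ (A : Subalgebra ℤ R) (g : MvPolynomial (Fin n) R), (∀ x ∈ g.coeffs, x ∈ A) →
      ∃ g₀ : MvPolynomial (Fin n) A, MvPolynomial.map (algebraMap A R) g₀ = g := fun A g hg =>
    MvPolynomial.mem_range_map_iff_coeffs_subset.2 fun x hx => ⟨⟨x, hg x hx⟩, rfl⟩
  choose G hG using fun i => hlift A₀ (F i) fun x hx =>
    Algebra.subset_adjoin (Finset.mem_biUnion.2 ⟨i, Finset.mem_univ _, hx⟩)
  let φ : MvPolynomial (Fin n) A₀ →+* MvPolynomial (Fin n) R := MvPolynomial.map (algebraMap A₀ R)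
  -- it is enough to find `J` with `1 ∈ J R[x]` controlling the fibres
  suffices key : ∃ J : Ideal (MvPolynomial (Fin n) A₀), (1 : MvPolynomial (Fin n) R) ∈ J.map φ ∧
      ∀ (R₁ : Type u) [CommRing R₁] [Algebra A₀ R₁],
        (1 : MvPolynomial (Fin n) R₁) ∈ J.map (MvPolynomial.map (algebraMap A₀ R₁)) →
        Synt.IsRelGCI R₁ n c (mapPoly A₀ G R₁) by
    obtain ⟨J, hJ1, hJ⟩ := key
    rw [Ideal.map] at hJ1
    obtain ⟨l, hls, hl⟩ := (Finsupp.mem_span_image_iff_linearCombination (MvPolynomial (Fin n) R)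
      (v := φ)).1 hJ1
    let s₁ : Finset R := s₀ ∪ l.support.biUnion fun j => (l j).coeffs
    let A₁ : Subalgebra ℤ R := Algebra.adjoin ℤ (s₁ : Set R)
    have hle : A₀ ≤ A₁ := Algebra.adjoin_mono (by simp [s₁])
    letI : Algebra A₀ A₁ := (Subalgebra.inclusion hle).toRingHom.toAlgebra
    haveI : IsScalarTower A₀ A₁ R := IsScalarTower.of_algebraMap_eq fun _ => rfl
    refine ⟨A₁, mapPoly A₀ G A₁, (Subalgebra.fg_iff_finiteType A₁).1 ⟨s₁, rfl⟩, fun i => ?_, hJ A₁ ?_⟩
    · rw [MvPolynomial.map_map, ← IsScalarTower.algebraMap_eq]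
      exact hG i
    · choose a ha using fun j : l.support => hlift A₁ (l j.1) fun x hx => Algebra.subset_adjoin
        (Finset.mem_union_right _ (Finset.mem_biUnion.2 ⟨j.1, j.2, hx⟩))
      let μ := MvPolynomial.map (σ := Fin n) (algebraMap A₀ A₁)
      have hone : (1 : MvPolynomial (Fin n) A₁) = ∑ j : l.support, a j * μ j.1 := by
        refine MvPolynomial.map_injective (algebraMap A₁ R) Subtype.val_injective ?_
        rw [map_one, map_sum]
        simp only [map_mul, ha, μ, MvPolynomial.map_map, ← IsScalarTower.algebraMap_eq]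
        rw [← hl, Finsupp.linearCombination_apply, Finsupp.sum, ← Finset.sum_attach]
        rfl
      rw [hone]
      exact Ideal.sum_mem _ fun j _ => Ideal.mul_mem_left _ _ (Ideal.mem_map_of_mem _ (hls j.2))
  rcases le_or_gt c n with hcn | hcn
  · let d := n - c
    let S₀ := Synt.RelGCIRing A₀ n c G
    haveI : Algebra.FiniteType A₀ S₀ :=
      Algebra.FiniteType.of_surjective (Ideal.Quotient.mkₐ A₀ _) Ideal.Quotient.mk_surjective
    let W : Set (PrimeSpectrum S₀) := {P | ∃ U : Set (PrimeSpectrum S₀), IsOpen U ∧ P ∈ U ∧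
      ∀ y : PrimeSpectrum A₀, topologicalKrullDim ↥(U ∩ FibDim.fib y) ≤ (d : ℕ)}
    have hW : IsOpen W := isOpen_iff_forall_mem_open.2 fun P ⟨U, hU, hP, hd⟩ =>
      ⟨U, fun P' hP' => ⟨U, hU, hP', hd⟩, hU, hP⟩
    obtain ⟨I, hI⟩ := (PrimeSpectrum.isClosed_iff_zeroLocus_ideal _).1 hW.isClosed_compl
    let J : Ideal (MvPolynomial (Fin n) A₀) := I.comap (Ideal.Quotient.mk _)
    refine ⟨J, ?_, fun R₁ _ _ hR₁ => ?_⟩
    · by_contra hne
      obtain ⟨M, hM, hMle⟩ := Ideal.exists_le_maximal (J.map φ) ((Ideal.ne_top_iff_one _).2 hne)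
      have hFM : Ideal.span (Set.range F) ≤ M := by
        refine le_trans ?_ hMle
        rw [Ideal.span_le]
        rintro _ ⟨i, rfl⟩
        rw [← hG i]
        refine Ideal.mem_map_of_mem φ ?_
        show Ideal.Quotient.mk _ (G i) ∈ I
        rw [Ideal.Quotient.eq_zero_iff_mem.2 (Ideal.subset_span (Set.mem_range_self i))]
        exact zero_mem _
      have hG' : ∀ x ∈ Ideal.span (Set.range G), ((Ideal.Quotient.mk M).comp φ) x = 0 := by
        intro x hx
        have : Ideal.span (Set.range G) ≤ RingHom.ker ((Ideal.Quotient.mk M).comp φ) := by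
          rw [Ideal.span_le]
          rintro _ ⟨i, rfl⟩
          show Ideal.Quotient.mk M (φ (G i)) = 0
          rw [show φ (G i) = F i from hG i]
          exact Ideal.Quotient.eq_zero_iff_mem.2 (hFM (Ideal.subset_span (Set.mem_range_self i)))
        exact this hx
      let ρ : S₀ →+* MvPolynomial (Fin n) R ⧸ M := Ideal.Quotient.lift _ ((Ideal.Quotient.mk M).comp φ) hG'
      let P : PrimeSpectrum S₀ := ⟨RingHom.ker ρ, RingHom.ker_isPrime ρ⟩
      have hPW : P ∉ W := by
        have : P ∈ PrimeSpectrum.zeroLocus (I : Set S₀) := by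
          intro x hx
          obtain ⟨x, rfl⟩ := Ideal.Quotient.mk_surjective x
          show ρ (Ideal.Quotient.mk _ x) = 0
          exact Ideal.Quotient.eq_zero_iff_mem.2 (hMle (Ideal.mem_map_of_mem φ hx))
        rw [← hI] at this
        exact this
      apply hPW
      -- the fibre through `P`
      let p : PrimeSpectrum R := ⟨M.comap MvPolynomial.C, inferInstance⟩
      let p₀ : PrimeSpectrum A₀ := PrimeSpectrum.comap (algebraMap A₀ S₀) P
      have hp₀ : p₀.asIdeal = p.asIdeal.under A₀ := by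
        ext x
        show ρ (Ideal.Quotient.mk _ (MvPolynomial.C x)) = 0 ↔ MvPolynomial.C (algebraMap A₀ R x) ∈ M
        rw [← MvPolynomial.map_C (algebraMap A₀ R) x]
        exact Ideal.Quotient.eq_zero_iff_mem
      let k₀ := p₀.asIdeal.ResidueField
      let k := p.asIdeal.ResidueField
      letI : Algebra k₀ k := (Ideal.ResidueField.map p₀.asIdeal p.asIdeal (algebraMap A₀ R) hp₀).toAlgebra
      haveI : IsScalarTower A₀ k₀ k := IsScalarTower.of_algebraMap_eq fun a => by
        rw [IsScalarTower.algebraMap_apply A₀ R k]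
        exact (Ideal.ResidueField.map_algebraMap _ _ _ hp₀ a).symm
      have hkF : mapPoly A₀ G k = mapPoly R F k := funext fun i => by
        show MvPolynomial.map _ (G i) = MvPolynomial.map _ (F i)
        rw [← hG i, MvPolynomial.map_map, ← IsScalarTower.algebraMap_eq]
      haveI hn : Nontrivial (Synt.RelGCIRing k n c (mapPoly R F k)) := by
        suffices hN : Nontrivial (p.asIdeal.Fiber (Synt.RelGCIRing R n c F)) from
          (baseChangeEquiv R F k).symm.toEquiv.nontrivial
        let q : PrimeSpectrum (Synt.RelGCIRing R n c F) :=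
          ⟨M.map (Ideal.Quotient.mk _), Ideal.map_isPrime_of_surjective Ideal.Quotient.mk_surjective
            (by rwa [Ideal.mk_ker])⟩
        have hq : q.asIdeal.comap (algebraMap R _) = p.asIdeal := by
          show (M.map (Ideal.Quotient.mk _)).comap ((Ideal.Quotient.mk _).comp MvPolynomial.C) = _
          rw [← Ideal.comap_comap, Ideal.comap_map_of_surjective _ Ideal.Quotient.mk_surjective,
            ← RingHom.ker_eq_comap_bot, Ideal.mk_ker, sup_eq_left.2 hFM]
        haveI := q.2
        obtain ⟨Q, -⟩ := FlatLoc6.exists_fiber_prime p.asIdeal q.asIdeal hq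
        exact PrimeSpectrum.nonempty_iff_nontrivial.1 ⟨Q⟩
      have hd : ringKrullDim (Synt.RelGCIRing k n c (mapPoly R F k)) ≤ (d : ℕ) :=
        ((isRelGCI_iff R F).1 h p hn).2
      rw [← hkF] at hd hn
      haveI := hn
      haveI := nontrivial_mapPoly G k₀ k
      rw [ringKrullDim_mapPoly G k₀ k, ← ringKrullDim_eq_of_ringEquiv (R := k₀ ⊗[A₀] Synt.RelGCIRing A₀ n c G) (baseChangeEquiv A₀ G k₀).toRingEquiv,
        ← FibDim.topologicalKrullDim_fib] at hd
      obtain ⟨U, hU, hPU, -, hUd⟩ := FibDim.exists_basicOpen_dim_le (A := A₀) P d Set.univ isOpen_univ trivial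
        (by rwa [Set.univ_inter])
      exact ⟨U, hU, hPU, hUd⟩
    · rw [isRelGCI_iff]
      intro p₁ hn
      refine ⟨hcn, ?_⟩
      let p₀ : PrimeSpectrum A₀ := ⟨p₁.asIdeal.under A₀, inferInstance⟩
      let k₀ := p₀.asIdeal.ResidueField
      let k₁ := p₁.asIdeal.ResidueField
      letI : Algebra k₀ k₁ := (Ideal.ResidueField.map p₀.asIdeal p₁.asIdeal (algebraMap A₀ R₁) rfl).toAlgebra
      haveI : IsScalarTower A₀ k₀ k₁ := IsScalarTower.of_algebraMap_eq fun a => by
        rw [IsScalarTower.algebraMap_apply A₀ R₁ k₁]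
        exact (Ideal.ResidueField.map_algebraMap _ _ _ rfl a).symm
      have hk : mapPoly R₁ (mapPoly A₀ G R₁) k₁ = mapPoly A₀ G k₁ := funext fun i => by
        simp only [mapPoly, MvPolynomial.map_map, ← IsScalarTower.algebraMap_eq]
      rw [hk] at hn ⊢
      haveI := hn
      haveI := nontrivial_mapPoly G k₀ k₁
      rw [ringKrullDim_mapPoly G k₀ k₁, ← ringKrullDim_eq_of_ringEquiv (R := k₀ ⊗[A₀] Synt.RelGCIRing A₀ n c G) (baseChangeEquiv A₀ G k₀).toRingEquiv,
        ← FibDim.krullDim_fib]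
      refine iSup_le fun l => ?_
      -- the last point of the chain lies in `W`
      have hmem : l.last.1 ∈ W := by
        by_contra hW'
        obtain ⟨Q₀, hQ₀⟩ := FlatLoc6.exists_fiber_prime p₀.asIdeal l.last.1.asIdeal
          (congrArg PrimeSpectrum.asIdeal l.last.2)
        refine exists_lift_prime G J hR₁ p₁ Q₀ ?_
        have hz : l.last.1 ∈ PrimeSpectrum.zeroLocus (I : Set S₀) := by rw [← hI]; exact hW'
        intro x hx
        show Ideal.Quotient.mk _ x ∈ Q₀.asIdeal.comap
          (Algebra.TensorProduct.includeRight : S₀ →ₐ[A₀] p₀.asIdeal.Fiber S₀)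
        rw [hQ₀]
        exact hz hx
      obtain ⟨U, hU, hlU, hUd⟩ := hmem
      have hall : ∀ i, (l i).1 ∈ U ∩ FibDim.fib p₀ := fun i =>
        ⟨((PrimeSpectrum.le_iff_specializes _ _).1 (show (l i).1 ≤ l.last.1 from l.monotone (Fin.le_last i))).mem_open hU hlU, (l i).2⟩
      let V : Set (PrimeSpectrum S₀) := U ∩ FibDim.fib p₀
      have key : (l.length : WithBot ℕ∞) ≤ topologicalKrullDim ↥V := by
        let T : Fin (l.length + 1) → TopologicalSpace.IrreducibleCloseds ↥V := fun i =>
          ⟨closure {⟨(l (Fin.rev i)).1, hall _⟩}, isIrreducible_singleton.closure, isClosed_closure⟩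
        refine (le_of_eq (by rfl)).trans (Order.LTSeries.length_le_krullDim
          (⟨l.length, T, fun i => ?_⟩ : LTSeries (TopologicalSpace.IrreducibleCloseds ↥V)))
        have hlt : (l (Fin.rev i.succ)).1 < (l (Fin.rev i.castSucc)).1 :=
          l.strictMono (Fin.rev_lt_rev.2 i.castSucc_lt_succ)
        show T i.castSucc < T i.succ
        refine lt_of_le_not_ge ?_ ?_
        · refine closure_minimal (Set.singleton_subset_iff.2 ?_) isClosed_closure
          show (⟨(l (Fin.rev i.castSucc)).1, hall _⟩ : ↥V) ∈ closure {(⟨(l (Fin.rev i.succ)).1, hall _⟩ : ↥V)}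
          exact specializes_iff_mem_closure.1 (((Topology.IsInducing.subtypeVal (t := V)).specializes_iff).1
            ((PrimeSpectrum.le_iff_specializes _ _).1 hlt.le))
        · intro hge
          have h1 : (⟨(l (Fin.rev i.succ)).1, hall _⟩ : ↥V) ∈ closure {(⟨(l (Fin.rev i.castSucc)).1, hall _⟩ : ↥V)} :=
            hge (subset_closure rfl)
          exact hlt.not_ge ((PrimeSpectrum.le_iff_specializes _ _).2
            (((Topology.IsInducing.subtypeVal (t := V)).specializes_iff).2 (specializes_iff_mem_closure.2 h1)))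
      exact key.trans (hUd p₀)
  · refine ⟨Ideal.span (Set.range G), ?_, fun R₁ _ _ hR₁ => ?_⟩
    · by_contra hne
      obtain ⟨M, hM, hMle⟩ := Ideal.exists_le_maximal ((Ideal.span (Set.range G)).map φ)
        ((Ideal.ne_top_iff_one _).2 hne)
      have hFM : Ideal.span (Set.range F) ≤ M := by
        refine le_trans ?_ hMle
        rw [Ideal.span_le]
        rintro _ ⟨i, rfl⟩
        rw [← hG i]
        exact Ideal.mem_map_of_mem φ (Ideal.subset_span (Set.mem_range_self i))
      let p : PrimeSpectrum R := ⟨M.comap MvPolynomial.C, inferInstance⟩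
      let q : PrimeSpectrum (Synt.RelGCIRing R n c F) :=
        ⟨M.map (Ideal.Quotient.mk _), Ideal.map_isPrime_of_surjective Ideal.Quotient.mk_surjective
          (by rwa [Ideal.mk_ker])⟩
      have hq : q.asIdeal.comap (algebraMap R _) = p.asIdeal := by
        show (M.map (Ideal.Quotient.mk _)).comap ((Ideal.Quotient.mk _).comp MvPolynomial.C) = _
        rw [← Ideal.comap_comap, Ideal.comap_map_of_surjective _ Ideal.Quotient.mk_surjective,
          ← RingHom.ker_eq_comap_bot, Ideal.mk_ker, sup_eq_left.2 hFM]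
      haveI := q.2
      obtain ⟨Q, -⟩ := FlatLoc6.exists_fiber_prime p.asIdeal q.asIdeal hq
      exact absurd (h p (PrimeSpectrum.nonempty_iff_nontrivial.1 ⟨Q⟩)).1 hcn.not_ge
    · rw [isRelGCI_iff]
      intro p₁ hn
      exfalso
      have h1 : Ideal.span (Set.range (mapPoly R₁ (mapPoly A₀ G R₁) p₁.asIdeal.ResidueField)) = ⊤ := by
        rw [Ideal.eq_top_iff_one]
        have := Ideal.mem_map_of_mem (MvPolynomial.map (algebraMap R₁ p₁.asIdeal.ResidueField)) hR₁
        rw [map_one, Ideal.map_map, Ideal.map_span, ← Set.range_comp] at this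
        exact this
      exact (Ideal.Quotient.nontrivial_iff.1 hn) h1

/-- A relative global complete intersection is flat. -/
theorem flat_relGCIRing {R : Type u} [CommRing R] {F : Fin c → MvPolynomial (Fin n) R}
    (h : Synt.IsRelGCI R n c F) : Module.Flat R (Synt.RelGCIRing R n c F) := by
  obtain ⟨R₀, F₀, _, hF, h₀⟩ := exists_descent h
  haveI : IsNoetherianRing R₀ := Algebra.FiniteType.isNoetherianRing ℤ R₀
  haveI := flat_relGCIRing_of_noetherian h₀
  have e := baseChangeEquiv R₀ F₀ R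
  have hF' : mapPoly R₀ F₀ R = F := funext hF
  rw [hF'] at e
  exact Module.Flat.of_linearEquiv e.symm.toLinearEquiv

theorem isSyntomic_relGCIRing {R : Type u} [CommRing R] {F : Fin c → MvPolynomial (Fin n) R}
    (h : Synt.IsRelGCI R n c F) : Synt.IsSyntomic R (Synt.RelGCIRing R n c F) :=
  ⟨flat_relGCIRing h, Algebra.FinitePresentation.quotient (Submodule.fg_span (Set.finite_range F)),
    isLCIOver_fiber_relGCIRing h⟩

end Groth.Agent.Synt29
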