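import Mathlib
import Groth.Agent.Synt29.Descent
import Groth.Agent.FibDim.Alg
import Groth.Agent.FlatLoc6.FiberRing

/-!
# Syntomic algebras are locally relative global complete intersections
-/

universe u

open TensorProduct Order Topology

set_option linter.style.haveILetI false

namespace Groth.Agent.Synt29

variable {R : Type u} [CommRing R]

/-- `T` has a presentation as a relative global complete intersection. -/
def IsStd (R : Type u) [CommRing R] (T : Type u) [CommRing T] [Algebra R T] : Prop :=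
  ∃ (N M : ℕ) (F : Fin M → MvPolynomial (Fin N) R),
    Synt.IsRelGCI R N M F ∧ Nonempty (Synt.RelGCIRing R N M F ≃ₐ[R] T)

theorem isStd_of_algEquiv {T T' : Type u} [CommRing T] [CommRing T'] [Algebra R T] [Algebra R T'] (e : T ≃ₐ[R] T')
    (h : IsStd R T) : IsStd R T' := by
  obtain ⟨N, M, F, hF, ⟨e'⟩⟩ := h
  exact ⟨N, M, F, hF, ⟨e'.trans e⟩⟩

/-- A presentation gives an isomorphism with the standard presented algebra. -/
theorem presentation_equiv {T : Type u} [CommRing T] [Algebra R T] {N M : ℕ}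
    (P : Algebra.Presentation R T (Fin N) (Fin M)) : Nonempty (Synt.RelGCIRing R N M P.relation ≃ₐ[R] T) := by
  have h : Ideal.span (Set.range P.relation) = RingHom.ker (MvPolynomial.aeval (R := R) P.val).toRingHom :=
    P.span_range_relation_eq_ker.trans P.ker_eq_ker_aeval_val
  exact ⟨(Ideal.quotientEquivAlgOfEq R h).trans
    (Ideal.quotientKerAlgEquivOfSurjective (R₁ := R) (f := MvPolynomial.aeval (R := R) P.val) P.aeval_val_surjective)⟩

theorem exists_scaled_lift (p : Ideal R) [p.IsPrime] {σ : Type*} (v : MvPolynomial σ p.ResidueField) :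
    ∃ s ∉ p, ∃ f : MvPolynomial σ R, MvPolynomial.map (algebraMap R p.ResidueField) f =
      MvPolynomial.C (algebraMap R p.ResidueField s) * v := by
  induction v using MvPolynomial.induction_on with
  | C a =>
    obtain ⟨⟨x, y⟩, h⟩ := IsLocalization.surj (nonZeroDivisors (R ⧸ p)) a
    obtain ⟨x, rfl⟩ := Ideal.Quotient.mk_surjective x
    obtain ⟨y', hy'⟩ := Ideal.Quotient.mk_surjective (y : R ⧸ p)
    refine ⟨y', fun hmem => nonZeroDivisors.coe_ne_zero y ?_, MvPolynomial.C x, ?_⟩
    · rw [← hy', Ideal.Quotient.eq_zero_iff_mem]; exact hmem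
    · rw [MvPolynomial.map_C, ← map_mul]
      congr 1
      rw [IsScalarTower.algebraMap_apply R (R ⧸ p) p.ResidueField, IsScalarTower.algebraMap_apply R (R ⧸ p) p.ResidueField,
        Ideal.Quotient.algebraMap_eq, hy', mul_comm]
      exact h.symm
  | add u v hu hv =>
    obtain ⟨s, hs, f, hf⟩ := hu
    obtain ⟨t, ht, g, hg⟩ := hv
    refine ⟨s * t, fun h => (Ideal.IsPrime.mem_or_mem ‹_› h).elim hs ht,
      MvPolynomial.C t * f + MvPolynomial.C s * g, ?_⟩
    simp only [map_add, map_mul, MvPolynomial.map_C, hf, hg]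
    ring
  | mul_X u i hu =>
    obtain ⟨s, hs, f, hf⟩ := hu
    exact ⟨s, hs, f * MvPolynomial.X i, by rw [map_mul, MvPolynomial.map_X, hf, mul_assoc]⟩

theorem exists_scaled_of_mem_map (p : Ideal R) [p.IsPrime] {σ : Type*} (I : Ideal (MvPolynomial σ R))
    (v : MvPolynomial σ p.ResidueField) (hv : v ∈ I.map (MvPolynomial.map (algebraMap R p.ResidueField))) :
    ∃ s ∉ p, ∃ f ∈ I, MvPolynomial.map (algebraMap R p.ResidueField) f =
      MvPolynomial.C (algebraMap R p.ResidueField s) * v := by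
  induction hv using Submodule.span_induction with
  | mem x hx =>
    obtain ⟨f, hf, rfl⟩ := hx
    exact ⟨1, (Ideal.ne_top_iff_one p).1 (Ideal.IsPrime.ne_top ‹_›), f, hf, by simp⟩
  | zero => exact ⟨1, (Ideal.ne_top_iff_one p).1 (Ideal.IsPrime.ne_top ‹_›), 0, zero_mem _, by simp⟩
  | add u v _ _ hu hv =>
    obtain ⟨s, hs, f, hfI, hf⟩ := hu
    obtain ⟨t, ht, g, hgI, hg⟩ := hv
    refine ⟨s * t, fun h => (Ideal.IsPrime.mem_or_mem ‹_› h).elim hs ht,
      MvPolynomial.C t * f + MvPolynomial.C s * g, I.add_mem (I.mul_mem_left _ hfI) (I.mul_mem_left _ hgI), ?_⟩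
    simp only [map_add, map_mul, MvPolynomial.map_C, hf, hg]
    ring
  | smul a u _ hu =>
    obtain ⟨s, hs, f, hfI, hf⟩ := hu
    obtain ⟨t, ht, g, hg⟩ := exists_scaled_lift p a
    refine ⟨s * t, fun h => (Ideal.IsPrime.mem_or_mem ‹_› h).elim hs ht, g * f, I.mul_mem_left _ hfI, ?_⟩
    simp only [map_mul, hf, hg, smul_eq_mul]
    ring

theorem baseChangeEquiv_symm_mk_map {N M : ℕ} (F : Fin M → MvPolynomial (Fin N) R) (T : Type u) [CommRing T]
    [Algebra R T] (f : MvPolynomial (Fin N) R) :
    (baseChangeEquiv R F T).symm (Ideal.Quotient.mk _ (MvPolynomial.map (algebraMap R T) f)) =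
      (1 : T) ⊗ₜ[R] (Ideal.Quotient.mk (Ideal.span (Set.range F)) f) := by
  let e := baseChangeEquiv R F T
  let l : MvPolynomial (Fin N) R →+* T ⊗[R] Synt.RelGCIRing R N M F :=
    (e.symm.toRingEquiv.toRingHom.comp (Ideal.Quotient.mk _)).comp (MvPolynomial.map (algebraMap R T))
  let r : MvPolynomial (Fin N) R →+* T ⊗[R] Synt.RelGCIRing R N M F :=
    (Algebra.TensorProduct.includeRight (R := R) (A := T) (B := Synt.RelGCIRing R N M F)).toRingHom.comp
      (Ideal.Quotient.mk _)
  suffices h : l = r from RingHom.congr_fun h f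
  refine MvPolynomial.ringHom_ext (fun a => ?_) (fun i => ?_)
  · show e.symm (Ideal.Quotient.mk _ (MvPolynomial.map (algebraMap R T) (MvPolynomial.C a))) =
      (Algebra.TensorProduct.includeRight : _ →ₐ[R] T ⊗[R] _) (algebraMap R (Synt.RelGCIRing R N M F) a)
    rw [MvPolynomial.map_C, AlgHom.commutes, IsScalarTower.algebraMap_apply R T (T ⊗[R] Synt.RelGCIRing R N M F)]
    exact e.symm.commutes _
  · show e.symm (Ideal.Quotient.mk _ (MvPolynomial.map (algebraMap R T) (MvPolynomial.X i))) = _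
    rw [MvPolynomial.map_X]
    show MvPolynomial.aeval _ (MvPolynomial.X i) = _
    rw [MvPolynomial.aeval_X]
    rfl

theorem exists_trivial_relation {M : Type u} [AddCommGroup M] [Module R M] [Module.Flat R M] {m : ℕ}
    (f : Fin m → R) (v : Fin m → M) (h : ∑ i, f i • v i = 0) :
    ∃ (k : ℕ) (a : Fin m → Fin k → R) (y : Fin k → M),
      (∀ i, v i = ∑ j, a i j • y j) ∧ ∀ j, ∑ i, f i * a i j = 0 :=
  Module.Flat.iff_forall_isTrivialRelation.1 inferInstance h

theorem mem_map_mul_of_flat {B : Type u} [CommRing B] [Algebra R B] (I : Ideal R) (J : Ideal B)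
    [Module.Flat R (B ⧸ J)] {x : B} (hx : x ∈ J) (hxI : x ∈ I.map (algebraMap R B)) :
    x ∈ I.map (algebraMap R B) * J := by
  rw [Ideal.map] at hxI
  obtain ⟨m, l, g, hsum⟩ := Submodule.mem_span_set'.1 hxI
  choose π hπ hπg using fun i => (g i).2
  have hsum' : ∑ i, π i • l i = x := by
    rw [← hsum]
    exact Finset.sum_congr rfl fun i _ => by rw [smul_eq_mul, Algebra.smul_def, hπg i, mul_comm]
  let v : Fin m → B ⧸ J := fun i => Ideal.Quotient.mkₐ R J (l i)
  have hrel : ∑ i, π i • v i = 0 := by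
    have h1 : Ideal.Quotient.mkₐ R J (∑ i, π i • l i) = ∑ i, π i • v i := by
      rw [map_sum]
      exact Finset.sum_congr rfl fun i _ => map_smul (Ideal.Quotient.mkₐ R J) (π i) (l i)
    rw [← h1, hsum']
    exact Ideal.Quotient.eq_zero_iff_mem.2 hx
  obtain ⟨k, α, y, hy, hα⟩ := exists_trivial_relation (M := B ⧸ J) π v hrel
  choose z hz using fun j => Ideal.Quotient.mk_surjective (y j)
  have hw : ∀ i, l i - ∑ j, α i j • z j ∈ J := fun i => by
    rw [← Ideal.Quotient.eq_zero_iff_mem]
    show Ideal.Quotient.mkₐ R J (l i - ∑ j, α i j • z j) = 0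
    rw [map_sub, map_sum, sub_eq_zero]
    exact (hy i).trans (Finset.sum_congr rfl fun j _ => by rw [map_smul, ← hz j]; rfl)
  have h3 : ∑ i, π i • ∑ j, α i j • z j = 0 := by
    simp only [Finset.smul_sum, smul_smul]
    rw [Finset.sum_comm]
    refine Finset.sum_eq_zero fun j _ => ?_
    rw [← Finset.sum_smul, hα j, zero_smul]
  rw [← hsum', show ∑ i, π i • l i = ∑ i, π i • (l i - ∑ j, α i j • z j) by
    simp only [smul_sub, Finset.sum_sub_distrib, h3, sub_zero]]
  refine Ideal.sum_mem _ fun i _ => ?_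
  rw [Algebra.smul_def]
  exact Ideal.mul_mem_mul (Ideal.mem_map_of_mem _ (hπ i)) (hw i)

theorem exists_annihilator {B : Type u} [CommRing B] [Algebra R B] (J : Ideal B) (hJ : J.FG)
    [Module.Flat R (B ⧸ J)] (q : Ideal B) [q.IsPrime] (p : Ideal R) [p.IsPrime] [q.LiesOver p]
    (hker : ∀ x ∈ J, (Algebra.TensorProduct.includeRight : B →ₐ[R] p.Fiber B) x = 0) :
    ∃ a ∉ q, ∀ x ∈ J, a * x = 0 := by
  classical
  let Bq := Localization.AtPrime q
  let P : Ideal Bq := p.map (algebraMap R Bq)
  have hover : q.comap (algebraMap R B) = p := (Ideal.over_def q p).symm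
  have hunit : p.primeCompl ≤ (IsUnit.submonoid (Bq ⧸ P)).comap (Algebra.ofId R (Bq ⧸ P)) := by
    intro s hs
    show IsUnit (algebraMap R (Bq ⧸ P) s)
    rw [IsScalarTower.algebraMap_apply R Bq (Bq ⧸ P)]
    refine IsUnit.map _ ?_
    rw [IsScalarTower.algebraMap_apply R B Bq]
    exact IsLocalization.map_units Bq (⟨algebraMap R B s, fun h => hs (hover ▸ h)⟩ : q.primeCompl)
  have hp0 : p ≤ RingHom.ker (Algebra.ofId R (Bq ⧸ P)) := fun s hs => by
    show algebraMap R (Bq ⧸ P) s = 0
    rw [IsScalarTower.algebraMap_apply R Bq (Bq ⧸ P)]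
    exact Ideal.Quotient.eq_zero_iff_mem.2 (Ideal.mem_map_of_mem _ hs)
  let L : p.Fiber B →ₐ[R] Bq ⧸ P := Algebra.TensorProduct.lift
    (Ideal.ResidueField.liftₐ p (Algebra.ofId R (Bq ⧸ P)) hp0 hunit)
    ((Ideal.Quotient.mkₐ R P).comp (IsScalarTower.toAlgHom R B Bq)) (fun _ _ => Commute.all _ _)
  have key : ∀ x ∈ J, algebraMap B Bq x ∈ P * J.map (algebraMap B Bq) := by
    intro x hx
    have h0 : algebraMap B Bq x ∈ P := by
      have h1 := congrArg L (hker x hx)
      rw [map_zero] at h1
      rw [← Ideal.Quotient.eq_zero_iff_mem, ← h1]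
      show _ = L (1 ⊗ₜ[R] x)
      rw [Algebra.TensorProduct.lift_tmul, map_one, one_mul]
      rfl
    rw [show P = (p.map (algebraMap R B)).map (algebraMap B Bq) by
      rw [Ideal.map_map, ← IsScalarTower.algebraMap_eq], IsLocalization.mem_map_algebraMap_iff q.primeCompl] at h0
    obtain ⟨⟨⟨a, ha⟩, s⟩, hs⟩ := h0
    rw [← map_mul, IsLocalization.eq_iff_exists q.primeCompl] at hs
    obtain ⟨c, hc⟩ := hs
    have htx : ((c : B) * s) * x ∈ p.map (algebraMap R B) := by
      rw [mul_assoc, mul_comm (s : B) x, hc]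
      exact Ideal.mul_mem_left _ _ ha
    have h5 := mem_map_mul_of_flat p J (J.mul_mem_left _ hx) htx
    have hu : IsUnit (algebraMap B Bq ((c : B) * s)) := IsLocalization.map_units Bq (c * s)
    rw [← Ideal.unit_mul_mem_iff_mem _ hu, ← map_mul]
    have h6 := Ideal.mem_map_of_mem (algebraMap B Bq) h5
    rwa [Ideal.map_mul, Ideal.map_map, ← IsScalarTower.algebraMap_eq] at h6
  have hbot : J.map (algebraMap B Bq) = ⊥ := by
    refine Submodule.eq_bot_of_le_smul_of_le_jacobson_bot P _ (hJ.map _) ?_ ?_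
    · rw [Ideal.map_le_iff_le_comap]
      exact fun x hx => key x hx
    · rw [IsLocalRing.jacobson_eq_maximalIdeal ⊥ bot_ne_top, Ideal.map_le_iff_le_comap]
      intro s hs
      rw [Ideal.mem_comap, IsScalarTower.algebraMap_apply R B Bq]
      refine (IsLocalization.AtPrime.to_map_mem_maximal_iff Bq q _).2 ?_
      rw [← hover] at hs
      exact hs
  obtain ⟨G, hG⟩ := hJ
  have hzero : ∀ g ∈ G, ∃ c : q.primeCompl, (c : B) * g = 0 := fun g hg => by
    refine (IsLocalization.map_eq_zero_iff q.primeCompl Bq g).1 ?_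
    rw [← Ideal.mem_bot, ← hbot]
    exact Ideal.mem_map_of_mem _ (hG ▸ Ideal.subset_span hg)
  choose! cf hcf using hzero
  refine ⟨((∏ g ∈ G, cf g : q.primeCompl) : B), (∏ g ∈ G, cf g).2, fun x hx => ?_⟩
  rw [← hG] at hx
  induction hx using Submodule.span_induction with
  | mem g hg =>
    rw [← Finset.prod_erase_mul G cf hg, Submonoid.coe_mul, mul_assoc, hcf g hg, mul_zero]
  | zero => rw [mul_zero]
  | add u v _ _ hu hv => rw [mul_add, hu, hv, add_zero]
  | smul b u _ hu => rw [smul_eq_mul, mul_left_comm, hu, mul_zero]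

theorem exists_isStd_nhd {N M : ℕ} (G : Fin M → MvPolynomial (Fin N) R) (hMN : M ≤ N)
    (q : PrimeSpectrum (Synt.RelGCIRing R N M G))
    (hd : ringKrullDim ((PrimeSpectrum.comap (algebraMap R _) q).asIdeal.Fiber (Synt.RelGCIRing R N M G)) ≤
      ((N - M : ℕ) : WithBot ℕ∞)) :
    ∃ g ∉ q.asIdeal, ∀ (a : Synt.RelGCIRing R N M G) (T : Type u) [CommRing T] [Algebra R T]
      [Algebra (Synt.RelGCIRing R N M G) T] [IsScalarTower R (Synt.RelGCIRing R N M G) T]
      [IsLocalization.Away (g * a) T], IsStd R T := by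
  let S := Synt.RelGCIRing R N M G
  haveI : Algebra.FiniteType R S :=
    Algebra.FiniteType.of_surjective (Ideal.Quotient.mkₐ R _) Ideal.Quotient.mk_surjective
  rw [← FibDim.topologicalKrullDim_fib] at hd
  obtain ⟨U, hU, hqU, -, hUd⟩ := FibDim.exists_basicOpen_dim_le (A := R) q (N - M) Set.univ isOpen_univ trivial
    (by rwa [Set.univ_inter])
  obtain ⟨_, ⟨g, rfl⟩, hgq, hgU⟩ := PrimeSpectrum.isTopologicalBasis_basic_opens.exists_subset_of_mem_open hqU hU
  refine ⟨g, hgq, fun a T _ _ _ _ _ => ?_⟩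
  let P := (Algebra.Presentation.localizationAway T (g * a)).comp (Algebra.Presentation.naive (R := R) (v := G))
  let Q : Algebra.Presentation R T (Fin (N + 1)) (Fin (M + 1)) :=
    P.reindex (finSumFinEquiv.symm.trans ((Equiv.sumCongr (Equiv.refl (Fin N)) (Equiv.ofUnique (Fin 1) Unit)).trans (Equiv.sumComm _ _)))
      (finSumFinEquiv.symm.trans ((Equiv.sumCongr (Equiv.refl (Fin M)) (Equiv.ofUnique (Fin 1) Unit)).trans (Equiv.sumComm _ _)))
  refine ⟨N + 1, M + 1, Q.relation, fun p hn => ⟨by omega, ?_⟩, presentation_equiv Q⟩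
  obtain ⟨eQ⟩ := presentation_equiv Q
  let e : p.asIdeal.Fiber (Synt.RelGCIRing R (N + 1) (M + 1) Q.relation) ≃ₐ[p.asIdeal.ResidueField] p.asIdeal.Fiber T :=
    Algebra.TensorProduct.congr AlgEquiv.refl eQ
  have h1 : ringKrullDim (p.asIdeal.Fiber T) ≤ ((N - M : ℕ) : WithBot ℕ∞) := by
    rw [← FibDim.topologicalKrullDim_fib]
    let j : ↥(FibDim.fib (A := R) (B := T) p) → ↥(U ∩ FibDim.fib (B := S) p) := fun Q =>
      ⟨PrimeSpectrum.comap (algebraMap S T) Q.1, hgU (fun h => ?_), by
        show PrimeSpectrum.comap (algebraMap R S) (PrimeSpectrum.comap (algebraMap S T) Q.1) = p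
        rw [← PrimeSpectrum.comap_comp_apply, ← IsScalarTower.algebraMap_eq]
        exact Q.2⟩
    rotate_left
    · have hu : IsUnit (algebraMap S T (g * a)) := IsLocalization.Away.algebraMap_isUnit (g * a)
      rw [map_mul] at hu
      exact Q.1.2.ne_top (Ideal.eq_top_of_isUnit_mem _ h (isUnit_of_mul_isUnit_left hu))
    refine le_trans (Topology.IsInducing.topologicalKrullDim_le (f := j) ?_) (hUd p)
    refine (Topology.IsInducing.of_comp_iff Topology.IsInducing.subtypeVal).1 ?_
    exact ((PrimeSpectrum.localization_comap_isInducing T (Submonoid.powers (g * a))).comp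
      Topology.IsInducing.subtypeVal)
  have h2 : ((N + 1 - (M + 1) : ℕ) : WithBot ℕ∞) ≤
      ringKrullDim (p.asIdeal.Fiber (Synt.RelGCIRing R (N + 1) (M + 1) Q.relation)) := by
    let e2 := (baseChangeEquiv R Q.relation p.asIdeal.ResidueField).toRingEquiv
    haveI := hn
    haveI : Nontrivial (Synt.RelGCIRing p.asIdeal.ResidueField (N + 1) (M + 1)
        (mapPoly R Q.relation p.asIdeal.ResidueField)) := e2.symm.toEquiv.nontrivial
    rw [ringKrullDim_eq_of_ringEquiv (R := p.asIdeal.Fiber (Synt.RelGCIRing R (N + 1) (M + 1) Q.relation)) e2]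
    exact ringKrullDim_relGCIRing_ge _
  refine le_antisymm ?_ h2
  rw [ringKrullDim_eq_of_ringEquiv (R := p.asIdeal.Fiber (Synt.RelGCIRing R (N + 1) (M + 1) Q.relation)) e.toRingEquiv]
  refine h1.trans (le_of_eq ?_)
  congr 1
  rw [Nat.add_sub_add_right]


section adapted

variable {S : Type u} [CommRing S] [Algebra R S]

theorem exists_combined {k : Type u} [Field k] {n m c : ℕ} {T : Type u} [CommRing T] [Algebra k T]
    (Ψ : MvPolynomial (Fin (n + m)) k →ₐ[k] T) (φ : MvPolynomial (Fin m) k →ₐ[k] T) (hφ : Function.Surjective φ)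
    (r : Fin c → MvPolynomial (Fin m) k) (hker : RingHom.ker φ.toRingHom = Ideal.span (Set.range r))
    (u : Fin m → k) (hu : ∀ j, u j ≠ 0) (hΨ : ∀ j, Ψ (MvPolynomial.X (Fin.natAdd n j)) = u j • φ (MvPolynomial.X j)) :
    ∃ ρ : Fin (c + n) → MvPolynomial (Fin (n + m)) k, Ideal.span (Set.range ρ) = RingHom.ker Ψ.toRingHom := by
  classical
  let ι : MvPolynomial (Fin m) k →ₐ[k] MvPolynomial (Fin (n + m)) k :=
    MvPolynomial.aeval fun j => MvPolynomial.C (u j)⁻¹ * MvPolynomial.X (Fin.natAdd n j)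
  have hι : Ψ.comp ι = φ := MvPolynomial.algHom_ext fun j => by
    show Ψ (ι (MvPolynomial.X j)) = φ (MvPolynomial.X j)
    rw [show ι (MvPolynomial.X j) = MvPolynomial.C (u j)⁻¹ * MvPolynomial.X (Fin.natAdd n j) from
      MvPolynomial.aeval_X _ j, map_mul, hΨ j, MvPolynomial.algHom_C, ← Algebra.smul_def, smul_smul,
      inv_mul_cancel₀ (hu j), one_smul]
  have hιx : ∀ w, Ψ (ι w) = φ w := fun w => AlgHom.congr_fun hι w
  choose h hh using fun i : Fin n => hφ (Ψ (MvPolynomial.X (Fin.castAdd m i)))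
  let ρ : Fin (c + n) → MvPolynomial (Fin (n + m)) k :=
    Fin.append (fun l => ι (r l)) (fun i => MvPolynomial.X (Fin.castAdd m i) - ι (h i))
  refine ⟨ρ, le_antisymm ?_ ?_⟩
  · rw [Ideal.span_le]
    rintro _ ⟨l, rfl⟩
    show Ψ (ρ l) = 0
    refine Fin.addCases (fun l => ?_) (fun i => ?_) l
    · simp only [ρ, Fin.append_left, hιx]
      have : r l ∈ RingHom.ker φ.toRingHom := hker ▸ Ideal.subset_span (Set.mem_range_self l)
      exact this
    · simp only [ρ, Fin.append_right, map_sub, hιx, hh, sub_self]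
  · intro v hv
    have key : ∀ v, ∃ w, v - ι w ∈ Ideal.span (Set.range ρ) := by
      intro v
      induction v using MvPolynomial.induction_on with
      | C a => exact ⟨MvPolynomial.C a, by simp [ι]⟩
      | add f g hf hg =>
        obtain ⟨a, ha⟩ := hf
        obtain ⟨b, hb⟩ := hg
        exact ⟨a + b, by rw [map_add]; convert Ideal.add_mem _ ha hb using 1; ring⟩
      | mul_X f i hf =>
        obtain ⟨a, ha⟩ := hf
        obtain ⟨b, hb⟩ : ∃ b, MvPolynomial.X i - ι b ∈ Ideal.span (Set.range ρ) := by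
          refine Fin.addCases (fun i => ?_) (fun j => ?_) i
          · exact ⟨h i, Ideal.subset_span ⟨Fin.natAdd c i, by simp [ρ]⟩⟩
          · refine ⟨MvPolynomial.C (u j) * MvPolynomial.X j, ?_⟩
            have : ι (MvPolynomial.C (u j) * MvPolynomial.X j) = MvPolynomial.X (Fin.natAdd n j) := by
              simp only [ι, map_mul, MvPolynomial.aeval_X, MvPolynomial.algHom_C, MvPolynomial.algebraMap_eq,
                ← mul_assoc]
              rw [← map_mul, mul_inv_cancel₀ (hu j), map_one, one_mul]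
            rw [this, sub_self]
            exact zero_mem _
        refine ⟨a * b, ?_⟩
        rw [map_mul]
        convert Ideal.add_mem _ (Ideal.mul_mem_right (MvPolynomial.X i) _ ha) (Ideal.mul_mem_left _ (ι a) hb) using 1
        ring
    obtain ⟨w, hw⟩ := key v
    have hsub : Ideal.span (Set.range ρ) ≤ RingHom.ker Ψ.toRingHom := by
      rw [Ideal.span_le]
      rintro _ ⟨l, rfl⟩
      show Ψ (ρ l) = 0
      refine Fin.addCases (fun l => ?_) (fun i => ?_) l
      · simp only [ρ, Fin.append_left, hιx]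
        have : r l ∈ RingHom.ker φ.toRingHom := hker ▸ Ideal.subset_span (Set.mem_range_self l)
        exact this
      · simp only [ρ, Fin.append_right, map_sub, hιx, hh, sub_self]
    have hw0 : w ∈ RingHom.ker φ.toRingHom := by
      have h1 : Ψ (v - ι w) = 0 := hsub hw
      rw [map_sub, hιx, show Ψ v = 0 from hv, zero_sub, neg_eq_zero] at h1
      exact h1
    rw [hker] at hw0
    have h2 : ι w ∈ Ideal.span (Set.range ρ) := by
      have h3 := Ideal.mem_map_of_mem ι.toRingHom hw0
      rw [Ideal.map_span, ← Set.range_comp] at h3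
      refine Ideal.span_mono ?_ h3
      rintro _ ⟨l, rfl⟩
      exact ⟨Fin.castAdd n l, by simp [ρ]⟩
    simpa using Ideal.add_mem _ hw h2

variable [Module.Flat R S] [Algebra.FinitePresentation R S]

theorem exists_isStd_of_fibre_gci (q : PrimeSpectrum S) (p : PrimeSpectrum R)
    (hp : PrimeSpectrum.comap (algebraMap R S) q = p)
    (hCI : Synt.IsGlobalCI p.asIdeal.ResidueField (p.asIdeal.Fiber S)) :
    ∃ g ∉ q.asIdeal, IsStd R (Localization.Away g) := by
  classical
  let k := p.asIdeal.ResidueField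
  have hq : q.asIdeal.comap (algebraMap R S) = p.asIdeal := congrArg PrimeSpectrum.asIdeal hp
  obtain ⟨Q, -⟩ := FlatLoc6.exists_fiber_prime p.asIdeal q.asIdeal hq
  haveI : Nontrivial (p.asIdeal.Fiber S) := PrimeSpectrum.nonempty_iff_nontrivial.1 ⟨Q⟩
  rcases hCI with hs | ⟨m, c, hcm, φ, r, hφ, hker, hdim⟩
  · exact absurd hs (not_subsingleton _)
  obtain ⟨n, x, hx, -⟩ := Algebra.FinitePresentation.out (R := R) (A := S)
  choose t ht b hb using fun j : Fin m => Ideal.Fiber.exists_smul_eq_one_tmul _ (φ (MvPolynomial.X j))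
  let v : Fin (n + m) → S := Fin.append (fun i => x (MvPolynomial.X i)) b
  let ψ : MvPolynomial (Fin (n + m)) R →ₐ[R] S := MvPolynomial.aeval v
  have hψ : Function.Surjective ψ := fun y => by
    obtain ⟨z, rfl⟩ := hx y
    refine ⟨MvPolynomial.rename (Fin.castAdd m) z, ?_⟩
    have : ψ.comp (MvPolynomial.rename (Fin.castAdd m)) = x := MvPolynomial.algHom_ext fun i => by simp [ψ, v]
    exact AlgHom.congr_fun this z
  obtain ⟨M₀, F, hF⟩ := Submodule.fg_iff_exists_fin_generating_family.1
    (Algebra.FinitePresentation.ker_fG_of_surjective ψ hψ)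
  have hF' : Ideal.span (Set.range F) = RingHom.ker ψ.toRingHom := hF
  let e0 : Synt.RelGCIRing R (n + m) M₀ F ≃ₐ[R] S :=
    (Ideal.quotientEquivAlgOfEq R hF').trans (Ideal.quotientKerAlgEquivOfSurjective (R₁ := R) hψ)
  have he0 : ∀ f, e0 (Ideal.Quotient.mk _ f) = ψ f := fun f => rfl
  let e1 : Synt.RelGCIRing k (n + m) M₀ (mapPoly R F k) ≃ₐ[k] p.asIdeal.Fiber S :=
    (baseChangeEquiv R F k).symm.trans (Algebra.TensorProduct.congr AlgEquiv.refl e0)
  let Ψ : MvPolynomial (Fin (n + m)) k →ₐ[k] p.asIdeal.Fiber S :=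
    e1.toAlgHom.comp (Ideal.Quotient.mkₐ k _)
  have hΨmap : ∀ f, Ψ (MvPolynomial.map (algebraMap R k) f) = (1 : k) ⊗ₜ[R] ψ f := fun f => by
    show Algebra.TensorProduct.congr AlgEquiv.refl e0
      ((baseChangeEquiv R F k).symm (Ideal.Quotient.mk _ (MvPolynomial.map (algebraMap R k) f))) = _
    rw [baseChangeEquiv_symm_mk_map]
    show (1 : k) ⊗ₜ[R] e0 (Ideal.Quotient.mk _ f) = _
    rw [he0]
  have hΨker : RingHom.ker Ψ.toRingHom = Ideal.span (Set.range (mapPoly R F k)) := by
    ext y
    show e1 (Ideal.Quotient.mk _ y) = 0 ↔ _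
    rw [map_eq_zero_iff e1 e1.injective, Ideal.Quotient.eq_zero_iff_mem]
  obtain ⟨ρ, hρ⟩ := exists_combined Ψ φ hφ r hker (fun j => algebraMap R k (t j))
    (fun j h => ht j (Ideal.algebraMap_residueField_eq_zero.1 h)) (fun j => by
      rw [← MvPolynomial.map_X (algebraMap R k), hΨmap, show ψ (MvPolynomial.X (Fin.natAdd n j)) = b j by simp [ψ, v],
        algebraMap_smul, hb j])
  have hmapI : (Ideal.span (Set.range F)).map (MvPolynomial.map (algebraMap R k)) = Ideal.span (Set.range (mapPoly R F k)) := by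
    rw [Ideal.map_span, ← Set.range_comp]
    rfl
  choose s hs G hGI hG using fun l => exists_scaled_of_mem_map p.asIdeal (Ideal.span (Set.range F)) (ρ l)
    (by rw [hmapI, ← hΨker, ← hρ]; exact Ideal.subset_span (Set.mem_range_self l))
  have hspan : Ideal.span (Set.range (mapPoly R G k)) = Ideal.span (Set.range (mapPoly R F k)) := by
    rw [← hΨker, ← hρ]
    refine le_antisymm ?_ ?_
    · rw [Ideal.span_le]
      rintro _ ⟨l, rfl⟩
      show MvPolynomial.map _ (G l) ∈ _
      rw [hG l]
      exact Ideal.mul_mem_left _ _ (Ideal.subset_span (Set.mem_range_self l))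
    · rw [Ideal.span_le]
      rintro _ ⟨l, rfl⟩
      have hne : algebraMap R k (s l) ≠ 0 := fun h => hs l (Ideal.algebraMap_residueField_eq_zero.1 h)
      have h1 : MvPolynomial.C (algebraMap R k (s l))⁻¹ * mapPoly R G k l = ρ l := by
        show _ * MvPolynomial.map _ (G l) = _
        rw [hG l, ← mul_assoc, ← map_mul, inv_mul_cancel₀ hne, map_one, one_mul]
      rw [← h1]
      exact Ideal.mul_mem_left _ _ (Ideal.subset_span (Set.mem_range_self l))
  let S2 := Synt.RelGCIRing R (n + m) (c + n) G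
  let π : S2 →ₐ[R] S := Ideal.Quotient.liftₐ _ ψ (fun a ha => by
    have : Ideal.span (Set.range G) ≤ RingHom.ker ψ.toRingHom := by
      rw [← hF', Ideal.span_le]
      rintro _ ⟨l, rfl⟩
      exact hGI l
    exact this ha)
  have hπ : Function.Surjective π := fun y => by
    obtain ⟨z, rfl⟩ := hψ y
    exact ⟨Ideal.Quotient.mk _ z, rfl⟩
  let J : Ideal S2 := RingHom.ker π.toRingHom
  haveI : Algebra.FinitePresentation R S2 := Algebra.FinitePresentation.quotient (Submodule.fg_span (Set.finite_range G))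
  have hJ : J.FG := Algebra.FinitePresentation.ker_fG_of_surjective π hπ
  haveI : Module.Flat R (S2 ⧸ J) :=
    Module.Flat.of_linearEquiv (Ideal.quotientKerAlgEquivOfSurjective (R₁ := R) hπ).toLinearEquiv
  let q2 : PrimeSpectrum S2 := PrimeSpectrum.comap π.toRingHom q
  have hq2p : PrimeSpectrum.comap (algebraMap R S2) q2 = p := by
    rw [← hp]
    refine PrimeSpectrum.ext ?_
    show (q.asIdeal.comap π.toRingHom).comap (algebraMap R S2) = q.asIdeal.comap (algebraMap R S)
    rw [Ideal.comap_comap]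
    congr 1
    exact π.comp_algebraMap
  haveI : q2.asIdeal.LiesOver p.asIdeal := ⟨(congrArg PrimeSpectrum.asIdeal hq2p).symm⟩
  obtain ⟨a, ha, haJ⟩ := exists_annihilator J hJ q2.asIdeal p.asIdeal (fun y hy => by
    obtain ⟨f, rfl⟩ := Ideal.Quotient.mk_surjective y
    show (1 : k) ⊗ₜ[R] (Ideal.Quotient.mk (Ideal.span (Set.range G)) f) = 0
    rw [← baseChangeEquiv_symm_mk_map, map_eq_zero_iff _ (AlgEquiv.injective _), Ideal.Quotient.eq_zero_iff_mem,
      hspan, ← hmapI]
    refine Ideal.mem_map_of_mem _ ?_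
    rw [hF']
    exact hy)
  obtain ⟨g, hg, hstd⟩ := exists_isStd_nhd G (by omega) q2 (by
    rw [hq2p, ringKrullDim_eq_of_ringEquiv (R := p.asIdeal.Fiber S2) (baseChangeEquiv R G k).toRingEquiv,
      ringKrullDim_eq_of_ringEquiv (Ideal.quotEquivOfEq hspan), ringKrullDim_eq_of_ringEquiv e1.toRingEquiv, hdim,
      show n + m - (c + n) = m - c by omega])
  refine ⟨π (g * a), fun h => ?_, ?_⟩
  · exact (Ideal.IsPrime.mem_or_mem q2.2 (show g * a ∈ q2.asIdeal from h)).elim hg ha
  let T := Localization.Away (π (g * a))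
  letI : Algebra S2 T := ((algebraMap S T).comp π.toRingHom).toAlgebra
  haveI : IsScalarTower R S2 T := IsScalarTower.of_algebraMap_eq (R := R) (S := S2) (A := T) fun r => by
    show algebraMap R T r = algebraMap S T (π (algebraMap R S2 r))
    rw [π.commutes, ← IsScalarTower.algebraMap_apply]
  haveI : IsLocalization.Away (g * a) T := by
    refine IsLocalization.Away.mk _ (IsLocalization.Away.algebraMap_isUnit (π (g * a))) (fun z => ?_) (fun y z hyz => ?_)
    · obtain ⟨N, y, hy⟩ := IsLocalization.Away.surj (π (g * a)) z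
      obtain ⟨y, rfl⟩ := hπ y
      exact ⟨N, y, hy⟩
    · obtain ⟨N, hN⟩ := IsLocalization.Away.exists_of_eq (π (g * a)) (show algebraMap S T (π y) = algebraMap S T (π z) from hyz)
      refine ⟨N + 1, ?_⟩
      have h1 : (g * a) ^ N * y - (g * a) ^ N * z ∈ J := by
        show π _ = 0
        rw [map_sub, map_mul, map_mul, map_pow, hN, sub_self]
      have h2 := haJ _ h1
      linear_combination g * h2
  exact hstd a T

end adapted

/-- A flat finitely presented algebra whose fibre is a global complete intersection near a point is a relative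
global complete intersection near the corresponding prime. -/
theorem exists_isStd_away_of_point {S : Type u} [CommRing S] [Algebra R S] [Module.Flat R S]
    [Algebra.FinitePresentation R S]
    (q : PrimeSpectrum S) (p : PrimeSpectrum R) (hp : PrimeSpectrum.comap (algebraMap R S) q = p)
    (Q : PrimeSpectrum (p.asIdeal.Fiber S))
    (hQ : Q.asIdeal.comap (Algebra.TensorProduct.includeRight : S →ₐ[R] p.asIdeal.Fiber S) = q.asIdeal)
    (g₀ : p.asIdeal.Fiber S) (hg₀ : g₀ ∉ Q.asIdeal)
    (hCI : Synt.IsGlobalCI p.asIdeal.ResidueField (Localization.Away g₀)) :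
    ∃ g ∉ q.asIdeal, IsStd R (Localization.Away g) := by
  let k := p.asIdeal.ResidueField
  let F := p.asIdeal.Fiber S
  obtain ⟨t, ht, a, ha⟩ := Ideal.Fiber.exists_smul_eq_one_tmul _ g₀
  have htu : IsUnit (algebraMap R F t) := by
    rw [IsScalarTower.algebraMap_apply R k F]
    exact ((algebraMap_isUnit_fiber_iff t p).2 ht).map _
  have hassoc : Associated ((Algebra.TensorProduct.includeRight : S →ₐ[R] F) a) g₀ := by
    rw [show (Algebra.TensorProduct.includeRight : S →ₐ[R] F) a = algebraMap R F t * g₀ by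
      rw [← Algebra.smul_def, ha]; rfl]
    exact associated_unit_mul_left g₀ _ htu
  have haq : a ∉ q.asIdeal := by
    intro hmem
    rw [← hQ] at hmem
    exact hg₀ (Ideal.mem_of_dvd _ hassoc.dvd hmem)
  let T := Localization.Away a
  haveI : Algebra.FinitePresentation S T := IsLocalization.Away.finitePresentation a
  haveI : Module.Flat S T := IsLocalization.flat T (Submonoid.powers a)
  haveI : Algebra.FinitePresentation R T := Algebra.FinitePresentation.trans R S T
  haveI : Module.Flat R T := Module.Flat.trans R S T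
  let ι : F →ₐ[k] p.asIdeal.Fiber T := Algebra.TensorProduct.map (AlgHom.id _ _) (IsScalarTower.toAlgHom R S T)
  letI : Algebra F (p.asIdeal.Fiber T) := ι.toRingHom.toAlgebra
  haveI : IsScalarTower k F (p.asIdeal.Fiber T) := .of_algebraMap_eq fun x => (ι.commutes x).symm
  haveI hloc := IsLocalization.tensorProduct_tensorProduct_right R k (Submonoid.powers a) T
    (RingHom.ext fun s => by
      show ι ((1 : k) ⊗ₜ[R] s) = _
      exact Algebra.TensorProduct.map_tmul _ _ _ _)
  haveI : IsLocalization.Away ((Algebra.TensorProduct.includeRight : S →ₐ[R] F) a) (p.asIdeal.Fiber T) := by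
    show IsLocalization (Submonoid.powers _) _
    rw [← Submonoid.map_powers]
    exact hloc
  haveI : IsLocalization.Away g₀ (p.asIdeal.Fiber T) := IsLocalization.Away.of_associated hassoc
  let e : Localization.Away g₀ ≃ₐ[F] p.asIdeal.Fiber T :=
    IsLocalization.algEquiv (Submonoid.powers g₀) _ _
  have hCI' : Synt.IsGlobalCI k (p.asIdeal.Fiber T) := isGlobalCI_of_equiv (RingEquiv.refl k) e.toRingEquiv
    (fun x => by
      rw [IsScalarTower.algebraMap_apply k F (Localization.Away g₀), IsScalarTower.algebraMap_apply k F (p.asIdeal.Fiber T)]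
      exact e.commutes _) hCI
  obtain ⟨qT, hqT⟩ : q ∈ Set.range (PrimeSpectrum.comap (algebraMap S T)) := by
    rw [PrimeSpectrum.localization_away_comap_range T a]
    exact haq
  obtain ⟨g, hg, hstd⟩ := exists_isStd_of_fibre_gci qT p (by
    rw [← hp, ← hqT, ← PrimeSpectrum.comap_comp_apply, ← IsScalarTower.algebraMap_eq]) hCI'
  obtain ⟨N, b, hb⟩ := IsLocalization.Away.surj a g
  have hunit : IsUnit (algebraMap S T a ^ N) := (IsLocalization.Away.algebraMap_isUnit a).pow N
  have hgb : Associated g (algebraMap S T b) := ⟨hunit.unit, hb⟩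
  let V := Localization.Away g
  haveI : IsLocalization.Away (algebraMap S T b) V := IsLocalization.Away.of_associated hgb
  haveI : IsLocalization.Away (a * b) V := IsLocalization.Away.mul' T V a b
  refine ⟨a * b, fun hmem => ?_, isStd_of_algEquiv
    ((IsLocalization.algEquiv (Submonoid.powers (a * b)) V (Localization.Away (a * b))).restrictScalars R) hstd⟩
  refine (Ideal.IsPrime.mem_or_mem q.2 hmem).elim haq fun hbq => hg ?_
  rw [← hqT] at hbq
  exact Ideal.mem_of_dvd _ hgb.symm.dvd hbq

/-- A flat finitely presented algebra whose fibre at a prime is a local complete intersection is a relative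
global complete intersection near that prime. -/
theorem exists_isStd_away {S : Type u} [CommRing S] [Algebra R S] [Module.Flat R S] [Algebra.FinitePresentation R S]
    (q : PrimeSpectrum S) (p : PrimeSpectrum R) (hp : PrimeSpectrum.comap (algebraMap R S) q = p)
    (h : Synt.IsLCIOver p.asIdeal.ResidueField (p.asIdeal.Fiber S)) :
    ∃ g ∉ q.asIdeal, IsStd R (Localization.Away g) := by
  obtain ⟨Q, hQ⟩ := FlatLoc6.exists_fiber_prime p.asIdeal q.asIdeal (congrArg PrimeSpectrum.asIdeal hp)
  obtain ⟨g₀, hg₀, hCI⟩ := h.2 Q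
  exact exists_isStd_away_of_point q p hp Q hQ g₀ hg₀ hCI

end Groth.Agent.Synt29
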