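import Mathlib
import Groth.Agent.Synt29.LocalRelGCI

/-!
# Localising a presentation to a relative global complete intersection
-/

universe u

open TensorProduct Order Topology MvPolynomial

set_option linter.style.haveILetI false

namespace Groth.Agent.Synt29

variable {R : Type u} [CommRing R] {n c : ℕ}

/-- The relations of `S_g`. -/
noncomputable abbrev snocPoly (F : Fin c → MvPolynomial (Fin n) R) (h : MvPolynomial (Fin n) R) :
    Fin (c + 1) → MvPolynomial (Fin (n + 1)) R :=
  Fin.snoc (fun i => rename Fin.castSucc (F i)) (rename Fin.castSucc h * X (Fin.last n) - 1)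

theorem awayEquiv (F : Fin c → MvPolynomial (Fin n) R) (h : MvPolynomial (Fin n) R) :
    Nonempty (Localization.Away (Ideal.Quotient.mk (Ideal.span (Set.range F)) h) ≃ₐ[R]
      Synt.RelGCIRing R (n + 1) (c + 1) (snocPoly F h)) := by
  let S := Synt.RelGCIRing R n c F
  let g : S := Ideal.Quotient.mk (Ideal.span (Set.range F)) h
  let T := Localization.Away g
  let Q := Synt.RelGCIRing R (n + 1) (c + 1) (snocPoly F h)
  let μ : MvPolynomial (Fin n) R →ₐ[R] S := Ideal.Quotient.mkₐ R _
  let v : Fin (n + 1) → T :=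
    Fin.snoc (fun i => algebraMap S T (μ (X i))) (IsLocalization.Away.invSelf g)
  let φ : MvPolynomial (Fin (n + 1)) R →ₐ[R] T := aeval v
  have hren : ∀ p, φ (rename Fin.castSucc p) = algebraMap S T (μ p) := by
    intro p
    have : φ.comp (rename Fin.castSucc) = (IsScalarTower.toAlgHom R S T).comp μ :=
      MvPolynomial.algHom_ext fun i => by simp [φ, v]
    exact AlgHom.congr_fun this p
  have hlast : φ (X (Fin.last n)) = IsLocalization.Away.invSelf g := by simp [φ, v]
  let fwd : Q →ₐ[R] T := Ideal.Quotient.liftₐ _ φ (fun a ha => by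
    refine (Ideal.span_le (I := RingHom.ker φ.toRingHom)).2 ?_ ha
    rintro _ ⟨i, rfl⟩
    show φ (snocPoly F h i) = 0
    refine Fin.lastCases ?_ (fun j => ?_) i
    · simp only [snocPoly, Fin.snoc_last]
      rw [map_sub, map_mul, hren, hlast, map_one, show μ h = g from rfl,
        IsLocalization.Away.mul_invSelf, sub_self]
    · simp only [snocPoly, Fin.snoc_castSucc]
      rw [hren, show μ (F j) = 0 from
        Ideal.Quotient.eq_zero_iff_mem.2 (Ideal.subset_span (Set.mem_range_self j)), map_zero])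
  let μQ : MvPolynomial (Fin (n + 1)) R →ₐ[R] Q := Ideal.Quotient.mkₐ R _
  let π : S →ₐ[R] Q := Ideal.Quotient.liftₐ _ (μQ.comp (rename Fin.castSucc)) (fun a ha => by
    refine (Ideal.span_le (I := RingHom.ker (μQ.comp (rename Fin.castSucc)).toRingHom)).2 ?_ ha
    rintro _ ⟨j, rfl⟩
    show μQ (rename Fin.castSucc (F j)) = 0
    exact Ideal.Quotient.eq_zero_iff_mem.2 (Ideal.subset_span ⟨Fin.castSucc j, by simp [snocPoly]⟩))
  have hu : IsUnit (π g) := by
    refine IsUnit.of_mul_eq_one (μQ (X (Fin.last n))) ?_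
    show μQ (rename Fin.castSucc h) * μQ (X (Fin.last n)) = 1
    rw [← map_mul, ← sub_eq_zero, ← map_one μQ, ← map_sub]
    exact Ideal.Quotient.eq_zero_iff_mem.2 (Ideal.subset_span ⟨Fin.last c, by simp [snocPoly]⟩)
  let bwd : T →ₐ[R] Q := IsLocalization.Away.liftAlgHom g (f := π) hu
  have hb : ∀ y, bwd (algebraMap S T y) = π y := fun y => IsLocalization.Away.lift_eq g hu y
  refine ⟨AlgEquiv.ofAlgHom bwd fwd ?_ ?_⟩
  · refine Ideal.Quotient.algHom_ext R (MvPolynomial.algHom_ext fun i => ?_)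
    show bwd (φ (X i)) = μQ (X i)
    refine Fin.lastCases ?_ (fun j => ?_) i
    · rw [hlast]
      refine hu.mul_left_cancel ?_
      rw [← hb g, ← map_mul, IsLocalization.Away.mul_invSelf, map_one, hb]
      show 1 = μQ (rename Fin.castSucc h) * μQ (X (Fin.last n))
      rw [← map_mul, eq_comm, ← sub_eq_zero, ← map_one μQ, ← map_sub]
      exact Ideal.Quotient.eq_zero_iff_mem.2 (Ideal.subset_span ⟨Fin.last c, by simp [snocPoly]⟩)
    · show bwd (φ (X (Fin.castSucc j))) = _
      rw [show φ (X (Fin.castSucc j)) = algebraMap S T (μ (X j)) by rw [← rename_X Fin.castSucc j, hren], hb]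
      show μQ (rename Fin.castSucc (X j)) = _
      rw [rename_X]
  · refine IsLocalization.algHom_ext (Submonoid.powers g) (Ideal.Quotient.algHom_ext R (MvPolynomial.algHom_ext fun i => ?_))
    show fwd (bwd (algebraMap S T (μ (X i)))) = algebraMap S T (μ (X i))
    rw [hb]
    show φ (rename Fin.castSucc (X i)) = _
    rw [hren]

/-- Points near which all fibres have dimension at most `d`. -/
def goodLocus (R S : Type u) [CommRing R] [CommRing S] [Algebra R S] (d : ℕ) : Set (PrimeSpectrum S) :=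
  {P | ∃ U : Set (PrimeSpectrum S), IsOpen U ∧ P ∈ U ∧
    ∀ y : PrimeSpectrum R, topologicalKrullDim ↥(U ∩ FibDim.fib y) ≤ (d : ℕ)}

theorem isOpen_goodLocus {S : Type u} [CommRing S] [Algebra R S] (d : ℕ) : IsOpen (goodLocus R S d) :=
  isOpen_iff_forall_mem_open.2 fun P ⟨U, hU, hP, hd⟩ =>
    ⟨U, fun _ hP' => ⟨U, hU, hP', hd⟩, hU, hP⟩

theorem mem_goodLocus {S : Type u} [CommRing S] [Algebra R S] [Algebra.FiniteType R S] (d : ℕ) (P : PrimeSpectrum S)
    (hd : ringKrullDim ((PrimeSpectrum.comap (algebraMap R S) P).asIdeal.Fiber S) ≤ (d : ℕ)) :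
    P ∈ goodLocus R S d := by
  rw [← FibDim.topologicalKrullDim_fib] at hd
  obtain ⟨U, hU, hPU, -, hUd⟩ := FibDim.exists_basicOpen_dim_le (A := R) P d Set.univ isOpen_univ trivial
    (by rwa [Set.univ_inter])
  exact ⟨U, hU, hPU, hUd⟩

theorem dim_fiber_le_of_subset_goodLocus {S : Type u} [CommRing S] [Algebra R S] (d : ℕ) (T : Type u) [CommRing T]
    [Algebra R T] [Algebra S T] [IsScalarTower R S T] (g : S) [IsLocalization.Away g T]
    (hg : (PrimeSpectrum.basicOpen g : Set (PrimeSpectrum S)) ⊆ goodLocus R S d) (p : PrimeSpectrum R) :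
    ringKrullDim (p.asIdeal.Fiber T) ≤ (d : ℕ) := by
  rw [← FibDim.krullDim_fib]
  refine iSup_le fun l => ?_
  let j : ↥(FibDim.fib (B := T) p) → PrimeSpectrum S := fun Q => PrimeSpectrum.comap (algebraMap S T) Q.1
  have hjp : ∀ Q, PrimeSpectrum.comap (algebraMap R S) (j Q) = p := fun Q => by
    show PrimeSpectrum.comap (algebraMap R S) (PrimeSpectrum.comap (algebraMap S T) Q.1) = p
    rw [← PrimeSpectrum.comap_comp_apply, ← IsScalarTower.algebraMap_eq]
    exact Q.2
  have hjg : j l.last ∈ PrimeSpectrum.basicOpen g := fun h =>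
    l.last.1.2.ne_top (Ideal.eq_top_of_isUnit_mem _ h (IsLocalization.Away.algebraMap_isUnit g))
  obtain ⟨U, hU, hlU, hUd⟩ := hg hjg
  have hmono : ∀ a b, a ≤ b → j a ≤ j b := fun a b h => Ideal.comap_mono h
  have hinj : Function.Injective j := fun a b h =>
    Subtype.ext (PrimeSpectrum.localization_comap_injective T (Submonoid.powers g) h)
  have hall : ∀ i, j (l i) ∈ U ∩ FibDim.fib p := fun i =>
    ⟨((PrimeSpectrum.le_iff_specializes _ _).1 (hmono _ _ (l.monotone (Fin.le_last i)))).mem_open hU hlU, hjp _⟩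
  let V : Set (PrimeSpectrum S) := U ∩ FibDim.fib p
  let K : Fin (l.length + 1) → TopologicalSpace.IrreducibleCloseds ↥V := fun i =>
    ⟨closure {⟨j (l (Fin.rev i)), hall _⟩}, isIrreducible_singleton.closure, isClosed_closure⟩
  refine le_trans ?_ (hUd p)
  refine (le_of_eq (by rfl)).trans (Order.LTSeries.length_le_krullDim
    (⟨l.length, K, fun i => ?_⟩ : LTSeries (TopologicalSpace.IrreducibleCloseds ↥V)))
  have hl0 : l (Fin.rev i.succ) < l (Fin.rev i.castSucc) := l.strictMono (Fin.rev_lt_rev.2 i.castSucc_lt_succ)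
  have hlt : j (l (Fin.rev i.succ)) < j (l (Fin.rev i.castSucc)) :=
    lt_of_le_of_ne (hmono _ _ hl0.le) (hinj.ne hl0.ne)
  show K i.castSucc < K i.succ
  refine lt_of_le_not_ge ?_ ?_
  · refine closure_minimal (Set.singleton_subset_iff.2 ?_) isClosed_closure
    exact specializes_iff_mem_closure.1 (((Topology.IsInducing.subtypeVal (t := V)).specializes_iff).1
      ((PrimeSpectrum.le_iff_specializes _ _).1 hlt.le))
  · intro hge
    have h1 : (⟨j (l (Fin.rev i.succ)), hall _⟩ : ↥V) ∈ closure {(⟨j (l (Fin.rev i.castSucc)), hall _⟩ : ↥V)} :=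
      hge (subset_closure rfl)
    exact hlt.not_ge ((PrimeSpectrum.le_iff_specializes _ _).2
      (((Topology.IsInducing.subtypeVal (t := V)).specializes_iff).2 (specializes_iff_mem_closure.2 h1)))

theorem isRelGCI_snoc (F : Fin c → MvPolynomial (Fin n) R) (hcn : c ≤ n) (h : MvPolynomial (Fin n) R)
    (hg : (PrimeSpectrum.basicOpen (Ideal.Quotient.mk (Ideal.span (Set.range F)) h) : Set _) ⊆
      goodLocus R (Synt.RelGCIRing R n c F) (n - c)) :
    Synt.IsRelGCI R (n + 1) (c + 1) (snocPoly F h) := by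
  obtain ⟨e⟩ := awayEquiv F h
  rw [isRelGCI_iff]
  intro p hn
  refine ⟨by omega, ?_⟩
  let e1 : p.asIdeal.Fiber (Localization.Away (Ideal.Quotient.mk (Ideal.span (Set.range F)) h)) ≃ₐ[p.asIdeal.ResidueField]
      p.asIdeal.Fiber (Synt.RelGCIRing R (n + 1) (c + 1) (snocPoly F h)) :=
    Algebra.TensorProduct.congr AlgEquiv.refl e
  let e2 := e1.trans (baseChangeEquiv R (snocPoly F h) p.asIdeal.ResidueField)
  rw [Nat.add_sub_add_right, ← ringKrullDim_eq_of_ringEquiv
    (R := p.asIdeal.Fiber (Localization.Away (Ideal.Quotient.mk (Ideal.span (Set.range F)) h))) e2.toRingEquiv]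
  exact dim_fiber_le_of_subset_goodLocus (n - c) _ (Ideal.Quotient.mk (Ideal.span (Set.range F)) h) hg p

end Groth.Agent.Synt29
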