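import Mathlib
import Groth.Prelude.Def_RegImm
import Groth.Agent.Synt29.RelGCI
import Groth.Agent.RegLoc6.Basic
import Groth.Agent.LC.ExtDim
import Groth.Agent.FlatLoc6.RegCM

/-!
# Complete intersection kernels do not depend on the regular presentation
-/

universe u

open IsLocalRing RingTheory.Sequence

set_option linter.style.haveILetI false

namespace Groth.Agent.Synt29

/-- The kernel of `π` is generated by `dim R - dim S` elements. -/
def CIKer {R S : Type u} [CommRing R] [CommRing S] (π : R →+* S) : Prop :=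
  ∃ (r : ℕ) (k : Fin r → R), RingHom.ker π = Ideal.span (Set.range k) ∧
    ringKrullDim R = ringKrullDim S + (r : ℕ)

variable {R S : Type u} [CommRing R] [CommRing S]

theorem ringKrullDim_eq_nat (R : Type u) [CommRing R] [IsRegularLocalRing R] :
    ringKrullDim R = (((maximalIdeal R).spanFinrank : ℕ) : WithBot ℕ∞) :=
  ((isRegularLocalRing_iff R).1 ‹_›).symm

theorem ker_le_maximalIdeal [IsLocalRing R] [Nontrivial S] (π : R →+* S) : RingHom.ker π ≤ maximalIdeal R :=
  le_maximalIdeal (RingHom.ker_ne_top π)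

theorem ciKer_iff_regular [IsRegularLocalRing R] [IsLocalRing S] (π : R →+* S) (hπ : Function.Surjective π) :
    CIKer π ↔ ∃ rs : List R, IsRegular R rs ∧ RingHom.ker π = Ideal.ofList rs := by
  have hCM : LocCoh.IsCohenMacaulayLocalRing R := by
    haveI := LC.gorenstein_of_isRegularLocalRing (R := R)
    exact LC.isCohenMacaulayLocalRing_of_gorenstein
  have hquot : ∀ rs : List R, RingHom.ker π = Ideal.ofList rs →
      Module.supportDim R (R ⧸ (Ideal.ofList rs • ⊤ : Submodule R R)) = ringKrullDim S := fun rs h => by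
    rw [Module.supportDim_eq_of_equiv (Submodule.quotEquivOfEq _ _
        (show (Ideal.ofList rs • ⊤ : Submodule R R) = Ideal.ofList rs by rw [Ideal.smul_eq_mul, Ideal.mul_top])),
      Module.supportDim_quotient_eq_ringKrullDim]
    exact ringKrullDim_eq_of_ringEquiv ((Ideal.quotEquivOfEq h.symm).trans (RingHom.quotientKerEquivOfSurjective hπ))
  constructor
  · rintro ⟨r, k, hk, hdim⟩
    have hker : RingHom.ker π = Ideal.ofList (List.ofFn k) := by rw [ofList_ofFn, hk]
    have hmem : ∀ x ∈ List.ofFn k, x ∈ maximalIdeal R := fun x hx =>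
      ker_le_maximalIdeal π (hker ▸ Ideal.subset_span hx)
    have hne : Ideal.ofList (List.ofFn k) ≠ ⊤ := hker ▸ RingHom.ker_ne_top π
    refine ⟨List.ofFn k, IsRegular.of_isWeaklyRegular_of_mem_maximalIdeal R hmem ?_, hker⟩
    refine (LC.idealDepth_ofList_eq_length_iff (M := R) _ hmem).1 ?_
    have h := LC.supportDim_eq_add_idealDepth R hCM.supportDim_eq_depth hne
    rw [Module.supportDim_self_eq_ringKrullDim, hquot _ hker, hdim] at h
    have hbot : ringKrullDim S ≠ ⊥ := fun hb => WithBot.bot_lt_coe 0 |>.not_ge (hb ▸ ringKrullDim_nonneg_of_nontrivial (R := S))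
    obtain ⟨d, hd⟩ := WithBot.ne_bot_iff_exists.1 hbot
    rw [← hd, ringKrullDim_eq_nat R] at hdim
    rw [← hd] at h
    rw [List.length_ofFn]
    have h1 : d + (r : ℕ∞) = d + LocCoh.idealDepth (Ideal.ofList (List.ofFn k)) R :=
      WithBot.coe_inj.1 (by exact_mod_cast h)
    have hdtop : d ≠ ⊤ := by
      rintro rfl
      have h2 : ((maximalIdeal R).spanFinrank : ℕ∞) = ⊤ + (r : ℕ∞) := WithBot.coe_inj.1 (by exact_mod_cast hdim)
      simp at h2
    exact (WithTop.add_left_cancel hdtop h1).symm
  · rintro ⟨rs, hreg, hker⟩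
    refine ⟨rs.length, rs.get, by rw [← ofList_ofFn, List.ofFn_get, hker], ?_⟩
    have h := Module.supportDim_add_length_eq_supportDim_of_isRegular rs hreg
    rw [hquot rs hker, Module.supportDim_self_eq_ringKrullDim] at h
    exact h.symm

theorem CIKer.comp_equiv {R' : Type u} [CommRing R'] (π : R →+* S) (e : R' ≃+* R) :
    CIKer (π.comp e.toRingHom) ↔ CIKer π := by
  constructor
  · rintro ⟨r, k, hk, hd⟩
    refine ⟨r, e ∘ k, ?_, by rw [← ringKrullDim_eq_of_ringEquiv e]; exact hd⟩
    rw [Set.range_comp, ← Ideal.map_span, ← hk, ← RingHom.comap_ker]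
    exact (Ideal.map_comap_of_surjective e.toRingHom e.surjective _).symm
  · rintro ⟨r, k, hk, hd⟩
    refine ⟨r, e.symm ∘ k, ?_, by rw [ringKrullDim_eq_of_ringEquiv e]; exact hd⟩
    rw [← RingHom.comap_ker, hk, Set.range_comp, ← Ideal.map_span]
    exact (Ideal.map_symm e).symm

/-- Removing a generator outside `𝔪K` from a generating family of `K`. -/
theorem exists_exchange [IsLocalRing R] {r : ℕ} (k : Fin r → R) {t : R}
    (ht : t ∈ Ideal.span (Set.range k)) (ht2 : t ∉ maximalIdeal R * Ideal.span (Set.range k)) :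
    ∃ (r' : ℕ) (k' : Fin r' → R), r = r' + 1 ∧
      Ideal.span (Set.range k) = Ideal.span {t} ⊔ Ideal.span (Set.range k') := by
  classical
  obtain ⟨c, hc⟩ := Ideal.mem_span_range_iff_exists_fun.1 ht
  obtain ⟨i, hi⟩ : ∃ i, IsUnit (c i) := by
    by_contra! h
    refine ht2 (hc ▸ Submodule.sum_mem _ fun j _ => ?_)
    exact Ideal.mul_mem_mul (h j) (Ideal.subset_span (Set.mem_range_self j))
  obtain ⟨r', rfl⟩ : ∃ r', r = r' + 1 := Nat.exists_eq_add_of_le' i.pos
  refine ⟨r', fun j => k (i.succAbove j), rfl, le_antisymm ?_ (sup_le ?_ ?_)⟩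
  · rw [Ideal.span_le]
    rintro _ ⟨j, rfl⟩
    rcases eq_or_ne j i with rfl | hj
    · obtain ⟨u, hu⟩ := hi
      have h1 : k j = u⁻¹.1 * (t - ∑ l : Fin r', c (j.succAbove l) * k (j.succAbove l)) := by
        rw [← hc, Fin.sum_univ_succAbove _ j, add_sub_cancel_right, ← mul_assoc, ← hu, Units.inv_mul, one_mul]
      rw [h1]
      refine Ideal.mul_mem_left _ _ (sub_mem (Ideal.mem_sup_left (Ideal.mem_span_singleton_self t)) ?_)
      exact Submodule.sum_mem _ fun l _ => Ideal.mem_sup_right (Ideal.mul_mem_left _ _ (Ideal.subset_span ⟨l, rfl⟩))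
    · obtain ⟨l, rfl⟩ := Fin.exists_succAbove_eq hj
      exact Ideal.mem_sup_right (Ideal.subset_span ⟨l, rfl⟩)
  · rwa [Ideal.span_singleton_le_iff_mem]
  · refine Ideal.span_mono ?_
    rintro _ ⟨l, rfl⟩
    exact ⟨_, rfl⟩

/-- A proper regular quotient of a regular local ring kills a parameter. -/
theorem exists_mem_ker_notMem_sq {P : Type u} [CommRing P] [IsRegularLocalRing P] [IsRegularLocalRing R]
    (π : P →+* R) (hπ : Function.Surjective π) (hne : RingHom.ker π ≠ ⊥) :
    ∃ t ∈ RingHom.ker π, t ∉ maximalIdeal P ^ 2 := by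
  by_contra! hle
  haveI := RegLoc6.isDomain_of_isRegularLocalRing P
  obtain ⟨x, hx, hx0⟩ := Submodule.exists_mem_ne_zero_of_ne_bot hne
  have hlt : ringKrullDim R + 1 ≤ ringKrullDim P := by
    refine le_trans ?_ (ringKrullDim_quotient_succ_le_of_nonZeroDivisor (mem_nonZeroDivisors_of_ne_zero hx0))
    refine add_le_add_left ?_ 1
    refine ringKrullDim_le_of_surjective (Ideal.Quotient.lift (Ideal.span {x}) π fun a ha => ?_) ?_
    · exact (Ideal.span_singleton_le_iff_mem _).2 hx ha
    · exact Ideal.Quotient.lift_surjective_of_surjective _ _ hπ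
  obtain ⟨s, hs, hspan⟩ := Submodule.FG.exists_span_finset_card_eq_spanFinrank (IsNoetherian.noetherian (maximalIdeal R))
  haveI : IsLocalHom π := IsLocalHom.of_surjective π hπ
  let g := Function.surjInv hπ
  have hgs : Ideal.span (g '' (s : Set R)) ≤ maximalIdeal P := by
    rw [Ideal.span_le]
    rintro _ ⟨y, hy, rfl⟩
    intro hu
    have h1 : y ∈ maximalIdeal R := hspan ▸ Submodule.subset_span hy
    exact h1 ((Function.surjInv_eq hπ y) ▸ hu.map π)
  have hm : maximalIdeal P ≤ Ideal.span (g '' (s : Set R)) := by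
    refine Submodule.le_of_le_smul_of_le_jacobson_bot (I := maximalIdeal P) (IsNoetherian.noetherian _)
      (maximalIdeal_le_jacobson _) fun z hz => ?_
    have h1 : π z ∈ maximalIdeal R := fun hu => hz ((isUnit_map_iff π z).1 hu)
    rw [← hspan, show (s : Set R) = π '' (g '' (s : Set R)) by rw [← Set.image_comp, show π ∘ g = id from funext (Function.surjInv_eq hπ), Set.image_id]] at h1
    change π z ∈ Ideal.span (π '' (g '' (s : Set R))) at h1
    rw [← Ideal.map_span] at h1
    obtain ⟨w, hw, hwz⟩ := (Ideal.mem_map_iff_of_surjective π hπ).1 h1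
    have h2 : z - w ∈ RingHom.ker π := by rw [RingHom.mem_ker, map_sub, hwz, sub_self]
    have h3 := hle _ h2
    rw [pow_two] at h3
    exact Submodule.mem_sup.2 ⟨w, hw, z - w, h3, add_sub_cancel w z⟩
  have hrank : (maximalIdeal P).spanFinrank ≤ (maximalIdeal R).spanFinrank := by
    rw [le_antisymm hm hgs]
    refine (Submodule.spanFinrank_span_le_ncard_of_finite (s.finite_toSet.image g)).trans ?_
    refine (Set.ncard_image_le s.finite_toSet).trans (le_of_eq ?_)
    rw [Set.ncard_coe_finset, hs]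
  rw [ringKrullDim_eq_nat R, ringKrullDim_eq_nat P] at hlt
  norm_cast at hlt
  omega

theorem ciKer_comp_iff_aux [IsLocalRing S] [IsRegularLocalRing R] (τ : R →+* S) (hτ : Function.Surjective τ) :
    ∀ (n : ℕ) (P : Type u) [CommRing P] [IsRegularLocalRing P] (π : P →+* R), Function.Surjective π →
      (maximalIdeal P).spanFinrank ≤ n → (CIKer (τ.comp π) ↔ CIKer τ) := by
  intro n
  induction n with
  | zero =>
    intro P _ _ π hπ hn
    have hf := RegLoc6.isField_of_spanFinrank_eq_zero (Nat.le_zero.1 hn)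
    letI := hf.toField
    have hinj : Function.Injective π := π.injective
    exact CIKer.comp_equiv τ (RingEquiv.ofBijective π ⟨hinj, hπ⟩)
  | succ n ih =>
    intro P _ _ π hπ hn
    by_cases hker : RingHom.ker π = ⊥
    · exact CIKer.comp_equiv τ (RingEquiv.ofBijective π ⟨(RingHom.injective_iff_ker_eq_bot π).2 hker, hπ⟩)
    obtain ⟨t, htk, ht2⟩ := exists_mem_ker_notMem_sq π hπ hker
    have htm : t ∈ maximalIdeal P := ker_le_maximalIdeal π htk
    obtain ⟨hreg, hdim⟩ := RegLoc6.isRegularLocalRing_quot_and htm ht2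
    haveI := hreg
    let q : P →+* P ⧸ Ideal.span {t} := Ideal.Quotient.mk _
    let π1 : P ⧸ Ideal.span {t} →+* R := Ideal.Quotient.lift _ π fun a ha =>
      (Ideal.span_singleton_le_iff_mem _).2 htk ha
    have hπ1 : Function.Surjective π1 := Ideal.Quotient.lift_surjective_of_surjective _ _ hπ
    have hn1 : (maximalIdeal (P ⧸ Ideal.span {t})).spanFinrank ≤ n := by
      have := RegLoc6.spanFinrank_quot_le htm ht2
      omega
    rw [← ih _ π1 hπ1 hn1, show τ.comp π = (τ.comp π1).comp q from RingHom.ext fun _ => rfl]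
    have hkerq : RingHom.ker ((τ.comp π1).comp q) = (RingHom.ker (τ.comp π1)).comap q := (RingHom.comap_ker _ _).symm
    have hts : t ∈ RingHom.ker ((τ.comp π1).comp q) := by
      rw [RingHom.mem_ker]
      show τ (π1 (q t)) = 0
      rw [show π1 (q t) = π t from rfl, show π t = 0 from htk, map_zero]
    constructor
    · rintro ⟨r, k, hk, hd⟩
      obtain ⟨r', k', rfl, hk'⟩ := exists_exchange k (hk ▸ hts) (fun hmem => ht2 (by
        rw [pow_two]
        refine Ideal.mul_mono_right ?_ hmem
        rw [← hk]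
        exact ker_le_maximalIdeal _))
      refine ⟨r', q ∘ k', ?_, ?_⟩
      · have h1 : (RingHom.ker ((τ.comp π1).comp q)).map q = RingHom.ker (τ.comp π1) := by
          rw [hkerq, Ideal.map_comap_of_surjective q Ideal.Quotient.mk_surjective]
        rw [← h1, hk, hk', Ideal.map_sup, Ideal.map_quotient_self, bot_sup_eq, Ideal.map_span, Set.range_comp]
      · rw [← hdim, Nat.cast_add, Nat.cast_one, ← add_assoc] at hd
        exact le_antisymm (ENat.WithBot.add_le_add_one_right_iff.1 hd.le) (ENat.WithBot.add_le_add_one_right_iff.1 hd.ge)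
    · rintro ⟨r, k, hk, hd⟩
      choose k' hk' using fun i => Ideal.Quotient.mk_surjective (k i)
      refine ⟨r + 1, Fin.cons t k', ?_, ?_⟩
      · have h1 : Set.range k = q '' Set.range k' := by
          rw [← Set.range_comp]; exact congrArg Set.range (funext fun i => (hk' i).symm)
        rw [hkerq, hk, h1, ← Ideal.map_span, Ideal.comap_map_of_surjective q Ideal.Quotient.mk_surjective,
          ← RingHom.ker_eq_comap_bot, Ideal.mk_ker, Fin.range_cons, Ideal.span_insert, sup_comm]
      · rw [← hdim, hd, Nat.cast_add, Nat.cast_one, add_assoc]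

theorem ciKer_comp_iff {P : Type u} [CommRing P] [IsRegularLocalRing P] [IsRegularLocalRing R] [IsLocalRing S]
    (π : P →+* R) (hπ : Function.Surjective π) (τ : R →+* S) (hτ : Function.Surjective τ) :
    CIKer (τ.comp π) ↔ CIKer τ :=
  ciKer_comp_iff_aux τ hτ _ P π hπ le_rfl

end Groth.Agent.Synt29
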