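import Mathlib
import Groth.Agent.Synt29.Descent

/-!
# A relative global complete intersection is cut out by a regular sequence
-/

universe u

open TensorProduct Order RingTheory.Sequence

set_option linter.style.haveILetI false

namespace Groth.Agent.Synt29

variable {n c : ℕ}

/-- Base change of a relative global complete intersection. -/
theorem isRelGCI_mapPoly {R R' : Type u} [CommRing R] [CommRing R'] [Algebra R R']
    {F : Fin c → MvPolynomial (Fin n) R} (h : Synt.IsRelGCI R n c F) :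
    Synt.IsRelGCI R' n c (mapPoly R F R') := by
  rw [isRelGCI_iff] at h ⊢
  intro p₁ hn
  let p₀ : PrimeSpectrum R := ⟨p₁.asIdeal.under R, inferInstance⟩
  let k₀ := p₀.asIdeal.ResidueField
  let k₁ := p₁.asIdeal.ResidueField
  letI : Algebra k₀ k₁ := (Ideal.ResidueField.map p₀.asIdeal p₁.asIdeal (algebraMap R R') rfl).toAlgebra
  haveI : IsScalarTower R k₀ k₁ := IsScalarTower.of_algebraMap_eq fun a => by
    rw [IsScalarTower.algebraMap_apply R R' k₁]
    exact (Ideal.ResidueField.map_algebraMap _ _ _ rfl a).symm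
  have hk : mapPoly R' (mapPoly R F R') k₁ = mapPoly R F k₁ := funext fun i => by
    simp only [mapPoly, MvPolynomial.map_map, ← IsScalarTower.algebraMap_eq]
  rw [hk] at hn ⊢
  haveI := hn
  haveI := nontrivial_mapPoly F k₀ k₁
  rw [ringKrullDim_mapPoly F k₀ k₁]
  exact h p₀ inferInstance

theorem weaklyRegular_relGCI_of_noetherian {R : Type u} [CommRing R] [IsNoetherianRing R]
    {F : Fin c → MvPolynomial (Fin n) R} (h : Synt.IsRelGCI R n c F) (q : Ideal (MvPolynomial (Fin n) R))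
    [q.IsPrime] (hq : ∀ i, F i ∈ q) :
    IsWeaklyRegular (Localization.AtPrime q)
      ((List.ofFn F).map (algebraMap (MvPolynomial (Fin n) R) (Localization.AtPrime q))) := by
  let B := MvPolynomial (Fin n) R
  refine (weaklyRegular_and_flat_localization (R := R) n (List.ofFn F) (fun p => ?_) (fun p Q => ?_)
    (fun p => ?_) q (fun f hf => by obtain ⟨i, rfl⟩ := List.mem_ofFn.1 hf; exact hq i)).1
  · exact IsRegularRing.of_ringEquiv (R := MvPolynomial (Fin n) p.asIdeal.ResidueField)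
      (MvPolynomial.algebraTensorAlgEquiv R p.asIdeal.ResidueField).toRingEquiv.symm
  · let o : PrimeSpectrum (p.asIdeal.Fiber B) ≃o PrimeSpectrum (MvPolynomial (Fin n) p.asIdeal.ResidueField) :=
      PrimeSpectrum.comapEquiv (MvPolynomial.algebraTensorAlgEquiv R p.asIdeal.ResidueField).toRingEquiv.symm |>.symm
    rw [← height_orderIso o, ← coheight_orderIso o]
    refine VarDim.height_add_coheight_eq p.asIdeal.ResidueField n (MvPolynomial (Fin n) p.asIdeal.ResidueField) ?_ _
    rw [MvPolynomial.ringKrullDim_of_isNoetherianRing, ringKrullDim_eq_zero_of_field, zero_add]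
    simp
  · rw [ofList_ofFn, List.length_ofFn]
    let e1 := (Algebra.TensorProduct.tensorQuotientEquiv (R := R) p.asIdeal.ResidueField B p.asIdeal.ResidueField
      (Ideal.span (Set.range F))).toRingEquiv
    rw [← ringKrullDim_eq_of_ringEquiv e1]
    rcases subsingleton_or_nontrivial (p.asIdeal.Fiber (Synt.RelGCIRing R n c F)) with hs | hs
    · rw [ringKrullDim_eq_bot_of_subsingleton]
      simp
    · obtain ⟨h1, h2⟩ := h p hs
      rw [h2, ← Nat.cast_add, Nat.sub_add_cancel h1]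

theorem mem_ofList_take_iff {B : Type u} [CommRing B] (F : Fin c → B) (i : ℕ) (x : B) :
    x ∈ Ideal.ofList ((List.ofFn F).take i) ↔ ∃ u : Fin c → B, (∀ j : Fin c, i ≤ j.1 → u j = 0) ∧ x = ∑ j, u j * F j := by
  constructor
  · intro hx
    rw [Ideal.ofList] at hx
    induction hx using Submodule.span_induction with
    | mem y hy =>
      obtain ⟨j, hj, rfl⟩ := List.mem_take_iff_getElem.1 hy
      have hj1 : j < i := lt_of_lt_of_le hj (Nat.min_le_left _ _)
      have hj2 : j < c := by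
        have := lt_of_lt_of_le hj (Nat.min_le_right _ _)
        simpa using this
      refine ⟨Pi.single ⟨j, hj2⟩ 1, fun k hk => Pi.single_eq_of_ne (fun h => ?_) _, ?_⟩
      · rw [h] at hk; exact absurd hk (Nat.not_le.2 hj1)
      · simp [Pi.single_apply]
    | zero => exact ⟨0, fun _ _ => rfl, by simp⟩
    | add y z _ _ hy hz =>
      obtain ⟨u, hu, rfl⟩ := hy
      obtain ⟨v, hv, rfl⟩ := hz
      exact ⟨u + v, fun j hj => by simp [hu j hj, hv j hj], by simp [add_mul, Finset.sum_add_distrib]⟩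
    | smul a y _ hy =>
      obtain ⟨u, hu, rfl⟩ := hy
      exact ⟨a • u, fun j hj => by simp [hu j hj], by simp [Finset.mul_sum, mul_assoc]⟩
  · rintro ⟨u, hu, rfl⟩
    refine Ideal.sum_mem _ fun j _ => ?_
    rcases lt_or_ge j.1 i with hj | hj
    · refine Ideal.mul_mem_left _ _ (Ideal.subset_span ?_)
      show F j ∈ (List.ofFn F).take i
      exact List.mem_take_iff_getElem.2 ⟨j.1, by simpa using hj, by simp⟩
    · rw [hu j hj, zero_mul]
      exact zero_mem _

theorem take_regular_of_noetherian {R : Type u} [CommRing R] [IsNoetherianRing R]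
    {F : Fin c → MvPolynomial (Fin n) R} (h : Synt.IsRelGCI R n c F) (q : Ideal (MvPolynomial (Fin n) R))
    [q.IsPrime] (hq : ∀ i, F i ∈ q) (i : Fin c) (x : MvPolynomial (Fin n) R)
    (hx : F i * x ∈ Ideal.ofList ((List.ofFn F).take i.1)) :
    ∃ t ∉ q, t * x ∈ Ideal.ofList ((List.ofFn F).take i.1) := by
  let B := MvPolynomial (Fin n) R
  let Bq := Localization.AtPrime q
  let fq := (List.ofFn F).map (algebraMap B Bq)
  have hw := weaklyRegular_relGCI_of_noetherian h q hq
  rw [isWeaklyRegular_iff_Fin] at hw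
  have hi : i.1 < fq.length := by simp [fq]
  have hreg := hw ⟨i.1, hi⟩
  have hI : (Ideal.ofList (fq.take i.1) • ⊤ : Submodule Bq Bq) =
      (Ideal.ofList ((List.ofFn F).take i.1)).map (algebraMap B Bq) := by
    rw [smul_eq_mul, Ideal.mul_top, Ideal.map_ofList, ← List.map_take]
  have h0 : (Submodule.Quotient.mk (algebraMap B Bq x) :
      Bq ⧸ (Ideal.ofList (fq.take i.1) • ⊤ : Submodule Bq Bq)) = 0 := by
    refine hreg.right_eq_zero_of_smul ?_
    rw [← Submodule.Quotient.mk_smul, Submodule.Quotient.mk_eq_zero, hI]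
    have : fq[(⟨i.1, hi⟩ : Fin fq.length)] • algebraMap B Bq x = algebraMap B Bq (F i * x) := by
      simp [fq, smul_eq_mul]
    rw [this]
    exact Ideal.mem_map_of_mem _ hx
  rw [Submodule.Quotient.mk_eq_zero, hI, IsLocalization.mem_map_algebraMap_iff q.primeCompl] at h0
  obtain ⟨⟨⟨a, ha⟩, s⟩, hs⟩ := h0
  rw [← map_mul, IsLocalization.eq_iff_exists q.primeCompl] at hs
  obtain ⟨d, hd⟩ := hs
  refine ⟨d.1 * s.1, fun hm => (Ideal.IsPrime.mem_or_mem ‹_› hm).elim d.2 s.2, ?_⟩
  rw [mul_assoc, mul_comm (s : B) x, hd]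
  exact Ideal.mul_mem_left _ _ ha

theorem take_regular {R : Type u} [CommRing R] {F : Fin c → MvPolynomial (Fin n) R}
    (h : Synt.IsRelGCI R n c F) (q : Ideal (MvPolynomial (Fin n) R)) [q.IsPrime] (hq : ∀ i, F i ∈ q) (i : Fin c)
    (x : MvPolynomial (Fin n) R) (hx : F i * x ∈ Ideal.ofList ((List.ofFn F).take i.1)) :
    ∃ t ∉ q, t * x ∈ Ideal.ofList ((List.ofFn F).take i.1) := by
  classical
  obtain ⟨R₀, F₀, _, hF₀, h₀⟩ := exists_descent h
  obtain ⟨u, hu0, hu⟩ := (mem_ofList_take_iff F i.1 _).1 hx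
  obtain ⟨S₀, hS₀⟩ := (Subalgebra.fg_iff_finiteType R₀).2 ‹_›
  let s₁ : Finset R := (S₀ ∪ x.coeffs) ∪ Finset.univ.biUnion fun j => (u j).coeffs
  let A₁ : Subalgebra ℤ R := Algebra.adjoin ℤ (s₁ : Set R)
  have hle : R₀ ≤ A₁ := by
    rw [← hS₀]
    exact Algebra.adjoin_mono (by intro y hy; simp [s₁]; exact Or.inl hy)
  letI : Algebra R₀ A₁ := (Subalgebra.inclusion hle).toRingHom.toAlgebra
  haveI : IsScalarTower R₀ A₁ R := IsScalarTower.of_algebraMap_eq fun _ => rfl
  haveI : Algebra.FiniteType ℤ A₁ := (Subalgebra.fg_iff_finiteType A₁).1 ⟨s₁, rfl⟩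
  haveI : IsNoetherianRing A₁ := Algebra.FiniteType.isNoetherianRing ℤ A₁
  let φ : MvPolynomial (Fin n) A₁ →+* MvPolynomial (Fin n) R := MvPolynomial.map (algebraMap A₁ R)
  have hlift : ∀ g : MvPolynomial (Fin n) R, (g.coeffs : Set R) ⊆ s₁ → ∃ g₁, φ g₁ = g := fun g hg =>
    MvPolynomial.mem_range_map_iff_coeffs_subset.2 fun y hy => ⟨⟨y, Algebra.subset_adjoin (hg hy)⟩, rfl⟩
  let G := mapPoly R₀ F₀ A₁
  have hG : ∀ j, φ (G j) = F j := fun j => by
    show MvPolynomial.map _ (MvPolynomial.map _ (F₀ j)) = _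
    rw [MvPolynomial.map_map, ← IsScalarTower.algebraMap_eq, hF₀]
  obtain ⟨x₁, hx₁⟩ := hlift x (by intro y hy; simp [s₁]; exact Or.inr (Or.inl hy))
  choose u₁ hu₁ using fun j => hlift (u j) (by
    intro y hy; simp [s₁]; exact Or.inr (Or.inr ⟨j, hy⟩))
  have hinj : Function.Injective φ := MvPolynomial.map_injective _ Subtype.val_injective
  have hx1 : G i * x₁ ∈ Ideal.ofList ((List.ofFn G).take i.1) := by
    refine (mem_ofList_take_iff G i.1 _).2 ⟨u₁, fun j hj => hinj ?_, hinj ?_⟩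
    · rw [hu₁, map_zero]; exact hu0 j hj
    · simp only [map_mul, map_sum, hG, hu₁, hx₁]
      exact hu
  obtain ⟨t, ht, htx⟩ := take_regular_of_noetherian (isRelGCI_mapPoly h₀) (q.comap φ)
    (fun j => by rw [Ideal.mem_comap, hG]; exact hq j) i x₁ hx1
  refine ⟨φ t, ht, ?_⟩
  obtain ⟨v, hv0, hv⟩ := (mem_ofList_take_iff G i.1 _).1 htx
  refine (mem_ofList_take_iff F i.1 _).2 ⟨fun j => φ (v j), fun j hj => by simp [hv0 j hj], ?_⟩
  rw [← hx₁, ← map_mul, hv]
  simp only [map_mul, map_sum, hG]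

/-- A relative global complete intersection is cut out by a regular sequence at each of its points. -/
theorem weaklyRegular_relGCI {R : Type u} [CommRing R] {F : Fin c → MvPolynomial (Fin n) R}
    (h : Synt.IsRelGCI R n c F) (q : Ideal (MvPolynomial (Fin n) R)) [q.IsPrime] (hq : ∀ i, F i ∈ q) :
    IsWeaklyRegular (Localization.AtPrime q)
      ((List.ofFn F).map (algebraMap (MvPolynomial (Fin n) R) (Localization.AtPrime q))) := by
  let B := MvPolynomial (Fin n) R
  let Bq := Localization.AtPrime q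
  let fq := (List.ofFn F).map (algebraMap B Bq)
  rw [isWeaklyRegular_iff_Fin]
  intro k
  have hk : k.1 < c := by have := k.2; simpa [fq] using this
  have hI : (Ideal.ofList (fq.take k.1) • ⊤ : Submodule Bq Bq) =
      (Ideal.ofList ((List.ofFn F).take k.1)).map (algebraMap B Bq) := by
    rw [smul_eq_mul, Ideal.mul_top, Ideal.map_ofList, ← List.map_take]
  refine IsSMulRegular.of_right_eq_zero_of_smul fun z hz => ?_
  obtain ⟨z, rfl⟩ := Submodule.Quotient.mk_surjective _ z
  rw [← Submodule.Quotient.mk_smul, Submodule.Quotient.mk_eq_zero, hI] at hz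
  rw [Submodule.Quotient.mk_eq_zero, hI]
  obtain ⟨⟨x, s⟩, hxs⟩ := IsLocalization.surj q.primeCompl z
  have hget : fq[k] = algebraMap B Bq (F ⟨k.1, hk⟩) := by simp [fq]
  have h1 : algebraMap B Bq (F ⟨k.1, hk⟩ * x) ∈
      (Ideal.ofList ((List.ofFn F).take k.1)).map (algebraMap B Bq) := by
    rw [map_mul, ← hxs, ← mul_assoc, ← hget]
    exact Ideal.mul_mem_right _ _ hz
  rw [IsLocalization.mem_map_algebraMap_iff q.primeCompl] at h1
  obtain ⟨⟨⟨a, ha⟩, s'⟩, hs'⟩ := h1
  rw [← map_mul, IsLocalization.eq_iff_exists q.primeCompl] at hs'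
  obtain ⟨d, hd⟩ := hs'
  have h2 : F ⟨k.1, hk⟩ * ((d.1 * s'.1) * x) ∈ Ideal.ofList ((List.ofFn F).take k.1) := by
    rw [show F ⟨k.1, hk⟩ * ((d.1 * s'.1) * x) = d.1 * (F ⟨k.1, hk⟩ * x * s'.1) by ring, hd]
    exact Ideal.mul_mem_left _ _ ha
  obtain ⟨t, ht, htx⟩ := take_regular h q hq ⟨k.1, hk⟩ _ h2
  have hu : IsUnit (algebraMap B Bq (t * (d.1 * s'.1))) := by
    refine IsLocalization.map_units Bq (⟨t * (d.1 * s'.1), ?_⟩ : q.primeCompl)
    exact q.primeCompl.mul_mem ht (q.primeCompl.mul_mem d.2 s'.2)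
  rw [← Ideal.unit_mul_mem_iff_mem _ (IsLocalization.map_units Bq s), mul_comm, hxs,
    ← Ideal.unit_mul_mem_iff_mem _ hu, ← map_mul, mul_assoc]
  exact Ideal.mem_map_of_mem _ htx

end Groth.Agent.Synt29
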