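import Mathlib
import Groth.Agent.Synt29.CIKernel
import Groth.Agent.Synt29.RelReg
import Groth.Agent.Synt29.AwayGCI
import Groth.Agent.LC.GorLoc

/-!
# Complete intersections over a field at points
-/

universe u

open IsLocalRing RingTheory.Sequence MvPolynomial

set_option linter.style.haveILetI false
set_option backward.isDefEq.respectTransparency.types false

namespace Groth.Agent.Synt29

variable {k : Type u} [Field k]

theorem exists_den_presentation (S : Type u) [CommRing S] [Algebra k S] [Algebra.EssFiniteType k S] :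
    ∃ (n : ℕ) (f : MvPolynomial (Fin n) k →ₐ[k] S), ∀ y : S, ∃ a u, IsUnit (f u) ∧ y * f u = f a := by
  obtain ⟨σ, hσ⟩ := (Algebra.essFiniteType_iff k S).1 ‹_›
  obtain ⟨n, f, hf⟩ := Algebra.FiniteType.iff_quotient_mvPolynomial''.1
    ((Subalgebra.fg_iff_finiteType (Algebra.adjoin k (σ : Set S))).1 ⟨σ, rfl⟩)
  refine ⟨n, (Algebra.adjoin k (σ : Set S)).val.comp f, fun y => ?_⟩
  obtain ⟨t, ht, hu, hyt⟩ := hσ y
  obtain ⟨u, hu'⟩ := hf ⟨t, ht⟩
  obtain ⟨a, ha⟩ := hf ⟨_, hyt⟩
  refine ⟨a, u, ?_, ?_⟩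
  · show IsUnit (f u : S); rw [hu']; exact hu
  · show y * (f u : S) = (f a : S); rw [hu', ha]

/-- A local algebra as a quotient of the local ring of affine space. -/
theorem exists_lift_local {n : ℕ} {S : Type u} [CommRing S] [Algebra k S] (f : MvPolynomial (Fin n) k →ₐ[k] S)
    (hf : ∀ y : S, ∃ a u, IsUnit (f u) ∧ y * f u = f a) (q : Ideal (MvPolynomial (Fin n) k)) [q.IsPrime]
    (hq : ∀ a, a ∈ q ↔ ¬ IsUnit (f a)) :
    ∃ π : Localization.AtPrime q →ₐ[k] S, Function.Surjective π ∧ ∀ a, π (algebraMap _ _ a) = f a := by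
  have hu : ∀ y : q.primeCompl, IsUnit (f y) := fun y => not_not.1 fun h => y.2 ((hq y).2 h)
  let π : Localization.AtPrime q →ₐ[k] S := IsLocalization.liftAlgHom (M := q.primeCompl) (f := f) hu
  have hπ : ∀ a, π (algebraMap _ _ a) = f a := fun a => IsLocalization.lift_eq hu a
  refine ⟨π, fun y => ?_, hπ⟩
  obtain ⟨a, u, hu', hy⟩ := hf y
  have huq : u ∈ q.primeCompl := fun h => (hq u).1 h hu'
  refine ⟨IsLocalization.mk' _ a (⟨u, huq⟩ : q.primeCompl), hu'.mul_left_injective ?_⟩
  show π _ * f u = y * f u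
  rw [hy, ← hπ u, ← map_mul]
  exact (congrArg π (IsLocalization.mk'_spec (Localization.AtPrime q) a (⟨u, huq⟩ : q.primeCompl))).trans (hπ a)

theorem isRegularLocalRing_localization_mvPolynomial {n : ℕ} (q : Ideal (MvPolynomial (Fin n) k)) [q.IsPrime] :
    IsRegularLocalRing (Localization.AtPrime q) :=
  IsRegularRing.isRegularLocalRing_localization q

theorem essFiniteType_localization_mvPolynomial {n : ℕ} (q : Ideal (MvPolynomial (Fin n) k)) [q.IsPrime] :
    Algebra.EssFiniteType k (Localization.AtPrime q) :=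
  haveI := Algebra.EssFiniteType.of_isLocalization (R := MvPolynomial (Fin n) k) (Localization.AtPrime q) q.primeCompl
  Algebra.EssFiniteType.comp k (MvPolynomial (Fin n) k) _

theorem ciKer_indep {S R₁ R₂ : Type u} [CommRing S] [Algebra k S] [IsLocalRing S]
    [CommRing R₁] [IsRegularLocalRing R₁] [Algebra k R₁] [Algebra.EssFiniteType k R₁]
    [CommRing R₂] [IsRegularLocalRing R₂] [Algebra k R₂] [Algebra.EssFiniteType k R₂]
    (π₁ : R₁ →ₐ[k] S) (h₁ : Function.Surjective π₁) (π₂ : R₂ →ₐ[k] S) (h₂ : Function.Surjective π₂) :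
    CIKer π₁.toRingHom ↔ CIKer π₂.toRingHom := by
  obtain ⟨n₁, f₁, hf₁⟩ := exists_den_presentation (k := k) R₁
  obtain ⟨n₂, f₂, hf₂⟩ := exists_den_presentation (k := k) R₂
  let F₁ : MvPolynomial (Fin (n₁ + n₂)) k →ₐ[k] R₁ :=
    aeval (Fin.append (fun i => f₁ (X i)) (fun j => Function.surjInv h₁ (π₂ (f₂ (X j)))))
  let F₂ : MvPolynomial (Fin (n₁ + n₂)) k →ₐ[k] R₂ :=
    aeval (Fin.append (fun i => Function.surjInv h₂ (π₁ (f₁ (X i)))) (fun j => f₂ (X j)))
  have hd₁ : ∀ y : R₁, ∃ a u, IsUnit (F₁ u) ∧ y * F₁ u = F₁ a := fun y => by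
    have hc : F₁.comp (rename (Fin.castAdd n₂)) = f₁ := MvPolynomial.algHom_ext fun i => by simp [F₁]
    obtain ⟨a, u, hu, hy⟩ := hf₁ y
    rw [← hc] at hu hy
    exact ⟨rename (Fin.castAdd n₂) a, rename (Fin.castAdd n₂) u, hu, hy⟩
  have hd₂ : ∀ y : R₂, ∃ a u, IsUnit (F₂ u) ∧ y * F₂ u = F₂ a := fun y => by
    have hc : F₂.comp (rename (Fin.natAdd n₁)) = f₂ := MvPolynomial.algHom_ext fun i => by simp [F₂]
    obtain ⟨a, u, hu, hy⟩ := hf₂ y
    rw [← hc] at hu hy
    exact ⟨rename (Fin.natAdd n₁) a, rename (Fin.natAdd n₁) u, hu, hy⟩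
  have hF : π₁.comp F₁ = π₂.comp F₂ := MvPolynomial.algHom_ext fun i => by
    refine Fin.addCases (fun i => ?_) (fun j => ?_) i
    · simp [F₁, F₂, Function.surjInv_eq h₂]
    · simp [F₁, F₂, Function.surjInv_eq h₁]
  let q := (maximalIdeal S).comap (π₁.comp F₁)
  haveI : q.IsPrime := Ideal.comap_isPrime _ _
  haveI hl₁ : IsLocalHom π₁.toRingHom := IsLocalHom.of_surjective _ h₁
  haveI hl₂ : IsLocalHom π₂.toRingHom := IsLocalHom.of_surjective _ h₂
  obtain ⟨L₁, hL₁, hL₁'⟩ := exists_lift_local F₁ hd₁ q (fun a =>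
    show ¬ IsUnit (π₁ (F₁ a)) ↔ _ from not_congr (isUnit_map_iff π₁.toRingHom (F₁ a)))
  obtain ⟨L₂, hL₂, hL₂'⟩ := exists_lift_local F₂ hd₂ q (fun a => by
    show ¬ IsUnit ((π₁.comp F₁) a) ↔ _
    rw [hF]
    exact not_congr (isUnit_map_iff π₂.toRingHom (F₂ a)))
  haveI := isRegularLocalRing_localization_mvPolynomial q
  have hL : π₁.comp L₁ = π₂.comp L₂ := IsLocalization.algHom_ext q.primeCompl (AlgHom.ext fun a => by
    show π₁ (L₁ (algebraMap _ _ a)) = π₂ (L₂ (algebraMap _ _ a))
    rw [hL₁', hL₂']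
    exact AlgHom.congr_fun hF a)
  rw [← ciKer_comp_iff L₁.toRingHom hL₁ π₁.toRingHom h₁, ← ciKer_comp_iff L₂.toRingHom hL₂ π₂.toRingHom h₂,
    show π₁.toRingHom.comp L₁.toRingHom = π₂.toRingHom.comp L₂.toRingHom from congrArg AlgHom.toRingHom hL]

theorem isCIOver_of_ciKer {S R : Type u} [CommRing S] [Algebra k S] [IsLocalRing S]
    [CommRing R] [IsRegularLocalRing R] [Algebra k R] [Algebra.EssFiniteType k R]
    (π : R →ₐ[k] S) (hπ : Function.Surjective π) (h : CIKer π.toRingHom) : Synt.IsCIOver k S := by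
  obtain ⟨rs, hrs, hker⟩ := (ciKer_iff_regular π.toRingHom hπ).1 h
  refine ⟨R, inferInstance, inferInstance, inferInstance, inferInstance, rs, fun r hr => ?_, hrs, ⟨?_⟩⟩
  · exact ker_le_maximalIdeal π.toRingHom (hker ▸ Ideal.subset_span hr)
  · exact ((Ideal.quotientEquivAlgOfEq k hker.symm).trans (Ideal.quotientKerAlgEquivOfSurjective (R₁ := k) hπ)).symm

theorem isCIOver_iff_ciKer {S R : Type u} [CommRing S] [Algebra k S] [IsLocalRing S]
    [CommRing R] [IsRegularLocalRing R] [Algebra k R] [Algebra.EssFiniteType k R]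
    (π : R →ₐ[k] S) (hπ : Function.Surjective π) : Synt.IsCIOver k S ↔ CIKer π.toRingHom := by
  refine ⟨?_, isCIOver_of_ciKer π hπ⟩
  rintro ⟨R', _, _, _, _, rs, -, hrs, ⟨e⟩⟩
  let π' : R' →ₐ[k] S := e.symm.toAlgHom.comp (Ideal.Quotient.mkₐ k _)
  have hπ' : Function.Surjective π' := e.symm.surjective.comp Ideal.Quotient.mk_surjective
  refine (ciKer_indep π' hπ' π hπ).1 ((ciKer_iff_regular π'.toRingHom hπ').2 ⟨rs, hrs, ?_⟩)
  ext x
  show e.symm (Ideal.Quotient.mk _ x) = 0 ↔ _
  rw [map_eq_zero_iff _ e.symm.injective, Ideal.Quotient.eq_zero_iff_mem]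

theorem isRelGCI_of_field {n c : ℕ} (G : Fin c → MvPolynomial (Fin n) k)
    (hcn : c ≤ n) (hd : ringKrullDim (Synt.RelGCIRing k n c G) ≤ ((n - c : ℕ) : WithBot ℕ∞)) :
    Synt.IsRelGCI k n c G := by
  rw [isRelGCI_iff]
  intro p hn
  refine ⟨hcn, ?_⟩
  have hG : mapPoly k G k = G := funext fun i => by simp [mapPoly, MvPolynomial.map_id]
  haveI := hn
  haveI := nontrivial_mapPoly G k p.asIdeal.ResidueField
  rw [ringKrullDim_mapPoly G k p.asIdeal.ResidueField, hG]
  exact hd

/-- The kernel at the local rings of a surjection from affine space. -/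
theorem exists_atPrime_presentation {n : ℕ} {B : Type u} [CommRing B] [Algebra k B]
    (f : MvPolynomial (Fin n) k →ₐ[k] B) (hf : Function.Surjective f) (a : Ideal B) [a.IsPrime]
    (q : Ideal (MvPolynomial (Fin n) k)) [q.IsPrime] (hq : q = a.comap f) :
    ∃ π : Localization.AtPrime q →ₐ[k] Localization.AtPrime a, Function.Surjective π ∧
      (∀ x, π (algebraMap _ _ x) = algebraMap B _ (f x)) ∧
      RingHom.ker π.toRingHom = (RingHom.ker f.toRingHom).map (algebraMap _ (Localization.AtPrime q)) := by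
  let g : MvPolynomial (Fin n) k →ₐ[k] Localization.AtPrime a := (IsScalarTower.toAlgHom k B _).comp f
  obtain ⟨π, hπ, hπ'⟩ := exists_lift_local g (fun y => by
    obtain ⟨⟨b, s⟩, hbs⟩ := IsLocalization.surj a.primeCompl y
    obtain ⟨x, rfl⟩ := hf b
    obtain ⟨u, hu⟩ := hf s.1
    refine ⟨x, u, ?_, ?_⟩
    · show IsUnit (algebraMap B _ (f u)); rw [hu]; exact IsLocalization.map_units _ s
    · show y * algebraMap B _ (f u) = algebraMap B _ (f x); rw [hu]; exact hbs) q (fun x => by
    subst hq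
    show f x ∈ a ↔ ¬ IsUnit (algebraMap B (Localization.AtPrime a) (f x))
    rw [IsLocalization.AtPrime.isUnit_to_map_iff (Localization.AtPrime a) a]
    exact not_not.symm)
  refine ⟨π, hπ, hπ', le_antisymm ?_ ?_⟩
  · intro y hy
    obtain ⟨⟨x, s⟩, hxs⟩ := IsLocalization.surj q.primeCompl y
    have h1 : algebraMap B (Localization.AtPrime a) (f x) = 0 :=
      (hπ' x).symm.trans ((congrArg π hxs.symm).trans (by rw [map_mul, show π y = 0 from hy, zero_mul]))
    obtain ⟨t, ht⟩ := (IsLocalization.map_eq_zero_iff a.primeCompl (Localization.AtPrime a) (f x)).1 h1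
    obtain ⟨u, hu⟩ := hf t.1
    have huq : u ∈ q.primeCompl := by
      subst hq; intro h; exact t.2 (hu ▸ h)
    rw [← Ideal.unit_mul_mem_iff_mem _ (IsLocalization.map_units (Localization.AtPrime q) (⟨u, huq⟩ * s : q.primeCompl)),
      Submonoid.coe_mul, map_mul, mul_assoc, mul_comm (algebraMap _ _ (s : MvPolynomial (Fin n) k)) y, hxs, ← map_mul]
    refine Ideal.mem_map_of_mem _ ?_
    show f (u * x) = 0
    rw [map_mul, hu, ht]
  · rw [Ideal.map_le_iff_le_comap]
    intro x hx
    show π (algebraMap _ _ x) = 0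
    rw [hπ']
    show algebraMap B _ (f x) = 0
    rw [show f x = 0 from hx, map_zero]

theorem isCIOver_atPrime_of_isGlobalCI {A : Type u} [CommRing A] [Algebra k A] (h : Synt.IsGlobalCI k A)
    (a : Ideal A) [ha : a.IsPrime] : Synt.IsCIOver k (Localization.AtPrime a) := by
  haveI : Nontrivial A := PrimeSpectrum.nonempty_iff_nontrivial.1 ⟨⟨a, ha⟩⟩
  rcases h with hs | ⟨n, c, hcn, φ, r, hφ, hker, hdim⟩
  · exact absurd hs (not_subsingleton A)
  let q := a.comap φ
  haveI : q.IsPrime := Ideal.comap_isPrime _ _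
  obtain ⟨π, hπ, -, hπk⟩ := exists_atPrime_presentation φ hφ a q rfl
  haveI := isRegularLocalRing_localization_mvPolynomial q
  haveI := essFiniteType_localization_mvPolynomial q
  have hrel : Synt.IsRelGCI k n c r := isRelGCI_of_field r hcn (((ringKrullDim_eq_of_ringEquiv
    ((Ideal.quotEquivOfEq hker.symm).trans (RingHom.quotientKerEquivOfSurjective (f := φ.toRingHom) hφ))).trans hdim).le)
  have hmem : ∀ i, r i ∈ q := fun i => by
    show φ (r i) ∈ a
    rw [show φ (r i) = 0 from (hker ▸ Ideal.subset_span (Set.mem_range_self i) : r i ∈ RingHom.ker φ.toRingHom)]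
    exact zero_mem _
  refine isCIOver_of_ciKer π hπ ((ciKer_iff_regular π.toRingHom hπ).2
    ⟨(List.ofFn r).map (algebraMap _ (Localization.AtPrime q)), ?_, ?_⟩)
  · refine IsRegular.of_isWeaklyRegular_of_mem_maximalIdeal _ ?_ (weaklyRegular_relGCI_of_noetherian hrel q hmem)
    intro x hx
    obtain ⟨y, hy, rfl⟩ := List.mem_map.1 hx
    obtain ⟨i, rfl⟩ := List.mem_ofFn.1 hy
    exact (IsLocalization.AtPrime.to_map_mem_maximal_iff _ q _).2 (hmem i)
  · rw [hπk, hker, ← Ideal.map_ofList, ofList_ofFn]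

theorem exists_isGlobalCI_away_of_isCIOver {B : Type u} [CommRing B] [Algebra k B] [Algebra.FiniteType k B]
    (a : Ideal B) [a.IsPrime] (h : Synt.IsCIOver k (Localization.AtPrime a)) :
    ∃ g : B, g ∉ a ∧ Synt.IsGlobalCI k (Localization.Away g) := by
  classical
  obtain ⟨n, f, hf⟩ := Algebra.FiniteType.iff_quotient_mvPolynomial''.1 ‹Algebra.FiniteType k B›
  let q := a.comap f
  haveI : q.IsPrime := Ideal.comap_isPrime _ _
  obtain ⟨π, hπ, hπ', hπk⟩ := exists_atPrime_presentation f hf a q rfl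
  let P := Localization.AtPrime q
  haveI := isRegularLocalRing_localization_mvPolynomial q
  haveI := essFiniteType_localization_mvPolynomial q
  obtain ⟨c, y, hy, hdim⟩ := (isCIOver_iff_ciKer π hπ).1 h
  let I := RingHom.ker f.toRingHom
  have hnum : ∀ i, ∃ r ∈ I, ∃ u : P, IsUnit u ∧ algebraMap _ P r = u * y i := fun i => by
    have h1 : y i ∈ I.map (algebraMap _ P) := hπk ▸ hy ▸ Ideal.subset_span (Set.mem_range_self i)
    obtain ⟨⟨r, s⟩, hrs⟩ := (IsLocalization.mem_map_algebraMap_iff q.primeCompl P).1 h1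
    exact ⟨r.1, r.2, _, IsLocalization.map_units P s, by rw [mul_comm]; exact hrs.symm⟩
  choose r hrI u hu hru using hnum
  let J := Ideal.span (Set.range r)
  have hJP : J.map (algebraMap _ P) = RingHom.ker π.toRingHom := by
    rw [hy, Ideal.map_span, ← Set.range_comp]
    refine le_antisymm (Ideal.span_le.2 ?_) (Ideal.span_le.2 ?_)
    · rintro _ ⟨i, rfl⟩
      show algebraMap _ P (r i) ∈ _
      rw [hru i]
      exact Ideal.mul_mem_left _ _ (Ideal.subset_span (Set.mem_range_self i))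
    · rintro _ ⟨i, rfl⟩
      refine (Ideal.unit_mul_mem_iff_mem _ (hu i)).1 ?_
      rw [← hru i]
      exact Ideal.subset_span ⟨i, rfl⟩
  -- an element killing `I / J`
  obtain ⟨G₀, hG₀⟩ := (IsNoetherian.noetherian I : I.FG)
  have hkill : ∀ x : MvPolynomial (Fin n) k, ∃ s : q.primeCompl, x ∈ I → (s : MvPolynomial (Fin n) k) * x ∈ J := by
    intro x
    by_cases hx : x ∈ I
    · have h1 : algebraMap _ P x ∈ J.map (algebraMap _ P) := by rw [hJP, hπk]; exact Ideal.mem_map_of_mem _ hx
      obtain ⟨⟨⟨b, hb⟩, s⟩, hbs⟩ := (IsLocalization.mem_map_algebraMap_iff q.primeCompl P).1 h1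
      rw [← map_mul, IsLocalization.eq_iff_exists q.primeCompl] at hbs
      obtain ⟨d, hd⟩ := hbs
      refine ⟨d * s, fun _ => ?_⟩
      rw [Submonoid.coe_mul, mul_assoc, mul_comm (s : MvPolynomial (Fin n) k) x, hd]
      exact J.mul_mem_left _ hb
    · exact ⟨1, fun h => absurd h hx⟩
  choose s hs using hkill
  let h0 : MvPolynomial (Fin n) k := ((∏ x ∈ G₀, s x : q.primeCompl) : MvPolynomial (Fin n) k)
  have hh0 : ∀ x ∈ I, h0 * x ∈ J := by
    intro x hx
    rw [← hG₀] at hx
    induction hx using Submodule.span_induction with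
    | mem z hz =>
      show ((∏ x ∈ G₀, s x : q.primeCompl) : MvPolynomial (Fin n) k) * z ∈ J
      rw [← Finset.prod_erase_mul G₀ s hz, Submonoid.coe_mul, mul_assoc]
      exact J.mul_mem_left _ (hs z (hG₀ ▸ Ideal.subset_span hz))
    | zero => simp
    | add v w _ _ hv hw => rw [mul_add]; exact J.add_mem hv hw
    | smul b v _ hv => rw [smul_eq_mul, mul_left_comm]; exact J.mul_mem_left _ hv
  -- avoid the components not passing through `q`
  have hfin : J.minimalPrimes.Finite := Ideal.finite_minimalPrimes_of_isNoetherianRing _ J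
  have hbad : ∀ p : Ideal (MvPolynomial (Fin n) k), ∃ e : q.primeCompl, ¬ p ≤ q → (e : MvPolynomial (Fin n) k) ∈ p := by
    intro p
    by_cases hp : p ≤ q
    · exact ⟨1, fun h => absurd hp h⟩
    · obtain ⟨e, he1, he2⟩ := SetLike.not_le_iff_exists.1 hp
      exact ⟨⟨e, he2⟩, fun _ => he1⟩
  choose e he using hbad
  let G : MvPolynomial (Fin n) k := h0 * ((∏ p ∈ hfin.toFinset, e p : q.primeCompl) : MvPolynomial (Fin n) k)
  have hGq : G ∉ q := q.primeCompl.mul_mem (∏ x ∈ G₀, s x).2 (∏ p ∈ hfin.toFinset, e p).2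
  -- height of the components through `q`
  have hheight : (c : WithBot ℕ∞) ≤ ((J.map (algebraMap _ P)).height : WithBot ℕ∞) := by
    haveI := (FlatLoc6.isCM_of_isRegularRing (MvPolynomial (Fin n) k)).isCohenMacaulayLocalRing_localization q
    have h1 := LC.height_add_ringKrullDim_quotient (J.map (algebraMap _ P)) (by rw [hJP]; exact RingHom.ker_ne_top _)
    rw [hdim, ringKrullDim_eq_of_ringEquiv ((Ideal.quotEquivOfEq hJP).trans (RingHom.quotientKerEquivOfSurjective hπ))] at h1
    obtain ⟨d, hd⟩ := WithBot.ne_bot_iff_exists.1 (fun hb : ringKrullDim (Localization.AtPrime a) = ⊥ =>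
      WithBot.bot_lt_coe 0 |>.not_ge (hb ▸ ringKrullDim_nonneg_of_nontrivial (R := Localization.AtPrime a)))
    have hdR := ringKrullDim_eq_nat P
    rw [hdim, ← hd] at hdR
    rw [← hd] at h1
    have h3 : d + (J.map (algebraMap _ P)).height = d + (c : ℕ∞) := WithBot.coe_inj.1 (by exact_mod_cast h1)
    have hdtop : d ≠ ⊤ := by
      rintro rfl
      have h2 : ⊤ + (c : ℕ∞) = ((maximalIdeal P).spanFinrank : ℕ∞) := WithBot.coe_inj.1 (by exact_mod_cast hdR)
      simp at h2
    exact le_of_eq (by rw [WithTop.add_left_cancel hdtop h3]; rfl)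
  have hcomp : ∀ p ∈ J.minimalPrimes, G ∉ p → ∀ hp : p.IsPrime, (c : ℕ∞) ≤ Order.height (⟨p, hp⟩ : PrimeSpectrum (MvPolynomial (Fin n) k)) := by
    intro p hp hGp hpr
    have hpq : p ≤ q := by
      by_contra hne
      refine hGp (Ideal.mul_mem_left _ _ ?_)
      rw [← Finset.prod_erase_mul hfin.toFinset e (hfin.mem_toFinset.2 hp), Submonoid.coe_mul]
      exact Ideal.mul_mem_left _ _ (he p hne)
    rw [← PrimeSpectrum.height_eq_orderHeight (⟨p, hpr⟩ : PrimeSpectrum (MvPolynomial (Fin n) k))]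
    haveI := hpr
    have hdisj : Disjoint (q.primeCompl : Set (MvPolynomial (Fin n) k)) p :=
      Set.disjoint_left.2 fun x hx hxp => hx (hpq hxp)
    rw [← IsLocalization.height_map_of_disjoint q.primeCompl p hdisj (S := P)]
    exact (WithBot.coe_le_coe.1 hheight).trans (Ideal.height_mono (Ideal.map_mono hp.1.2))
  have hexP : ∀ p : Ideal (MvPolynomial (Fin n) k), p.IsPrime → J ≤ p → G ∉ p → ∃ p₀ ∈ J.minimalPrimes, p₀ ≤ p ∧ G ∉ p₀ := by
    intro p hp hJp hGp
    haveI := hp
    obtain ⟨p₀, hp₀, hle⟩ := Ideal.exists_minimalPrimes_le hJp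
    exact ⟨p₀, hp₀, hle, fun h => hGp (hle h)⟩
  have hfq : ∀ x ∈ J, x ∈ q := fun x hx => by
    have h1 : x ∈ I := (Ideal.span_le.2 (by rintro _ ⟨i, rfl⟩; exact hrI i) : J ≤ I) hx
    show f x ∈ a
    rw [show f x = 0 from h1]
    exact zero_mem _
  have hcn : c ≤ n := by
    obtain ⟨p₀, hp₀, -, hG₀'⟩ := hexP q inferInstance hfq hGq
    have h1 := hcomp p₀ hp₀ hG₀' hp₀.1.1
    have h2 := VarDim.height_add_coheight_eq k n (MvPolynomial (Fin n) k) (by
      rw [MvPolynomial.ringKrullDim_of_isNoetherianRing, ringKrullDim_eq_zero_of_field, zero_add]; simp) ⟨p₀, hp₀.1.1⟩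
    have := h1.trans (le_self_add.trans h2.le)
    exact_mod_cast this
  -- the localisation of the lifted presentation
  let B' := Synt.RelGCIRing k n c r
  let g' : B' := Ideal.Quotient.mk _ G
  let T := Localization.Away g'
  have hTdim : ringKrullDim T ≤ ((n - c : ℕ) : WithBot ℕ∞) := by
    refine iSup_le fun l => ?_
    let ψ : MvPolynomial (Fin n) k →+* T := (algebraMap B' T).comp (Ideal.Quotient.mk _)
    let j : PrimeSpectrum T → PrimeSpectrum (MvPolynomial (Fin n) k) := PrimeSpectrum.comap ψ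
    have hj : StrictMono j := by
      refine Monotone.strictMono_of_injective (fun _ _ h => Ideal.comap_mono h) ?_
      intro v w hvw
      refine PrimeSpectrum.localization_comap_injective T (Submonoid.powers g') ?_
      refine PrimeSpectrum.comap_injective_of_surjective _ Ideal.Quotient.mk_surjective ?_
      exact hvw
    let l' := l.map j hj
    have hGl : G ∉ (j l.head).asIdeal := fun hm =>
      l.head.2.ne_top (Ideal.eq_top_of_isUnit_mem _ (show algebraMap B' T g' ∈ l.head.asIdeal from hm)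
        (IsLocalization.Away.algebraMap_isUnit g'))
    have hJl : J ≤ (j l.head).asIdeal := fun x hx => by
      show algebraMap B' T (Ideal.Quotient.mk _ x) ∈ l.head.asIdeal
      rw [Ideal.Quotient.eq_zero_iff_mem.2 hx, map_zero]
      exact zero_mem _
    obtain ⟨p₀, hp₀, hle, hG₀'⟩ := hexP _ (j l.head).2 hJl hGl
    let P₀ : PrimeSpectrum (MvPolynomial (Fin n) k) := ⟨p₀, hp₀.1.1⟩
    have h1 : (c : ℕ∞) ≤ Order.height P₀ := hcomp p₀ hp₀ hG₀' hp₀.1.1
    have h2 := VarDim.height_add_coheight_eq k n (MvPolynomial (Fin n) k) (by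
      rw [MvPolynomial.ringKrullDim_of_isNoetherianRing, ringKrullDim_eq_zero_of_field, zero_add]; simp) P₀
    have h3 : (l.length : ℕ∞) ≤ Order.coheight P₀ :=
      Order.length_le_coheight (p := l') (show P₀ ≤ l'.head from hle)
    have h4 : (c : ℕ∞) + (l.length : ℕ∞) ≤ n := (add_le_add h1 h3).trans h2.le
    have h5 : c + l.length ≤ n := by exact_mod_cast h4
    exact_mod_cast (show l.length ≤ n - c by omega)
  obtain ⟨eT⟩ := awayEquiv r G
  have hCI : Synt.IsGlobalCI k T := by
    refine isGlobalCI_of_equiv (RingEquiv.refl k) eT.symm.toRingEquiv (fun x => eT.symm.commutes x) ?_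
    refine isGlobalCI_relGCIRing _ fun _ => ⟨by omega, ?_⟩
    rw [← ringKrullDim_eq_of_ringEquiv eT.toRingEquiv, Nat.add_sub_add_right]
    exact hTdim
  refine ⟨f G, hGq, ?_⟩
  let π' : B' →ₐ[k] B := Ideal.Quotient.liftₐ _ f (fun x hx =>
    (Ideal.span_le.2 (by rintro _ ⟨i, rfl⟩; exact hrI i) : Ideal.span (Set.range r) ≤ I) hx)
  have hπ'' : Function.Surjective π' := fun b => by
    obtain ⟨x, rfl⟩ := hf b; exact ⟨Ideal.Quotient.mk _ x, rfl⟩
  let V := Localization.Away (f G)
  letI : Algebra B' V := ((algebraMap B V).comp π'.toRingHom).toAlgebra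
  haveI : IsScalarTower k B' V := IsScalarTower.of_algebraMap_eq (R := k) (S := B') (A := V) fun x => by
    show algebraMap k V x = algebraMap B V (π' (algebraMap k B' x))
    rw [π'.commutes, ← IsScalarTower.algebraMap_apply]
  haveI : IsLocalization.Away g' V := by
    refine IsLocalization.Away.mk _ (IsLocalization.Away.algebraMap_isUnit (f G)) (fun z => ?_) (fun v w hvw => ?_)
    · obtain ⟨N, b, hb⟩ := IsLocalization.Away.surj (f G) z
      obtain ⟨b, rfl⟩ := hπ'' b
      exact ⟨N, b, hb⟩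
    · obtain ⟨N, hN⟩ := IsLocalization.Away.exists_of_eq (f G) (show algebraMap B V (π' v) = algebraMap B V (π' w) from hvw)
      refine ⟨N + 1, ?_⟩
      obtain ⟨v, rfl⟩ := Ideal.Quotient.mk_surjective v
      obtain ⟨w, rfl⟩ := Ideal.Quotient.mk_surjective w
      have h1 : G ^ N * v - G ^ N * w ∈ I := by
        show f _ = 0
        rw [map_sub, map_mul, map_mul, map_pow, sub_eq_zero]
        exact hN
      have h2 : G * (G ^ N * v - G ^ N * w) ∈ J := by
        rw [show G = h0 * _ from rfl, mul_right_comm]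
        exact J.mul_mem_right _ (hh0 _ h1)
      simp only [g', ← map_pow, ← map_mul]
      rw [Ideal.Quotient.eq]
      convert h2 using 1
      ring
  exact isGlobalCI_of_equiv (RingEquiv.refl k) (IsLocalization.algEquiv (Submonoid.powers g') T V).toRingEquiv
    (fun x => ((IsLocalization.algEquiv (Submonoid.powers g') T V).restrictScalars k).commutes x) hCI

/-- Being a complete intersection is invariant under isomorphism. -/
theorem isCIOver_of_algEquiv {S S' : Type u} [CommRing S] [IsLocalRing S] [Algebra k S] [CommRing S'] [IsLocalRing S']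
    [Algebra k S'] (e : S ≃ₐ[k] S') (h : Synt.IsCIOver k S) : Synt.IsCIOver k S' := by
  obtain ⟨R, _, _, _, h1, rs, h2, h3, ⟨e'⟩⟩ := h
  exact ⟨R, inferInstance, inferInstance, inferInstance, h1, rs, h2, h3, ⟨e.symm.trans e'⟩⟩

theorem isCIOver_atPrime_of_isLCIOver {A : Type u} [CommRing A] [Algebra k A] (h : Synt.IsLCIOver k A)
    (a : Ideal A) [a.IsPrime] : Synt.IsCIOver k (Localization.AtPrime a) := by
  obtain ⟨g, hg, hCI⟩ := h.2 ⟨a, inferInstance⟩
  let T := Localization.Away g
  let aT : Ideal T := a.map (algebraMap A T)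
  have hdisj : Disjoint (Submonoid.powers g : Set A) a :=
    Ideal.disjoint_powers_iff_notMem_of_isPrime g |>.2 hg
  haveI : aT.IsPrime := IsLocalization.isPrime_of_isPrime_disjoint (Submonoid.powers g) T a inferInstance hdisj
  have hc : aT.comap (algebraMap A T) = a :=
    IsLocalization.under_map_of_isPrime_disjoint (Submonoid.powers g) T inferInstance hdisj
  haveI : IsLocalization a.primeCompl (Localization.AtPrime aT) := by
    have := IsLocalization.isLocalization_isLocalization_atPrime_isLocalization (Submonoid.powers g) (Localization.AtPrime aT) aT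
    simpa [hc] using this
  exact isCIOver_of_algEquiv
    ((IsLocalization.algEquiv a.primeCompl (Localization.AtPrime aT) (Localization.AtPrime a)).restrictScalars k)
    (isCIOver_atPrime_of_isGlobalCI hCI aT)

end Groth.Agent.Synt29
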