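import Mathlib
import Groth.Agent.Synt29.CILocal

/-!
# Points at which an algebra over a field is a complete intersection
-/

universe u

open IsLocalRing RingTheory.Sequence MvPolynomial

set_option linter.style.haveILetI false

namespace Groth.Agent.Synt29

variable {k : Type u} [Field k]

/-- The local ring of `A_g` at the prime over `a`. -/
theorem atPrime_away_equiv {A : Type u} [CommRing A] [Algebra k A] (g : A) (a : Ideal A) [a.IsPrime] (hg : g ∉ a) :
    ∃ (b : Ideal (Localization.Away g)) (_ : b.IsPrime),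
      Nonempty (Localization.AtPrime b ≃ₐ[k] Localization.AtPrime a) := by
  let T := Localization.Away g
  let b : Ideal T := a.map (algebraMap A T)
  have hdisj : Disjoint (Submonoid.powers g : Set A) a :=
    Ideal.disjoint_powers_iff_notMem_of_isPrime g |>.2 hg
  haveI : b.IsPrime := IsLocalization.isPrime_of_isPrime_disjoint (Submonoid.powers g) T a inferInstance hdisj
  have hc : b.comap (algebraMap A T) = a :=
    IsLocalization.under_map_of_isPrime_disjoint (Submonoid.powers g) T inferInstance hdisj
  haveI : IsLocalization a.primeCompl (Localization.AtPrime b) := by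
    have := IsLocalization.isLocalization_isLocalization_atPrime_isLocalization (Submonoid.powers g) (Localization.AtPrime b) b
    simpa [hc] using this
  exact ⟨b, inferInstance,
    ⟨(IsLocalization.algEquiv a.primeCompl (Localization.AtPrime b) (Localization.AtPrime a)).restrictScalars k⟩⟩

theorem isGlobalCI_away_one {A : Type u} [CommRing A] [Algebra k A] (h : Synt.IsGlobalCI k A) :
    Synt.IsGlobalCI k (Localization.Away (1 : A)) :=
  isGlobalCI_of_equiv (RingEquiv.refl k) ((IsLocalization.atOne A (Localization.Away (1 : A))).restrictScalars k).toRingEquiv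
    (fun x => ((IsLocalization.atOne A (Localization.Away (1 : A))).restrictScalars k).commutes x) h

theorem isLCIOver_of_isGlobalCI {A : Type u} [CommRing A] [Algebra k A] (h : Synt.IsGlobalCI k A) :
    Synt.IsLCIOver k A := by
  refine ⟨?_, fun p => ⟨1, fun hp => p.2.ne_top ((Ideal.eq_top_iff_one _).2 hp), isGlobalCI_away_one h⟩⟩
  rcases h with h | ⟨n, c, -, φ, r, hφ, -, -⟩
  · exact ⟨⟨∅, eq_top_iff.2 fun x _ => Subsingleton.elim (0 : A) x ▸ zero_mem _⟩⟩
  · exact Algebra.FiniteType.of_surjective φ hφ

theorem isCIOver_iff_exists_isGlobalCI_away {B : Type u} [CommRing B] [Algebra k B] [Algebra.FiniteType k B]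
    (a : Ideal B) [a.IsPrime] :
    Synt.IsCIOver k (Localization.AtPrime a) ↔ ∃ g : B, g ∉ a ∧ Synt.IsGlobalCI k (Localization.Away g) := by
  refine ⟨exists_isGlobalCI_away_of_isCIOver a, fun ⟨g, hg, h⟩ => ?_⟩
  obtain ⟨b, hb, ⟨e⟩⟩ := atPrime_away_equiv (k := k) g a hg
  exact isCIOver_of_algEquiv e (isCIOver_atPrime_of_isGlobalCI h b)

theorem isCIOver_iff_exists_isLCIOver_away {B : Type u} [CommRing B] [Algebra k B] [Algebra.FiniteType k B]
    (a : Ideal B) [a.IsPrime] :
    Synt.IsCIOver k (Localization.AtPrime a) ↔ ∃ g : B, g ∉ a ∧ Synt.IsLCIOver k (Localization.Away g) := by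
  refine ⟨fun h => ?_, fun ⟨g, hg, h⟩ => ?_⟩
  · obtain ⟨g, hg, h'⟩ := exists_isGlobalCI_away_of_isCIOver a h
    exact ⟨g, hg, isLCIOver_of_isGlobalCI h'⟩
  · obtain ⟨b, hb, ⟨e⟩⟩ := atPrime_away_equiv (k := k) g a hg
    exact isCIOver_of_algEquiv e (isCIOver_atPrime_of_isLCIOver h b)

theorem isLCIOver_iff_forall_maximal {B : Type u} [CommRing B] [Algebra k B] [Algebra.FiniteType k B] :
    Synt.IsLCIOver k B ↔ ∀ m : MaximalSpectrum B, Synt.IsCIOver k (Localization.AtPrime m.asIdeal) := by
  refine ⟨fun h m => isCIOver_atPrime_of_isLCIOver h m.asIdeal, fun h => ⟨inferInstance, fun p => ?_⟩⟩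
  obtain ⟨m, hm, hle⟩ := Ideal.exists_le_maximal p.asIdeal p.2.ne_top
  obtain ⟨g, hg, hg'⟩ := exists_isGlobalCI_away_of_isCIOver m (h ⟨m, hm⟩)
  exact ⟨g, fun hgp => hg (hle hgp), hg'⟩

/-- An essentially finite type local algebra is a quotient of a regular one. -/
theorem exists_regular_presentation (S : Type u) [CommRing S] [IsLocalRing S] [Algebra k S] [Algebra.EssFiniteType k S] :
    ∃ (R : Type u) (_ : CommRing R) (_ : IsRegularLocalRing R) (_ : Algebra k R) (_ : Algebra.EssFiniteType k R)
      (π : R →ₐ[k] S), Function.Surjective π := by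
  obtain ⟨n, f, hf⟩ := exists_den_presentation (k := k) S
  let q := (maximalIdeal S).comap f
  haveI : q.IsPrime := Ideal.comap_isPrime _ _
  obtain ⟨π, hπ, -⟩ := exists_lift_local f hf q (fun a => Iff.rfl)
  exact ⟨_, inferInstance, isRegularLocalRing_localization_mvPolynomial q, inferInstance,
    essFiniteType_localization_mvPolynomial q, π, hπ⟩

/-- An essentially finite type local algebra is the local ring of a finite type algebra. -/
theorem exists_atPrime_model (S : Type u) [CommRing S] [IsLocalRing S] [Algebra k S] [Algebra.EssFiniteType k S] :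
    ∃ (A : Type u) (_ : CommRing A) (_ : Algebra k A) (a : Ideal A) (_ : a.IsPrime),
      Algebra.FiniteType k A ∧ Nonempty (S ≃ₐ[k] Localization.AtPrime a) := by
  obtain ⟨n, f, hf⟩ := exists_den_presentation (k := k) S
  let A := f.range
  let a : Ideal A := (maximalIdeal S).comap A.val
  haveI : a.IsPrime := Ideal.comap_isPrime _ _
  haveI : Algebra.FiniteType k A := Algebra.FiniteType.of_surjective f.rangeRestrict f.rangeRestrict_surjective
  letI : Algebra A S := A.val.toRingHom.toAlgebra
  haveI : IsScalarTower k A S := IsScalarTower.of_algebraMap_eq fun _ => rfl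
  haveI : IsLocalization.AtPrime S a := by
    refine ⟨fun y => not_not.1 y.2, fun y => ?_, fun {v w} hvw => ⟨1, ?_⟩⟩
    · obtain ⟨b, u, hu, hy⟩ := hf y
      exact ⟨(f.rangeRestrict b, ⟨f.rangeRestrict u, fun h => h hu⟩), hy⟩
    · rw [OneMemClass.coe_one, one_mul, one_mul]
      exact Subtype.ext hvw
  exact ⟨A, inferInstance, inferInstance, a, inferInstance, inferInstance,
    ⟨((IsLocalization.algEquiv a.primeCompl S (Localization.AtPrime a)).restrictScalars k)⟩⟩

end Groth.Agent.Synt29
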