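import Mathlib
import Groth.Agent.Synt29.CIKernel

/-!
# Complete intersection kernels and flat local extensions
-/

universe u

open IsLocalRing TensorProduct

set_option linter.style.haveILetI false
set_option backward.isDefEq.respectTransparency.types false

namespace Groth.Agent.Synt29

variable {P P' : Type u} [CommRing P] [CommRing P'] [Algebra P P'] [Module.Flat P P']

theorem ringKrullDim_eq_add_of_hasGoingDown {A A' : Type u} [CommRing A] [CommRing A'] [IsLocalRing A] [IsLocalRing A']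
    [IsNoetherianRing A] [IsNoetherianRing A'] [Algebra A A'] [IsLocalHom (algebraMap A A')] [Algebra.HasGoingDown A A'] :
    ringKrullDim A' = ringKrullDim A + ringKrullDim (A' ⧸ (maximalIdeal A).map (algebraMap A A')) := by
  let J := (maximalIdeal A).map (algebraMap A A')
  haveI : (maximalIdeal A').LiesOver (maximalIdeal A) :=
    ⟨(maximalIdeal_comap (algebraMap A A')).symm⟩
  have hJ : J ≤ maximalIdeal A' := Ideal.map_le_iff_le_comap.2 (maximalIdeal_comap (algebraMap A A')).ge
  haveI : Nontrivial (A' ⧸ J) := Ideal.Quotient.nontrivial_iff.2 fun h => (maximalIdeal.isMaximal A').ne_top (top_le_iff.1 (h ▸ hJ))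
  haveI : IsLocalRing (A' ⧸ J) := .of_surjective' (Ideal.Quotient.mk J) Ideal.Quotient.mk_surjective
  have h := Ideal.height_eq_height_add_of_liesOver_of_hasGoingDown (maximalIdeal A) (maximalIdeal A')
  have hm : (maximalIdeal A').map (Ideal.Quotient.mk J) = maximalIdeal (A' ⧸ J) :=
    eq_maximalIdeal ((Ideal.map_eq_top_or_isMaximal_of_surjective (Ideal.Quotient.mk J) Ideal.Quotient.mk_surjective
      (maximalIdeal.isMaximal A')).resolve_left fun htop => by
        have := congrArg (Ideal.comap (Ideal.Quotient.mk J)) htop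
        rw [Ideal.comap_map_of_surjective _ Ideal.Quotient.mk_surjective, ← RingHom.ker_eq_comap_bot, Ideal.mk_ker,
          sup_of_le_left hJ, Ideal.comap_top] at this
        exact (maximalIdeal.isMaximal A').ne_top this)
  rw [hm] at h
  rw [← maximalIdeal_height_eq_ringKrullDim, ← maximalIdeal_height_eq_ringKrullDim,
    ← maximalIdeal_height_eq_ringKrullDim, h]
  rfl

theorem hasGoingDown_quotient (K : Ideal P) : Algebra.HasGoingDown (P ⧸ K) (P' ⧸ K.map (algebraMap P P')) := by
  haveI : Module.Flat (P ⧸ K) (P' ⧸ K.map (algebraMap P P')) := by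
    let e₁ : (P ⧸ K) ⊗[P] P' ≃ₗ[P] P' ⧸ K.map (algebraMap P P') :=
      (TensorProduct.quotTensorEquivQuotSMul P' K).trans
        (Submodule.quotEquivOfEq _ _ (Ideal.smul_top_eq_map K)) |>.trans
        (LinearEquiv.refl P _)
    exact Module.Flat.of_linearEquiv (e₁.extendScalarsOfSurjective Ideal.Quotient.mk_surjective).symm
  infer_instance

theorem mem_maximalIdeal_of_relation [IsLocalRing P] [IsLocalRing P'] [IsLocalHom (algebraMap P P')] (K : Ideal P)
    {m : ℕ} (g : Fin m → P) (hg : Ideal.span (Set.range g) = K) (hm : K.spanFinrank = m) (x : Fin m → P')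
    (hx : ∑ i, x i * algebraMap P P' (g i) = 0) (i : Fin m) : x i ∈ maximalIdeal P' := by
  have h : ∑ i, g i • x i = 0 := by
    rw [← hx]; exact Finset.sum_congr rfl fun j _ => by rw [Algebra.smul_def, mul_comm]
  obtain ⟨t, a, y, hxa, ha⟩ := Module.Flat.isTrivialRelation_of_sum_smul_eq_zero (R := P) (M := P') (f := g) (x := x) h
  rw [hxa i]
  refine Ideal.sum_mem _ fun j _ => ?_
  rw [Algebra.smul_def]
  refine Ideal.mul_mem_right _ _ ?_
  intro hu
  have hu' : IsUnit (a i j) := (isUnit_map_iff (algebraMap P P') _).1 hu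
  obtain ⟨m', rfl⟩ : ∃ m', m = m' + 1 := Nat.exists_eq_add_of_le' i.pos
  have hle : K ≤ Ideal.span (Set.range fun l : Fin m' => g (i.succAbove l)) := by
    rw [← hg, Ideal.span_le]
    rintro _ ⟨l, rfl⟩
    rcases eq_or_ne l i with rfl | hl
    · obtain ⟨u, hu⟩ := hu'
      have h1 := ha j
      rw [Fin.sum_univ_succAbove _ l, add_eq_zero_iff_eq_neg] at h1
      have h2 : g l = u⁻¹.1 * -(∑ s : Fin m', g (l.succAbove s) * a (l.succAbove s) j) := by
        rw [← h1, ← hu, mul_comm (g l), ← mul_assoc, Units.inv_mul, one_mul]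
      rw [h2]
      exact Ideal.mul_mem_left _ _ (neg_mem (Ideal.sum_mem _ fun s _ =>
        Ideal.mul_mem_right _ _ (Ideal.subset_span ⟨s, rfl⟩)))
    · obtain ⟨s, rfl⟩ := Fin.exists_succAbove_eq hl
      exact Ideal.subset_span ⟨s, rfl⟩
  have heq : K = Ideal.span (Set.range fun l : Fin m' => g (i.succAbove l)) :=
    le_antisymm hle (hg ▸ Ideal.span_mono (by rintro _ ⟨l, rfl⟩; exact ⟨_, rfl⟩))
  have h3 : K.spanFinrank ≤ m' := by
    rw [heq]
    refine (Submodule.spanFinrank_span_le_ncard_of_finite (Set.finite_range _)).trans ?_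
    rw [← Set.image_univ]
    exact (Set.ncard_image_le Set.finite_univ).trans_eq (by simp)
  omega

/-- The number of generators of an ideal does not drop in a flat local extension. -/
theorem exists_generators_of_map [IsLocalRing P] [IsNoetherianRing P] [IsLocalRing P'] [IsLocalHom (algebraMap P P')]
    (K : Ideal P) {r : ℕ} (f : Fin r → P') (hf : K.map (algebraMap P P') = Ideal.span (Set.range f)) :
    ∃ k : Fin r → P, K = Ideal.span (Set.range k) := by
  classical
  let m := K.spanFinrank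
  obtain ⟨gs, hcard, hgs⟩ := Submodule.FG.exists_span_finset_card_eq_spanFinrank (IsNoetherian.noetherian K)
  let g : Fin m → P := fun i => ((gs.equivFinOfCardEq hcard).symm i : P)
  have hg : Ideal.span (Set.range g) = K := by
    refine Eq.trans (congrArg Ideal.span (Set.ext fun z => ?_)) hgs
    exact ⟨by rintro ⟨i, rfl⟩; exact Finset.coe_mem _, fun hz => ⟨gs.equivFinOfCardEq hcard ⟨z, hz⟩, by simp [g]⟩⟩
  have hK : K.map (algebraMap P P') = Ideal.span (Set.range fun i : Fin m => algebraMap P P' (g i)) := by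
    conv_lhs => rw [← hg]
    rw [Ideal.map_span, ← Set.range_comp]
    rfl
  have hfA : ∀ s, ∃ A : Fin m → P', ∑ l, A l * algebraMap P P' (g l) = f s := fun s =>
    Ideal.mem_span_range_iff_exists_fun.1 (hK ▸ hf ▸ Ideal.subset_span (Set.mem_range_self s))
  have hgB : ∀ l, ∃ B : Fin r → P', ∑ s, B s * f s = algebraMap P P' (g l) := fun l =>
    Ideal.mem_span_range_iff_exists_fun.1 (hf ▸ hK ▸ Ideal.subset_span ⟨l, rfl⟩)
  choose A hA using hfA
  choose B hB using hgB
  let k' := ResidueField P'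
  let MA : Matrix (Fin r) (Fin m) k' := fun s l => residue P' (A s l)
  let MB : Matrix (Fin m) (Fin r) k' := fun l s => residue P' (B l s)
  have hone : MB * MA = 1 := by
    ext l l'
    have h0 := mem_maximalIdeal_of_relation K g hg rfl (fun i => (∑ s, B l s * A s i) - if i = l then 1 else 0) (by
      simp only [sub_mul, Finset.sum_sub_distrib, Finset.sum_mul, ite_mul, one_mul, zero_mul, Finset.sum_ite_eq',
        Finset.mem_univ, if_true]
      rw [Finset.sum_comm]
      simp only [mul_assoc, ← Finset.mul_sum, hA, hB, sub_self]) l'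
    rw [← residue_eq_zero_iff, map_sub, sub_eq_zero, map_sum] at h0
    simp only [Matrix.mul_apply, MA, MB, ← map_mul, Matrix.one_apply]
    rw [h0]
    rcases eq_or_ne l l' with rfl | hne
    · rw [if_pos rfl, if_pos rfl, map_one]
    · rw [if_neg hne.symm, if_neg hne, map_zero]
  have hinj : Function.Injective MA.mulVecLin := by
    intro v w hvw
    have := congrArg MB.mulVec (show MA.mulVec v = MA.mulVec w from hvw)
    rwa [Matrix.mulVec_mulVec, Matrix.mulVec_mulVec, hone, Matrix.one_mulVec, Matrix.one_mulVec] at this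
  have hle : m ≤ r := by
    have := LinearMap.finrank_le_finrank_of_injective hinj
    simpa using this
  refine ⟨fun s => if h : s.1 < m then g ⟨s.1, h⟩ else 0, le_antisymm ?_ ?_⟩
  · conv_lhs => rw [← hg]
    refine Ideal.span_mono ?_
    rintro _ ⟨l, rfl⟩
    exact ⟨⟨l.1, lt_of_lt_of_le l.2 hle⟩, by simp⟩
  · rw [Ideal.span_le]
    rintro _ ⟨s, rfl⟩
    show (if h : s.1 < m then g ⟨s.1, h⟩ else 0) ∈ K
    split_ifs with h
    · exact hg.le (Ideal.subset_span ⟨_, rfl⟩)
    · exact zero_mem _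

theorem ciKer_iff_of_flat [IsRegularLocalRing P] [IsRegularLocalRing P'] [IsLocalHom (algebraMap P P')]
    {S S' : Type u} [CommRing S] [CommRing S'] [IsLocalRing S] [IsLocalRing S'] (π : P →+* S) (hπ : Function.Surjective π)
    (π' : P' →+* S') (hπ' : Function.Surjective π')
    (hker : RingHom.ker π' = (RingHom.ker π).map (algebraMap P P')) : CIKer π ↔ CIKer π' := by
  let K := RingHom.ker π
  let K' := K.map (algebraMap P P')
  let e : P ⧸ K ≃+* S := RingHom.quotientKerEquivOfSurjective hπ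
  let e' : P' ⧸ K' ≃+* S' := (Ideal.quotEquivOfEq hker.symm).trans (RingHom.quotientKerEquivOfSurjective hπ')
  haveI : IsLocalRing (P ⧸ K) := e.symm.isLocalRing
  haveI : IsLocalRing (P' ⧸ K') := e'.symm.isLocalRing
  haveI : IsLocalHom (algebraMap (P ⧸ K) (P' ⧸ K')) := ⟨fun a ha => by
    obtain ⟨a, rfl⟩ := Ideal.Quotient.mk_surjective a
    rw [Ideal.Quotient.algebraMap_quotient_map_quotient] at ha
    haveI : IsLocalHom (Ideal.Quotient.mk K') := IsLocalHom.of_surjective _ Ideal.Quotient.mk_surjective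
    exact ((isUnit_map_iff (algebraMap P P') a).1 ((isUnit_map_iff (Ideal.Quotient.mk K') _).1 ha)).map _⟩
  haveI := hasGoingDown_quotient (P' := P') K
  have hd1 := ringKrullDim_eq_add_of_hasGoingDown (A := P) (A' := P')
  have hd2 := ringKrullDim_eq_add_of_hasGoingDown (A := P ⧸ K) (A' := P' ⧸ K')
  let J := (maximalIdeal P).map (algebraMap P P')
  have hJ : (maximalIdeal (P ⧸ K)).map (algebraMap (P ⧸ K) (P' ⧸ K')) = J.map (Ideal.Quotient.mk K') := by
    haveI : IsLocalHom (Ideal.Quotient.mk K) := IsLocalHom.of_surjective _ Ideal.Quotient.mk_surjective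
    have h1 : maximalIdeal (P ⧸ K) = (maximalIdeal P).map (Ideal.Quotient.mk K) :=
      (Ideal.map_comap_of_surjective _ Ideal.Quotient.mk_surjective _).symm.trans
        (congrArg _ (maximalIdeal_comap (Ideal.Quotient.mk K)))
    rw [h1, Ideal.map_map, Ideal.map_map]
    rfl
  have hKJ : K' ≤ J := Ideal.map_mono (ker_le_maximalIdeal π)
  have hd3 : ringKrullDim ((P' ⧸ K') ⧸ (maximalIdeal (P ⧸ K)).map (algebraMap (P ⧸ K) (P' ⧸ K'))) =
      ringKrullDim (P' ⧸ J) := by
    rw [hJ]
    exact ringKrullDim_eq_of_ringEquiv (DoubleQuot.quotQuotEquivQuotOfLE hKJ)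
  rw [hd3, ringKrullDim_eq_of_ringEquiv e', ringKrullDim_eq_of_ringEquiv e] at hd2
  haveI : Nontrivial (P' ⧸ J) := Ideal.Quotient.nontrivial_iff.2 fun h => (maximalIdeal.isMaximal P').ne_top
    (top_le_iff.1 (h ▸ Ideal.map_le_iff_le_comap.2 (maximalIdeal_comap (algebraMap P P')).ge))
  obtain ⟨dJ, hdJ⟩ := WithBot.ne_bot_iff_exists.1 (fun hb : ringKrullDim (P' ⧸ J) = ⊥ =>
    WithBot.bot_lt_coe 0 |>.not_ge (hb ▸ ringKrullDim_nonneg_of_nontrivial (R := P' ⧸ J)))
  obtain ⟨dS, hdS⟩ := WithBot.ne_bot_iff_exists.1 (fun hb : ringKrullDim S = ⊥ =>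
    WithBot.bot_lt_coe 0 |>.not_ge (hb ▸ ringKrullDim_nonneg_of_nontrivial (R := S)))
  rw [ringKrullDim_eq_nat P, ringKrullDim_eq_nat P', ← hdJ] at hd1
  rw [← hdS, ← hdJ] at hd2
  have hdJtop : dJ ≠ ⊤ := by
    rintro rfl
    have h1 : ((maximalIdeal P').spanFinrank : ℕ∞) = ((maximalIdeal P).spanFinrank : ℕ∞) + ⊤ :=
      WithBot.coe_inj.1 (by exact_mod_cast hd1)
    simp at h1
  constructor
  · rintro ⟨r, k, hk, hd⟩
    refine ⟨r, algebraMap P P' ∘ k, ?_, ?_⟩
    · rw [hker, hk, Ideal.map_span, Set.range_comp]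
    · rw [ringKrullDim_eq_nat P, ← hdS] at hd
      rw [ringKrullDim_eq_nat P', hd1, hd2, hd, add_right_comm]
  · rintro ⟨r, k', hk', hd⟩
    obtain ⟨k, hk⟩ := exists_generators_of_map K k' (hker.symm.trans hk')
    refine ⟨r, k, hk, ?_⟩
    rw [ringKrullDim_eq_nat P', hd1, hd2, add_right_comm] at hd
    rw [ringKrullDim_eq_nat P, ← hdS]
    have h2 : ((maximalIdeal P).spanFinrank : ℕ∞) + dJ = dS + (r : ℕ∞) + dJ := WithBot.coe_inj.1 (by exact_mod_cast hd)
    exact_mod_cast congrArg ((↑) : ℕ∞ → WithBot ℕ∞) (WithTop.add_right_cancel hdJtop h2)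

end Groth.Agent.Synt29
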