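import Mathlib
import Groth.Agent.Synt29.CILocal

/-!
# Dimension near a point cut out by few equations
-/

universe u

open IsLocalRing MvPolynomial

set_option linter.style.haveILetI false
set_option backward.isDefEq.respectTransparency.types false

namespace Groth.Agent.Synt29

variable {k : Type u} [Field k]

/-- Equations generating an ideal of height equal to their number at a point cut out, near the point, a subset of
the expected dimension. -/
theorem exists_away_dim_le {n c : ℕ} (r : Fin c → MvPolynomial (Fin n) k) (q : Ideal (MvPolynomial (Fin n) k))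
    [q.IsPrime] (hrq : ∀ i, r i ∈ q)
    (hh : (c : ℕ∞) ≤ ((Ideal.span (Set.range r)).map (algebraMap _ (Localization.AtPrime q))).height) :
    c ≤ n ∧ ∃ G : MvPolynomial (Fin n) k, G ∉ q ∧
      ringKrullDim (Localization.Away (Ideal.Quotient.mk (Ideal.span (Set.range r)) G)) ≤ ((n - c : ℕ) : WithBot ℕ∞) := by
  classical
  let J := Ideal.span (Set.range r)
  let P := Localization.AtPrime q
  -- avoid the components not passing through `q`
  have hfin : J.minimalPrimes.Finite := Ideal.finite_minimalPrimes_of_isNoetherianRing _ J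
  have hbad : ∀ p : Ideal (MvPolynomial (Fin n) k), ∃ e : q.primeCompl, ¬ p ≤ q → (e : MvPolynomial (Fin n) k) ∈ p := by
    intro p
    by_cases hp : p ≤ q
    · exact ⟨1, fun h => absurd hp h⟩
    · obtain ⟨e, he1, he2⟩ := SetLike.not_le_iff_exists.1 hp
      exact ⟨⟨e, he2⟩, fun _ => he1⟩
  choose e he using hbad
  let G : MvPolynomial (Fin n) k := ((∏ p ∈ hfin.toFinset, e p : q.primeCompl) : MvPolynomial (Fin n) k)
  have hGq : G ∉ q := (∏ p ∈ hfin.toFinset, e p).2
  have hheight : (c : WithBot ℕ∞) ≤ ((J.map (algebraMap _ P)).height : WithBot ℕ∞) := by exact_mod_cast hh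
  have hcomp : ∀ p ∈ J.minimalPrimes, G ∉ p → ∀ hp : p.IsPrime, (c : ℕ∞) ≤ Order.height (⟨p, hp⟩ : PrimeSpectrum (MvPolynomial (Fin n) k)) := by
    intro p hp hGp hpr
    have hpq : p ≤ q := by
      by_contra hne
      refine hGp ?_
      show ((∏ p ∈ hfin.toFinset, e p : q.primeCompl) : MvPolynomial (Fin n) k) ∈ p
      rw [← Finset.prod_erase_mul hfin.toFinset e (hfin.mem_toFinset.2 hp), Submonoid.coe_mul]
      exact Ideal.mul_mem_left _ _ (he p hne)
    rw [← PrimeSpectrum.height_eq_orderHeight (⟨p, hpr⟩ : PrimeSpectrum (MvPolynomial (Fin n) k))]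
    haveI := hpr
    have hdisj : Disjoint (q.primeCompl : Set (MvPolynomial (Fin n) k)) p :=
      Set.disjoint_left.2 fun x hx hxp => hx (hpq hxp)
    rw [← IsLocalization.height_map_of_disjoint q.primeCompl p hdisj (S := P)]
    exact (WithBot.coe_le_coe.1 hheight).trans (Ideal.height_mono (Ideal.map_mono hp.1.2))
  have hexP : ∀ p : Ideal (MvPolynomial (Fin n) k), p.IsPrime → J ≤ p → G ∉ p → ∃ p₀ ∈ J.minimalPrimes, p₀ ≤ p ∧ G ∉ p₀ := by
    intro p hp hJp hGp
    haveI := hp
    obtain ⟨p₀, hp₀, hle⟩ := Ideal.exists_minimalPrimes_le hJp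
    exact ⟨p₀, hp₀, hle, fun h => hGp (hle h)⟩
  have hfq : ∀ x ∈ J, x ∈ q := Ideal.span_le.2 (by rintro _ ⟨i, rfl⟩; exact hrq i)
  have hcn : c ≤ n := by
    obtain ⟨p₀, hp₀, -, hG₀'⟩ := hexP q inferInstance hfq hGq
    have h1 := hcomp p₀ hp₀ hG₀' hp₀.1.1
    have h2 := VarDim.height_add_coheight_eq k n (MvPolynomial (Fin n) k) (by
      rw [MvPolynomial.ringKrullDim_of_isNoetherianRing, ringKrullDim_eq_zero_of_field, zero_add]; simp) ⟨p₀, hp₀.1.1⟩
    have := h1.trans (le_self_add.trans h2.le)
    exact_mod_cast this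
  -- the localisation of the lifted presentation
  let B' := Synt.RelGCIRing k n c r
  let g' : B' := Ideal.Quotient.mk _ G
  let T := Localization.Away g'
  have hTdim : ringKrullDim T ≤ ((n - c : ℕ) : WithBot ℕ∞) := by
    refine iSup_le fun l => ?_
    let ψ : MvPolynomial (Fin n) k →+* T := (algebraMap B' T).comp (Ideal.Quotient.mk _)
    let j : PrimeSpectrum T → PrimeSpectrum (MvPolynomial (Fin n) k) := PrimeSpectrum.comap ψ
    have hj : StrictMono j := by
      refine Monotone.strictMono_of_injective (fun _ _ h => Ideal.comap_mono h) ?_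
      intro v w hvw
      refine PrimeSpectrum.localization_comap_injective T (Submonoid.powers g') ?_
      refine PrimeSpectrum.comap_injective_of_surjective _ Ideal.Quotient.mk_surjective ?_
      exact hvw
    let l' := l.map j hj
    have hGl : G ∉ (j l.head).asIdeal := fun hm =>
      l.head.2.ne_top (Ideal.eq_top_of_isUnit_mem _ (show algebraMap B' T g' ∈ l.head.asIdeal from hm)
        (IsLocalization.Away.algebraMap_isUnit g'))
    have hJl : J ≤ (j l.head).asIdeal := fun x hx => by
      show algebraMap B' T (Ideal.Quotient.mk _ x) ∈ l.head.asIdeal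
      rw [Ideal.Quotient.eq_zero_iff_mem.2 hx, map_zero]
      exact zero_mem _
    obtain ⟨p₀, hp₀, hle, hG₀'⟩ := hexP _ (j l.head).2 hJl hGl
    let P₀ : PrimeSpectrum (MvPolynomial (Fin n) k) := ⟨p₀, hp₀.1.1⟩
    have h1 : (c : ℕ∞) ≤ Order.height P₀ := hcomp p₀ hp₀ hG₀' hp₀.1.1
    have h2 := VarDim.height_add_coheight_eq k n (MvPolynomial (Fin n) k) (by
      rw [MvPolynomial.ringKrullDim_of_isNoetherianRing, ringKrullDim_eq_zero_of_field, zero_add]; simp) P₀
    have h3 : (l.length : ℕ∞) ≤ Order.coheight P₀ :=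
      Order.length_le_coheight (p := l') (show P₀ ≤ l'.head from hle)
    have h4 : (c : ℕ∞) + (l.length : ℕ∞) ≤ n := (add_le_add h1 h3).trans h2.le
    have h5 : c + l.length ≤ n := by exact_mod_cast h4
    exact_mod_cast (show l.length ≤ n - c by omega)
  exact ⟨hcn, G, hGq, hTdim⟩

end Groth.Agent.Synt29
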