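import Mathlib
import Groth.Agent.Koszul15.Basic
import Groth.Prelude.Def_LCI2

/-!
# Exactness of Koszul complexes is local
-/

universe u

open CategoryTheory CategoryTheory.Limits CochainComplex CochainComplex.HomComplex

set_option linter.style.haveILetI false
set_option backward.isDefEq.respectTransparency.types false

namespace Groth.Agent.Synt29

open Koszul15

variable {A : Type u} [CommRing A]

local notation "K(" fs ", " M ")" => CohIII.koszulCx M fs

theorem kmap_isLocalized {M M' : ModuleCat.{u} A} (g : M ⟶ M') (S : Submonoid A)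
    (hs : ∀ y : M', ∃ s ∈ S, ∃ x, g x = s • y) (hi : ∀ x : M, g x = 0 → ∃ s ∈ S, s • x = 0) :
    ∀ (fs : List A) (n : ℤ), (∀ y, ∃ s ∈ S, ∃ x, (kmap g fs).f n x = s • y) ∧
      ∀ x, (kmap g fs).f n x = 0 → ∃ s ∈ S, s • x = 0 := by
  intro fs
  induction fs with
  | nil =>
    intro n
    by_cases hn : n = 0
    · subst hn
      let e := HomologicalComplex.singleObjXSelf (ComplexShape.up ℤ) 0 M
      let e' := HomologicalComplex.singleObjXSelf (ComplexShape.up ℤ) 0 M'
      have hf : ∀ x : K([], M).X 0, (kmap g []).f 0 x = e'.inv (g (e.hom x)) := fun x =>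
        ConcreteCategory.congr_hom (HomologicalComplex.single_map_f_self (ComplexShape.up ℤ) 0 g) x
      refine ⟨fun y => ?_, fun x hx => ?_⟩
      · obtain ⟨s, hs', z, hz⟩ := hs (e'.hom y)
        have h1 : e.hom (e.inv z) = z := e.toLinearEquiv.apply_symm_apply z
        refine ⟨s, hs', e.inv z, ?_⟩
        refine (hf _).trans ?_
        rw [h1, hz, map_smul]
        exact congrArg (s • ·) (e'.toLinearEquiv.symm_apply_apply y)
      · obtain ⟨s, hs', h⟩ := hi (e.hom x)
          (e'.toLinearEquiv.symm.injective (((hf x).symm.trans hx).trans (map_zero _).symm))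
        refine ⟨s, hs', e.toLinearEquiv.injective ?_⟩
        refine (e.toLinearEquiv.map_smul s x).trans ?_
        refine ((congrArg (s • ·) (show e.toLinearEquiv x = e.hom x from rfl)).trans ?_)
        exact h.trans (map_zero e.toLinearEquiv).symm
    · refine ⟨fun y => ⟨1, S.one_mem, 0, ?_⟩, fun x _ => ⟨1, S.one_mem, ?_⟩⟩
      · haveI := ModuleCat.subsingleton_of_isZero (Koszul15.isZero_X M' [] n (by simp; omega))
        exact Subsingleton.elim _ _
      · haveI := ModuleCat.subsingleton_of_isZero (Koszul15.isZero_X M [] n (by simp; omega))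
        exact Subsingleton.elim _ _
  | cons f fs ih =>
    intro n
    have e₁ : (kmap g (f :: fs)).f n ≫ (mappingCone.fst (f • 𝟙 K(fs, M'))).1.v n (n + 1) rfl =
        (mappingCone.fst (f • 𝟙 K(fs, M))).1.v n (n + 1) rfl ≫ (kmap g fs).f (n + 1) := by
      show (mappingCone.map _ _ _ _ _).f n ≫ _ = _
      simp [mappingCone.ext_from_iff _ (n + 1) n rfl, mappingCone.map]
    have e₂ : (kmap g (f :: fs)).f n ≫ (mappingCone.snd (f • 𝟙 K(fs, M'))).v n n (add_zero n) =
        (mappingCone.snd (f • 𝟙 K(fs, M))).v n n (add_zero n) ≫ (kmap g fs).f n := by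
      show (mappingCone.map _ _ _ _ _).f n ≫ _ = _
      simp [mappingCone.ext_from_iff _ (n + 1) n rfl, mappingCone.map]
    refine ⟨fun y => ?_, fun x hx => ?_⟩
    · obtain ⟨s, hsS, a, ha⟩ := (ih (n + 1)).1 ((mappingCone.fst (f • 𝟙 K(fs, M'))).1.v n (n + 1) rfl y)
      obtain ⟨t, htS, b, hb⟩ := (ih n).1 ((mappingCone.snd (f • 𝟙 K(fs, M'))).v n n (add_zero n) y)
      refine ⟨t * s, S.mul_mem htS hsS, t • (mappingCone.inl (f • 𝟙 K(fs, M))).v (n + 1) n (by omega) a +
        s • (mappingCone.inr (f • 𝟙 K(fs, M))).f n b, cone_ext f fs ?_ ?_⟩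
      · refine (ConcreteCategory.congr_hom e₁ _).trans ?_
        show (kmap g fs).f (n + 1) ((mappingCone.fst (f • 𝟙 K(fs, M))).1.v n (n + 1) rfl _) = _
        simp only [map_add, map_smul]
        have h1 : (mappingCone.fst (f • 𝟙 K(fs, M))).1.v n (n + 1) rfl
            ((mappingCone.inl (f • 𝟙 K(fs, M))).v (n + 1) n (by omega) a) = a :=
          ConcreteCategory.congr_hom (mappingCone.inl_v_fst_v _ (n + 1) n rfl) a
        have h2 : (mappingCone.fst (f • 𝟙 K(fs, M))).1.v n (n + 1) rfl
            ((mappingCone.inr (f • 𝟙 K(fs, M))).f n b) = 0 :=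
          ConcreteCategory.congr_hom (mappingCone.inr_f_fst_v _ n (n + 1) rfl) b
        rw [h1, h2, map_zero, smul_zero, add_zero, ha, smul_smul]
        exact (map_smul _ _ _).symm
      · refine (ConcreteCategory.congr_hom e₂ _).trans ?_
        show (kmap g fs).f n ((mappingCone.snd (f • 𝟙 K(fs, M))).v n n (add_zero n) _) = _
        simp only [map_add, map_smul]
        have h1 : (mappingCone.snd (f • 𝟙 K(fs, M))).v n n (add_zero n)
            ((mappingCone.inl (f • 𝟙 K(fs, M))).v (n + 1) n (by omega) a) = 0 :=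
          ConcreteCategory.congr_hom
            (mappingCone.inl_v_snd_v (f • 𝟙 K(fs, M)) (n + 1) n (show n + 1 + (-1) = n by omega)) a
        have h2 : (mappingCone.snd (f • 𝟙 K(fs, M))).v n n (add_zero n)
            ((mappingCone.inr (f • 𝟙 K(fs, M))).f n b) = b :=
          ConcreteCategory.congr_hom (mappingCone.inr_f_snd_v _ n) b
        rw [h1, h2, map_zero, smul_zero, zero_add, hb, smul_smul, mul_comm]
        exact (map_smul _ _ _).symm
    · have h1 : (kmap g fs).f (n + 1) ((mappingCone.fst (f • 𝟙 K(fs, M))).1.v n (n + 1) rfl x) = 0 :=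
        (ConcreteCategory.congr_hom e₁ x).symm.trans
          ((congrArg (fun w => (mappingCone.fst (f • 𝟙 K(fs, M'))).1.v n (n + 1) rfl w) hx).trans
            (map_zero ((mappingCone.fst (f • 𝟙 K(fs, M'))).1.v n (n + 1) rfl).hom))
      have h2 : (kmap g fs).f n ((mappingCone.snd (f • 𝟙 K(fs, M))).v n n (add_zero n) x) = 0 :=
        (ConcreteCategory.congr_hom e₂ x).symm.trans
          ((congrArg (fun w => (mappingCone.snd (f • 𝟙 K(fs, M'))).v n n (add_zero n) w) hx).trans
            (map_zero ((mappingCone.snd (f • 𝟙 K(fs, M'))).v n n (add_zero n)).hom))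
      obtain ⟨s, hsS, hs1⟩ := (ih (n + 1)).2 _ h1
      obtain ⟨t, htS, ht1⟩ := (ih n).2 _ h2
      refine ⟨s * t, S.mul_mem hsS htS, cone_ext f fs ?_ ?_⟩
      · refine (map_smul _ (s * t) x).trans (Eq.trans ?_ (map_zero _).symm)
        rw [mul_comm, mul_smul]
        exact (congrArg (t • ·) hs1).trans (smul_zero t)
      · refine (map_smul _ (s * t) x).trans (Eq.trans ?_ (map_zero _).symm)
        rw [mul_smul]
        exact (congrArg (s • ·) ht1).trans (smul_zero s)

theorem koszul_eq : ∀ fs : List A, Koszul.koszul A fs = K(fs, ModuleCat.of A A) := by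
  intro fs
  induction fs with
  | nil => rfl
  | cons f fs ih =>
    show CochainComplex.mappingCone (f • 𝟙 (Koszul.koszul A fs)) = CochainComplex.mappingCone _
    rw [ih]

theorem isKoszulRegularSeq_of_local (fs : List A)
    (h : ∀ q : Ideal A, q.IsPrime → (∀ f ∈ fs, f ∈ q) → ∀ [q.IsPrime],
      RingTheory.Sequence.IsWeaklyRegular (Localization.AtPrime q) (fs.map (algebraMap A (Localization.AtPrime q)))) :
    LCI.IsKoszulRegularSeq A fs := by
  intro i hi
  let K0 := K(fs, ModuleCat.of A A)
  rw [← HomologicalComplex.exactAt_iff_isZero_homology, koszul_eq, HomologicalComplex.exactAt_iff' _ (i - 1) i (i + 1) (by simp) (by simp),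
    ShortComplex.moduleCat_exact_iff]
  intro (z : K0.X i) (hz : K0.d i (i + 1) z = 0)
  let J : Ideal A := (LinearMap.range (K0.d (i - 1) i).hom).comap (LinearMap.toSpanSingleton A _ z)
  suffices hJ : J = ⊤ by
    obtain ⟨x, hx⟩ := (hJ ▸ Submodule.mem_top : (1 : A) ∈ J)
    exact ⟨x, hx.trans (one_smul A z)⟩
  by_contra hne
  obtain ⟨q, hq, hle⟩ := Ideal.exists_le_maximal J hne
  haveI := hq.isPrime
  by_cases hmem : ∀ f ∈ fs, f ∈ q
  · let Aq := Localization.AtPrime q
    let g : ModuleCat.of A A ⟶ ModuleCat.of A Aq := ModuleCat.ofHom (Algebra.linearMap A Aq)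
    have hloc := kmap_isLocalized g q.primeCompl
      (fun y => by
        obtain ⟨⟨x, s⟩, hxs⟩ := IsLocalization.surj q.primeCompl (show Aq from y)
        refine ⟨s.1, s.2, x, ?_⟩
        show algebraMap A Aq x = s.1 • (show Aq from y)
        rw [Algebra.smul_def, mul_comm, hxs])
      (fun x hx => by
        obtain ⟨s, hs⟩ := (IsLocalization.map_eq_zero_iff q.primeCompl Aq x).1 hx
        exact ⟨s.1, s.2, hs⟩) fs
    have hw : RingTheory.Sequence.IsWeaklyRegular Aq fs :=
      (RingTheory.Sequence.isWeaklyRegular_map_algebraMap_iff Aq Aq fs).1 (h q inferInstance hmem)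
    have hex := Koszul15.isZero_homology_of_isWeaklyRegular fs (ModuleCat.of A Aq) hw i hi
    rw [← HomologicalComplex.exactAt_iff_isZero_homology, HomologicalComplex.exactAt_iff' _ (i - 1) i (i + 1) (by simp) (by simp),
      ShortComplex.moduleCat_exact_iff] at hex
    obtain ⟨w, hw'⟩ := hex ((kmap g fs).f i z) (by
      show K(fs, ModuleCat.of A Aq).d i (i + 1) _ = 0
      refine (ConcreteCategory.congr_hom ((kmap g fs).comm i (i + 1)) z).trans ?_
      exact (congrArg ((kmap g fs).f (i + 1)) hz).trans (map_zero ((kmap g fs).f (i + 1)).hom))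
    obtain ⟨s, hsS, x, hx⟩ := (hloc (i - 1)).1 w
    have h0 : (kmap g fs).f i (K0.d (i - 1) i x - s • z) = 0 := by
      rw [map_sub, map_smul, sub_eq_zero]
      refine (ConcreteCategory.congr_hom ((kmap g fs).comm (i - 1) i) x).symm.trans ?_
      show K(fs, ModuleCat.of A Aq).d (i - 1) i ((kmap g fs).f (i - 1) x) = _
      rw [hx, map_smul]
      exact congrArg (s • ·) hw'
    obtain ⟨t, htS, ht⟩ := (hloc i).2 _ h0
    have : t * s ∈ J := by
      refine ⟨t • x, ?_⟩
      show K0.d (i - 1) i (t • x) = (t * s) • z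
      rw [map_smul, mul_smul]
      rw [smul_sub, sub_eq_zero] at ht
      exact ht
    exact ((Ideal.IsPrime.mem_or_mem ‹_› (hle this)).elim htS hsS)
  · push Not at hmem
    obtain ⟨f, hf, hfq⟩ := hmem
    obtain ⟨H⟩ := Koszul15.homotopy_of_mem (ModuleCat.of A A) fs f (Ideal.subset_span hf)
    refine hfq (hle ⟨H.hom i (i - 1) z, ?_⟩)
    show K0.d (i - 1) i (H.hom i (i - 1) z) = f • z
    have hc := ConcreteCategory.congr_hom (H.comm i) z
    rw [dNext_eq _ (show (ComplexShape.up ℤ).Rel i (i + 1) from rfl),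
      prevD_eq _ (show (ComplexShape.up ℤ).Rel (i - 1) i by simp)] at hc
    refine Eq.trans ?_ (Eq.trans hc.symm ?_)
    · show _ = (H.hom (i + 1) i).hom ((K0.d i (i + 1)).hom z) + _ + _
      rw [show (K0.d i (i + 1)).hom z = 0 from hz, map_zero, zero_add]
      simp
      rfl
    · rfl

end Groth.Agent.Synt29
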