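import Mathlib
import Groth.Agent.Synt29.RelReg
import Groth.Agent.Synt29.AwayGCI

/-!
# Regularity of the equations of a localised relative global complete intersection
-/

universe u

open RingTheory.Sequence MvPolynomial

set_option linter.style.haveILetI false

namespace Groth.Agent.Synt29

variable {n c : ℕ}

/-- Regularity in the local ring from the annihilator criterion. -/
theorem weaklyRegular_of_take {B : Type u} [CommRing B] (F : Fin c → B) (q : Ideal B) [q.IsPrime]
    (H : ∀ (i : Fin c) (x : B), F i * x ∈ Ideal.ofList ((List.ofFn F).take i.1) →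
      ∃ t ∉ q, t * x ∈ Ideal.ofList ((List.ofFn F).take i.1)) :
    IsWeaklyRegular (Localization.AtPrime q) ((List.ofFn F).map (algebraMap B (Localization.AtPrime q))) := by
  let Bq := Localization.AtPrime q
  let fq := (List.ofFn F).map (algebraMap B Bq)
  rw [isWeaklyRegular_iff_Fin]
  intro k
  have hk : k.1 < c := by have := k.2; simpa [fq] using this
  have hI : (Ideal.ofList (fq.take k.1) • ⊤ : Submodule Bq Bq) =
      (Ideal.ofList ((List.ofFn F).take k.1)).map (algebraMap B Bq) := by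
    rw [smul_eq_mul, Ideal.mul_top, Ideal.map_ofList, ← List.map_take]
  refine IsSMulRegular.of_right_eq_zero_of_smul fun z hz => ?_
  obtain ⟨z, rfl⟩ := Submodule.Quotient.mk_surjective _ z
  rw [← Submodule.Quotient.mk_smul, Submodule.Quotient.mk_eq_zero, hI] at hz
  rw [Submodule.Quotient.mk_eq_zero, hI]
  obtain ⟨⟨x, s⟩, hxs⟩ := IsLocalization.surj q.primeCompl z
  have hget : fq[k] = algebraMap B Bq (F ⟨k.1, hk⟩) := by simp [fq]
  have h1 : algebraMap B Bq (F ⟨k.1, hk⟩ * x) ∈
      (Ideal.ofList ((List.ofFn F).take k.1)).map (algebraMap B Bq) := by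
    rw [map_mul, ← hxs, ← mul_assoc, ← hget]
    exact Ideal.mul_mem_right _ _ hz
  rw [IsLocalization.mem_map_algebraMap_iff q.primeCompl] at h1
  obtain ⟨⟨⟨a, ha⟩, s'⟩, hs'⟩ := h1
  rw [← map_mul, IsLocalization.eq_iff_exists q.primeCompl] at hs'
  obtain ⟨d, hd⟩ := hs'
  have h2 : F ⟨k.1, hk⟩ * ((d.1 * s'.1) * x) ∈ Ideal.ofList ((List.ofFn F).take k.1) := by
    rw [show F ⟨k.1, hk⟩ * ((d.1 * s'.1) * x) = d.1 * (F ⟨k.1, hk⟩ * x * s'.1) by ring, hd]
    exact Ideal.mul_mem_left _ _ ha
  obtain ⟨t, ht, htx⟩ := H ⟨k.1, hk⟩ _ h2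
  have hu : IsUnit (algebraMap B Bq (t * (d.1 * s'.1))) := by
    refine IsLocalization.map_units Bq (⟨t * (d.1 * s'.1), ?_⟩ : q.primeCompl)
    exact q.primeCompl.mul_mem ht (q.primeCompl.mul_mem d.2 s'.2)
  rw [← Ideal.unit_mul_mem_iff_mem _ (IsLocalization.map_units Bq s), mul_comm, hxs,
    ← Ideal.unit_mul_mem_iff_mem _ hu, ← map_mul, mul_assoc]
  exact Ideal.mem_map_of_mem _ htx

/-- The equations `F` are regular near the points where `h` does not vanish when `(F, hY - 1)` is a relative global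
complete intersection. -/
theorem take_regular_snoc {R : Type u} [CommRing R] (F : Fin c → MvPolynomial (Fin n) R) (h : MvPolynomial (Fin n) R)
    (hs : Synt.IsRelGCI R (n + 1) (c + 1) (snocPoly F h)) (q : Ideal (MvPolynomial (Fin n) R)) [q.IsPrime]
    (hF : ∀ i, F i ∈ q) (hh : h ∉ q) (i : Fin c) (x : MvPolynomial (Fin n) R)
    (hx : F i * x ∈ Ideal.ofList ((List.ofFn F).take i.1)) :
    ∃ t ∉ q, t * x ∈ Ideal.ofList ((List.ofFn F).take i.1) := by
  classical
  let B := MvPolynomial (Fin n) R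
  let ρ : B →ₐ[R] MvPolynomial (Fin (n + 1)) R := rename Fin.castSucc
  -- the prime over `q` in `B[Y]` on the hyperbola `hY = 1`
  let K := Localization.AtPrime q
  obtain ⟨yh, hyh⟩ : IsUnit (algebraMap B K h) := IsLocalization.map_units K (⟨h, hh⟩ : q.primeCompl)
  let ev : MvPolynomial (Fin (n + 1)) R →ₐ[R] K := aeval (Fin.snoc (fun j => algebraMap B K (X j)) (↑yh⁻¹ : K))
  have hev : ∀ b, ev (ρ b) = algebraMap B K b := fun b => by
    have : ev.comp ρ = IsScalarTower.toAlgHom R B K := MvPolynomial.algHom_ext fun j => by simp [ev, ρ]; rfl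
    exact AlgHom.congr_fun this b
  let q1 : Ideal (MvPolynomial (Fin (n + 1)) R) := (IsLocalRing.maximalIdeal K).comap ev
  haveI : q1.IsPrime := Ideal.comap_isPrime _ _
  have hq1 : ∀ b, ρ b ∈ q1 ↔ b ∈ q := fun b => by
    show ev (ρ b) ∈ IsLocalRing.maximalIdeal K ↔ _
    rw [hev, IsLocalization.AtPrime.to_map_mem_maximal_iff K q]
  have hmem : ∀ l, snocPoly F h l ∈ q1 := by
    intro l
    refine Fin.lastCases ?_ (fun j => ?_) l
    · simp only [snocPoly, Fin.snoc_last]
      show ev (ρ h * X (Fin.last n) - 1) ∈ IsLocalRing.maximalIdeal K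
      rw [map_sub, map_mul, hev, map_one, show ev (X (Fin.last n)) = ↑yh⁻¹ by simp [ev], ← hyh, Units.mul_inv, sub_self]
      exact zero_mem _
    · simp only [snocPoly, Fin.snoc_castSucc]
      exact (hq1 _).2 (hF j)
  obtain ⟨u, hu0, hu⟩ := (mem_ofList_take_iff F i.1 _).1 hx
  have hx1 : snocPoly F h (Fin.castSucc i) * ρ x ∈ Ideal.ofList ((List.ofFn (snocPoly F h)).take i.1) := by
    refine (mem_ofList_take_iff (snocPoly F h) i.1 _).2 ⟨Fin.snoc (fun j => ρ (u j)) 0, fun l hl => ?_, ?_⟩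
    · revert hl
      refine Fin.lastCases ?_ (fun j => ?_) l
      · intro _; simp
      · intro hl; rw [Fin.snoc_castSucc, hu0 j hl, map_zero]
    · simp only [snocPoly, Fin.sum_univ_castSucc, Fin.snoc_castSucc, Fin.snoc_last, zero_mul, add_zero]
      show ρ (F i) * ρ x = _
      rw [← map_mul, hu, map_sum]
      exact Finset.sum_congr rfl fun j _ => map_mul ρ _ _
  obtain ⟨t, ht, htx⟩ := take_regular hs q1 hmem (Fin.castSucc i) (ρ x) hx1
  obtain ⟨v, hv0, hv⟩ := (mem_ofList_take_iff (snocPoly F h) i.1 _).1 htx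
  -- coefficients in `Y`
  let e : MvPolynomial (Fin (n + 1)) R →ₐ[R] Polynomial B :=
    aeval (Fin.snoc (fun j => Polynomial.C (X j)) Polynomial.X)
  have he : ∀ b, e (ρ b) = Polynomial.C b := fun b => by
    have : e.comp ρ = (Polynomial.CAlgHom : B →ₐ[B] Polynomial B).restrictScalars R :=
      MvPolynomial.algHom_ext fun j => by simp [e, ρ]
    exact AlgHom.congr_fun this b
  let ψ : Polynomial B →+* MvPolynomial (Fin (n + 1)) R := Polynomial.eval₂RingHom ρ.toRingHom (X (Fin.last n))
  have hψ : ∀ z, ψ (e z) = z := fun z => by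
    have : ψ.comp e.toRingHom = RingHom.id _ := MvPolynomial.ringHom_ext (fun a => by
        show ψ (e (C a)) = C a
        rw [show (C a : MvPolynomial (Fin (n + 1)) R) = ρ (C a) from (rename_C _ a).symm, he]
        simp [ψ]) (fun j => by
        show ψ (e (X j)) = X j
        refine Fin.lastCases ?_ (fun j => ?_) j
        · simp [ψ, e]
        · simp [ψ, e, ρ]; exact rename_X _ _)
    exact RingHom.congr_fun this z
  obtain ⟨j, hj⟩ : ∃ j, (e t).coeff j ∉ q := by
    by_contra! hall
    refine ht ?_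
    rw [← hψ t]
    show Polynomial.eval₂ ρ.toRingHom (X (Fin.last n)) (e t) ∈ q1
    rw [Polynomial.eval₂_eq_sum, Polynomial.sum]
    exact Ideal.sum_mem _ fun m _ => Ideal.mul_mem_right _ _ ((hq1 _).2 (hall m))
  refine ⟨(e t).coeff j, hj, (mem_ofList_take_iff F i.1 _).2
    ⟨fun l => (e (v (Fin.castSucc l))).coeff j, fun l hl => ?_, ?_⟩⟩
  · show (e (v (Fin.castSucc l))).coeff j = 0
    rw [hv0 (Fin.castSucc l) hl, map_zero, Polynomial.coeff_zero]
  · have h1 := congrArg (fun z => (e z).coeff j) hv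
    simp only [map_mul, map_sum, he, Polynomial.coeff_mul_C, Polynomial.finsetSum_coeff] at h1
    rw [h1, Fin.sum_univ_castSucc, hv0 (Fin.last c) i.2.le, map_zero, zero_mul, Polynomial.coeff_zero, add_zero]
    refine Finset.sum_congr rfl fun l _ => ?_
    simp only [snocPoly, Fin.snoc_castSucc]
    show (e (v (Fin.castSucc l)) * e (ρ (F l))).coeff j = _
    rw [he, Polynomial.coeff_mul_C]

theorem weaklyRegular_snoc {R : Type u} [CommRing R] (F : Fin c → MvPolynomial (Fin n) R) (h : MvPolynomial (Fin n) R)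
    (hs : Synt.IsRelGCI R (n + 1) (c + 1) (snocPoly F h)) (q : Ideal (MvPolynomial (Fin n) R)) [q.IsPrime]
    (hF : ∀ i, F i ∈ q) (hh : h ∉ q) :
    IsWeaklyRegular (Localization.AtPrime q)
      ((List.ofFn F).map (algebraMap (MvPolynomial (Fin n) R) (Localization.AtPrime q))) :=
  weaklyRegular_of_take F q fun i x hx => take_regular_snoc F h hs q hF hh i x hx

end Groth.Agent.Synt29
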