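import Mathlib
import Groth.Agent.Synt29.CIPoints
import Groth.Agent.Synt29.FieldDim
import Groth.Agent.Synt29.KoszulWeak
import Groth.Agent.Synt29.KoszulLocal
import Groth.Agent.Synt29.CIBaseChangeLocal

/-!
# The kernel of a presentation of a syntomic algebra is Koszul regular
-/

universe u

open TensorProduct MvPolynomial IsLocalRing

set_option linter.style.haveILetI false
set_option backward.isDefEq.respectTransparency.types false

namespace Groth.Agent.Synt29

variable {R S : Type u} [CommRing R] [CommRing S] [Algebra R S] {n : ℕ}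

/-- The fibre of a presentation. -/
theorem exists_fibre_presentation (φ : MvPolynomial (Fin n) R →ₐ[R] S) (hφ : Function.Surjective φ)
    (p : Ideal R) [p.IsPrime] :
    ∃ g : MvPolynomial (Fin n) p.ResidueField →ₐ[p.ResidueField] p.Fiber S, Function.Surjective g ∧
      (∀ x, g (MvPolynomial.map (algebraMap R p.ResidueField) x) = (1 : p.ResidueField) ⊗ₜ[R] φ x) ∧
      RingHom.ker g.toRingHom = (RingHom.ker φ.toRingHom).map (MvPolynomial.map (algebraMap R p.ResidueField)) := by
  let L := p.ResidueField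
  let e1 := MvPolynomial.algebraTensorAlgEquiv (σ := Fin n) R L
  let m : L ⊗[R] MvPolynomial (Fin n) R →ₐ[L] L ⊗[R] S := Algebra.TensorProduct.map (AlgHom.id L L) φ
  have hm : Function.Surjective m := fun z => by
    induction z using TensorProduct.induction_on with
    | zero => exact ⟨0, map_zero m⟩
    | tmul a b =>
      obtain ⟨x, rfl⟩ := hφ b
      exact ⟨a ⊗ₜ[R] x, by show Algebra.TensorProduct.map (AlgHom.id L L) φ (a ⊗ₜ[R] x) = _; rw [Algebra.TensorProduct.map_tmul]; rfl⟩
    | add a b ha hb =>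
      obtain ⟨x, rfl⟩ := ha
      obtain ⟨y, rfl⟩ := hb
      exact ⟨x + y, map_add m x y⟩
  let g : MvPolynomial (Fin n) L →ₐ[L] L ⊗[R] S := m.comp e1.symm.toAlgHom
  have hgx : ∀ x, g (MvPolynomial.map (algebraMap R L) x) = (1 : L) ⊗ₜ[R] φ x := fun x => by
    show m (e1.symm (MvPolynomial.map (algebraMap R L) x)) = _
    rw [MvPolynomial.algebraTensorAlgEquiv_symm_map]
    rfl
  refine ⟨g, hm.comp e1.symm.surjective, hgx, le_antisymm ?_ ?_⟩
  · intro y hy
    have h1 : e1.symm y ∈ RingHom.ker m.toRingHom := hy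
    have h2 : RingHom.ker m.toRingHom =
        (RingHom.ker φ.toRingHom).map (Algebra.TensorProduct.includeRight : MvPolynomial (Fin n) R →ₐ[R] L ⊗[R] _).toRingHom :=
      Algebra.TensorProduct.lTensor_ker (A := L) φ hφ
    rw [h2] at h1
    have h3 := Ideal.mem_map_of_mem e1.toRingEquiv.toRingHom h1
    rw [Ideal.map_map] at h3
    have h4 : e1.toRingEquiv.toRingHom.comp
        (Algebra.TensorProduct.includeRight : MvPolynomial (Fin n) R →ₐ[R] L ⊗[R] _).toRingHom =
        MvPolynomial.map (algebraMap R L) := RingHom.ext fun x => by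
      show e1 ((1 : L) ⊗ₜ[R] x) = _
      rw [MvPolynomial.algebraTensorAlgEquiv_tmul, one_smul]
    rw [h4] at h3
    rwa [show e1.toRingEquiv.toRingHom (e1.symm y) = y from e1.apply_symm_apply y] at h3
  · rw [Ideal.map_le_iff_le_comap]
    intro x hx
    show g (MvPolynomial.map (algebraMap R L) x) = 0
    rw [hgx, show φ x = 0 from hx, TensorProduct.tmul_zero]

theorem flat_quotient_map {P P' : Type u} [CommRing P] [CommRing P'] [Algebra P P'] [Module.Flat P P'] (K : Ideal P) :
    Module.Flat (P ⧸ K) (P' ⧸ K.map (algebraMap P P')) := by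
  let e₁ : (P ⧸ K) ⊗[P] P' ≃ₗ[P] P' ⧸ K.map (algebraMap P P') :=
    (TensorProduct.quotTensorEquivQuotSMul P' K).trans
      (Submodule.quotEquivOfEq _ _ (Ideal.smul_top_eq_map K)) |>.trans
      (LinearEquiv.refl P _)
  exact Module.Flat.of_linearEquiv (e₁.extendScalarsOfSurjective Ideal.Quotient.mk_surjective).symm

theorem flat_quotient_localization (R : Type u) [CommRing R] {A A' : Type u} [CommRing A] [CommRing A'] [Algebra R A]
    [Algebra A A'] [Algebra R A'] [IsScalarTower R A A'] [Module.Flat A A'] (K : Ideal A) [Module.Flat R (A ⧸ K)] :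
    Module.Flat R (A' ⧸ K.map (algebraMap A A')) := by
  haveI := flat_quotient_map (P' := A') K
  haveI : IsScalarTower R (A ⧸ K) (A' ⧸ K.map (algebraMap A A')) :=
    IsScalarTower.of_algebraMap_eq (R := R) (S := A ⧸ K) (A := A' ⧸ K.map (algebraMap A A')) fun a =>
      congrArg (Ideal.Quotient.mk (K.map (algebraMap A A'))) (IsScalarTower.algebraMap_apply R A A' a)
  exact Module.Flat.trans R (A ⧸ K) _

theorem ringKrullDim_away_le {A A' : Type u} [CommRing A] [CommRing A'] (ε : A ≃+* A') (x : A) (z : A')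
    (hz : z ∣ ε x) (T : Type u) [CommRing T] [Algebra A T] [IsLocalization.Away x T] :
    ringKrullDim T ≤ ringKrullDim (Localization.Away z) := by
  let U := Localization.Away (ε x)
  have hM : Submonoid.map ε.toMonoidHom (Submonoid.powers x) = Submonoid.powers (ε x) := Submonoid.map_powers _ _
  rw [ringKrullDim_eq_of_ringEquiv (IsLocalization.ringEquivOfRingEquiv T U ε hM)]
  have hu : IsUnit (algebraMap A' U z) :=
    isUnit_of_dvd_unit (map_dvd (algebraMap A' U) hz) (IsLocalization.Away.algebraMap_isUnit (ε x))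
  letI : Algebra (Localization.Away z) U := (IsLocalization.Away.lift z hu).toAlgebra
  haveI : IsScalarTower A' (Localization.Away z) U :=
    IsScalarTower.of_algebraMap_eq fun w => (IsLocalization.Away.lift_eq z hu w).symm
  haveI : IsLocalization (Submonoid.powers (ε x) ⊔ Submonoid.powers z) U := by
    refine IsLocalization.of_le _ _ le_sup_left ?_
    intro w hw
    obtain ⟨a, ⟨i, rfl⟩, b, ⟨j, rfl⟩, rfl⟩ := Submonoid.mem_sup.1 hw
    rw [map_mul, map_pow, map_pow]
    exact ((IsLocalization.Away.algebraMap_isUnit (ε x)).pow i).mul (hu.pow j)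
  haveI := IsLocalization.isLocalization_of_submonoid_le (Localization.Away z) U (Submonoid.powers z)
    (Submonoid.powers (ε x) ⊔ Submonoid.powers z) le_sup_right
  refine Order.krullDim_le_of_strictMono (PrimeSpectrum.comap (algebraMap (Localization.Away z) U))
    (Monotone.strictMono_of_injective (fun _ _ h => Ideal.comap_mono h) ?_)
  exact PrimeSpectrum.localization_comap_injective U
    ((Submonoid.powers (ε x) ⊔ Submonoid.powers z).map (algebraMap A' (Localization.Away z)))

set_option maxHeartbeats 2000000 in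
/-- Equations of a flat algebra near a point at which the fibre is a complete intersection. -/
theorem exists_local_equations [Module.Flat R S] (φ : MvPolynomial (Fin n) R →ₐ[R] S) (hφ : Function.Surjective φ)
    (hfg : (RingHom.ker φ.toRingHom).FG) (q : PrimeSpectrum S) (p : PrimeSpectrum R)
    (hp : PrimeSpectrum.comap (algebraMap R S) q = p) (Q : PrimeSpectrum (p.asIdeal.Fiber S))
    (hQ : Q.asIdeal.comap (Algebra.TensorProduct.includeRight : S →ₐ[R] p.asIdeal.Fiber S) = q.asIdeal)
    (hCI : Synt.IsCIOver p.asIdeal.ResidueField (Localization.AtPrime Q.asIdeal)) :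
    ∃ (c : ℕ) (G : Fin c → MvPolynomial (Fin n) R) (h : MvPolynomial (Fin n) R),
      h ∉ q.asIdeal.comap φ ∧ (∀ i, G i ∈ RingHom.ker φ.toRingHom) ∧
      (∀ x ∈ RingHom.ker φ.toRingHom, ∃ m : ℕ, h ^ m * x ∈ Ideal.span (Set.range G)) ∧
      Synt.IsRelGCI R (n + 1) (c + 1) (snocPoly G h) := by
  classical
  let k := p.asIdeal.ResidueField
  let B := MvPolynomial (Fin n) R
  let I := RingHom.ker φ.toRingHom
  let q' : Ideal B := q.asIdeal.comap φ
  obtain ⟨g, hg, hgx, hgk⟩ := exists_fibre_presentation φ hφ p.asIdeal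
  let mk : B →+* MvPolynomial (Fin n) k := MvPolynomial.map (algebraMap R k)
  let qk : Ideal (MvPolynomial (Fin n) k) := Q.asIdeal.comap g
  haveI : qk.IsPrime := Ideal.comap_isPrime _ _
  have hqk : ∀ b, mk b ∈ qk ↔ b ∈ q' := fun b => by
    show g (MvPolynomial.map (algebraMap R k) b) ∈ Q.asIdeal ↔ φ b ∈ q.asIdeal
    rw [hgx, ← hQ]
    rfl
  have hCk : ∀ (s : R), s ∉ p.asIdeal → IsUnit (C (algebraMap R k s) : MvPolynomial (Fin n) k) := fun s hs =>
    (isUnit_iff_ne_zero.2 fun h0 => hs (Ideal.algebraMap_residueField_eq_zero.1 h0)).map C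
  obtain ⟨π, hπ, -, hπk⟩ := exists_atPrime_presentation g hg Q.asIdeal qk rfl
  let P := Localization.AtPrime qk
  haveI := isRegularLocalRing_localization_mvPolynomial qk
  haveI := essFiniteType_localization_mvPolynomial qk
  obtain ⟨c, y, hy, hdim⟩ := (isCIOver_iff_ciKer π hπ).1 hCI
  let Ik := RingHom.ker g.toRingHom
  have hnum : ∀ i, ∃ G ∈ I, ∃ u : P, IsUnit u ∧ algebraMap _ P (mk G) = u * y i := fun i => by
    have h1 : y i ∈ Ik.map (algebraMap _ P) := hπk ▸ hy ▸ Ideal.subset_span (Set.mem_range_self i)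
    obtain ⟨⟨r, s⟩, hrs⟩ := (IsLocalization.mem_map_algebraMap_iff qk.primeCompl P).1 h1
    have hr : r.1 ∈ I.map (MvPolynomial.map (algebraMap R k)) := hgk ▸ r.2
    obtain ⟨t, ht, G, hG, hGe⟩ := exists_scaled_of_mem_map p.asIdeal I r.1 hr
    refine ⟨G, hG, algebraMap _ P (C (algebraMap R k t)) * algebraMap _ P (s : MvPolynomial (Fin n) k),
      ((hCk t ht).map _).mul (IsLocalization.map_units P s), ?_⟩
    show algebraMap _ P (MvPolynomial.map (algebraMap R k) G) = _
    rw [hGe, map_mul, mul_assoc, mul_comm (algebraMap _ P (s : MvPolynomial (Fin n) k)) (y i), hrs]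
  choose G hGI u hu hGu using hnum
  let Jk := Ideal.span (Set.range (mapPoly R G k))
  have hJP : Jk.map (algebraMap _ P) = RingHom.ker π.toRingHom := by
    rw [hy, Ideal.map_span, ← Set.range_comp]
    refine le_antisymm (Ideal.span_le.2 ?_) (Ideal.span_le.2 ?_)
    · rintro _ ⟨i, rfl⟩
      show algebraMap _ P (mk (G i)) ∈ _
      rw [hGu i]
      exact Ideal.mul_mem_left _ _ (Ideal.subset_span (Set.mem_range_self i))
    · rintro _ ⟨i, rfl⟩
      refine (Ideal.unit_mul_mem_iff_mem _ (hu i)).1 ?_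
      rw [← hGu i]
      exact Ideal.subset_span ⟨i, rfl⟩
  have hJq : ∀ i, mapPoly R G k i ∈ qk := fun i => (hqk _).2 (by
    show φ (G i) ∈ q.asIdeal
    rw [show φ (G i) = 0 from hGI i]
    exact zero_mem _)
  -- the expected dimension near the point
  have hheight : (c : ℕ∞) ≤ (Jk.map (algebraMap _ P)).height := by
    haveI := (FlatLoc6.isCM_of_isRegularRing (MvPolynomial (Fin n) k)).isCohenMacaulayLocalRing_localization qk
    have h1 := LC.height_add_ringKrullDim_quotient (Jk.map (algebraMap _ P)) (by rw [hJP]; exact RingHom.ker_ne_top _)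
    rw [hdim, ringKrullDim_eq_of_ringEquiv ((Ideal.quotEquivOfEq hJP).trans (RingHom.quotientKerEquivOfSurjective hπ))] at h1
    obtain ⟨d, hd⟩ := WithBot.ne_bot_iff_exists.1 (fun hb : ringKrullDim (Localization.AtPrime Q.asIdeal) = ⊥ =>
      WithBot.bot_lt_coe 0 |>.not_ge (hb ▸ ringKrullDim_nonneg_of_nontrivial (R := Localization.AtPrime Q.asIdeal)))
    have hdR := ringKrullDim_eq_nat P
    rw [hdim, ← hd] at hdR
    rw [← hd] at h1
    have h3 : d + (Jk.map (algebraMap _ P)).height = d + (c : ℕ∞) := WithBot.coe_inj.1 (by exact_mod_cast h1)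
    have hdtop : d ≠ ⊤ := by
      rintro rfl
      have h2 : ⊤ + (c : ℕ∞) = ((maximalIdeal P).spanFinrank : ℕ∞) := WithBot.coe_inj.1 (by exact_mod_cast hdR)
      simp at h2
    exact (WithTop.add_left_cancel hdtop h3).ge
  obtain ⟨hcn, G1, hG1, hdim1⟩ := exists_away_dim_le (mapPoly R G k) qk hJq hheight
  -- an element of the fibre killing `I / J`
  obtain ⟨I₀, hI₀⟩ := (IsNoetherian.noetherian Ik : Ik.FG)
  have hkill : ∀ x : MvPolynomial (Fin n) k, ∃ s : qk.primeCompl, x ∈ Ik → (s : MvPolynomial (Fin n) k) * x ∈ Jk := by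
    intro x
    by_cases hx : x ∈ Ik
    · have h1 : algebraMap _ P x ∈ Jk.map (algebraMap _ P) := by rw [hJP, hπk]; exact Ideal.mem_map_of_mem _ hx
      obtain ⟨⟨⟨b, hb⟩, s⟩, hbs⟩ := (IsLocalization.mem_map_algebraMap_iff qk.primeCompl P).1 h1
      rw [← map_mul, IsLocalization.eq_iff_exists qk.primeCompl] at hbs
      obtain ⟨d, hd⟩ := hbs
      refine ⟨d * s, fun _ => ?_⟩
      rw [Submonoid.coe_mul, mul_assoc, mul_comm (s : MvPolynomial (Fin n) k) x, hd]
      exact Jk.mul_mem_left _ hb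
    · exact ⟨1, fun h => absurd h hx⟩
  choose s hs using hkill
  let G0 : MvPolynomial (Fin n) k := ((∏ x ∈ I₀, s x : qk.primeCompl) : MvPolynomial (Fin n) k)
  have hG0 : ∀ x ∈ Ik, G0 * x ∈ Jk := by
    intro x hx
    rw [← hI₀] at hx
    induction hx using Submodule.span_induction with
    | mem z hz =>
      show ((∏ x ∈ I₀, s x : qk.primeCompl) : MvPolynomial (Fin n) k) * z ∈ Jk
      rw [← Finset.prod_erase_mul I₀ s hz, Submonoid.coe_mul, mul_assoc]
      exact Jk.mul_mem_left _ (hs z (hI₀ ▸ Ideal.subset_span hz))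
    | zero => simp
    | add v w _ _ hv hw => rw [mul_add]; exact Jk.add_mem hv hw
    | smul b v _ hv => rw [smul_eq_mul, mul_left_comm]; exact Jk.mul_mem_left _ hv
  obtain ⟨t, ht, H, hH⟩ := exists_scaled_lift p.asIdeal (G0 * G1)
  have hHq : H ∉ q' := fun hmem => by
    have h1 := (hqk H).2 hmem
    change MvPolynomial.map (algebraMap R k) H ∈ qk at h1
    rw [hH, Ideal.unit_mul_mem_iff_mem _ (hCk t ht)] at h1
    exact (Ideal.IsPrime.mem_or_mem inferInstance h1).elim (∏ x ∈ I₀, s x).2 hG1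
  -- the relative algebra
  let J : Ideal B := Ideal.span (Set.range G)
  have hJI : J ≤ I := Ideal.span_le.2 (by rintro _ ⟨i, rfl⟩; exact hGI i)
  let S2 := Synt.RelGCIRing R n c G
  haveI : Algebra.FinitePresentation R S2 := Algebra.FinitePresentation.quotient (Submodule.fg_span (Set.finite_range G))
  let π2 : S2 →ₐ[R] S := Ideal.Quotient.liftₐ _ φ (fun a ha => hJI ha)
  have hπ2 : Function.Surjective π2 := fun b => by obtain ⟨x, rfl⟩ := hφ b; exact ⟨Ideal.Quotient.mk _ x, rfl⟩
  let q2 : PrimeSpectrum S2 := PrimeSpectrum.comap π2.toRingHom q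
  have hq2p : PrimeSpectrum.comap (algebraMap R S2) q2 = p := by
    rw [← hp]
    refine PrimeSpectrum.ext ?_
    show (q.asIdeal.comap π2.toRingHom).comap (algebraMap R S2) = q.asIdeal.comap (algebraMap R S)
    rw [Ideal.comap_comap]
    congr 1
    exact π2.comp_algebraMap
  let H2 : S2 := Ideal.Quotient.mk _ H
  let T := Localization.Away H2
  haveI : Algebra.FinitePresentation S2 T := IsLocalization.Away.finitePresentation H2
  haveI : Algebra.FinitePresentation R T := Algebra.FinitePresentation.trans R S2 T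
  obtain ⟨qT, hqT⟩ : q2 ∈ Set.range (PrimeSpectrum.comap (algebraMap S2 T)) := by
    rw [PrimeSpectrum.localization_away_comap_range T H2]
    exact hHq
  -- the fibre of `T`
  let ε := baseChangeEquiv R G k
  let H2k : Synt.RelGCIRing k n c (mapPoly R G k) := Ideal.Quotient.mk _ (mk H)
  have hεH : ε ((1 : k) ⊗ₜ[R] H2) = H2k := by
    show ε ((1 : k) ⊗ₜ[R] Ideal.Quotient.mk _ H) = _
    rw [← baseChangeEquiv_symm_mk_map G k H, AlgEquiv.apply_symm_apply]
  let ι : p.asIdeal.Fiber S2 →ₐ[k] p.asIdeal.Fiber T := Algebra.TensorProduct.map (AlgHom.id _ _) (IsScalarTower.toAlgHom R S2 T)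
  letI : Algebra (p.asIdeal.Fiber S2) (p.asIdeal.Fiber T) := ι.toRingHom.toAlgebra
  haveI hloc := IsLocalization.tensorProduct_tensorProduct_right R k (Submonoid.powers H2) T
    (RingHom.ext fun s => by
      show ι ((1 : k) ⊗ₜ[R] s) = _
      exact Algebra.TensorProduct.map_tmul _ _ _ _)
  haveI : IsLocalization.Away ((Algebra.TensorProduct.includeRight : S2 →ₐ[R] p.asIdeal.Fiber S2) H2) (p.asIdeal.Fiber T) := by
    show IsLocalization (Submonoid.powers _) _
    rw [← Submonoid.map_powers]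
    exact hloc
  have hdimT : ringKrullDim (p.asIdeal.Fiber T) ≤ ((n - c : ℕ) : WithBot ℕ∞) := by
    refine le_trans (ringKrullDim_away_le ε.toRingEquiv ((Algebra.TensorProduct.includeRight : S2 →ₐ[R] p.asIdeal.Fiber S2) H2)
      (Ideal.Quotient.mk _ G1) ?_ (p.asIdeal.Fiber T)) hdim1
    show _ ∣ ε ((1 : k) ⊗ₜ[R] H2)
    rw [hεH]
    show _ ∣ Ideal.Quotient.mk _ (MvPolynomial.map (algebraMap R k) H)
    rw [hH]
    exact map_dvd _ (dvd_mul_of_dvd_right (dvd_mul_left G1 G0) _)
  -- nearby fibres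
  let U : Set (PrimeSpectrum S2) := PrimeSpectrum.basicOpen H2
  have hU : topologicalKrullDim ↥(U ∩ FibDim.fib (B := S2) p) ≤ ((n - c : ℕ) : WithBot ℕ∞) := by
    refine le_trans ?_ (hdimT)
    rw [← FibDim.topologicalKrullDim_fib]
    have hsurj : ∀ x : ↥(U ∩ FibDim.fib (B := S2) p), ∃ z : ↥(FibDim.fib (A := R) (B := T) p),
        PrimeSpectrum.comap (algebraMap S2 T) z.1 = x.1 := fun x => by
      obtain ⟨z, hz⟩ : x.1 ∈ Set.range (PrimeSpectrum.comap (algebraMap S2 T)) := by
        rw [PrimeSpectrum.localization_away_comap_range T H2]; exact x.2.1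
      refine ⟨⟨z, ?_⟩, hz⟩
      show PrimeSpectrum.comap (algebraMap R T) z = p
      rw [IsScalarTower.algebraMap_eq R S2 T, PrimeSpectrum.comap_comp_apply, hz]
      exact x.2.2
    choose j hj using hsurj
    refine Topology.IsInducing.topologicalKrullDim_le (f := j) ?_
    refine (Topology.IsInducing.of_comp_iff ((PrimeSpectrum.localization_comap_isInducing T (Submonoid.powers H2)).comp
      Topology.IsInducing.subtypeVal)).1 ?_
    rw [show (PrimeSpectrum.comap (algebraMap S2 T) ∘ Subtype.val) ∘ j = Subtype.val from funext hj]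
    exact Topology.IsInducing.subtypeVal
  -- kill `I / J` near the point
  let K : Ideal S2 := RingHom.ker π2.toRingHom
  have hKfg : K.FG := by
    have : K = I.map (Ideal.Quotient.mk (Ideal.span (Set.range G))) := by
      refine le_antisymm (fun z hz => ?_) (Ideal.map_le_iff_le_comap.2 fun z hz => hz)
      obtain ⟨z, rfl⟩ := Ideal.Quotient.mk_surjective z
      exact Ideal.mem_map_of_mem _ hz
    rw [this]
    exact hfg.map _
  let KT := K.map (algebraMap S2 T)
  haveI : Module.Flat S2 T := IsLocalization.flat T (Submonoid.powers H2)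
  haveI : Module.Flat R (S2 ⧸ K) :=
    Module.Flat.of_linearEquiv (Ideal.quotientKerAlgEquivOfSurjective (R₁ := R) hπ2).toLinearEquiv
  haveI : Module.Flat R (T ⧸ KT) := flat_quotient_localization R K
  haveI : qT.asIdeal.LiesOver p.asIdeal := ⟨by
    have h1 : (qT.asIdeal.comap (algebraMap S2 T)).comap (algebraMap R S2) = p.asIdeal := by
      rw [show qT.asIdeal.comap (algebraMap S2 T) = q2.asIdeal from congrArg PrimeSpectrum.asIdeal hqT]
      exact congrArg PrimeSpectrum.asIdeal hq2p
    rw [Ideal.comap_comap, ← IsScalarTower.algebraMap_eq] at h1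
    exact h1.symm⟩
  obtain ⟨a, ha, hak⟩ := exists_annihilator KT (hKfg.map _) qT.asIdeal p.asIdeal (by
    suffices hle : KT ≤ RingHom.ker (Algebra.TensorProduct.includeRight : T →ₐ[R] p.asIdeal.Fiber T).toRingHom from
      fun x hx => hle hx
    refine Ideal.map_le_iff_le_comap.2 fun z hz => ?_
    obtain ⟨x, rfl⟩ := Ideal.Quotient.mk_surjective z
    have hx : x ∈ I := hz
    show (1 : k) ⊗ₜ[R] algebraMap S2 T (Ideal.Quotient.mk _ x) = 0
    have h1 : ε ((1 : k) ⊗ₜ[R] (H2 * Ideal.Quotient.mk _ x)) = 0 := by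
      show ε ((1 : k) ⊗ₜ[R] Ideal.Quotient.mk _ (H * x)) = 0
      rw [← baseChangeEquiv_symm_mk_map G k (H * x), AlgEquiv.apply_symm_apply, map_mul, hH,
        Ideal.Quotient.eq_zero_iff_mem, mul_assoc, mul_assoc, mul_left_comm G0 G1]
      refine Ideal.mul_mem_left _ _ (Ideal.mul_mem_left _ _ (hG0 _ ?_))
      show MvPolynomial.map (algebraMap R k) x ∈ Ik
      rw [show Ik = I.map (MvPolynomial.map (algebraMap R k)) from hgk]
      exact Ideal.mem_map_of_mem _ hx
    have h2 : ι ((1 : k) ⊗ₜ[R] (H2 * Ideal.Quotient.mk _ x)) = 0 := by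
      rw [(map_eq_zero_iff ε ε.injective).1 h1, map_zero]
    rw [show ι ((1 : k) ⊗ₜ[R] (H2 * Ideal.Quotient.mk _ x)) =
      ((1 : k) ⊗ₜ[R] algebraMap S2 T (H2 * Ideal.Quotient.mk _ x) : p.asIdeal.Fiber T) from
      Algebra.TensorProduct.map_tmul _ _ _ _, map_mul] at h2
    have hu : IsUnit ((1 : k) ⊗ₜ[R] algebraMap S2 T H2 : p.asIdeal.Fiber T) :=
      (IsLocalization.Away.algebraMap_isUnit H2).map (Algebra.TensorProduct.includeRight : T →ₐ[R] p.asIdeal.Fiber T)
    refine hu.mul_right_eq_zero.1 ?_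
    rw [Algebra.TensorProduct.tmul_mul_tmul, one_mul]
    exact h2)
  obtain ⟨N, b', hb'⟩ := IsLocalization.Away.surj H2 a
  obtain ⟨b, rfl⟩ := Ideal.Quotient.mk_surjective b'
  have hbq : b ∉ q' := fun hmem => by
    have h1 : algebraMap S2 T (Ideal.Quotient.mk _ b) ∈ qT.asIdeal := by
      show Ideal.Quotient.mk _ b ∈ (PrimeSpectrum.comap (algebraMap S2 T) qT).asIdeal
      rw [hqT]; exact hmem
    rw [← hb'] at h1
    exact (Ideal.IsPrime.mem_or_mem qT.2 h1).elim ha fun h2 => qT.2.ne_top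
      (Ideal.eq_top_of_isUnit_mem _ h2 ((IsLocalization.Away.algebraMap_isUnit H2).pow N))
  -- spreading out the dimension bound
  haveI : Algebra.FiniteType R S2 :=
    Algebra.FiniteType.of_surjective (Ideal.Quotient.mkₐ R _) Ideal.Quotient.mk_surjective
  obtain ⟨W, hW, hqW, -, hWd⟩ := FibDim.exists_basicOpen_dim_le (A := R) q2 (n - c) U (PrimeSpectrum.isOpen_basicOpen)
    hHq (by rw [hq2p]; exact hU)
  obtain ⟨_, ⟨w', rfl⟩, hwq, hwW⟩ := PrimeSpectrum.isTopologicalBasis_basic_opens.exists_subset_of_mem_open hqW hW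
  obtain ⟨w, rfl⟩ := Ideal.Quotient.mk_surjective w'
  refine ⟨c, G, H * b * w, ?_, hGI, fun x hx => ?_, ?_⟩
  · intro hmem
    rcases Ideal.IsPrime.mem_or_mem (inferInstance : q'.IsPrime) hmem with h1 | h1
    · exact (Ideal.IsPrime.mem_or_mem (inferInstance : q'.IsPrime) h1).elim hHq hbq
    · exact hwq h1
  · have h1 : algebraMap S2 T (Ideal.Quotient.mk _ (b * x)) = 0 := by
      rw [map_mul, map_mul, ← hb', mul_right_comm, hak _ (Ideal.mem_map_of_mem _ hx), zero_mul]
    obtain ⟨⟨_, m, rfl⟩, hm⟩ := (IsLocalization.map_eq_zero_iff (Submonoid.powers H2) T _).1 h1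
    refine ⟨m + 1, ?_⟩
    have h2 : H ^ m * (b * x) ∈ J := by
      rw [← Ideal.Quotient.eq_zero_iff_mem, map_mul, map_pow]
      exact hm
    rw [show (H * b * w) ^ (m + 1) * x = (H * b ^ m * w ^ (m + 1)) * (H ^ m * (b * x)) by ring]
    exact J.mul_mem_left _ h2
  · refine isRelGCI_snoc G hcn _ fun y hy => ?_
    refine ⟨W, hW, hwW ?_, hWd⟩
    intro hmem
    apply hy
    rw [map_mul]
    exact Ideal.mul_mem_left _ _ hmem

/-- The kernel of a presentation of a syntomic algebra is a Koszul regular ideal. -/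
theorem isKoszulRegularIdeal_ker_of_isSyntomic (hS : Synt.IsSyntomic R S) (φ : MvPolynomial (Fin n) R →ₐ[R] S)
    (hφ : Function.Surjective φ) : LCI.IsKoszulRegularIdeal (RingHom.ker φ.toRingHom) := by
  haveI := hS.1
  haveI := hS.2.1
  intro q' hq'
  haveI : (q'.asIdeal.map φ.toRingHom).IsPrime :=
    Ideal.map_isPrime_of_surjective (f := φ.toRingHom) hφ hq'
  let q : PrimeSpectrum S := ⟨q'.asIdeal.map φ.toRingHom, inferInstance⟩
  have hqc : q.asIdeal.comap φ = q'.asIdeal :=
    (Ideal.comap_map_of_surjective φ.toRingHom hφ _).trans (sup_eq_left.2 ((RingHom.ker_eq_comap_bot _).ge.trans hq'))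
  let p := PrimeSpectrum.comap (algebraMap R S) q
  obtain ⟨Q, hQ⟩ := FlatLoc6.exists_fiber_prime p.asIdeal q.asIdeal rfl
  haveI := (hS.2.2 p).1
  obtain ⟨c, G, h, hh, hGI, hkill, hrel⟩ := exists_local_equations φ hφ
    (Algebra.FinitePresentation.ker_fG_of_surjective φ hφ) q p rfl Q hQ (isCIOver_atPrime_of_isLCIOver (hS.2.2 p) Q.asIdeal)
  let B := MvPolynomial (Fin n) R
  let Bh := Localization.Away h
  refine ⟨h, hqc ▸ hh, (List.ofFn G).map (algebraMap B Bh), ?_, ?_⟩
  · refine isKoszulRegularSeq_of_local _ fun P hP hmem _ => ?_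
    let P0 := P.comap (algebraMap B Bh)
    have hG : ∀ i, G i ∈ P0 := fun i => hmem _ (List.mem_map.2 ⟨G i, List.mem_ofFn.2 ⟨i, rfl⟩, rfl⟩)
    have hh0 : h ∉ P0 := fun hm => hP.ne_top (Ideal.eq_top_of_isUnit_mem _ hm (IsLocalization.Away.algebraMap_isUnit h))
    have hw := weaklyRegular_snoc G h hrel P0 hG hh0
    haveI : IsLocalization P0.primeCompl (Localization.AtPrime P) :=
      IsLocalization.isLocalization_isLocalization_atPrime_isLocalization (Submonoid.powers h) (Localization.AtPrime P) P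
    let e := (IsLocalization.algEquiv P0.primeCompl (Localization.AtPrime P0) (Localization.AtPrime P)).toLinearEquiv
    rw [RingTheory.Sequence.isWeaklyRegular_map_algebraMap_iff, RingTheory.Sequence.isWeaklyRegular_map_algebraMap_iff,
      ← e.isWeaklyRegular_congr]
    exact (RingTheory.Sequence.isWeaklyRegular_map_algebraMap_iff (Localization.AtPrime P0) (Localization.AtPrime P0) _).1 hw
  · show _ = Ideal.ofList _
    rw [← Ideal.map_ofList, ofList_ofFn]
    refine le_antisymm (Ideal.map_le_iff_le_comap.2 fun x hx => ?_)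
      (Ideal.map_mono (Ideal.span_le.2 (by rintro _ ⟨i, rfl⟩; exact hGI i)))
    obtain ⟨m, hm⟩ := hkill x hx
    rw [Ideal.mem_comap, ← Ideal.unit_mul_mem_iff_mem _ ((IsLocalization.Away.algebraMap_isUnit (S := Bh) h).pow m),
      ← map_pow, ← map_mul]
    exact Ideal.mem_map_of_mem _ hm

end Groth.Agent.Synt29
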