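import Mathlib
import Groth.Agent.LC.GorLCI
import Groth.Agent.Synt29.CIPoints
import Groth.Agent.Synt29.KoszulPresentation

/-!
# Flat local complete intersections are syntomic
-/

universe u

open TensorProduct IsLocalRing
open Groth.Agent.DefGlueLib (dot trivR)

set_option linter.style.haveILetI false
set_option backward.isDefEq.respectTransparency.types false

namespace Groth.Agent.Synt29

/-- At a point where the equations have only trivial relations one has a complete intersection. -/
theorem isCIOver_atPrime_of_rel {k : Type u} [Field k] {n : ℕ} {B : Type u} [CommRing B] [Algebra k B]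
    (π : MvPolynomial (Fin n) k →ₐ[k] B) (hπ : Function.Surjective π) (q : Ideal B) [q.IsPrime]
    (M : Submonoid (MvPolynomial (Fin n) k)) (hM : ∀ x ∈ M, π x ∉ q)
    (R : Type u) [CommRing R] [Algebra (MvPolynomial (Fin n) k) R] [IsLocalization M R] {m : ℕ}
    (f : Fin m → R) (hrel : ∀ u, dot f u = 0 → u ∈ trivR f)
    (hspan : Ideal.span (Set.range f) = (RingHom.ker π.toRingHom).map (algebraMap (MvPolynomial (Fin n) k) R)) :
    Synt.IsCIOver k (Localization.AtPrime q) := by
  let Q := q.comap π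
  haveI : Q.IsPrime := Ideal.comap_isPrime _ _
  obtain ⟨σ, hσ, -, hσk⟩ := exists_atPrime_presentation π hπ q Q rfl
  let S := Localization.AtPrime Q
  haveI := isRegularLocalRing_localization_mvPolynomial Q
  haveI := essFiniteType_localization_mvPolynomial Q
  have hMQ : M ≤ Q.primeCompl := hM
  have hunit : ∀ y : M, IsUnit (algebraMap (MvPolynomial (Fin n) k) S y) := fun y =>
    IsLocalization.map_units S (⟨y.1, hMQ y.2⟩ : Q.primeCompl)
  letI : Algebra R S := (IsLocalization.lift hunit).toAlgebra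
  haveI : IsScalarTower (MvPolynomial (Fin n) k) R S := IsScalarTower.of_algebraMap_eq fun z => by
    rw [RingHom.algebraMap_toAlgebra, IsLocalization.lift_eq]
  haveI : IsLocalization (Q.primeCompl.map (algebraMap (MvPolynomial (Fin n) k) R)) S :=
    IsLocalization.isLocalization_of_submonoid_le R S M Q.primeCompl hMQ
  let fS : Fin m → S := fun i => algebraMap R S (f i)
  have hker : RingHom.ker σ.toRingHom = Ideal.ofList (List.ofFn fS) := by
    rw [hσk, IsScalarTower.algebraMap_eq (MvPolynomial (Fin n) k) R S, ← Ideal.map_map, ← hspan, Ideal.map_span,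
      ← Set.range_comp, ofList_ofFn]
    rfl
  have hmem : ∀ i, fS i ∈ maximalIdeal S := fun i => ker_le_maximalIdeal σ.toRingHom
    (hker ▸ Ideal.subset_span ((List.mem_ofFn).2 ⟨i, rfl⟩))
  refine isCIOver_of_ciKer σ hσ ((ciKer_iff_regular σ.toRingHom hσ).2 ⟨List.ofFn fS, ?_, hker⟩)
  refine RingTheory.Sequence.IsRegular.of_isWeaklyRegular_of_mem_maximalIdeal _
    (fun r hr => by obtain ⟨i, rfl⟩ := List.mem_ofFn.1 hr; exact hmem i) ?_
  exact LC.weaklyRegular_of_rel m fS hmem fun u hu =>
    LC.rel_localize (Q.primeCompl.map (algebraMap (MvPolynomial (Fin n) k) R)) f hrel u hu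

theorem fg_ker_of_isKoszulRegularIdeal {A : Type u} [CommRing A] (I : Ideal A) (h : LCI.IsKoszulRegularIdeal I) :
    I.FG := by
  let t : Set A := {g | (I.map (algebraMap A (Localization.Away g))).FG}
  refine Ideal.fg_of_localizationSpan t ?_ fun g => g.2
  by_contra hne
  obtain ⟨m, hm, hle⟩ := Ideal.exists_le_maximal _ hne
  by_cases hIm : I ≤ m
  · obtain ⟨g, hg, l, -, hI⟩ := h ⟨m, hm.isPrime⟩ hIm
    refine hg (hle (Ideal.subset_span ?_))
    show (I.map _).FG
    rw [hI]
    exact Submodule.fg_span l.finite_toSet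
  · obtain ⟨g, hgI, hgm⟩ := SetLike.not_le_iff_exists.1 hIm
    refine hgm (hle (Ideal.subset_span ?_))
    show (I.map (algebraMap A (Localization.Away g))).FG
    rw [Ideal.eq_top_of_isUnit_mem _ (Ideal.mem_map_of_mem _ hgI) (IsLocalization.Away.algebraMap_isUnit g)]
    exact ⟨{1}, by simp⟩

theorem isCIOver_fiber_of_isLCI {A B : Type u} [CommRing A] [CommRing B] [Algebra A B] [Module.Flat A B] {n : ℕ}
    (φ : MvPolynomial (Fin n) A →ₐ[A] B) (hφ : Function.Surjective φ)
    (hK : LCI.IsKoszulRegularIdeal (RingHom.ker φ.toRingHom)) (p : Ideal A) [p.IsPrime] (q : Ideal (p.Fiber B)) [q.IsPrime] :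
    Synt.IsCIOver p.ResidueField (Localization.AtPrime q) := by
  let K := p.ResidueField
  let P := MvPolynomial (Fin n) A
  obtain ⟨π', hπ', hπx, hπk⟩ := exists_fibre_presentation φ hφ p
  let Q := (q.comap π').comap (MvPolynomial.map (algebraMap A K))
  have hQ : RingHom.ker φ.toRingHom ≤ Q := fun x hx => by
    rw [Ideal.mem_comap, Ideal.mem_comap]
    rw [hπx, show φ x = 0 from hx, TensorProduct.tmul_zero]
    exact q.zero_mem
  obtain ⟨g, hg, l, hl, hI⟩ := hK ⟨Q, inferInstance⟩ hQ
  let R := Localization.Away g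
  let f : Fin l.length → R := fun i => l[i]
  haveI : Module.Flat P R := IsLocalization.flat R (Submonoid.powers g)
  haveI : Module.Flat A (P ⧸ RingHom.ker φ.toRingHom) :=
    Module.Flat.of_linearEquiv (Ideal.quotientKerAlgEquivOfSurjective (R₁ := A) hφ).toLinearEquiv
  haveI hflat : Module.Flat A (R ⧸ Ideal.span (Set.range f)) := by
    rw [(LC.range_list_get l).trans hI.symm]
    exact flat_quotient_localization A _
  let e1 := MvPolynomial.algebraTensorAlgEquiv (σ := Fin n) A K
  letI : Algebra (K ⊗[A] P) (K ⊗[A] R) :=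
    (Algebra.TensorProduct.map (AlgHom.id A K) (IsScalarTower.toAlgHom A P R)).toRingHom.toAlgebra
  haveI : IsScalarTower K (K ⊗[A] P) (K ⊗[A] R) :=
    IsScalarTower.of_algebraMap_eq (R := K) (S := K ⊗[A] P) (A := K ⊗[A] R) fun c => by
      show c ⊗ₜ[A] (1 : R) = c ⊗ₜ[A] (algebraMap P R 1)
      rw [map_one]
  haveI hloc : IsLocalization ((Submonoid.powers g).map (Algebra.TensorProduct.includeRight (R := A) (A := K) (B := P))) (K ⊗[A] R) :=
    IsLocalization.tensorProduct_tensorProduct_right A K (Submonoid.powers g) R rfl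
  letI : Algebra (MvPolynomial (Fin n) K) (K ⊗[A] R) :=
    ((algebraMap (K ⊗[A] P) (K ⊗[A] R)).comp e1.symm.toRingEquiv.toRingHom).toAlgebra
  haveI : IsLocalization (((Submonoid.powers g).map (Algebra.TensorProduct.includeRight (R := A) (A := K) (B := P))).map
      e1.toRingEquiv.toMonoidHom) (K ⊗[A] R) :=
    IsLocalization.isLocalization_of_base_ringEquiv _ _ e1.toRingEquiv
  have hincl : ∀ x : P, e1.symm (MvPolynomial.map (algebraMap A K) x) = (1 : K) ⊗ₜ[A] x := fun x =>
    MvPolynomial.algebraTensorAlgEquiv_symm_map A K x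
  refine isCIOver_atPrime_of_rel π' hπ' q
    (((Submonoid.powers g).map (Algebra.TensorProduct.includeRight (R := A) (A := K) (B := P))).map
      e1.toRingEquiv.toMonoidHom) ?_ (K ⊗[A] R) (fun i => (1 : K) ⊗ₜ[A] f i)
    (LC.rel_baseChange K f fun u hu => DefGlueLib.mem_trivR_of_isKoszulRegularSeq hl hu) ?_
  · rintro _ ⟨_, ⟨_, ⟨k, rfl⟩, rfl⟩, rfl⟩
    show π' (e1 ((1 : K) ⊗ₜ[A] (g ^ k))) ∉ q
    rw [MvPolynomial.algebraTensorAlgEquiv_tmul, one_smul]
    intro hk
    exact hg (Ideal.IsPrime.mem_of_pow_mem (inferInstance : Q.IsPrime) k hk)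
  · rw [hπk, Ideal.map_map]
    have hcomp : (algebraMap (MvPolynomial (Fin n) K) (K ⊗[A] R)).comp (MvPolynomial.map (algebraMap A K)) =
        (Algebra.TensorProduct.includeRight (R := A) (A := K) (B := R)).toRingHom.comp (algebraMap P R) := RingHom.ext fun x => by
      show algebraMap (K ⊗[A] P) (K ⊗[A] R) (e1.symm (MvPolynomial.map (algebraMap A K) x)) = _
      rw [hincl]
      show Algebra.TensorProduct.map (AlgHom.id A K) (IsScalarTower.toAlgHom A P R) ((1 : K) ⊗ₜ[A] x) = _
      rw [Algebra.TensorProduct.map_tmul]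
      rfl
    rw [hcomp, ← Ideal.map_map, hI, ← LC.range_list_get l, Ideal.map_span, ← Set.range_comp]
    rfl

theorem isSyntomic_of_flat_of_isLCI {A B : Type u} [CommRing A] [CommRing B] [Algebra A B] [Module.Flat A B]
    (h : LCI.IsLCI A B) : Synt.IsSyntomic A B := by
  obtain ⟨-, n, φ, hφ, hK⟩ := h
  haveI hfp : Algebra.FinitePresentation A B :=
    Algebra.FinitePresentation.of_surjective hφ (fg_ker_of_isKoszulRegularIdeal _ hK)
  refine ⟨inferInstance, hfp, fun p => ?_⟩
  haveI : Algebra.FiniteType p.asIdeal.ResidueField (p.asIdeal.Fiber B) := inferInstance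
  exact isLCIOver_iff_forall_maximal.2 fun m => isCIOver_fiber_of_isLCI φ hφ hK p.asIdeal m.asIdeal

theorem isLCI_of_isSyntomic {A B : Type u} [CommRing A] [CommRing B] [Algebra A B] (h : Synt.IsSyntomic A B) :
    LCI.IsLCI A B := by
  haveI := h.2.1
  obtain ⟨n, φ, hφ, -⟩ := Algebra.FinitePresentation.out (R := A) (A := B)
  exact ⟨inferInstance, n, φ, hφ, isKoszulRegularIdeal_ker_of_isSyntomic h φ hφ⟩

theorem isSyntomic_iff_flat_isLCI {A B : Type u} [CommRing A] [CommRing B] [Algebra A B] :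
    Synt.IsSyntomic A B ↔ Module.Flat A B ∧ LCI.IsLCI A B :=
  ⟨fun h => ⟨h.1, isLCI_of_isSyntomic h⟩, fun ⟨h1, h2⟩ => haveI := h1; isSyntomic_of_flat_of_isLCI h2⟩

end Groth.Agent.Synt29
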