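import Mathlib
import Groth.Agent.Synt29.FlatLCI
import Groth.Agent.GeomReg.Basic

/-!
# Flat quotients of smooth algebras by regular equations are syntomic
-/

universe u

open TensorProduct IsLocalRing
open Groth.Agent.DefGlueLib (dot trivR)

set_option linter.style.haveILetI false
set_option backward.isDefEq.respectTransparency.types false

namespace Groth.Agent.Synt29

/-- A quotient of a smooth algebra over a field by equations with only trivial relations is a complete
intersection at every prime. -/
theorem isCIOver_atPrime_of_smooth_rel {k : Type u} [Field k] {C B : Type u} [CommRing C] [Algebra k C]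
    [Algebra.Smooth k C] [CommRing B] [Algebra k B] (π : C →ₐ[k] B) (hπ : Function.Surjective π)
    (q : Ideal B) [q.IsPrime] {m : ℕ} (f : Fin m → C) (hrel : ∀ u, dot f u = 0 → u ∈ trivR f)
    (hspan : Ideal.span (Set.range f) = RingHom.ker π.toRingHom) :
    Synt.IsCIOver k (Localization.AtPrime q) := by
  haveI : IsRegularRing C := GeomReg.isRegularRing_of_smooth k C
  let Q : Ideal C := q.comap π.toRingHom
  haveI : Q.IsPrime := Ideal.comap_isPrime _ _
  let S := Localization.AtPrime Q
  haveI : IsRegularLocalRing S := isRegularRing_iff.1 (inferInstance : IsRegularRing C) Q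
  haveI : Algebra.EssFiniteType C S := Algebra.EssFiniteType.of_isLocalization S Q.primeCompl
  haveI : Algebra.EssFiniteType k S := Algebra.EssFiniteType.comp k C S
  have hmap : Submonoid.map π.toRingHom Q.primeCompl = q.primeCompl := by
    ext x
    refine ⟨?_, fun hx => ?_⟩
    · rintro ⟨c, hc, rfl⟩
      exact hc
    · obtain ⟨c, rfl⟩ := hπ x
      exact ⟨c, hx, rfl⟩
  let σ₀ : S →+* Localization.AtPrime q := IsLocalization.map (Localization.AtPrime q) π.toRingHom
    (show Q.primeCompl ≤ q.primeCompl.comap π.toRingHom from fun c hc => hc)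
  have hσ₀ : ∀ c, σ₀ (algebraMap C S c) = algebraMap B _ (π c) := fun c => IsLocalization.map_eq _ c
  let σ : S →ₐ[k] Localization.AtPrime q := ⟨σ₀, fun a => by
    show σ₀ (algebraMap k S a) = _
    rw [IsScalarTower.algebraMap_apply k C S, hσ₀, AlgHom.commutes, ← IsScalarTower.algebraMap_apply]⟩
  have hσ : Function.Surjective σ := fun y => by
    obtain ⟨b, s, rfl⟩ := IsLocalization.exists_mk'_eq q.primeCompl y
    obtain ⟨c, rfl⟩ := hπ b
    obtain ⟨t, ht, hts⟩ : (s : B) ∈ Submonoid.map π.toRingHom Q.primeCompl := by rw [hmap]; exact s.2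
    refine ⟨IsLocalization.mk' S c ⟨t, ht⟩, ?_⟩
    show σ₀ _ = _
    rw [IsLocalization.map_mk']
    congr 1
    exact Subtype.ext hts
  have hσk : RingHom.ker σ.toRingHom = (RingHom.ker π.toRingHom).map (algebraMap C S) :=
    IsLocalization.ker_map (Localization.AtPrime q) π.toRingHom hmap
  let fS : Fin m → S := fun i => algebraMap C S (f i)
  have hker : RingHom.ker σ.toRingHom = Ideal.ofList (List.ofFn fS) := by
    rw [hσk, ← hspan, Ideal.map_span, ← Set.range_comp, ofList_ofFn]
    rfl
  have hmem : ∀ i, fS i ∈ maximalIdeal S := fun i => ker_le_maximalIdeal σ.toRingHom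
    (hker ▸ Ideal.subset_span ((List.mem_ofFn).2 ⟨i, rfl⟩))
  refine isCIOver_of_ciKer σ hσ ((ciKer_iff_regular σ.toRingHom hσ).2 ⟨List.ofFn fS, ?_, hker⟩)
  refine RingTheory.Sequence.IsRegular.of_isWeaklyRegular_of_mem_maximalIdeal _
    (fun r hr => by obtain ⟨i, rfl⟩ := List.mem_ofFn.1 hr; exact hmem i) ?_
  exact LC.weaklyRegular_of_rel m fS hmem fun u hu => LC.rel_localize Q.primeCompl f hrel u hu

/-- A flat quotient of a smooth algebra by equations with only trivial relations is syntomic. -/
theorem isSyntomic_of_smooth_rel {A B C : Type u} [CommRing A] [CommRing B] [CommRing C] [Algebra A B]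
    [Algebra A C] [Algebra.Smooth A C] [Module.Flat A B] (ψ : C →ₐ[A] B) (hψ : Function.Surjective ψ)
    {m : ℕ} (f : Fin m → C) (hrel : ∀ u, dot f u = 0 → u ∈ trivR f)
    (hspan : Ideal.span (Set.range f) = RingHom.ker ψ.toRingHom) : Synt.IsSyntomic A B := by
  haveI : Algebra.FinitePresentation A B :=
    Algebra.FinitePresentation.of_surjective hψ (hspan ▸ Submodule.fg_span (Set.finite_range f))
  haveI hflat : Module.Flat A (C ⧸ Ideal.span (Set.range f)) := by
    rw [hspan]
    exact Module.Flat.of_linearEquiv (Ideal.quotientKerAlgEquivOfSurjective (R₁ := A) hψ).toLinearEquiv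
  refine ⟨inferInstance, inferInstance, fun p => ?_⟩
  let K := p.asIdeal.ResidueField
  haveI : Algebra.FiniteType K (p.asIdeal.Fiber B) := inferInstance
  refine isLCIOver_iff_forall_maximal.2 fun q => ?_
  let π' : K ⊗[A] C →ₐ[K] K ⊗[A] B := Algebra.TensorProduct.map (AlgHom.id K K) ψ
  have hπ' : Function.Surjective π' := LinearMap.lTensor_surjective K (g := ψ.toLinearMap) hψ
  refine isCIOver_atPrime_of_smooth_rel π' hπ' q.asIdeal (fun i => (1 : K) ⊗ₜ[A] f i)
    (LC.rel_baseChange K f hrel) ?_
  have hk : RingHom.ker π'.toRingHom =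
      (RingHom.ker ψ.toRingHom).map (Algebra.TensorProduct.includeRight : C →ₐ[A] K ⊗[A] C).toRingHom := by
    have := Algebra.TensorProduct.lTensor_ker (A := K) ψ hψ
    exact this
  rw [hk, ← hspan, Ideal.map_span, ← Set.range_comp]
  rfl

end Groth.Agent.Synt29
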