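import Mathlib
import Groth.Agent.Synt29.SmoothRel
import Groth.Agent.Synt29.Mor
import Groth.Agent.WiebeLib.Koszul
import Groth.Agent.KoszulFlatLib.OfExact
import Groth.Prelude.Def_RegImm

/-!
# Flat morphisms Koszul at every point are the syntomic morphisms
-/

universe u

open AlgebraicGeometry CategoryTheory
open Groth.Agent.DefGlueLib (dot trivR)

set_option linter.style.haveILetI false
set_option backward.isDefEq.respectTransparency false
set_option backward.isDefEq.respectTransparency.types false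

namespace Groth.Agent.Synt29

/-- Koszul regularity is invariant under ring isomorphisms. -/
theorem isKoszulRegularSeq_map_equiv {R S : Type u} [CommRing R] [CommRing S] (e : R ≃+* S) (l : List R)
    (h : LCI.IsKoszulRegularSeq R l) : LCI.IsKoszulRegularSeq S (l.map e) := by
  obtain ⟨n, fR, rfl⟩ : ∃ (n : ℕ) (fR : Fin n → R), List.ofFn fR = l := ⟨_, _, List.ofFn_get l⟩
  rw [List.map_ofFn]
  refine KoszulFlatLib.isKoszulRegularSeq_of_isExact fun k x hx => ?_
  have hR := WiebeLib.isExact_of_isKoszulRegularSeq fR h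
  let x' : WiebeLib.Ko R n (k + 1) := fun i => e.symm (x i)
  have hxx : x = fun i => e.toRingHom (x' i) := funext fun i => (e.apply_symm_apply (x i)).symm
  have h0 : WiebeLib.d n fR k x' = 0 := by
    funext i
    apply e.injective
    have hd := congrFun (WiebeLib.d_map e.toRingHom n fR k x') i
    rw [← hxx] at hd
    refine hd.symm.trans ?_
    rw [Pi.zero_apply, map_zero]
    exact congrFun hx i
  obtain ⟨y, hy⟩ := hR k x' h0
  refine ⟨fun i => e.toRingHom (y i), ?_⟩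
  refine (WiebeLib.d_map e.toRingHom n fR (k + 1) y).trans ?_
  rw [hy, hxx]

theorem surjective_app_of_isClosedImmersion_restrict {Z P : Scheme.{u}} (i : Z ⟶ P) (W : P.Opens)
    (hW : IsAffineOpen W) [IsClosedImmersion (i ∣_ W)] :
    IsAffineOpen (i ⁻¹ᵁ W) ∧ Function.Surjective (i.app W) := by
  haveI : IsAffine W.toScheme := hW
  obtain ⟨h₁, h₂⟩ := IsClosedImmersion.isAffine_surjective_of_isAffine (i ∣_ W)
  refine ⟨h₁, ?_⟩
  rw [Scheme.Hom.appTop, morphismRestrict_app] at h₂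
  have h3 : Function.Surjective (i.app (W.ι ''ᵁ ⊤)) := fun y => by
    obtain ⟨a, ha⟩ := h₂ (Z.presheaf.map (eqToHom (image_morphismRestrict_preimage i W ⊤)).op y)
    exact ⟨a, (ConcreteCategory.bijective_of_isIso _).1 ha⟩
  have key : ∀ W' : P.Opens, W' = W → Function.Surjective (i.app W') → Function.Surjective (i.app W) := by
    rintro W' rfl h
    exact h
  exact key _ W.ι_image_top h3

/-- A flat morphism is syntomic where it is Koszul. -/
theorem isSyntomicAt_of_isKoszulAt {X S : Scheme.{u}} (f : X ⟶ S) [Flat f] (x : X)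
    (h : Synt.IsKoszulAt f x) : Synt.IsSyntomicAt f x := by
  obtain ⟨U, P, i, π, hxU, -, ⟨-, hreg⟩, hsm, hcomp⟩ := h
  let z : (U : Scheme.{u}) := ⟨x, hxU⟩
  obtain ⟨⟨W, hW⟩, hzW, hci, rs, hrs, hker⟩ := hreg z
  obtain ⟨hW', hsurj⟩ := surjective_app_of_isClosedImmersion_restrict i W hW
  obtain ⟨V, hV, hzV, -⟩ := exists_isAffineOpen_mem_and_subset (U := ⊤) (x := f x) trivial
  have hπz : π (i z) = f x := by
    rw [← Scheme.Hom.comp_apply, hcomp, Scheme.Hom.comp_apply]
    rfl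
  obtain ⟨g, hgV, hgz⟩ := hW.exists_basicOpen_le (V := π ⁻¹ᵁ V) ⟨i z, show π (i z) ∈ V from hπz ▸ hzV⟩ hzW
  let D : P.Opens := P.basicOpen g
  let D' : U.toScheme.Opens := U.toScheme.basicOpen (i.app W g)
  have hDD : D' ≤ i ⁻¹ᵁ D := (Scheme.preimage_basicOpen i g).ge
  have hD : IsAffineOpen D := hW.basicOpen g
  have hD' : IsAffineOpen D' := hW'.basicOpen (i.app W g)
  have hzD' : z ∈ D' := (Scheme.preimage_basicOpen i g).le hgz
  haveI := hW.isLocalization_basicOpen g
  haveI := hW'.isLocalization_basicOpen (i.app W g)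
  let ψ : Γ(P, D) →+* Γ(U.toScheme, D') := (i.appLE D D' hDD).hom
  have hψeq : ∀ a : Γ(P, W), ψ (algebraMap Γ(P, W) Γ(P, D) a) = algebraMap Γ(U.toScheme, i ⁻¹ᵁ W) Γ(U.toScheme, D') (i.app W a) := by
    intro a
    rw [RingHom.algebraMap_toAlgebra, RingHom.algebraMap_toAlgebra]
    show (P.presheaf.map _ ≫ i.appLE D D' hDD) a = (i.app W ≫ U.toScheme.presheaf.map _) a
    rw [Scheme.Hom.map_appLE]
    rfl
  have hψmap : ψ = IsLocalization.map (Γ(U.toScheme, D')) (i.app W).hom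
      (show Submonoid.powers g ≤ (Submonoid.powers (i.app W g)).comap (i.app W).hom by
        rintro _ ⟨k, rfl⟩
        exact ⟨k, (map_pow (i.app W).hom g k).symm⟩) := by
    refine IsLocalization.ringHom_ext (Submonoid.powers g) (RingHom.ext fun a => ?_)
    rw [RingHom.comp_apply, RingHom.comp_apply, IsLocalization.map_eq, hψeq]
  have hψsurj : Function.Surjective ψ := by
    intro y
    obtain ⟨b, s, rfl⟩ := IsLocalization.exists_mk'_eq (Submonoid.powers (i.app W g)) y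
    obtain ⟨a, rfl⟩ := hsurj b
    obtain ⟨k, hk⟩ := s.2
    refine ⟨IsLocalization.mk' Γ(P, D) a ⟨g ^ k, pow_mem (Submonoid.mem_powers g) k⟩, ?_⟩
    rw [hψmap, IsLocalization.map_mk']
    congr 1
    exact Subtype.ext ((map_pow (i.app W).hom g k).trans hk)
  have hψker : RingHom.ker ψ = (RingHom.ker (i.app W).hom).map (algebraMap Γ(P, W) Γ(P, D)) := by
    rw [hψmap]
    exact IsLocalization.ker_map (Γ(U.toScheme, D')) (i.app W).hom (Submonoid.map_powers (i.app W).hom g)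
  have hπD : D ≤ π ⁻¹ᵁ V := hgV
  letI : Algebra Γ(S, V) Γ(P, D) := (π.appLE V D hπD).hom.toAlgebra
  haveI : Algebra.Smooth Γ(S, V) Γ(P, D) := π.smooth_appLE hV hD hπD
  have he : D' ≤ (i ≫ π) ⁻¹ᵁ V := fun y hy => hπD (hDD hy)
  letI : Algebra Γ(S, V) Γ(U.toScheme, D') := ((i ≫ π).appLE V D' he).hom.toAlgebra
  haveI : Module.Flat Γ(S, V) Γ(U.toScheme, D') := by
    haveI : Flat (i ≫ π) := hcomp ▸ inferInstance
    exact HasRingHomProperty.appLE @Flat (i ≫ π) inferInstance ⟨V, hV⟩ ⟨D', hD'⟩ he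
  let ψA : Γ(P, D) →ₐ[Γ(S, V)] Γ(U.toScheme, D') := ⟨ψ, fun a => by
    show (π.appLE V D hπD ≫ i.appLE D D' hDD) a = _
    rw [Scheme.Hom.appLE_comp_appLE]
    rfl⟩
  let fC : Fin rs.length → Γ(P, D) := fun j => algebraMap Γ(P, W) Γ(P, D) rs[j]
  have hspan : Ideal.span (Set.range fC) = RingHom.ker ψA.toRingHom := by
    show _ = RingHom.ker ψ
    rw [hψker, hker, show Ideal.ofList rs = Ideal.span {x | x ∈ rs} from rfl, ← LC.range_list_get rs,
      Ideal.map_span, ← Set.range_comp]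
    rfl
  have hsyn : Synt.IsSyntomic Γ(S, V) Γ(U.toScheme, D') :=
    isSyntomic_of_smooth_rel ψA hψsurj fC (LC.rel_localize (Submonoid.powers g) _
      fun u hu => DefGlueLib.mem_trivR_of_isKoszulRegularSeq hrs hu) hspan
  -- transfer to an affine open of `X`
  let U'' : X.Opens := U.ι ''ᵁ D'
  have e2 : D' ≤ U.ι ⁻¹ᵁ U'' := (Scheme.Hom.preimage_image_eq U.ι D').ge
  have e3 : U'' ≤ f ⁻¹ᵁ V := by
    rintro _ ⟨y, hy, rfl⟩
    have := he hy
    rw [hcomp] at this
    exact this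
  have hiso : IsIso (U.ι.appLE U'' D' e2) := by
    rw [← Scheme.Hom.appIso_hom']
    infer_instance
  refine ⟨⟨U'', hD'.image_of_isOpenImmersion U.ι⟩, ⟨V, hV⟩, e3, ⟨z, hzD', rfl⟩, ?_⟩
  show RingHomIsSyntomic (f.appLE V U'' e3).hom
  refine ((syntomic_propertyIsLocal.respectsIso).cancel_right_isIso (f.appLE V U'' e3)
    (U.ι.appLE U'' D' e2)).1 ?_
  rw [← CommRingCat.hom_comp, Scheme.Hom.appLE_comp_appLE]
  have key : ∀ (h' : (U : Scheme.{u}) ⟶ S) (e' : D' ≤ h' ⁻¹ᵁ V), h' = i ≫ π →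
      RingHomIsSyntomic (h'.appLE V D' e').hom := by
    rintro _ e' rfl
    exact hsyn
  exact key _ _ hcomp.symm

theorem ker_appTop_comp_specMap {Z : Scheme.{u}} {R T : CommRingCat.{u}} (a : Z ⟶ Spec T) [IsIso a] (ψ : R ⟶ T)
    (l : List R) (hk : RingHom.ker ψ.hom = Ideal.span {y | y ∈ l}) :
    RingHom.ker (a ≫ Spec.map ψ).appTop.hom =
      Ideal.ofList (l.map (Scheme.ΓSpecIso R).symm.commRingCatIsoToRingEquiv) := by
  let σ := (Scheme.ΓSpecIso R).commRingCatIsoToRingEquiv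
  have hinj : Function.Injective a.appTop := (ConcreteCategory.bijective_of_isIso _).1
  have hinj' : Function.Injective (Scheme.ΓSpecIso T).hom := (ConcreteCategory.bijective_of_isIso _).1
  have hmem : ∀ y, y ∈ RingHom.ker (a ≫ Spec.map ψ).appTop.hom ↔ ψ (σ y) = 0 := fun y => by
    rw [RingHom.mem_ker]
    refine (map_eq_zero_iff a.appTop.hom hinj).trans ((map_eq_zero_iff _ hinj').symm.trans ?_)
    exact Iff.of_eq (congrArg (· = 0) (ConcreteCategory.congr_hom (Scheme.ΓSpecIso_naturality ψ) y))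
  have h2 : Ideal.span {y | y ∈ l.map σ.symm} = (Ideal.span {y | y ∈ l}).comap σ.toRingHom := by
    refine Eq.trans ?_ (Ideal.map_symm σ)
    rw [Ideal.map_span]
    congr 1
    ext y
    simp
  show _ = Ideal.span {y | y ∈ l.map σ.symm}
  ext y
  rw [hmem, h2, ← hk]
  rfl

/-- A syntomic morphism is Koszul at every point. -/
theorem isKoszulAt_of_isSyntomicMor {X S : Scheme.{u}} (f : X ⟶ S) (h : Synt.IsSyntomicMor f) (x : X) :
    Synt.IsKoszulAt f x := by
  obtain ⟨⟨U, hU⟩, ⟨V, hV⟩, e, hxU, hsyn⟩ := h x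
  letI : Algebra Γ(S, V) Γ(X, U) := (f.appLE V U e).hom.toAlgebra
  obtain ⟨-, n, φ, hφ, hK⟩ := isLCI_of_isSyntomic (show Synt.IsSyntomic Γ(S, V) Γ(X, U) from hsyn)
  let A₀ := Γ(S, V)
  let C := MvPolynomial (Fin n) A₀
  let P₀ : Ideal C := (hU.primeIdealOf ⟨x, hxU⟩).asIdeal.comap φ.toRingHom
  have hP₀ : RingHom.ker φ.toRingHom ≤ P₀ := fun c hc => by
    rw [Ideal.mem_comap, show φ.toRingHom c = 0 from hc]
    exact zero_mem _
  obtain ⟨g, hg, l, hl, hI⟩ := hK ⟨P₀, Ideal.comap_isPrime _ _⟩ hP₀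
  let b : Γ(X, U) := φ g
  let U' : X.Opens := X.basicOpen b
  have hU' : IsAffineOpen U' := hU.basicOpen b
  have hxU' : x ∈ U' := by
    rw [show U' = hU.fromSpec ''ᵁ PrimeSpectrum.basicOpen b from (hU.fromSpec_image_basicOpen b).symm]
    exact ⟨hU.primeIdealOf ⟨x, hxU⟩, hg, hU.fromSpec_primeIdealOf _⟩
  haveI := hU.isLocalization_basicOpen b
  let R := Localization.Away g
  let φ' : R →+* Γ(X, U') := IsLocalization.map (Γ(X, U')) φ.toRingHom
    (show Submonoid.powers g ≤ (Submonoid.powers b).comap φ.toRingHom by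
      rintro _ ⟨k, rfl⟩
      exact ⟨k, (map_pow φ.toRingHom g k).symm⟩)
  have hφ' : Function.Surjective φ' := by
    intro y
    obtain ⟨c, s, rfl⟩ := IsLocalization.exists_mk'_eq (Submonoid.powers b) y
    obtain ⟨a, rfl⟩ := hφ c
    obtain ⟨k, hk⟩ := s.2
    refine ⟨IsLocalization.mk' R a ⟨g ^ k, pow_mem (Submonoid.mem_powers g) k⟩, ?_⟩
    rw [IsLocalization.map_mk']
    congr 1
    exact Subtype.ext ((map_pow φ.toRingHom g k).trans hk)
  have hφ'ker : RingHom.ker φ' = Ideal.span {y | y ∈ l} := by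
    rw [← hI]
    exact IsLocalization.ker_map (Γ(X, U')) φ.toRingHom (Submonoid.map_powers φ.toRingHom g)
  have e' : U' ≤ f ⁻¹ᵁ V := (X.basicOpen_le b).trans e
  let j : (U' : Scheme.{u}) ⟶ Spec (CommRingCat.of R) := hU'.isoSpec.hom ≫ Spec.map (CommRingCat.ofHom φ')
  let π : Spec (CommRingCat.of R) ⟶ S := Spec.map (CommRingCat.ofHom (algebraMap A₀ R)) ≫ hV.fromSpec
  haveI : IsClosedImmersion (Spec.map (CommRingCat.ofHom φ')) := IsClosedImmersion.spec_of_surjective _ hφ'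
  haveI : IsClosedImmersion j := inferInstanceAs (IsClosedImmersion (_ ≫ _))
  haveI : Smooth π := by
    haveI : Smooth (Spec.map (CommRingCat.ofHom (algebraMap A₀ R))) := by
      rw [HasRingHomProperty.Spec_iff (P := @Smooth), CommRingCat.hom_ofHom, RingHom.smooth_algebraMap]
      haveI : Algebra.Smooth A₀ C := ⟨inferInstance, inferInstance⟩
      haveI : Algebra.Smooth C R := Algebra.Smooth.of_isLocalization_Away g
      exact Algebra.Smooth.comp A₀ C R
    exact inferInstanceAs (Smooth (_ ≫ _))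
  have hjπ : j ≫ π = U'.ι ≫ f := by
    have h1 : φ'.comp (algebraMap A₀ R) = (f.appLE V U' e').hom := by
      rw [IsScalarTower.algebraMap_eq A₀ C R, ← RingHom.comp_assoc, IsLocalization.map_comp, RingHom.comp_assoc,
        show φ.toRingHom.comp (algebraMap A₀ C) = algebraMap A₀ Γ(X, U) from φ.comp_algebraMap, RingHom.algebraMap_toAlgebra, RingHom.algebraMap_toAlgebra, ← CommRingCat.hom_comp]
      exact congrArg CommRingCat.Hom.hom (f.appLE_map e (homOfLE (X.basicOpen_le b)).op)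
    simp only [j, π, Category.assoc]
    rw [← Spec.map_comp_assoc, ← CommRingCat.ofHom_comp, h1, CommRingCat.ofHom_hom,
      IsAffineOpen.SpecMap_appLE_fromSpec f hV hU' e', IsAffineOpen.isoSpec_hom_fromSpec_assoc]
  refine ⟨U', Spec (CommRingCat.of R), j, π, hxU', ?_, ⟨inferInstance, fun z => ?_⟩, inferInstance, hjπ⟩
  · rw [← hjπ]
    infer_instance
  exact ⟨⟨⊤, isAffineOpen_top _⟩, trivial, inferInstance,
    l.map (Scheme.ΓSpecIso (CommRingCat.of R)).symm.commRingCatIsoToRingEquiv,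
    isKoszulRegularSeq_map_equiv _ l hl,
    ker_appTop_comp_specMap hU'.isoSpec.hom (CommRingCat.ofHom φ') l hφ'ker⟩

theorem flat_of_isSyntomicMor {X S : Scheme.{u}} (f : X ⟶ S) (h : Synt.IsSyntomicMor f) : Flat f := by
  rw [HasRingHomProperty.iff_appLE (P := @Flat)]
  intro V U e
  exact (isSyntomicMor_iff_appLE f).1 h U V e |>.1

theorem flat_and_isKoszulAt_iff {X S : Scheme.{u}} (f : X ⟶ S) :
    (Flat f ∧ ∀ x : X, Synt.IsKoszulAt f x) ↔ Synt.IsSyntomicMor f :=
  ⟨fun ⟨hf, h⟩ x => haveI := hf; isSyntomicAt_of_isKoszulAt f x (h x),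
    fun h => ⟨flat_of_isSyntomicMor f h, isKoszulAt_of_isSyntomicMor f h⟩⟩

end Groth.Agent.Synt29
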