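import Groth.Agent.Synt29.ConormalStalk

/-! The sequence `C_{Z/Y} → C_{Z/X} → i^* Ω_{X/Y} → 0` on stalks. -/

set_option autoImplicit false

universe u

open CategoryTheory CategoryTheory.Limits AlgebraicGeometry TopologicalSpace Opposite
open scoped TensorProduct

namespace Groth.Agent.Synt29.ConormalExact

open OmegaStalk ConormalStalk Groth.Agent.KFlatLib

/-- Elements of the kernel of `A → B` with vanishing differential lie in every ideal between the
square of the kernel and the kernel whose quotient has an `R`-section over `B`. -/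
theorem mem_of_tmul_D {R A B : Type u} [CommRing R] [CommRing A] [CommRing B] [Algebra R A]
    [Algebra A B] [Algebra R B] [IsScalarTower R A B] (N : Ideal A)
    (hKN : RingHom.ker (algebraMap A B) ^ 2 ≤ N) (hNK : N ≤ RingHom.ker (algebraMap A B))
    (g : B →ₐ[R] A ⧸ N)
    (hg : ∀ b, Ideal.Quotient.lift N (algebraMap A B) hNK (g b) = b)
    (a : A) (ha : algebraMap A B a = 0) (h : (1 : B) ⊗ₜ[A] KaehlerDifferential.D R A a = 0) :
    a ∈ N := by
  let Q := A ⧸ N
  let q : Q →+* B := Ideal.Quotient.lift N (algebraMap A B) hNK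
  have hnil : ∀ u v : Q, q u = 0 → q v = 0 → u * v = 0 := by
    intro u v hu hv
    obtain ⟨u, rfl⟩ := Ideal.Quotient.mk_surjective u
    obtain ⟨v, rfl⟩ := Ideal.Quotient.mk_surjective v
    rw [← map_mul, Ideal.Quotient.eq_zero_iff_mem]
    refine hKN ?_
    rw [sq]
    exact Ideal.mul_mem_mul (RingHom.mem_ker.mpr hu) (RingHom.mem_ker.mpr hv)
  let π : A →ₐ[R] Q := Ideal.Quotient.mkₐ R _
  let s : A →ₐ[R] Q := g.comp (IsScalarTower.toAlgHom R A B)
  have hqs : ∀ c, q (π c - s c) = 0 := fun c => by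
    rw [map_sub, sub_eq_zero]
    exact (hg (algebraMap A B c)).symm
  have hmul : ∀ c e, π (c * e) - s (c * e) = π c * (π e - s e) + π e * (π c - s c) := fun c e => by
    have h1 := hnil _ _ (hqs c) (hqs e)
    rw [map_mul, map_mul]
    linear_combination (-1 : Q) * h1
  let δ : Derivation R A Q := Derivation.mk' (π.toLinearMap - s.toLinearMap) fun c e => hmul c e
  let L := δ.liftKaehlerDifferential
  have hL : ∀ w, q (L w) = 0 := fun w => by
    have hw : w ∈ Submodule.span A (Set.range (KaehlerDifferential.D R A)) := by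
      rw [KaehlerDifferential.span_range_derivation]; trivial
    induction hw using Submodule.span_induction with
    | mem y hy =>
        obtain ⟨c, rfl⟩ := hy
        rw [show L (KaehlerDifferential.D R A c) = δ c from δ.liftKaehlerDifferential_comp_D c]
        exact hqs c
    | zero => rw [map_zero, map_zero]
    | add y y' _ _ e e' => rw [map_add, map_add, e, e', add_zero]
    | smul c y _ e => rw [map_smul, Algebra.smul_def, map_mul, e, mul_zero]
  let Φ : B ⊗[A] Ω[A⁄R] →ₗ[A] Q := TensorProduct.lift (LinearMap.mk₂ A (fun b w => g b * L w)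
    (fun b b' w => by rw [map_add, add_mul])
    (fun c b w => by
      rw [Algebra.smul_def, Algebra.smul_def, map_mul, mul_assoc]
      have h1 := hnil _ _ (hqs c) (show q (g b * L w) = 0 by rw [map_mul, hL, mul_zero])
      rw [sub_mul, sub_eq_zero] at h1
      exact h1.symm)
    (fun b w w' => by rw [map_add, mul_add])
    (fun c b w => by rw [map_smul, mul_smul_comm]))
  have h2 : g 1 * L (KaehlerDifferential.D R A a) = 0 := (congrArg Φ h).trans (map_zero Φ)
  rw [map_one, one_mul, show L (KaehlerDifferential.D R A a) = π a - s a from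
    δ.liftKaehlerDifferential_comp_D a, show s a = 0 from (congrArg g ha).trans (map_zero g),
    sub_zero] at h2
  exact Ideal.Quotient.eq_zero_iff_mem.mp h2

/-- morphisms of modules agree if they agree on stalks -/
theorem hom_ext_stalk {X : Scheme.{u}} {M N : X.Modules} (a b : M ⟶ N)
    (h : ∀ (x : X) (m : St M x), (DerSch.stalkFunctor X x).map a m =
      (DerSch.stalkFunctor X x).map b m) : a = b := by
  refine Scheme.Modules.hom_ext _ _ fun U => ?_
  ext s
  refine TopCat.Presheaf.section_ext ((toAb X).obj N) U _ _ fun y hy => ?_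
  have := h y (gm M hy s)
  erw [DerSch.stalkFunctor_map_germ y a U hy s, DerSch.stalkFunctor_map_germ y b U hy s] at this
  exact this

/-- elements of the stalk of a pullback along a morphism with surjective stalk map -/
theorem exists_unit {Z X : Scheme.{u}} (h : Z ⟶ X) (x : Z)
    (hs : Function.Surjective (h.stalkMap x)) (M : X.Modules)
    (z : St ((Scheme.Modules.pullback h).obj M) x) :
    ∃ m : St M (h x), (stalkPullbackIso h x).hom.app M z =
      ((ModuleCat.extendRestrictScalarsAdj (h.stalkMap x).hom).unit.app (St M (h x))).hom m := by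
  let unit : St M (h x) → (ModuleCat.extendScalars (h.stalkMap x).hom).obj (St M (h x)) := fun m =>
    ((ModuleCat.extendRestrictScalarsAdj (h.stalkMap x).hom).unit.app (St M (h x))).hom m
  suffices Function.Surjective unit by
    obtain ⟨m, hm⟩ := this ((stalkPullbackIso h x).hom.app M z)
    exact ⟨m, hm.symm⟩
  intro w
  let _ := (h.stalkMap x).hom.toAlgebra
  change (Z.presheaf.stalk x) ⊗[X.presheaf.stalk (h x)] (St M (h x)) at w
  induction w using TensorProduct.induction_on with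
  | zero => exact ⟨0, map_zero _⟩
  | tmul b m =>
      obtain ⟨a, ha⟩ := hs b
      refine ⟨a • m, Eq.trans
        (map_smul ((ModuleCat.extendRestrictScalarsAdj (h.stalkMap x).hom).unit.app
          (St M (h x))).hom a m) ?_⟩
      show h.stalkMap x a • ((1 : Z.presheaf.stalk x) ⊗ₜ[X.presheaf.stalk (h x)] m) =
        b ⊗ₜ[X.presheaf.stalk (h x)] m
      rw [ha]
      show (b * 1) ⊗ₜ[X.presheaf.stalk (h x)] m = b ⊗ₜ[X.presheaf.stalk (h x)] m
      rw [mul_one]
  | add v w ihv ihw =>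
      obtain ⟨m, hm⟩ := ihv
      obtain ⟨m', hm'⟩ := ihw
      exact ⟨m + m', (map_add _ m m').trans (congrArg₂ (· + ·) hm hm')⟩

variable {Z X Y : Scheme.{u}} (p : X ⟶ Y) (i : Z ⟶ X) [IsImmersion i] [QuasiCompact i]
  (ψ : (Scheme.Modules.pullback (𝟙 Z)).obj (Omega.conormal (i ≫ p)) ⟶ Omega.conormal i)
  (hψ : OmegaSh.IsConormalMap i (i ≫ p) p (𝟙 Z) ψ)

include hψ in
/-- the value of the map of conormal sheaves on a class -/
theorem psi_gen [QuasiCompact (i ≫ p)] (U' : Y.Opens) (s' : Γ(ClSub.idealMod (i ≫ p).ker, U'))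
    {x : Z} (hx : x ∈ i ⁻¹ᵁ p ⁻¹ᵁ U') :
    ∃ s : Γ(ClSub.idealMod i.ker, p ⁻¹ᵁ U'),
      OmegaSh.idealSect i.ker (p ⁻¹ᵁ U') s = p.app U' (OmegaSh.idealSect (i ≫ p).ker U' s') ∧
      (DerSch.stalkFunctor Z x).map ψ
        (gm _ (show x ∈ (𝟙 Z) ⁻¹ᵁ ((i ≫ p) ⁻¹ᵁ U') from hx)
          (OmegaSh.pullSect (𝟙 Z) (Omega.conormal (i ≫ p)) ((i ≫ p) ⁻¹ᵁ U')
            (OmegaSh.conormalSect (i ≫ p) U' s'))) =
        gm _ hx (OmegaSh.conormalSect i (p ⁻¹ᵁ U') s) := by
  have h0 : i.app (p ⁻¹ᵁ U') (p.app U' (OmegaSh.idealSect (i ≫ p).ker U' s')) = 0 :=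
    OmegaUniv.app_idealSect (i ≫ p) U' s'
  obtain ⟨s, hs⟩ := OmegaUniv.exists_idealSect_of_app_eq_zero i _ _ h0
  refine ⟨s, hs, ?_⟩
  refine (DerSch.stalkFunctor_map_germ x ψ _ _ _).trans ?_
  have h1 := hψ.2 U' s' s hs (i ⁻¹ᵁ p ⁻¹ᵁ U') le_rfl le_rfl
  have h2 := congrArg (gm (Omega.conormal i) hx) h1
  erw [gm_res, gm_res] at h2
  exact h2

variable (Ω : X.Modules) (d : OmegaSh.Der p Ω) (hd : OmegaSh.IsUniversal d)
  (φ : Omega.conormal i ⟶ (Scheme.Modules.pullback i).obj Ω) (hφ : OmegaSh.IsConormalDiff i d φ)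

include hψ hφ in
theorem comp_eq_zero [IsImmersion (i ≫ p)] [QuasiCompact (i ≫ p)] : ψ ≫ φ = 0 := by
  refine hom_ext_stalk _ _ fun x m => ?_
  rw [Functor.map_zero]
  show _ = (0 : St _ x)
  obtain ⟨z, hz⟩ := exists_unit (𝟙 Z) x (Scheme.Hom.stalkMap_surjective (𝟙 Z) x) _ m
  obtain ⟨U', hx, s', rfl⟩ := exists_conormalSect (i ≫ p) x z
  have hm : m = gm _ (show x ∈ (𝟙 Z) ⁻¹ᵁ ((i ≫ p) ⁻¹ᵁ U') from hx)
      (OmegaSh.pullSect (𝟙 Z) (Omega.conormal (i ≫ p)) ((i ≫ p) ⁻¹ᵁ U')
        (OmegaSh.conormalSect (i ≫ p) U' s')) :=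
    (ConcreteCategory.bijective_of_isIso ((stalkPullbackIso (𝟙 Z) x).app _).hom).1
      (hz.trans (stalkPullbackIso_gm (𝟙 Z) _ x (show x ∈ (𝟙 Z) ⁻¹ᵁ ((i ≫ p) ⁻¹ᵁ U') from hx) _).symm)
  obtain ⟨s, hs, he⟩ := psi_gen p i ψ hψ U' s' (x := x) hx
  rw [Functor.map_comp, ModuleCat.comp_apply, hm, he]
  refine (DerSch.stalkFunctor_map_germ x φ _ _ _).trans ?_
  rw [hφ (p ⁻¹ᵁ U') s, hs, app_base, map_zero, map_zero]
  rfl

include hψ hd hφ in
theorem exact_stalk [IsImmersion (i ≫ p)] [QuasiCompact (i ≫ p)] (x : Z)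
    (z : St (Omega.conormal i) x) (hz : (DerSch.stalkFunctor Z x).map φ z = 0) :
    ∃ w, (DerSch.stalkFunctor Z x).map ψ w = z := by
  let P := (stalkPullbackIso i x).app (I i)
  let L := (DerSch.stalkFunctor Z x).map ψ ≫ P.hom
  obtain ⟨U, hx, k, rfl⟩ := exists_conormalSect i x z
  let R := Y.presheaf.stalk (p (i x))
  let φR : R ⟶ X.presheaf.stalk (i x) := p.stalkMap (i x)
  let K := RingHom.ker (i.stalkMap x).hom
  let J := RingHom.ker (φR ≫ i.stalkMap x).hom
  let N := J.map φR.hom ⊔ K ^ 2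
  have hN : ∀ a ∈ N, ∃ m, Rep i (i x) m a ∧ ∃ w, L w = unit1 i x m := by
    intro a ha
    obtain ⟨b, hb, c, hc, rfl⟩ := Submodule.mem_sup.mp ha
    obtain ⟨m₂, hm₂⟩ := exists_rep i (RingHom.mem_ker.mp (Ideal.pow_le_self two_ne_zero hc))
    have hc0 := unit1_eq_zero_of_mem_sq i hm₂ hc
    suffices ∃ m, Rep i (i x) m b ∧ ∃ w, L w = unit1 i x m by
      obtain ⟨m₁, hm₁, w, hw⟩ := this
      refine ⟨m₁ + m₂, rep_add i hm₁ hm₂, w, ?_⟩
      refine hw.trans (Eq.symm ((map_add ((ModuleCat.extendRestrictScalarsAdj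
        (i.stalkMap x).hom).unit.app (St (I i) (i x))).hom m₁ m₂).trans ?_))
      exact (congrArg (unit1 i x m₁ + ·) hc0).trans (add_zero _)
    clear ha
    induction hb using Submodule.span_induction with
    | mem b hb =>
        obtain ⟨r, hr, rfl⟩ := hb
        have hr' : (i ≫ p).stalkMap x r = 0 := by
          rw [Scheme.Hom.stalkMap_comp i p x]
          exact RingHom.mem_ker.mp hr
        obtain ⟨m', U', hy, s', -, rfl⟩ := exists_rep (i ≫ p) hr'
        have hy' : x ∈ i ⁻¹ᵁ p ⁻¹ᵁ U' := hy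
        obtain ⟨s, hs, he⟩ := psi_gen p i ψ hψ U' s' (x := x) hy'
        refine ⟨gm (I i) (show i x ∈ p ⁻¹ᵁ U' from hy) s, ⟨p ⁻¹ᵁ U', hy, s, rfl, ?_⟩, _,
          (congrArg P.hom he).trans (stalkPullbackIso_gm i (I i) x hy' s)⟩
        rw [hs]
        exact (Scheme.Hom.germ_stalkMap_apply p U' (i x) hy _).symm
    | zero => exact ⟨0, rep_zero i _, 0, (map_zero _).trans (map_zero _).symm⟩
    | add b b' _ _ e e' =>
        obtain ⟨m, h, w, hw⟩ := e
        obtain ⟨m', h', w', hw'⟩ := e'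
        exact ⟨m + m', rep_add i h h', w + w',
          (map_add _ w w').trans ((congrArg₂ (· + ·) hw hw').trans (map_add _ m m').symm)⟩
    | smul c b _ e =>
        obtain ⟨m, h, w, hw⟩ := e
        refine ⟨c • m, rep_smul i h c, i.stalkMap x c • w, ?_⟩
        rw [map_smul, hw, unit1_smul]
  have h1 : (DerSch.stalkFunctor Z x).map φ (gm _ hx (OmegaSh.conormalSect i U k)) =
      gm _ hx (OmegaSh.pullSect i Ω U (d.app U (OmegaSh.idealSect i.ker U k))) := by
    refine (DerSch.stalkFunctor_map_germ x φ _ hx _).trans ?_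
    exact congrArg _ (hφ U k)
  rw [h1] at hz
  have h2 := (stalkPullbackIso_gm i Ω x hx (d.app U (OmegaSh.idealSect i.ker U k))).symm.trans
    ((congrArg _ hz).trans (map_zero _))
  rw [← stalkD_germ] at h2
  generalize hb : X.presheaf.germ U (i x) hx (OmegaSh.idealSect i.ker U k) = a at h2
  have hrep : Rep i (i x) (gm (I i) hx k) a := ⟨U, hx, k, rfl, hb⟩
  have ha : i.stalkMap x a = 0 := rep_mem i hrep
  obtain ⟨j, hj⟩ := exists_iso_of_eq hd (i x) φR rfl
  let E := (ModuleCat.extendScalars (i.stalkMap x).hom).mapIso j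
  let _ := φR.hom.toAlgebra
  let _ := (i.stalkMap x).hom.toAlgebra
  let _ : Algebra R (Z.presheaf.stalk x) := (φR ≫ i.stalkMap x).hom.toAlgebra
  have : IsScalarTower R (X.presheaf.stalk (i x)) (Z.presheaf.stalk x) :=
    IsScalarTower.of_algebraMap_eq' rfl
  have hsurj : Function.Surjective (Algebra.ofId R (Z.presheaf.stalk x)) := by
    show Function.Surjective (φR ≫ i.stalkMap x)
    rw [← Scheme.Hom.stalkMap_comp i p x]
    exact (i ≫ p).stalkMap_surjective x
  have hNK : N ≤ K := sup_le (Ideal.map_le_iff_le_comap.mpr fun r hr => hr)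
    (Ideal.pow_le_self two_ne_zero)
  let g : Z.presheaf.stalk x →ₐ[R] X.presheaf.stalk (i x) ⧸ N :=
    (Ideal.Quotient.liftₐ (RingHom.ker (Algebra.ofId R (Z.presheaf.stalk x)))
      (Algebra.ofId R (X.presheaf.stalk (i x) ⧸ N)) fun r hr =>
        Ideal.Quotient.eq_zero_iff_mem.mpr (Ideal.mem_sup_left (Ideal.mem_map_of_mem _ hr))).comp
      (Ideal.quotientKerAlgEquivOfSurjective hsurj).symm.toAlgHom
  have hg : ∀ b, Ideal.Quotient.lift N (i.stalkMap x).hom hNK (g b) = b := by
    intro b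
    obtain ⟨r, rfl⟩ := hsurj b
    rw [show g (Algebra.ofId R _ r) = Algebra.ofId R _ r from g.commutes r]
    rfl
  have h3 : E.hom (((ModuleCat.extendRestrictScalarsAdj (i.stalkMap x).hom).unit.app _).hom
      (CommRingCat.KaehlerDifferential.d a)) = 0 := by
    rw [← h2, ← hj a]
    exact (congr($((ModuleCat.extendRestrictScalarsAdj (i.stalkMap x).hom).unit.naturality j.hom)
      (CommRingCat.KaehlerDifferential.d a))).symm
  obtain ⟨m, hm, w, hw⟩ := hN a (mem_of_tmul_D N le_sup_right hNK g hg a ha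
    ((ConcreteCategory.bijective_of_isIso E.hom).1 (h3.trans (map_zero E.hom.hom).symm)))
  rw [rep_inj i hm hrep] at hw
  exact ⟨w, (ConcreteCategory.bijective_of_isIso P.hom).1
    (hw.trans (stalkPullbackIso_gm i (I i) x hx k).symm)⟩

include hd hφ in
theorem epi_conormalDiff [IsImmersion (i ≫ p)] : Epi φ := by
  rw [epi_iff_stalk]
  intro x z
  let P := (stalkPullbackIso i x).app Ω
  let L := (DerSch.stalkFunctor Z x).map φ ≫ P.hom
  let un : St Ω (i x) → _ := fun m =>
    ((ModuleCat.extendRestrictScalarsAdj (i.stalkMap x).hom).unit.app (St Ω (i x))).hom m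
  suffices ∀ m, ∃ w, L w = un m by
    obtain ⟨m, hm⟩ := exists_unit i x (i.stalkMap_surjective x) Ω z
    obtain ⟨w, hw⟩ := this m
    exact ⟨w, (ConcreteCategory.bijective_of_isIso P.hom).1 (hw.trans hm.symm)⟩
  let φR : Y.presheaf.stalk (p (i x)) ⟶ X.presheaf.stalk (i x) := p.stalkMap (i x)
  obtain ⟨j, hj⟩ := exists_iso_of_eq hd (i x) φR rfl
  intro m
  obtain ⟨v, rfl⟩ := (ConcreteCategory.bijective_of_isIso j.hom).2 m
  let _ := φR.hom.toAlgebra
  have hv : v ∈ Submodule.span (X.presheaf.stalk (i x))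
      (Set.range (KaehlerDifferential.D (Y.presheaf.stalk (p (i x)))
        (X.presheaf.stalk (i x)))) := by
    rw [KaehlerDifferential.span_range_derivation]; trivial
  induction hv using Submodule.span_induction with
  | mem y hy =>
      obtain ⟨a, rfl⟩ := hy
      obtain ⟨r, hr⟩ := (i ≫ p).stalkMap_surjective x (i.stalkMap x a)
      have hr' : i.stalkMap x (φR r) = i.stalkMap x a :=
        (congr($(Scheme.Hom.stalkMap_comp i p x) r)).symm.trans hr
      have he : i.stalkMap x (a - φR r) = 0 := by rw [map_sub, hr', sub_self]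
      obtain ⟨_, U, hx, k, -, hk⟩ := exists_rep i he
      have hx' : x ∈ i ⁻¹ᵁ U := hx
      refine ⟨gm (Omega.conormal i) hx' (OmegaSh.conormalSect i U k), ?_⟩
      show P.hom ((DerSch.stalkFunctor Z x).map φ _) = un (j.hom (CommRingCat.KaehlerDifferential.d a))
      rw [hj a]
      refine (congrArg P.hom ((DerSch.stalkFunctor_map_germ x φ _ hx' _).trans
        (congrArg _ (hφ U k)))).trans ?_
      refine (stalkPullbackIso_gm i Ω x hx' _).trans (congrArg un ?_)
      rw [← stalkD_germ d U hx, hk]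
      have e2 := (stalkD d (i x)).d_add (a - φR r) (φR r)
      rw [sub_add_cancel, (stalkD d (i x)).d_map r, add_zero] at e2
      exact e2.symm
  | zero => exact ⟨0, (map_zero _).trans ((congrArg un (map_zero j.hom.hom)).trans (map_zero _)).symm⟩
  | add y y' _ _ e e' =>
      obtain ⟨w, hw⟩ := e
      obtain ⟨w', hw'⟩ := e'
      exact ⟨w + w', (map_add _ w w').trans ((congrArg₂ (· + ·) hw hw').trans
        ((congrArg un (map_add j.hom.hom y y')).trans (map_add _ _ _)).symm)⟩
  | smul c y _ e =>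
      obtain ⟨w, hw⟩ := e
      refine ⟨i.stalkMap x c • w, (map_smul _ _ w).trans ?_⟩
      exact (congrArg (i.stalkMap x c • ·) hw).trans
        ((congrArg un (map_smul j.hom.hom c y)).trans (map_smul _ _ _)).symm

include hψ hd hφ in
theorem exact_and_epi [IsImmersion (i ≫ p)] [QuasiCompact (i ≫ p)] :
    ∃ w : ψ ≫ φ = 0, (ShortComplex.mk ψ φ w).Exact ∧ Epi φ := by
  refine ⟨comp_eq_zero p i ψ hψ Ω d φ hφ, ?_, epi_conormalDiff p i Ω d hd φ hφ⟩
  rw [exact_iff_stalk]
  intro x
  rw [ShortComplex.moduleCat_exact_iff]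
  exact fun z hz => exact_stalk p i ψ hψ Ω d hd φ hφ x z hz

end Groth.Agent.Synt29.ConormalExact
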