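import Groth.Agent.Synt29.OmegaStalk

/-! Restricting universal derivations to open subschemes. -/

set_option autoImplicit false

universe u

open CategoryTheory CategoryTheory.Limits AlgebraicGeometry TopologicalSpace Opposite

namespace Groth.Agent.Synt29.OmegaStalk

variable {X Y T U : Scheme.{u}}

/-- A derivation over `Y` is a derivation over an open subscheme of `Y` containing the image. -/
def derToOpen (f : X ⟶ Y) (f₁ : X ⟶ T) (k : T ⟶ Y) [IsOpenImmersion k] (e : f = f₁ ≫ k)
    {F : X.Modules} (D : OmegaSh.Der f F) : OmegaSh.Der f₁ F where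
  d {W} := D.d (X := W)
  d_mul {W} a b := D.d_mul a b
  d_map {W W'} i a := D.d_map i a
  d_app {W} c := by
    show D.app (f₁ ⁻¹ᵁ W.unop) (f₁.app W.unop c) = 0
    rw [congr($(IsOpenImmersion.app_eq_appIso_inv_app_of_comp_eq f₁ k f e W.unop) c)]
    refine (app_res F D (eqToHom (IsOpenImmersion.app_eq_invApp_app_of_comp_eq_aux f₁ k f e W.unop))
      _).trans ?_
    exact (congrArg _ (app_base F D _ _)).trans (map_zero _)

/-- and conversely -/
def derOfOpen (f : X ⟶ Y) (f₁ : X ⟶ T) (k : T ⟶ Y) (e : f = f₁ ≫ k)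
    {F : X.Modules} (D : OmegaSh.Der f₁ F) : OmegaSh.Der f F where
  d {W} := D.d (X := W)
  d_mul {W} a b := D.d_mul a b
  d_map {W W'} i a := D.d_map i a
  d_app {W} c := by
    subst e
    exact app_base F D (k ⁻¹ᵁ W.unop) (k.app W.unop c)

lemma isUniversal_derToOpen {f : X ⟶ Y} {Ω : X.Modules} {d : OmegaSh.Der f Ω}
    (hd : OmegaSh.IsUniversal d) (f₁ : X ⟶ T) (k : T ⟶ Y) [IsOpenImmersion k] (e : f = f₁ ≫ k) :
    OmegaSh.IsUniversal (derToOpen f f₁ k e d) := by
  intro F D
  obtain ⟨α, hα, huniq⟩ := hd F (derOfOpen f f₁ k e D)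
  refine ⟨α, ?_, fun β hβ => huniq β ?_⟩
  · refine PresheafOfModules.Derivation.ext ?_
    funext W
    exact AddMonoidHom.ext fun s => PresheafOfModules.Derivation.congr_d hα s
  · refine PresheafOfModules.Derivation.ext ?_
    funext W
    exact AddMonoidHom.ext fun s => PresheafOfModules.Derivation.congr_d hβ s

variable (j : U ⟶ X) [IsOpenImmersion j] {f : X ⟶ Y}

/-- Restriction of a derivation to an open subscheme. -/
noncomputable def restrictDer {Ω : X.Modules} (d : OmegaSh.Der f Ω) :
    OmegaSh.Der (j ≫ f) (Ω.restrict j) where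
  d {W} :=
    { toFun := fun s =>
        (show Γ(Ω.restrict j, W.unop) from d.app (j ''ᵁ W.unop) ((j.appIso W.unop).inv s))
      map_zero' := by
        show d.app (j ''ᵁ W.unop) ((j.appIso W.unop).inv 0) = 0
        rw [map_zero, map_zero]
      map_add' := fun a b => by
        show d.app (j ''ᵁ W.unop) ((j.appIso W.unop).inv (a + b)) = _
        rw [map_add, map_add]
        rfl }
  d_mul {W} a b := by
    show d.app (j ''ᵁ W.unop) ((j.appIso W.unop).inv (a * b)) =
      (j.appIso W.unop).inv a • d.app (j ''ᵁ W.unop) ((j.appIso W.unop).inv b) +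
        (j.appIso W.unop).inv b • d.app (j ''ᵁ W.unop) ((j.appIso W.unop).inv a)
    rw [map_mul, app_mul]
  d_map {W W'} i a := by
    show d.app (j ''ᵁ W'.unop) ((j.appIso W'.unop).inv (U.presheaf.map i a)) =
      Ω.presheaf.map (j.opensFunctor.map i.unop).op (d.app (j ''ᵁ W.unop) ((j.appIso W.unop).inv a))
    rw [← app_res]
    exact congrArg _ (congr($(j.appIso_inv_naturality i) a))
  d_app {V} c := by
    show d.app (j ''ᵁ (j ⁻¹ᵁ (f ⁻¹ᵁ V.unop)))
      ((j.appIso (j ⁻¹ᵁ (f ⁻¹ᵁ V.unop))).inv (j.app (f ⁻¹ᵁ V.unop) (f.app V.unop c))) = 0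
    refine (congrArg _ (congr($(j.app_appIso_inv (f ⁻¹ᵁ V.unop)) (f.app V.unop c)))).trans ?_
    exact (app_res Ω d (homOfLE (j.image_preimage_le _)) _).trans
      ((congrArg _ (app_base Ω d _ _)).trans (map_zero _))

/-- The direct image of a derivation on an open subscheme. -/
noncomputable def pushDer {F : U.Modules} (D : OmegaSh.Der (j ≫ f) F) :
    OmegaSh.Der f ((Scheme.Modules.pushforward j).obj F) where
  d {W} :=
    { toFun := fun s => D.app (j ⁻¹ᵁ W.unop) (j.app W.unop s)
      map_zero' := by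
        show D.app (j ⁻¹ᵁ W.unop) (j.app W.unop 0) = 0
        rw [map_zero, map_zero]
      map_add' := fun s t => by
        show D.app (j ⁻¹ᵁ W.unop) (j.app W.unop (s + t)) = _
        rw [map_add, map_add]
        rfl }
  d_mul {W} s t := by
    show D.app (j ⁻¹ᵁ W.unop) (j.app W.unop (s * t)) =
      j.app W.unop s • D.app (j ⁻¹ᵁ W.unop) (j.app W.unop t) +
        j.app W.unop t • D.app (j ⁻¹ᵁ W.unop) (j.app W.unop s)
    rw [map_mul, app_mul]
  d_map {W V} i s := by
    show D.app (j ⁻¹ᵁ V.unop) (j.app V.unop (X.presheaf.map i s)) =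
      F.presheaf.map ((TopologicalSpace.Opens.map j.base).map i.unop).op
        (D.app (j ⁻¹ᵁ W.unop) (j.app W.unop s))
    rw [← app_res]
    exact congrArg _ (congr($(j.naturality i) s))
  d_app {V} c := app_base F D V.unop c

/-- Derivations on an open subscheme are determined by their values on restricted sections. -/
lemma der_ext_of_app {g : U ⟶ Y} {F : U.Modules} {D₁ D₂ : OmegaSh.Der g F}
    (h : ∀ (W : X.Opens) (s : Γ(X, W)), D₁.app (j ⁻¹ᵁ W) (j.app W s) = D₂.app (j ⁻¹ᵁ W) (j.app W s)) :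
    D₁ = D₂ := by
  refine PresheafOfModules.Derivation.ext ?_
  funext W
  refine AddMonoidHom.ext fun s => ?_
  have e := congr($(j.appIso_inv_app_presheafMap W.unop) s)
  show D₁.app W.unop s = D₂.app W.unop s
  rw [ConcreteCategory.id_apply] at e
  rw [← e, ConcreteCategory.comp_apply, ConcreteCategory.comp_apply, app_res, app_res, h]

theorem isUniversal_restrictDer {Ω : X.Modules} {d : OmegaSh.Der f Ω}
    (hd : OmegaSh.IsUniversal d) : OmegaSh.IsUniversal (restrictDer j d) := by
  intro F D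
  let adj := Scheme.Modules.restrictAdjunction j
  have hval : ∀ (β : Ω.restrict j ⟶ F) (W : X.Opens) (s : Γ(X, W)),
      ((adj.homEquiv Ω F) β).app W (d.app W s) =
        β.app (j ⁻¹ᵁ W) ((restrictDer j d).app (j ⁻¹ᵁ W) (j.app W s)) := by
    intro β W s
    rw [Adjunction.homEquiv_unit]
    show β.app (j ⁻¹ᵁ W) (Ω.presheaf.map (homOfLE (j.image_preimage_le W)).op (d.app W s)) = _
    refine congrArg _ ?_
    show _ = d.app (j ''ᵁ (j ⁻¹ᵁ W)) ((j.appIso (j ⁻¹ᵁ W)).inv (j.app W s))
    rw [← app_res]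
    exact congrArg _ (congr($(j.app_appIso_inv W) s)).symm
  obtain ⟨α, hα, huniq⟩ := hd _ (pushDer j D)
  refine ⟨(adj.homEquiv Ω F).symm α, ?_, fun β hβ => ?_⟩
  · refine der_ext_of_app j fun W s => ?_
    have h := hval ((adj.homEquiv Ω F).symm α) W s
    rw [Equiv.apply_symm_apply] at h
    exact h.symm.trans (PresheafOfModules.Derivation.congr_d hα s)
  · rw [Equiv.eq_symm_apply]
    apply huniq
    refine PresheafOfModules.Derivation.ext ?_
    funext W
    refine AddMonoidHom.ext fun s => ?_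
    exact (hval β W.unop s).trans
      (PresheafOfModules.Derivation.congr_d hβ (X := op (j ⁻¹ᵁ W.unop)) (j.app W.unop s))

end Groth.Agent.Synt29.OmegaStalk
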