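import Groth.Agent.Synt29.OmegaStalk

/-!
The canonical maps between sheaves of differentials, on stalks.
-/

set_option autoImplicit false

universe u

open CategoryTheory CategoryTheory.Limits AlgebraicGeometry TopologicalSpace Opposite
open scoped TensorProduct

namespace Groth.Agent.Synt29.OmegaStalk

open Groth.Agent.KFlatLib

variable {X Y : Scheme.{u}} {f : X ⟶ Y}

/-- The comparison, for any presentation of the stalk map. -/
lemma exists_iso_of_eq {Ω : X.Modules} {d : OmegaSh.Der f Ω} (hd : OmegaSh.IsUniversal d) (x : X)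
    (φ : Y.presheaf.stalk (f x) ⟶ X.presheaf.stalk x) (e : φ = f.stalkMap x) :
    ∃ i : CommRingCat.KaehlerDifferential φ ≅ St Ω x,
      ∀ b, i.hom (CommRingCat.KaehlerDifferential.d b) = (stalkD d x).d b := by
  subst e
  have := isIso_toStalk hd x
  exact ⟨asIso (toStalk d x), fun b => toStalk_d d x b⟩

variable {X' Y' : Scheme.{u}} {f' : X' ⟶ Y'} {h : X' ⟶ X}

/-- The canonical map on stalks, in terms of Kähler differentials. -/
theorem exists_stalk_square {Ω : X.Modules} {d : OmegaSh.Der f Ω} (hd : OmegaSh.IsUniversal d)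
    {Ω' : X'.Modules} {d' : OmegaSh.Der f' Ω'} (hd' : OmegaSh.IsUniversal d')
    (c : (Scheme.Modules.pullback h).obj Ω ⟶ Ω') (hc : OmegaSh.IsDiffCompat h d d' c) (x : X')
    (φ : Y.presheaf.stalk (f (h x)) ⟶ X.presheaf.stalk (h x)) (eφ : φ = f.stalkMap (h x))
    (φ' : Y'.presheaf.stalk (f' x) ⟶ X'.presheaf.stalk x) (eφ' : φ' = f'.stalkMap x) :
    ∃ (i₁ : (ModuleCat.extendScalars (h.stalkMap x).hom).obj (CommRingCat.KaehlerDifferential φ) ≅
          St ((Scheme.Modules.pullback h).obj Ω) x)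
      (i₂ : CommRingCat.KaehlerDifferential φ' ≅ St Ω' x),
      ∀ γ : (ModuleCat.extendScalars (h.stalkMap x).hom).obj (CommRingCat.KaehlerDifferential φ) ⟶
          CommRingCat.KaehlerDifferential φ',
        (∀ b : X.presheaf.stalk (h x),
          γ (((ModuleCat.extendRestrictScalarsAdj (h.stalkMap x).hom).unit.app _).hom
              (CommRingCat.KaehlerDifferential.d b)) =
            CommRingCat.KaehlerDifferential.d (h.stalkMap x b)) →
        i₁.hom ≫ (DerSch.stalkFunctor X' x).map c = γ ≫ i₂.hom := by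
  obtain ⟨j, hj⟩ := exists_iso_of_eq hd (h x) φ eφ
  obtain ⟨i₂, hi₂⟩ := exists_iso_of_eq hd' x φ' eφ'
  let P := (stalkPullbackIso h x).app Ω
  let E := (ModuleCat.extendScalars (h.stalkMap x).hom).mapIso j
  let adj := ModuleCat.extendRestrictScalarsAdj (h.stalkMap x).hom
  refine ⟨E ≪≫ P.symm, i₂, fun γ hγ => ?_⟩
  apply (adj.homEquiv _ _).injective
  refine CommRingCat.KaehlerDifferential.ext fun b => ?_
  rw [Adjunction.homEquiv_unit, Adjunction.homEquiv_unit, ModuleCat.comp_apply,
    ModuleCat.comp_apply]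
  show (DerSch.stalkFunctor X' x).map c (P.inv (E.hom ((adj.unit.app _).hom
      (CommRingCat.KaehlerDifferential.d b)))) =
    i₂.hom (γ ((adj.unit.app _).hom (CommRingCat.KaehlerDifferential.d b)))
  rw [hγ, hi₂]
  have h1 : E.hom ((adj.unit.app _).hom (CommRingCat.KaehlerDifferential.d b)) =
      (adj.unit.app (St Ω (h x))).hom ((stalkD d (h x)).d b) := by
    rw [← hj b]
    exact (congr($(adj.unit.naturality j.hom) (CommRingCat.KaehlerDifferential.d b))).symm
  rw [h1]
  obtain ⟨U, hU, s, rfl⟩ := X.presheaf.exists_germ_eq (x := h x) b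
  have hU' : x ∈ h ⁻¹ᵁ U := hU
  have h2 : P.inv ((adj.unit.app (St Ω (h x))).hom
      ((stalkD d (h x)).d (X.presheaf.germ U (h x) hU s))) =
      gm _ hU' (OmegaSh.pullSect h Ω U (d.app U s)) := by
    rw [stalkD_germ]
    have h3 : (adj.unit.app (St Ω (h x))).hom (gm Ω hU (d.app U s)) =
        P.hom (gm _ hU' (OmegaSh.pullSect h Ω U (d.app U s))) :=
      (stalkPullbackIso_gm h Ω x hU' _).symm
    rw [h3, Iso.hom_inv_id_apply]
  rw [h2, Scheme.Hom.germ_stalkMap_apply]
  refine (DerSch.stalkFunctor_map_germ x c _ hU' _).trans ?_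
  rw [hc U s]
  exact (stalkD_germ d' (h ⁻¹ᵁ U) hU' _).symm

/-- injectivity, surjectivity of the canonical map in terms of a model -/
lemma stalk_iff {S : CommRingCat.{u}} {M₁ M₂ N₁ N₂ : ModuleCat.{u} S}
    (i₁ : M₁ ≅ N₁) (i₂ : M₂ ≅ N₂) {γ : M₁ ⟶ M₂} {c : N₁ ⟶ N₂} (w : i₁.hom ≫ c = γ ≫ i₂.hom) :
    (Function.Injective c ↔ Function.Injective γ) ∧
      (Function.Surjective c ↔ Function.Surjective γ) := by
  have h1 : Function.Bijective i₁.hom := ConcreteCategory.bijective_of_isIso i₁.hom
  have h2 : Function.Bijective i₂.hom := ConcreteCategory.bijective_of_isIso i₂.hom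
  have e : ⇑c ∘ ⇑i₁.hom = ⇑i₂.hom ∘ ⇑γ := funext fun m => congr($w m)
  constructor
  · rw [← Function.Injective.of_comp_iff' c h1, e, Function.Injective.of_comp_iff h2.1]
  · rw [← Function.Surjective.of_comp_iff c h1.2, e, Function.Surjective.of_comp_iff' h2]

section Composite

variable {R A T : CommRingCat.{u}} (φ : R ⟶ A) (ψ : A ⟶ T)

/-- `T ⊗_A Ω_{A/R} ⟶ Ω_{T/R}` -/
noncomputable def baseMap :
    (ModuleCat.extendScalars ψ.hom).obj (CommRingCat.KaehlerDifferential φ) ⟶
      CommRingCat.KaehlerDifferential (φ ≫ ψ) :=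
  letI := φ.hom.toAlgebra
  letI := ψ.hom.toAlgebra
  letI := (φ ≫ ψ).hom.toAlgebra
  haveI : IsScalarTower R A T := IsScalarTower.of_algebraMap_eq' rfl
  ModuleCat.ofHom
    (X := (ModuleCat.extendScalars ψ.hom).obj (CommRingCat.KaehlerDifferential φ))
    (KaehlerDifferential.mapBaseChange R A T)

lemma baseMap_unit (a : A) :
    baseMap φ ψ (((ModuleCat.extendRestrictScalarsAdj ψ.hom).unit.app _).hom
      (CommRingCat.KaehlerDifferential.d a)) = CommRingCat.KaehlerDifferential.d (ψ a) := by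
  let _ := φ.hom.toAlgebra
  let _ := ψ.hom.toAlgebra
  let _ := (φ ≫ ψ).hom.toAlgebra
  have : IsScalarTower R A T := IsScalarTower.of_algebraMap_eq' rfl
  refine (KaehlerDifferential.mapBaseChange_tmul R A T (1 : T) (KaehlerDifferential.D R A a)).trans ?_
  rw [one_smul, KaehlerDifferential.map_D]
  rfl

lemma baseMap_surjective_iff :
    Function.Surjective (baseMap φ ψ) ↔ ψ.hom.FormallyUnramified := by
  let _ := φ.hom.toAlgebra
  let _ := ψ.hom.toAlgebra
  let _ := (φ ≫ ψ).hom.toAlgebra
  have : IsScalarTower R A T := IsScalarTower.of_algebraMap_eq' rfl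
  show Function.Surjective (KaehlerDifferential.mapBaseChange R A T) ↔
    Algebra.FormallyUnramified A T
  rw [Algebra.formallyUnramified_iff]
  have hex := KaehlerDifferential.exact_mapBaseChange_map R A T
  constructor
  · intro hs
    refine subsingleton_of_forall_eq 0 fun z => ?_
    obtain ⟨w, rfl⟩ := KaehlerDifferential.map_surjective R A T z
    obtain ⟨v, rfl⟩ := hs w
    exact hex.apply_apply_eq_zero v
  · intro hsub w
    exact (hex w).mp (hsub.elim _ _)

lemma baseMap_injective (hψ : ψ.hom.FormallySmooth) : Function.Injective (baseMap φ ψ) := by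
  let _ := φ.hom.toAlgebra
  let _ := ψ.hom.toAlgebra
  let _ := (φ ≫ ψ).hom.toAlgebra
  have : IsScalarTower R A T := IsScalarTower.of_algebraMap_eq' rfl
  have : Algebra.FormallySmooth A T := hψ
  show Function.Injective (KaehlerDifferential.mapBaseChange R A T)
  refine (injective_iff_map_eq_zero _).mpr fun z hz => ?_
  obtain ⟨w, rfl⟩ := (Algebra.H1Cotangent.exact_δ_mapBaseChange R A T z).mp hz
  rw [Subsingleton.elim w 0, map_zero]

end Composite

end Groth.Agent.Synt29.OmegaStalk
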