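import Groth.Agent.S2768
import Groth.Agent.S7408
import Mathlib

/-! Smooth morphisms have a relative dimension near every point. -/

set_option autoImplicit false

universe u

open CategoryTheory CategoryTheory.Limits AlgebraicGeometry TopologicalSpace Opposite

namespace Groth.Agent.Synt29.SmoothDim

variable {X Y : Scheme.{u}} (f : X ⟶ Y)

lemma smoothOfRelativeDimension_chart {U : Y.Opens} (hU : IsAffineOpen U) {V : X.Opens}
    (hV : IsAffineOpen V) (e : V ≤ f ⁻¹ᵁ U) {n : ℕ}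
    (h : RingHom.IsStandardSmoothOfRelativeDimension n (f.appLE U V e).hom) :
    SmoothOfRelativeDimension n (V.ι ≫ f) := by
  have : IsAffine (U : Scheme.{u}) := hU
  have : IsAffine (V : Scheme.{u}) := hV
  have h1 : SmoothOfRelativeDimension n (f.resLE U V e) := by
    rw [HasRingHomProperty.iff_of_isAffine (P := @SmoothOfRelativeDimension n)]
    refine RingHom.locally_of ?_ _ ?_
    · exact RingHom.isStandardSmoothOfRelativeDimension_respectsIso
    · exact (RingHom.isStandardSmoothOfRelativeDimension_respectsIso.arrow_mk_iso_iff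
        (arrowResLEAppIso f U V e)).mpr h
  rw [← Scheme.Hom.resLE_comp_ι f e]
  exact (Nat.add_zero n) ▸ (inferInstance : SmoothOfRelativeDimension (n + 0) (f.resLE U V e ≫ U.ι))

theorem fibreDimAt_eq_of_nhd (U : X.Opens) (n : ℕ) [SmoothOfRelativeDimension n (U.ι ≫ f)] {x : X}
    (hx : x ∈ U) : FlatMor.fibreDimAt f x = (n : WithBot ℕ∞) := by
  rw [show x = U.ι ⟨x, hx⟩ from rfl,
    Groth.Agent.S7408.result f (U.ι ≫ f) U.ι (𝟙 Y) (Category.comp_id _) ⟨x, hx⟩]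
  exact Groth.Agent.S2768.result n (U.ι ≫ f) ⟨x, hx⟩

theorem exists_chart [Smooth f] (x : X) :
    ∃ (U : Y.Opens) (hU : IsAffineOpen U) (V : X.Opens) (hV : IsAffineOpen V) (e : V ≤ f ⁻¹ᵁ U)
      (n : ℕ), x ∈ V ∧ RingHom.IsStandardSmoothOfRelativeDimension n (f.appLE U V e).hom ∧
        SmoothOfRelativeDimension n (V.ι ≫ f) ∧ FlatMor.fibreDimAt f x = (n : WithBot ℕ∞) := by
  obtain ⟨U, hU, V, hV, hxV, e, hstd⟩ := Smooth.exists_isStandardSmooth f x
  let _ := (f.appLE U V e).hom.toAlgebra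
  have : Algebra.IsStandardSmooth Γ(Y, U) Γ(X, V) := hstd
  obtain ⟨ι, σ, hι, hσ, ⟨P⟩⟩ := this.out
  have h : RingHom.IsStandardSmoothOfRelativeDimension P.dimension (f.appLE U V e).hom :=
    ⟨ι, σ, ‹_›, ‹_›, P, rfl⟩
  have h2 := smoothOfRelativeDimension_chart f hU hV e h
  exact ⟨U, hU, V, hV, e, P.dimension, hxV, h, h2, fibreDimAt_eq_of_nhd f V _ hxV⟩

theorem fibreDimAt_comp {Z : Scheme.{u}} (g : Y ⟶ Z) [Smooth f] [Smooth g] (x : X) :
    FlatMor.fibreDimAt (f ≫ g) x = FlatMor.fibreDimAt f x + FlatMor.fibreDimAt g (f x) := by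
  obtain ⟨-, -, W, -, -, m, hxW, -, hW, hm⟩ := exists_chart g (f x)
  obtain ⟨-, -, V, -, -, n, hxV, -, hV, hn⟩ := exists_chart (f ∣_ W) ⟨x, hxW⟩
  let a : (V : Scheme.{u}) ⟶ X := V.ι ≫ (f ⁻¹ᵁ W).ι
  have ha : a ⟨⟨x, hxW⟩, hxV⟩ = x := rfl
  have h1 : FlatMor.fibreDimAt f x = (n : WithBot ℕ∞) := by
    rw [← ha, Groth.Agent.S7408.result f (V.ι ≫ f ∣_ W) a W.ι (by
      rw [Category.assoc, morphismRestrict_ι, Category.assoc]) ⟨⟨x, hxW⟩, hxV⟩]
    exact Groth.Agent.S2768.result n (V.ι ≫ f ∣_ W) _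
  have h3 : SmoothOfRelativeDimension (n + m) ((V.ι ≫ f ∣_ W) ≫ W.ι ≫ g) := inferInstance
  rw [h1, hm, ← ha, Groth.Agent.S7408.result (f ≫ g) ((V.ι ≫ f ∣_ W) ≫ W.ι ≫ g) a (𝟙 Z) (by
    simp only [a, Category.comp_id, Category.assoc, morphismRestrict_ι_assoc]) ⟨⟨x, hxW⟩, hxV⟩]
  refine (Groth.Agent.S2768.result (n + m) ((V.ι ≫ f ∣_ W) ≫ W.ι ≫ g) _).trans ?_
  norm_cast

end Groth.Agent.Synt29.SmoothDim
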