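import Mathlib

/-!
Exterior powers commute with base change.
-/

open scoped TensorProduct

universe u v w

namespace Groth.Agent.Synt29.ExtBC

variable {A : Type u} {B : Type v} {M : Type w} [CommRing A] [CommRing B] [Algebra A B]
  [AddCommGroup M] [Module A M]

variable (B M) in
/-- `B ⊗ ι`, into the base change of the exterior algebra. -/
noncomputable def j : B ⊗[A] M →ₗ[B] B ⊗[A] ExteriorAlgebra A M :=
  LinearMap.baseChange B (ExteriorAlgebra.ι A)

theorem anticomm (x y : B ⊗[A] M) : j B M x * j B M y + j B M y * j B M x = 0 := by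
  induction x using TensorProduct.induction_on with
  | zero => simp
  | tmul b m =>
    induction y using TensorProduct.induction_on with
    | zero => simp
    | tmul c n =>
      simp only [j, LinearMap.baseChange_tmul, Algebra.TensorProduct.tmul_mul_tmul, mul_comm c b,
        ← TensorProduct.tmul_add, ExteriorAlgebra.ι_add_mul_swap, TensorProduct.tmul_zero]
    | add y z hy hz => rw [map_add, mul_add, add_mul, add_add_add_comm, hy, hz, add_zero]
  | add x z hx hz => rw [map_add, mul_add, add_mul, add_add_add_comm, hx, hz, add_zero]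

theorem sq_zero (x : B ⊗[A] M) : j B M x * j B M x = 0 := by
  induction x using TensorProduct.induction_on with
  | zero => simp
  | tmul b m =>
    simp only [j, LinearMap.baseChange_tmul, Algebra.TensorProduct.tmul_mul_tmul, ExteriorAlgebra.ι_sq_zero,
      TensorProduct.tmul_zero]
  | add x y hx hy =>
    rw [map_add, mul_add, add_mul, add_mul, hx, hy, zero_add, add_zero, add_comm]
    exact anticomm x y

variable (A B M) in
/-- `⋀^p` of a base change, compared with the base change of `⋀^p`. -/
noncomputable def fwd (p : ℕ) : B ⊗[A] ↥(⋀[A]^p M) →ₗ[B] ↥(⋀[B]^p (B ⊗[A] M)) :=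
  LinearMap.liftBaseChange B (exteriorPower.alternatingMapLinearEquiv
    { toFun := fun v => exteriorPower.ιMulti B p (fun i => (1 : B) ⊗ₜ[A] v i)
      map_update_add' := fun v i x y => by
        have h : ∀ z, (fun k => (1 : B) ⊗ₜ[A] Function.update v i z k) =
            Function.update (fun k => (1 : B) ⊗ₜ[A] v k) i ((1 : B) ⊗ₜ[A] z) := fun z =>
          funext fun k => Function.apply_update (fun _ a => (1 : B) ⊗ₜ[A] a) v i z k
        simp only [h, TensorProduct.tmul_add, AlternatingMap.map_update_add]
      map_update_smul' := fun v i c x => by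
        have h : ∀ z, (fun k => (1 : B) ⊗ₜ[A] Function.update v i z k) =
            Function.update (fun k => (1 : B) ⊗ₜ[A] v k) i ((1 : B) ⊗ₜ[A] z) := fun z =>
          funext fun k => Function.apply_update (fun _ a => (1 : B) ⊗ₜ[A] a) v i z k
        simp only [h, TensorProduct.tmul_smul]
        rw [← algebraMap_smul B c ((1 : B) ⊗ₜ[A] x), AlternatingMap.map_update_smul, algebraMap_smul]
      map_eq_zero_of_eq' := fun v i k hv hik =>
        AlternatingMap.map_eq_zero_of_eq _ _ (by rw [hv]) hik })

theorem fwd_tmul (p : ℕ) (b : B) (v : Fin p → M) :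
    fwd A B M p (b ⊗ₜ exteriorPower.ιMulti A p v) =
      b • exteriorPower.ιMulti B p (fun i => (1 : B) ⊗ₜ[A] v i) := by
  rw [fwd, LinearMap.liftBaseChange_tmul, exteriorPower.alternatingMapLinearEquiv_apply_ιMulti]
  rfl

theorem bijective_fwd (p : ℕ) : Function.Bijective (fwd A B M p) := by
  classical
  let Λ : ExteriorAlgebra B (B ⊗[A] M) →ₐ[B] B ⊗[A] ExteriorAlgebra A M :=
    ExteriorAlgebra.lift B ⟨j B M, sq_zero⟩
  let pr : ExteriorAlgebra A M →ₗ[A] ↥(⋀[A]^p M) :=
    DirectSum.component A ℕ (fun i => ↥(⋀[A]^i M)) p ∘ₗ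
      (DirectSum.decomposeLinearEquiv (fun i => ⋀[A]^i M)).toLinearMap
  have hpr : ∀ z : ↥(⋀[A]^p M), pr z = z := fun z => by
    refine Subtype.ext ?_
    simp only [pr, LinearMap.comp_apply, LinearEquiv.coe_coe, DirectSum.decomposeLinearEquiv_apply]
    exact DirectSum.decompose_of_mem_same _ z.2
  let bwd : ↥(⋀[B]^p (B ⊗[A] M)) →ₗ[B] B ⊗[A] ↥(⋀[A]^p M) :=
    LinearMap.baseChange B pr ∘ₗ Λ.toLinearMap ∘ₗ (⋀[B]^p (B ⊗[A] M)).subtype
  have hΛ : ∀ (q : ℕ) (v : Fin q → M), Λ (ExteriorAlgebra.ιMulti B q (fun i => (1 : B) ⊗ₜ[A] v i)) =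
      (1 : B) ⊗ₜ[A] ExteriorAlgebra.ιMulti A q v := by
    intro q
    induction q with
    | zero => intro v; rw [ExteriorAlgebra.ιMulti_zero_apply, ExteriorAlgebra.ιMulti_zero_apply, map_one]; rfl
    | succ q ih =>
      intro v
      rw [ExteriorAlgebra.ιMulti_succ_apply, ExteriorAlgebra.ιMulti_succ_apply, map_mul]
      have h1 : Λ (ExteriorAlgebra.ι B ((1 : B) ⊗ₜ[A] v 0)) = (1 : B) ⊗ₜ[A] ExteriorAlgebra.ι A (v 0) := by
        simp only [Λ, ExteriorAlgebra.lift_ι_apply, j, LinearMap.baseChange_tmul]
      rw [h1, show (Matrix.vecTail fun i => (1 : B) ⊗ₜ[A] v i) = fun i => (1 : B) ⊗ₜ[A] Matrix.vecTail v i from rfl,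
        ih, Algebra.TensorProduct.tmul_mul_tmul, one_mul]
  have hbwd : ∀ v : Fin p → M, bwd (exteriorPower.ιMulti B p (fun i => (1 : B) ⊗ₜ[A] v i)) =
      (1 : B) ⊗ₜ[A] exteriorPower.ιMulti A p v := by
    intro v
    simp only [bwd, LinearMap.comp_apply, Submodule.subtype_apply, exteriorPower.ιMulti_apply_coe,
      AlgHom.toLinearMap_apply, hΛ, LinearMap.baseChange_tmul]
    congr 1
    exact hpr (exteriorPower.ιMulti A p v)
  refine Function.bijective_iff_has_inverse.2 ⟨bwd, ?_, ?_⟩
  · intro z
    induction z using TensorProduct.induction_on with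
    | zero => simp
    | add x y hx hy => rw [map_add, map_add, hx, hy]
    | tmul b w =>
      have hw : w ∈ Submodule.span A (Set.range (exteriorPower.ιMulti A p (M := M))) := by
        rw [exteriorPower.ιMulti_span]; trivial
      induction hw using Submodule.span_induction with
      | mem _ h =>
        obtain ⟨v, rfl⟩ := h
        rw [fwd_tmul, map_smul, hbwd, TensorProduct.smul_tmul', smul_eq_mul, mul_one]
      | zero => simp
      | add x y _ _ hx hy => rw [TensorProduct.tmul_add, map_add, map_add, hx, hy]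
      | smul a x _ hx =>
        rw [TensorProduct.tmul_smul, ← algebraMap_smul B a (b ⊗ₜ[A] x), map_smul, map_smul, hx]
  · intro z
    have hspan : Submodule.span B (Set.range fun m : M => (1 : B) ⊗ₜ[A] m) = ⊤ := by
      refine Submodule.eq_top_iff'.2 fun x => ?_
      induction x using TensorProduct.induction_on with
      | zero => exact Submodule.zero_mem _
      | add x y hx hy => exact add_mem hx hy
      | tmul b m =>
        rw [← mul_one b, ← smul_eq_mul, ← TensorProduct.smul_tmul']
        exact Submodule.smul_mem _ _ (Submodule.subset_span ⟨m, rfl⟩)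
    have hz : z ∈ Submodule.span B (exteriorPower.ιMulti B p ''
        {a | Set.range a ⊆ Set.range fun m : M => (1 : B) ⊗ₜ[A] m}) := by
      rw [exteriorPower.ιMulti_span_of_span B p (B ⊗[A] M) hspan]; trivial
    induction hz using Submodule.span_induction with
    | mem _ h =>
      obtain ⟨a, ha, rfl⟩ := h
      choose v hv using fun i => ha (Set.mem_range_self i)
      rw [show a = fun i => (1 : B) ⊗ₜ[A] v i from funext fun i => (hv i).symm, hbwd, fwd_tmul, one_smul]
    | zero => simp
    | add x y _ _ hx hy => rw [map_add, map_add, hx, hy]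
    | smul c x _ hx => rw [map_smul, map_smul, hx]

end Groth.Agent.Synt29.ExtBC
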