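import Groth.Agent.Synt29.WedgeBC
import Groth.Agent.Lib.AltGlue
import Groth.Agent.QCoh.PullbackBC
import Groth.Agent.GrModX.ChartQCoh
import Groth.Prelude.Def_ExtPow2

/-! Exterior powers of quasi-coherent modules under inverse images. -/

set_option autoImplicit false
set_option linter.style.haveILetI false
set_option linter.unusedSectionVars false
set_option backward.isDefEq.respectTransparency false
set_option backward.isDefEq.respectTransparency.types false
set_option maxHeartbeats 1000000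

universe u

open CategoryTheory AlgebraicGeometry TopologicalSpace Opposite
open Groth.Agent.AModX
open scoped TensorProduct

noncomputable section

namespace Groth.Agent.Synt29.ExtPowPull

/-- restriction of scalars of an alternating map -/
def restr {A B M N : Type u} [CommRing A] [CommRing B] [Algebra A B] [AddCommGroup M] [Module A M] [Module B M]
    [IsScalarTower A B M] [AddCommGroup N] [Module A N] [Module B N] [IsScalarTower A B N] {p : ℕ}
    (f : M [⋀^Fin p]→ₗ[B] N) : M [⋀^Fin p]→ₗ[A] N :=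
  { f.toMultilinearMap.restrictScalars A with
    map_eq_zero_of_eq' := fun v i j h hij => f.map_eq_zero_of_eq v h hij }

variable {X : Scheme.{u}} {p : ℕ}

/-- Compatible alternating maps on a basis of opens extend to all opens. -/
theorem exists_extend {E L : X.Modules} (P : X.Opens → Prop)
    (hP : ∀ (V : X.Opens), ∀ x ∈ V, ∃ W : X.Opens, W ≤ V ∧ x ∈ W ∧ P W)
    (α : ∀ W : X.Opens, P W → Γ(E, W) [⋀^Fin p]→ₗ[Γ(X, W)] Γ(L, W))
    (hres : ∀ W W' (h : P W) (h' : P W') (i : W' ≤ W) (e : Fin p → Γ(E, W)),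
      res L i (α W h e) = α W' h' (fun k => res E i (e k))) :
    ∃ μ : ∀ V : X.Opens, Γ(E, V) [⋀^Fin p]→ₗ[Γ(X, V)] Γ(L, V),
      (∀ V V' (i : V' ≤ V) (e : Fin p → Γ(E, V)), res L i (μ V e) = μ V' (fun k => res E i (e k))) ∧
        ∀ W (h : P W) (e : Fin p → Γ(E, W)), μ W e = α W h e := by
  have hloc : ∀ (V : X.Opens) (x y : Γ(L, V)),
      (∀ (W : X.Opens) (hW : W ≤ V), P W → res L hW x = res L hW y) → x = y := fun V x y h =>
    eq_of_locally x y fun z hz => by
      obtain ⟨W, hW, hzW, hPW⟩ := hP V z hz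
      exact ⟨W, hW, hzW, h W hW hPW⟩
  have hglue : ∀ (V : X.Opens) (e : Fin p → Γ(E, V)), ∃! t : Γ(L, V), ∀ W : {W : X.Opens // W ≤ V ∧ P W},
      res L W.2.1 t = α W.1 W.2.2 (fun k => res E W.2.1 (e k)) := fun V e =>
    existsUnique_glue (M := L) (fun W : {W : X.Opens // W ≤ V ∧ P W} => W.1) (fun W => W.2.1)
      (fun z hz => by
        obtain ⟨W, hW, hzW, hPW⟩ := hP V z hz
        exact ⟨⟨W, hW, hPW⟩, hzW⟩)
      (fun W => α W.1 W.2.2 (fun k => res E W.2.1 (e k))) fun W₁ W₂ => hloc _ _ _ fun W hW hPW => by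
        rw [res_res, res_res, hres _ _ _ hPW, hres _ _ _ hPW]
        refine congrArg (α W hPW) (funext fun k => ?_)
        rw [res_res, res_res]
  choose t ht _ using hglue
  have ht' : ∀ (V : X.Opens) (e : Fin p → Γ(E, V)) (W : X.Opens) (hW : W ≤ V) (hPW : P W),
      res L hW (t V e) = α W hPW (fun k => res E hW (e k)) := fun V e W hW hPW => ht V e ⟨W, hW, hPW⟩
  let μ : ∀ V : X.Opens, Γ(E, V) [⋀^Fin p]→ₗ[Γ(X, V)] Γ(L, V) := fun V =>
    { toFun := t V
      map_update_add' := fun e k x y => hloc V _ _ fun W hW hPW => by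
        rw [map_add, ht' V _ W hW hPW, ht' V _ W hW hPW, ht' V _ W hW hPW, AltGlue.res_update, AltGlue.res_update,
          AltGlue.res_update, map_add]
        exact (α W hPW).map_update_add _ _ _ _
      map_update_smul' := fun e k c x => hloc V _ _ fun W hW hPW => by
        rw [res_smul, ht' V _ W hW hPW, ht' V _ W hW hPW, AltGlue.res_update, AltGlue.res_update, res_smul]
        exact (α W hPW).map_update_smul _ _ _ _
      map_eq_zero_of_eq' := fun e j k he hjk => hloc V _ _ fun W hW hPW => by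
        rw [map_zero, ht' V _ W hW hPW]
        exact (α W hPW).map_eq_zero_of_eq _ (congrArg (res E hW) he) hjk }
  refine ⟨μ, fun V V' i e => hloc V' _ _ fun W hW hPW => ?_, fun W h e => ?_⟩
  · show res L hW (res L i (t V e)) = res L hW (t V' _)
    rw [res_res, ht' V e W (hW.trans i) hPW, ht' V' _ W hW hPW]
    exact congrArg (α W hPW) (funext fun k => (res_res _ _ _).symm)
  · have h1 := ht' W e W le_rfl h
    rw [res_self] at h1
    exact h1.trans (congrArg (α W h) (funext fun k => res_self _))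

/-- An exterior power of a quasi-coherent module is quasi-coherent. -/
theorem isQCoh_of_isExtPow {E L : X.Modules} (hE : Coh.IsQCoh E) (hL : ExtPow.IsExtPow p E L) : Coh.IsQCoh L := by
  obtain ⟨φ, hφ⟩ := hL
  have key : ∀ (V : X.affineOpens) (f : Γ(X, V.1)),
      letI := QCoh.basicModule f L; IsLocalizedModule (Submonoid.powers f) (QCoh.basicRes f L) := by
    intro V f
    letI := QCoh.basicModule f L
    letI := QCoh.basicModule f E
    haveI := V.2.isLocalization_basicOpen f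
    haveI := QCoh.isLocalizedModule_basicRes f hE V.2
    haveI : IsScalarTower Γ(X, V.1) Γ(X, X.basicOpen f) Γ(E, X.basicOpen f) :=
      IsScalarTower.of_algebraMap_smul fun _ _ => rfl
    haveI : IsScalarTower Γ(X, V.1) Γ(X, X.basicOpen f) Γ(L, X.basicOpen f) :=
      IsScalarTower.of_algebraMap_smul fun _ _ => rfl
    refine (isLocalizedModule_iff_isBaseChange (Submonoid.powers f) Γ(X, X.basicOpen f) _).2 ?_
    exact WedgeBC.isBaseChange_of_wedge ((isLocalizedModule_iff_isBaseChange (Submonoid.powers f)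
        Γ(X, X.basicOpen f) (QCoh.basicRes f E)).1 inferInstance) p (φ V).symm _
      (φ ⟨X.basicOpen f, V.2.basicOpen f⟩).symm fun v => hφ V ⟨X.basicOpen f, V.2.basicOpen f⟩ (X.basicOpen_le f) v
  refine GrModX.isQCoh_of_affineCover_sections (fun V : X.affineOpens => V.1) (iSup_affineOpens_eq_top X)
    (fun V => V.2) (fun V f s => ?_) (fun V f t ht => ?_)
  · letI := QCoh.basicModule f L
    haveI := key V f
    obtain ⟨⟨t, n, hn⟩, hs⟩ := IsLocalizedModule.surj (Submonoid.powers f) (QCoh.basicRes f L) s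
    obtain ⟨n, rfl⟩ := hn
    refine ⟨n, t, hs.symm.trans ?_⟩
    show algebraMap Γ(X, V.1) Γ(X, X.basicOpen f) (f ^ n) • s = _
    rw [map_pow]
    rfl
  · letI := QCoh.basicModule f L
    haveI := key V f
    obtain ⟨⟨_, n, rfl⟩, hn⟩ := (IsLocalizedModule.eq_zero_iff (Submonoid.powers f) (QCoh.basicRes f L)).1 ht
    exact ⟨n, hn⟩

variable {X' : Scheme.{u}} (g : X' ⟶ X)

/-- pulled back sections restrict to pulled back sections -/
theorem pullSec_res (M : X.Modules) {V V' : X.Opens} {W W' : X'.Opens} (hle : W ≤ g ⁻¹ᵁ V) (hle' : W' ≤ g ⁻¹ᵁ V')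
    (i : W' ≤ W) (j : V' ≤ V) (x : Γ(M, V)) :
    res ((Scheme.Modules.pullback g).obj M) i (QCoh.pullSec g M hle x) = QCoh.pullSec g M hle' (res M j x) := by
  let Q := (Scheme.Modules.pullback g).obj M
  refine (QCoh.map_map (M := Q) (homOfLE i) (homOfLE hle) _).trans ?_
  have h1 : (show Γ(Q, g ⁻¹ᵁ V') from ((Scheme.Modules.pullbackPushforwardAdjunction g).unit.app M).app V'
      (res M j x)) = Q.presheaf.map ((Opens.map g.base).map (homOfLE j)).op
        (((Scheme.Modules.pullbackPushforwardAdjunction g).unit.app M).app V x) :=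
    QCoh.map_app_comm _ _ _
  refine Eq.trans ?_ (congrArg (Q.presheaf.map (homOfLE hle').op) h1).symm
  exact (QCoh.map_map (M := Q) (homOfLE hle') _ _).symm

theorem isExtPow_pullback {E L : X.Modules} (hE : Coh.IsQCoh E) (hL : ExtPow.IsExtPow p E L) :
    ExtPow.IsExtPow p ((Scheme.Modules.pullback g).obj E) ((Scheme.Modules.pullback g).obj L) := by
  have hLq := isQCoh_of_isExtPow hE hL
  obtain ⟨φ, hφ⟩ := hL
  let E' := (Scheme.Modules.pullback g).obj E
  let L' := (Scheme.Modules.pullback g).obj L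
  let μX : ∀ V : X.affineOpens, Γ(E, V.1) [⋀^Fin p]→ₗ[Γ(X, V.1)] Γ(L, V.1) := fun V =>
    exteriorPower.alternatingMapLinearEquiv.symm (φ V).symm.toLinearMap
  have hμX : ∀ (V : X.affineOpens) (e : Fin p → Γ(E, V.1)),
      μX V e = (φ V).symm (exteriorPower.ιMulti Γ(X, V.1) p (M := E.val.obj (op V.1)) e) := fun V e => by
    show exteriorPower.alternatingMapLinearEquiv.symm (φ V).symm.toLinearMap e = _
    rw [exteriorPower.alternatingMapLinearEquiv_symm_apply]
    rfl
  -- the maps on pairs of affine opens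
  have hβ : ∀ (W : X'.affineOpens) (V : X.affineOpens) (hle : W.1 ≤ g ⁻¹ᵁ V.1),
      ∃ b : Γ(E', W.1) [⋀^Fin p]→ₗ[Γ(X', W.1)] Γ(L', W.1),
        (∀ v, b (fun k => QCoh.pullSec g E hle (v k)) = QCoh.pullSec g L hle (μX V v)) ∧
        (∀ b' : Γ(E', W.1) [⋀^Fin p]→ₗ[Γ(X', W.1)] Γ(L', W.1),
          (∀ v, b' (fun k => QCoh.pullSec g E hle (v k)) = QCoh.pullSec g L hle (μX V v)) → b' = b) ∧
        Function.Bijective (exteriorPower.alternatingMapLinearEquiv b) := by
    intro W V hle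
    letI := (g.appLE V.1 W.1 hle).hom.toAlgebra
    letI : Module Γ(X, V.1) Γ(E', W.1) := Module.compHom _ (g.appLE V.1 W.1 hle).hom
    letI : Module Γ(X, V.1) Γ(L', W.1) := Module.compHom _ (g.appLE V.1 W.1 hle).hom
    haveI : IsScalarTower Γ(X, V.1) Γ(X', W.1) Γ(E', W.1) := IsScalarTower.of_algebraMap_smul fun _ _ => rfl
    haveI : IsScalarTower Γ(X, V.1) Γ(X', W.1) Γ(L', W.1) := IsScalarTower.of_algebraMap_smul fun _ _ => rfl
    let lE : Γ(E, V.1) →ₗ[Γ(X, V.1)] Γ(E', W.1) :=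
      { toFun := QCoh.pullSec g E hle
        map_add' := QCoh.pullSec_add g E hle
        map_smul' := QCoh.pullSec_smul g E hle }
    let lL : Γ(L, V.1) →ₗ[Γ(X, V.1)] Γ(L', W.1) :=
      { toFun := QCoh.pullSec g L hle
        map_add' := QCoh.pullSec_add g L hle
        map_smul' := QCoh.pullSec_smul g L hle }
    have hlE := QCoh.isBaseChange_pullback V.2 g W.2 hE hle (fun _ => rfl) lE fun _ => rfl
    have hlL := QCoh.isBaseChange_pullback V.2 g W.2 hLq hle (fun _ => rfl) lL fun _ => rfl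
    obtain ⟨b, hb⟩ := WedgeBC.exists_alt hlE p (lL.compAlternatingMap (μX V))
    refine ⟨b, hb, fun b' hb' => WedgeBC.alt_ext hlE p b' b fun v => (hb' v).trans (hb v).symm, ?_⟩
    exact WedgeBC.bijective_of_baseChange hlE p (φ V).symm lL hlL b
      fun v => (hb v).trans (congrArg lL (hμX V v))
  choose β hβ₁ hβ₂ hβ₃ using hβ
  -- compatibility with restriction
  have hβres : ∀ (W W' : X'.affineOpens) (V V' : X.affineOpens) (hle : W.1 ≤ g ⁻¹ᵁ V.1)
      (hle' : W'.1 ≤ g ⁻¹ᵁ V'.1) (i : W'.1 ≤ W.1) (_ : V'.1 ≤ V.1) (e : Fin p → Γ(E', W.1)),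
      res L' i (β W V hle e) = β W' V' hle' (fun k => res E' i (e k)) := by
    intro W W' V V' hle hle' i j
    letI := (g.appLE V.1 W.1 hle).hom.toAlgebra
    letI : Module Γ(X, V.1) Γ(E', W.1) := Module.compHom _ (g.appLE V.1 W.1 hle).hom
    haveI : IsScalarTower Γ(X, V.1) Γ(X', W.1) Γ(E', W.1) := IsScalarTower.of_algebraMap_smul fun _ _ => rfl
    letI := (X'.presheaf.map (homOfLE i).op).hom.toAlgebra
    letI : Module Γ(X', W.1) Γ(L', W'.1) := Module.compHom _ (X'.presheaf.map (homOfLE i).op).hom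
    letI : Module Γ(X', W.1) Γ(E', W'.1) := Module.compHom _ (X'.presheaf.map (homOfLE i).op).hom
    haveI : IsScalarTower Γ(X', W.1) Γ(X', W'.1) Γ(L', W'.1) := IsScalarTower.of_algebraMap_smul fun _ _ => rfl
    haveI : IsScalarTower Γ(X', W.1) Γ(X', W'.1) Γ(E', W'.1) := IsScalarTower.of_algebraMap_smul fun _ _ => rfl
    let lE : Γ(E, V.1) →ₗ[Γ(X, V.1)] Γ(E', W.1) :=
      { toFun := QCoh.pullSec g E hle
        map_add' := QCoh.pullSec_add g E hle
        map_smul' := QCoh.pullSec_smul g E hle }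
    have hlE := QCoh.isBaseChange_pullback V.2 g W.2 hE hle (fun _ => rfl) lE fun _ => rfl
    let rE : Γ(E', W.1) →ₗ[Γ(X', W.1)] Γ(E', W'.1) :=
      { toFun := res E' i, map_add' := map_add _, map_smul' := fun r x => res_smul i r x }
    let rL : Γ(L', W.1) →ₗ[Γ(X', W.1)] Γ(L', W'.1) :=
      { toFun := res L' i, map_add' := map_add _, map_smul' := fun r x => res_smul i r x }
    have key := WedgeBC.alt_ext hlE p (rL.compAlternatingMap (β W V hle))
      ((restr (A := Γ(X', W.1)) (β W' V' hle')).compLinearMap rE) fun v => by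
        show res L' i (β W V hle fun k => QCoh.pullSec g E hle (v k)) =
          β W' V' hle' (fun k => res E' i (QCoh.pullSec g E hle (v k)))
        rw [hβ₁, pullSec_res g L hle hle' i j]
        rw [show (fun k => res E' i (QCoh.pullSec g E hle (v k))) = fun k => QCoh.pullSec g E hle' (res E j (v k))
          from funext fun k => pullSec_res g E hle hle' i j (v k), hβ₁]
        refine congrArg (QCoh.pullSec g L hle') ?_
        rw [hμX, hμX]
        exact hφ V V' j v
    exact fun e => AlternatingMap.congr_fun key e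
  -- independence of the affine open below
  let P : X'.Opens → Prop := fun W => IsAffineOpen W ∧ ∃ V : X.affineOpens, W ≤ g ⁻¹ᵁ V.1
  have hP : ∀ (U : X'.Opens), ∀ x ∈ U, ∀ V : X.Opens, g x ∈ V → ∃ (W : X'.affineOpens) (V' : X.affineOpens),
      W.1 ≤ U ∧ x ∈ W.1 ∧ V'.1 ≤ V ∧ W.1 ≤ g ⁻¹ᵁ V'.1 := by
    intro U x hx V hV
    obtain ⟨_, ⟨V', hV', rfl⟩, hxV, hle⟩ := X.isBasis_affineOpens.exists_subset_of_mem_open hV V.2
    obtain ⟨_, ⟨W, hW, rfl⟩, hxW, hle2⟩ :=
      X'.isBasis_affineOpens.exists_subset_of_mem_open (show x ∈ U ⊓ g ⁻¹ᵁ V' from ⟨hx, hxV⟩) (U ⊓ g ⁻¹ᵁ V').2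
    exact ⟨⟨W, hW⟩, ⟨V', hV'⟩, fun z hz => (hle2 hz).1, hxW, hle, fun z hz => (hle2 hz).2⟩
  have hindep : ∀ (W : X'.affineOpens) (V₁ V₂ : X.affineOpens) (h₁ : W.1 ≤ g ⁻¹ᵁ V₁.1) (h₂ : W.1 ≤ g ⁻¹ᵁ V₂.1)
      (e : Fin p → Γ(E', W.1)), β W V₁ h₁ e = β W V₂ h₂ e := fun W V₁ V₂ h₁ h₂ e =>
    eq_of_locally _ _ fun x hx => by
      obtain ⟨W', V', hW', hxW, hV', hle'⟩ := hP W.1 x hx (V₁.1 ⊓ V₂.1) ⟨h₁ hx, h₂ hx⟩
      exact ⟨W'.1, hW', hxW, (hβres W W' V₁ V' h₁ hle' hW' (hV'.trans inf_le_left) e).trans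
        (hβres W W' V₂ V' h₂ hle' hW' (hV'.trans inf_le_right) e).symm⟩
  let α : ∀ W : X'.Opens, P W → Γ(E', W) [⋀^Fin p]→ₗ[Γ(X', W)] Γ(L', W) :=
    fun W h => β ⟨W, h.1⟩ h.2.choose h.2.choose_spec
  have hα : ∀ W W' (h : P W) (h' : P W') (i : W' ≤ W) (e : Fin p → Γ(E', W)),
      res L' i (α W h e) = α W' h' (fun k => res E' i (e k)) := fun W W' h h' i e =>
    (hβres ⟨W, h.1⟩ ⟨W', h'.1⟩ h.2.choose h.2.choose h.2.choose_spec (i.trans h.2.choose_spec) i le_rfl e).trans
      (hindep ⟨W', h'.1⟩ _ _ _ _ _)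
  obtain ⟨μ, hμ, hμP⟩ := exists_extend P (fun U x hx => by
    obtain ⟨W, V', hW, hxW, -, hle⟩ := hP U x hx ⊤ trivial
    exact ⟨W.1, hW, hxW, W.2, V', hle⟩) α hα
  refine AltGlue.isExtPow_of μ hμ fun W hW => ?_
  refine AltGlue.lift_bijective μ hμ (QCoh.isQCoh_pullback g hE) (QCoh.isQCoh_pullback g hLq) hW
    {r | P (X'.basicOpen r)} ?_ fun r => ?_
  · refine hW.self_le_iSup_basicOpen_iff.1 fun x hx => ?_
    obtain ⟨W', V', hW', hxW, -, hle⟩ := hP W x hx ⊤ trivial
    obtain ⟨r, hr, hxr⟩ := hW.exists_basicOpen_le ⟨x, hxW⟩ hx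
    exact Opens.mem_iSup.2 ⟨⟨r, hW.basicOpen r, V', hr.trans hle⟩, hxr⟩
  · have e : μ (X'.basicOpen r.1) = α _ r.2 := AlternatingMap.ext fun e => hμP _ r.2 e
    show Function.Bijective (exteriorPower.alternatingMapLinearEquiv (μ (X'.basicOpen r.1)))
    rw [e]
    exact hβ₃ ⟨X'.basicOpen r.1, r.2.1⟩ r.2.2.choose r.2.2.choose_spec

/-- exterior powers only depend on the isomorphism class of the module -/
theorem isExtPow_of_iso {E E' L : X.Modules} (e : E ≅ E') (hL : ExtPow.IsExtPow p E L) :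
    ExtPow.IsExtPow p E' L := by
  obtain ⟨φ, hφ⟩ := hL
  let e' : ∀ U : X.Opens, Γ(E, U) ≃ₗ[Γ(X, U)] Γ(E', U) := fun U =>
    { toFun := e.hom.app U
      invFun := e.inv.app U
      left_inv := fun x => congr($(congrArg (fun k => Scheme.Modules.Hom.app k U) e.hom_inv_id) x)
      right_inv := fun x => congr($(congrArg (fun k => Scheme.Modules.Hom.app k U) e.inv_hom_id) x)
      map_add' := map_add _
      map_smul' := fun r x => Scheme.Modules.Hom.app_smul e.hom r x }
  let w : ∀ U : X.Opens, ↥(⋀[Γ(X, U)]^p (E.val.obj (op U))) ≃ₗ[Γ(X, U)] ↥(⋀[Γ(X, U)]^p (E'.val.obj (op U))) :=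
    fun U => LinearEquiv.ofBijective (exteriorPower.map p (e' U).toLinearMap)
      ⟨exteriorPower.map_injective (e' U).symm.toLinearMap (by ext; simp),
        exteriorPower.map_surjective (e' U).surjective⟩
  have hw : ∀ (U : X.Opens) (v : Fin p → Γ(E', U)),
      (w U).symm (exteriorPower.ιMulti Γ(X, U) p (M := E'.val.obj (op U)) v) =
        exteriorPower.ιMulti Γ(X, U) p (M := E.val.obj (op U)) (fun j => (e' U).symm (v j)) := fun U v => by
    rw [LinearEquiv.symm_apply_eq]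
    refine Eq.symm ((exteriorPower.map_apply_ιMulti _ _).trans (congrArg _ (funext fun j => ?_)))
    exact (e' U).apply_symm_apply (v j)
  refine ⟨fun U => (φ U).trans (w U.1), fun U V h v => ?_⟩
  show L.val.map (homOfLE h).op ((φ U).symm ((w U.1).symm _)) = (φ V).symm ((w V.1).symm _)
  erw [hw, hw]
  refine (hφ U V h _).trans ?_
  refine congrArg (fun t => (φ V).symm (exteriorPower.ιMulti _ p t)) (funext fun j => ?_)
  exact (app_res e.inv h (v j)).symm

end Groth.Agent.Synt29.ExtPowPull
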