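import Mathlib
import Groth.Agent.H28.PBField
import Groth.Agent.H28.ExtFil
import Groth.Agent.H28.LamTwist
import Groth.Agent.H28.KvbModel
import Groth.Agent.H28.KvbLam
import Groth.Agent.Euler.Main
import Groth.Agent.Lib.PnChart
import Groth.Agent.PnCoh.Finite.TwistTensor
import Groth.Agent.H23.PicMul
import Groth.Agent.Synt29.ExtPowPull
import Groth.Agent.RelPC17.TruncFree
import Groth.Agent.KFlatLib.Perfect.LocFree

/-! The twisted exterior Euler sequences on projective space. -/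

set_option autoImplicit false
set_option linter.style.haveILetI false
set_option linter.unusedSectionVars false
set_option backward.isDefEq.respectTransparency false
set_option backward.isDefEq.respectTransparency.types false
set_option maxHeartbeats 1600000

universe u

open CategoryTheory CategoryTheory.Limits AlgebraicGeometry TopologicalSpace Opposite

noncomputable section

namespace Groth.Agent.Synt29.PnEuler

open Groth.Agent Groth.Agent.H23.PicMul

attribute [local instance] MvPolynomial.gradedAlgebra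

section General

variable {X : Scheme.{u}}

/-- In a filtration with a line bundle quotient there are only two pieces. -/
theorem exists_ses_of_rank_one {S : ShortComplex X.Modules} (hS : S.ShortExact)
    (h₁ : FlatMod.IsFinLocFree S.X₁) (h₃ : FlatMod.IsFinLocFreeOfRank 1 S.X₃) (p : ℕ) :
    ∃ T : ShortComplex X.Modules, T.ShortExact ∧
      PicF.cl T.X₁ = PicF.cl (H28.ExtBase.L S.X₁ (p + 1)) ∧
      PicF.cl T.X₂ = PicF.cl (H28.ExtBase.L S.X₂ (p + 1)) ∧
      PicF.cl T.X₃ = PicF.cl (H28.ExtBase.L S.X₁ p) * PicF.cl S.X₃ := by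
  have h₃' : FlatMod.IsFinLocFree S.X₃ := fun x => let ⟨U, hx, e⟩ := h₃ x; ⟨U, 1, hx, e⟩
  have hg := H28.ExtFil.exists_good hS h₁ h₃'
  have htens : ∀ i j, PicF.cl (DCoh.shP.obj (H28.ExtFil.TP S i j)) =
      PicF.cl (H28.ExtBase.L S.X₁ i) * PicF.cl (H28.ExtBase.L S.X₃ j) := fun i j => by
    obtain ⟨e⟩ := H28.ExtFil.nonempty_tensor_iso (S := S) i j
    exact cl_eq_iff.2 ⟨e⟩
  have hT0 : ∀ i j, 2 ≤ j → IsZero (DCoh.shP.obj (H28.ExtFil.TP S i j)) := fun i j hj => by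
    obtain ⟨e⟩ := H28.ExtFil.nonempty_tensor_iso (S := S) i j
    refine IsZero.of_iso ?_ e
    exact Functor.map_isZero ((DCoh.tensorBi (X := X)).obj _) (H28.KvbModel.isZero_L h₃ (by omega))
  -- the deeper pieces vanish
  have hC : ∀ (i j : ℕ) (h : i + j = p + 1), 1 ≤ j → IsZero (H28.ExtFil.C (S := S) (p + 1) i j h) := by
    intro i
    induction i with
    | zero =>
      intro j h _
      obtain rfl : j = p + 1 := by omega
      haveI := H28.ExtFil.epi_a_zero (S := S) (p + 1)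
      exact isZero_cokernel_of_epi (H28.ExtFil.a S (Nat.zero_add (p + 1)))
    | succ i ih =>
      intro j h' hj
      obtain ⟨θ, q, w, hse⟩ := H28.ExtFil.step hg (i := i) (j := j) (n := p + 1) (by omega) h'
      exact hse.exact.isZero_X₂ ((hT0 i (j + 1) (by omega)).eq_of_src _ _)
        ((ih (j + 1) (by omega) (by omega)).eq_of_tgt _ _)
  obtain ⟨θ, q, w, hse⟩ := H28.ExtFil.step hg (i := p) (j := 0) (n := p + 1) rfl (Nat.add_zero _)
  have hiso : IsIso θ := by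
    have hz := hC p 1 rfl le_rfl
    haveI : Mono θ := hse.mono_f
    haveI : Epi θ := hse.exact.epi_f (hz.eq_of_tgt _ _)
    exact isIso_of_mono_of_epi θ
  obtain ⟨θ', w', hse'⟩ := H28.ExtFil.last hg (Nat.add_zero (p + 1))
  refine ⟨_, hse', ?_, rfl, ?_⟩
  · show PicF.cl (DCoh.shP.obj (H28.ExtFil.TP S (p + 1) 0)) = _
    obtain ⟨e⟩ := H28.ExtSh.nonempty_iso_L h₃' (H28.KvbLam.isExtPow_zero S.X₃)
    rw [htens, (cl_eq_iff.2 ⟨e⟩ : PicF.cl (H28.ExtBase.L S.X₃ 0) = _), ← one_def, mul_one]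
  · show PicF.cl (H28.ExtFil.C (S := S) (p + 1) (p + 1) 0 (Nat.add_zero _)) = _
    obtain ⟨e⟩ := H28.ExtSh.nonempty_iso_L h₃' (H28.KvbLam.isExtPow_one S.X₃)
    rw [(cl_eq_iff.2 ⟨(asIso θ).symm⟩ : PicF.cl (H28.ExtFil.C (S := S) (p + 1) (p + 1) 0 (Nat.add_zero _)) = _), htens,
      (cl_eq_iff.2 ⟨e⟩ : PicF.cl (H28.ExtBase.L S.X₃ 1) = _)]

theorem isFinLocFree_of_rank {r : ℕ} {M : X.Modules} (h : FlatMod.IsFinLocFreeOfRank r M) :
    FlatMod.IsFinLocFree M := fun x => let ⟨U, hx, e⟩ := h x; ⟨U, r, hx, e⟩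

theorem isZero_tensorMod (M : X.Modules) {N : X.Modules} (hN : IsZero N) : IsZero (CohB1.tensorMod M N) := by
  rw [show CohB1.tensorMod M N = ((DCoh.tensorBi (X := X)).obj M).obj N from rfl]
  exact Functor.map_isZero _ hN

theorem cl_tens (V M : X.Modules) :
    PicF.cl (((DCoh.tensorBi (X := X)).obj V).obj M) = PicF.cl V * PicF.cl M := by
  rw [show ((DCoh.tensorBi (X := X)).obj V).obj M = CohB1.tensorMod V M from rfl]
  exact cl_tensor V M

theorem isFinLocFree_tensorMod {M N : X.Modules} (hM : FlatMod.IsFinLocFree M) (hN : FlatMod.IsFinLocFree N) :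
    FlatMod.IsFinLocFree (CohB1.tensorMod M N) := by
  rw [show CohB1.tensorMod M N = ((DCoh.tensorBi (X := X)).obj M).obj N from rfl]
  exact KFlatLib.isFinLocFree_tensor hM hN

theorem isFinLocFree_freeMod (n : ℕ) : FlatMod.IsFinLocFree (FlatMod.freeMod X n) := fun _ =>
  ⟨⊤, n, trivial, H23.Frame.exists_iso_of_frame _ (H23.Frame.incl_isFrame (X := X) (n := n))⟩

/-- Twisting a module iso to a free one decomposes it into copies of the twist. -/
theorem exists_decomp (V : X.Modules) {M : X.Modules} {N : ℕ} (e : M ≅ FlatMod.freeMod X N) :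
    ∃ (a : Fin N → (((DCoh.tensorBi (X := X)).obj V).obj M ⟶ V))
      (b : Fin N → (V ⟶ ((DCoh.tensorBi (X := X)).obj V).obj M)),
      ∑ j, a j ≫ b j = 𝟙 (((DCoh.tensorBi (X := X)).obj V).obj M) ∧
        ∀ i j, b i ≫ a j = if i = j then 𝟙 V else 0 := by
  obtain ⟨eU⟩ := cl_eq_iff.1 ((cl_tens V (Coh.structureModule X)).trans (by rw [← one_def, mul_one]) :
    PicF.cl (((DCoh.tensorBi (X := X)).obj V).obj (Coh.structureModule X)) = PicF.cl V)
  let G := (DCoh.tensorBi (X := X)).obj V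
  haveI : G.Additive := inferInstanceAs ((DCoh.tensorBi (X := X)).obj V).Additive
  show ∃ (a : Fin N → (G.obj M ⟶ V)) (b : Fin N → (V ⟶ G.obj M)), ∑ j, a j ≫ b j = 𝟙 (G.obj M) ∧
    ∀ i j, b i ≫ a j = if i = j then 𝟙 V else 0
  refine ⟨fun j => G.map (e.hom ≫ H23.Frame.proj X N j) ≫ eU.hom,
    fun j => eU.inv ≫ G.map (H23.Frame.incl X N j ≫ e.inv), ?_, fun i j => ?_⟩
  swap
  · simp only [Category.assoc]
    rw [← G.map_comp_assoc, Category.assoc, e.inv_hom_id_assoc, H23.Frame.incl_proj]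
    by_cases h : i = j
    · subst h; simp
    · simp [if_neg (Ne.symm h), if_neg h]
  rw [← G.map_id, show (𝟙 M : M ⟶ M) = ∑ j, (e.hom ≫ H23.Frame.proj X N j) ≫ (H23.Frame.incl X N j ≫ e.inv) by
    simp only [Category.assoc]
    rw [← Preadditive.comp_sum]
    simp only [← Category.assoc _ _ e.inv]
    rw [← Preadditive.sum_comp, H23.Frame.total, Category.id_comp, e.hom_inv_id]]
  rw [Functor.map_sum]
  refine Finset.sum_congr rfl fun j _ => ?_
  rw [G.map_comp, Category.assoc, eU.hom_inv_id_assoc]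

end General

variable (n : ℕ) (A : Type u) [CommRing A]

local notation "P" => CohB1.ProjSpace n A

/-- The class of `O(d)`. -/
abbrev tw (d : ℤ) : PicF.Cl (CohB1.ProjSpace n A) := PicF.cl (Twist.twistProjSpace n A d)

theorem isInvertible_O (d : ℤ) : PicF.IsInvertible (Twist.twistProjSpace n A d) :=
  PnCoh.Finite.isInvertible_twist (𝒜 := CohB1.polyGrading n A)
    (fun i : Fin (n + 1) => (MvPolynomial.X i : MvPolynomial (Fin (n + 1)) A)) (fun i => ProjPt.X_mem i)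
    (top_le_iff.1 fun y _ => TopologicalSpace.Opens.mem_iSup.2 (ProjUPX.cov_X y)) d

theorem tw_add (a b : ℤ) : tw n A a * tw n A b = tw n A (a + b) :=
  cl_eq_iff.2 (PnCoh.Finite.twist_tensor_iso (𝒜 := CohB1.polyGrading n A)
    (g := fun i : Fin (n + 1) => (MvPolynomial.X i : MvPolynomial (Fin (n + 1)) A)) (fun i => ProjPt.X_mem i)
    (top_le_iff.1 fun y _ => TopologicalSpace.Opens.mem_iSup.2 (ProjUPX.cov_X y)) a b)

theorem tw_zero : tw n A 0 = 1 := by
  have h := tw_add n A 0 0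
  rw [add_zero] at h
  exact (isUnit_cl (isInvertible_O n A 0)).mul_left_cancel (h.trans (mul_one _).symm)

variable [QuasiSeparated (CohB1.ProjSpace.toSpec n A)]

local notation "Ω" => Omega.sheaf (CohB1.ProjSpace.toSpec n A)

theorem rank_omega : FlatMod.IsFinLocFreeOfRank n Ω := fun x => by
  obtain ⟨i, hi⟩ := PnChart.exists_mem_D n A x
  exact ⟨PnChart.D n A i, hi, H23.Frame.exists_iso_of_frame _ (PnChart.isFrame_omega n A i)⟩

/-- The class of `Ω^p(k)`. -/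
abbrev hodge (p : ℕ) (k : ℤ) : PicF.Cl (CohB1.ProjSpace n A) := tw n A k * PicF.cl (H28.ExtBase.L Ω p)

theorem cl_eq_hodge {p : ℕ} {L : (CohB1.ProjSpace n A).Modules} (hL : ExtPow.IsExtPow p Ω L) (k : ℤ) :
    PicF.cl (CohB1.tensorMod L (Twist.twistProjSpace n A k)) = hodge n A p k := by
  obtain ⟨e⟩ := H28.ExtSh.nonempty_iso_L (isFinLocFree_of_rank (rank_omega n A)) hL
  rw [cl_tensor, mul_comm]
  congr 1
  exact cl_eq_iff.2 ⟨e.symm⟩

theorem cl_eq_hodge_zero {p : ℕ} {L : (CohB1.ProjSpace n A).Modules} (hL : ExtPow.IsExtPow p Ω L) :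
    PicF.cl L = hodge n A p 0 := by
  rw [← cl_eq_hodge n A hL 0, cl_tensor]
  exact ((congrArg (PicF.cl L * ·) (tw_zero n A)).trans (mul_one _)).symm

theorem hodge_top {p : ℕ} (hp : n < p) (k : ℤ) {M : (CohB1.ProjSpace n A).Modules} (hM : PicF.cl M = hodge n A p k) :
    IsZero M := by
  obtain ⟨e⟩ := cl_eq_iff.1 (hM.trans (cl_tensor (Twist.twistProjSpace n A k) (H28.ExtBase.L Ω p)).symm)
  exact (isZero_tensorMod _ (H28.KvbModel.isZero_L (rank_omega n A) hp)).of_iso e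

theorem hodge_zero (k : ℤ) : hodge n A 0 k = tw n A k := by
  obtain ⟨e⟩ := H28.ExtSh.nonempty_iso_L (isFinLocFree_of_rank (rank_omega n A)) (H28.KvbLam.isExtPow_zero Ω)
  rw [hodge, (cl_eq_iff.2 ⟨e⟩ : PicF.cl (H28.ExtBase.L Ω 0) = _), ← one_def, mul_one]

theorem tw_pow (j : ℕ) : tw n A 1 ^ j = tw n A j := by
  induction j with
  | zero => rw [pow_zero, Nat.cast_zero, tw_zero]
  | succ j ih => rw [pow_succ, ih, tw_add, Nat.cast_succ]

theorem exists_taut_ses :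
    ∃ S : ShortComplex (CohB1.ProjSpace n A).Modules, S.ShortExact ∧ FlatMod.IsFinLocFree S.X₁ ∧
      FlatMod.IsFinLocFreeOfRank 1 S.X₃ ∧ PicF.cl S.X₃ = tw n A 1 ∧
      Nonempty (S.X₁ ≅ CohB1.tensorMod (Twist.twistProjSpace n A 1) Ω) ∧
      Nonempty (S.X₂ ≅ FlatMod.freeMod (CohB1.ProjSpace n A) (n + 1)) := by
  obtain ⟨q, hq⟩ := H28.PBField.exists_isProjBundle n A
  haveI : Epi q := hq.epi
  let S : ShortComplex (CohB1.ProjSpace n A).Modules := ShortComplex.mk (kernel.ι q) q (kernel.condition q)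
  have hS : S.ShortExact := { exact := ShortComplex.exact_of_f_is_kernel _ (kernelIsKernel q) }
  obtain ⟨eK⟩ := Euler.nonempty_iso q (OmegaSh.dOmega (CohB1.ProjSpace.toSpec n A)) hq
    (OmegaUniv.isUniversal_dOmega _)
    (fun x => ⟨⊤, n + 1, trivial, H23.Frame.exists_iso_of_frame _
      (H23.Frame.incl_isFrame (X := Spec (CommRingCat.of A)) (n := n + 1))⟩)
  have hK : PicF.cl (kernel q) = tw n A 1 * PicF.cl Ω :=
    (cl_eq_iff.2 ⟨eK.symm⟩).trans ((cl_tens _ _).trans (mul_comm _ _))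
  obtain ⟨eK'⟩ := cl_eq_iff.1 (hK.trans (cl_tensor (Twist.twistProjSpace n A 1) Ω).symm)
  have hO1 : FlatMod.IsFinLocFreeOfRank 1 (Twist.twistProjSpace n A 1) :=
    InvEnd.isFinLocFreeOfRank_one (isInvertible_O n A 1)
  have h1 : FlatMod.IsFinLocFree (kernel q) := H23.PullPush.isFinLocFree_of_iso eK'.symm
    (isFinLocFree_tensorMod (isFinLocFree_of_rank hO1) (isFinLocFree_of_rank (rank_omega n A)))
  refine ⟨S, hS, h1, hO1, rfl, ⟨eK'⟩, ⟨?_⟩⟩
  exact KFlatLib.pullFreeIso (CohB1.ProjSpace.toSpec n A) (n + 1)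

theorem cl_lam {K : (CohB1.ProjSpace n A).Modules} (e : K ≅ CohB1.tensorMod (Twist.twistProjSpace n A 1) Ω)
    (hK : FlatMod.IsFinLocFree K) (i : ℕ) : PicF.cl (H28.ExtBase.L K i) = hodge n A i i := by
  have hΩ := isFinLocFree_of_rank (rank_omega n A)
  have hT := KFlatLib.isFinLocFree_tensor
    (isFinLocFree_of_rank (InvEnd.isFinLocFreeOfRank_one (isInvertible_O n A 1))) hΩ
  obtain ⟨e₁⟩ := H28.ExtSh.nonempty_iso_L hT (H28.LamTwist.isExtPow_twist (isInvertible_O n A 1) hΩ i)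
  obtain ⟨e₂⟩ := H28.ExtSh.nonempty_iso_L hT (ExtPowPull.isExtPow_of_iso e (H28.ExtSh.isExtPow_L i hK))
  rw [(cl_eq_iff.2 ⟨e₂.symm ≪≫ e₁⟩ : PicF.cl (H28.ExtBase.L K i) = _) , cl_tensor, cl_tensorPow, tw_pow]

theorem exists_lam_free {F : (CohB1.ProjSpace n A).Modules} (e : F ≅ FlatMod.freeMod (CohB1.ProjSpace n A) (n + 1))
    (i : ℕ) : ∃ N, N = (n + 1).choose i ∧ Nonempty (H28.ExtBase.L F i ≅ FlatMod.freeMod (CohB1.ProjSpace n A) N) := by
  have hfree := isFinLocFree_freeMod (X := CohB1.ProjSpace n A) (n + 1)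
  obtain ⟨e₁⟩ := H28.ExtSh.nonempty_iso_L (H23.PullPush.isFinLocFree_of_iso e.symm hfree)
    (ExtPowPull.isExtPow_of_iso e.symm (H28.ExtSh.isExtPow_L i hfree))
  obtain ⟨e₂⟩ := RelPC17.TruncFree.nonempty_iso_of_frame _ (H28.ExtSh.isFrame_wFrame (m := i)
    (H23.Frame.incl_isFrame (X := CohB1.ProjSpace n A) (n := n + 1)))
  exact ⟨_, by rw [← Nat.card_eq_fintype_card, Set.powersetCard.card, Nat.card_eq_fintype_card, Fintype.card_fin], ⟨e₁ ≪≫ e₂⟩⟩

/-- `0 → Ω^(p+1)(k) → O(k-p-1)^N → Ω^p(k) → 0`, with `N = (n+1).choose (p+1)`. -/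
theorem exists_euler' (p : ℕ) (k : ℤ) :
    ∃ T : ShortComplex (CohB1.ProjSpace n A).Modules, T.ShortExact ∧
      PicF.cl T.X₁ = hodge n A (p + 1) k ∧ PicF.cl T.X₃ = hodge n A p k ∧
      ∃ (N : ℕ) (a : Fin N → (T.X₂ ⟶ Twist.twistProjSpace n A (k - (p + 1))))
        (b : Fin N → (Twist.twistProjSpace n A (k - (p + 1)) ⟶ T.X₂)), N = (n + 1).choose (p + 1) ∧
          ∑ j, a j ≫ b j = 𝟙 T.X₂ ∧ ∀ i j, b i ≫ a j = if i = j then 𝟙 _ else 0 := by
  obtain ⟨S, hS, hK1, hO1, hS3, ⟨eK⟩, ⟨eF⟩⟩ := exists_taut_ses n A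
  obtain ⟨T, hT, h1, h2, h3⟩ := exists_ses_of_rank_one hS hK1 hO1 p
  rw [cl_lam n A eK hK1] at h1
  rw [cl_lam n A eK hK1, hS3] at h3
  have hT₃ : FlatMod.IsFinLocFree T.X₃ := by
    let O := Twist.twistProjSpace n A (p : ℤ)
    let L := H28.ExtBase.L Ω p
    let G := ((DCoh.tensorBi (X := P)).obj (((DCoh.tensorBi (X := P)).obj O).obj L)).obj (Twist.twistProjSpace n A 1)
    have hG : PicF.cl T.X₃ = PicF.cl G := by
      rw [h3, cl_tens, cl_tens]
    obtain ⟨e⟩ := cl_eq_iff.1 hG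
    exact H23.PullPush.isFinLocFree_of_iso e.symm (KFlatLib.isFinLocFree_tensor (KFlatLib.isFinLocFree_tensor
      (isFinLocFree_of_rank (InvEnd.isFinLocFreeOfRank_one (isInvertible_O n A p)))
      (H28.ExtSh.isFinLocFree_L p (isFinLocFree_of_rank (rank_omega n A))))
      (isFinLocFree_of_rank (InvEnd.isFinLocFreeOfRank_one (isInvertible_O n A 1))))
  let V := Twist.twistProjSpace n A (k - (p + 1))
  have hTV := KFlatLib.shortExact_tensor_of_isFlat V hT (KFlatLib.isFlat_of_isFinLocFree hT₃)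
  obtain ⟨N, hN, ⟨eN⟩⟩ := exists_lam_free n A eF (p + 1)
  obtain ⟨e2⟩ := cl_eq_iff.1 h2
  obtain ⟨a, b, hab⟩ := exists_decomp V (e2 ≪≫ eN)
  refine ⟨_, hTV, ?_, ?_, N, a, b, hN, hab⟩
  · show PicF.cl (((DCoh.tensorBi (X := P)).obj V).obj T.X₁) = _
    rw [cl_tens, h1, hodge, ← mul_assoc, tw_add]
    congr 2
    push_cast; ring
  · show PicF.cl (((DCoh.tensorBi (X := P)).obj V).obj T.X₃) = _
    rw [cl_tens, h3, hodge]
    show tw n A (k - (p + 1)) * (tw n A p * PicF.cl (H28.ExtBase.L Ω p) * tw n A 1) = _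
    rw [mul_comm (tw n A (p : ℤ) * _), ← mul_assoc, ← mul_assoc, tw_add, tw_add]
    congr 2
    push_cast; ring

/-- `0 → Ω^(p+1)(k) → O(k-p-1)^N → Ω^p(k) → 0`. -/
theorem exists_euler (p : ℕ) (k : ℤ) :
    ∃ T : ShortComplex (CohB1.ProjSpace n A).Modules, T.ShortExact ∧
      PicF.cl T.X₁ = hodge n A (p + 1) k ∧ PicF.cl T.X₃ = hodge n A p k ∧
      ∃ (N : ℕ) (a : Fin N → (T.X₂ ⟶ Twist.twistProjSpace n A (k - (p + 1))))
        (b : Fin N → (Twist.twistProjSpace n A (k - (p + 1)) ⟶ T.X₂)), ∑ j, a j ≫ b j = 𝟙 T.X₂ := by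
  obtain ⟨T, hT, h1, h3, N, a, b, -, hab, -⟩ := exists_euler' n A p k
  exact ⟨T, hT, h1, h3, N, a, b, hab⟩

end Groth.Agent.Synt29.PnEuler
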