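import Mathlib
import Groth.Agent.Synt29.PnEuler
import Groth.Agent.S0843
import Groth.Agent.S0844
import Groth.Agent.Lib.Euler

/-! Cohomology of the twisted forms on projective space. -/

set_option autoImplicit false
set_option linter.style.haveILetI false
set_option linter.unusedSectionVars false
set_option backward.isDefEq.respectTransparency false
set_option backward.isDefEq.respectTransparency.types false
set_option maxHeartbeats 1600000

universe u

open CategoryTheory CategoryTheory.Limits AlgebraicGeometry TopologicalSpace Opposite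
open CategoryTheory.Abelian
open Groth.Agent.PnCoh.Finite (mapLin deltaLin)

noncomputable section

namespace Groth.Agent.Synt29.PnHodge

open Groth.Agent Groth.Agent.H23.PicMul

section General

variable {X : Scheme.{u}} (A : Type u) [CommRing A] [X.Over (Spec (CommRingCat.of A))]

theorem mapLin_comp_apply {M N K : X.Modules} (φ : M ⟶ N) (ψ : N ⟶ K) (q : ℕ) (x : Coh.HH X M q) :
    mapLin A ψ q (mapLin A φ q x) = mapLin A (φ ≫ ψ) q x :=
  PnCoh.Finite.map_map (Y := X.toPresheafedSpace.carrier) ((QCoh.toAbFunctor X).map_comp φ ψ).symm q x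

theorem mapLin_id_apply {M : X.Modules} (q : ℕ) (x : Coh.HH X M q) : mapLin A (𝟙 M) q x = x := by
  show Sheaf.H.map ((QCoh.toAbFunctor X).map (𝟙 M)) q x = x
  rw [CategoryTheory.Functor.map_id, Sheaf.H.map_id_apply]

/-- Cohomology of isomorphic modules. -/
def equivLin {M N : X.Modules} (e : M ≅ N) (q : ℕ) : Coh.HH X M q ≃ₗ[A] Coh.HH X N q :=
  LinearEquiv.ofLinear (mapLin A e.hom q) (mapLin A e.inv q)
    (LinearMap.ext fun x => (mapLin_comp_apply A _ _ q x).trans (by rw [e.inv_hom_id, mapLin_id_apply]; rfl))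
    (LinearMap.ext fun x => (mapLin_comp_apply A _ _ q x).trans (by rw [e.hom_inv_id, mapLin_id_apply]; rfl))

theorem subsingleton_of_decomp {E V : X.Modules} {N : ℕ} (a : Fin N → (E ⟶ V)) (b : Fin N → (V ⟶ E))
    (h : ∑ j, a j ≫ b j = 𝟙 E) (q : ℕ) (hV : Subsingleton (Coh.HH X V q)) :
    Subsingleton (Coh.HH X E q) := by
  refine subsingleton_of_forall_eq 0 fun x => ?_
  have h2 : ∀ s : Finset (Fin N), Sheaf.H.map ((QCoh.toAbFunctor X).map (∑ j ∈ s, a j ≫ b j)) q x = 0 := fun s => by
    induction s using Finset.induction with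
    | empty =>
      simp only [Finset.sum_empty, Functor.map_zero]
      show ((Sheaf.functorH _ q).map 0).hom x = 0
      rw [Functor.map_zero]; rfl
    | insert j s hj ih =>
      rw [Finset.sum_insert hj, Functor.map_add, Sheaf.H.map_add_apply, ih, add_zero]
      refine (PnCoh.Finite.map_map (Y := X.toPresheafedSpace.carrier)
        ((QCoh.toAbFunctor X).map_comp (a j) (b j)).symm q x).symm.trans ?_
      rw [Subsingleton.elim (α := Coh.HH X V q) (Sheaf.H.map ((QCoh.toAbFunctor X).map (a j)) q x) 0, map_zero]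
  have h3 := h2 Finset.univ
  rw [h, CategoryTheory.Functor.map_id, Sheaf.H.map_id_apply] at h3
  exact h3

variable {S : ShortComplex X.Modules}

theorem delta_injective (hS : S.ShortExact) (q : ℕ) (h : Subsingleton (Coh.HH X S.X₂ q)) :
    Function.Injective (deltaLin A hS q) :=
  (injective_iff_map_eq_zero _).2 fun x hx => by
    obtain ⟨y, rfl⟩ := PnCoh.Finite.exists_of_deltaLin_eq_zero A hS q hx
    rw [Subsingleton.elim y 0, map_zero]

theorem delta_surjective (hS : S.ShortExact) (q : ℕ) (h : Subsingleton (Coh.HH X S.X₂ (q + 1))) :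
    Function.Surjective (deltaLin A hS q) := fun x => by
  have hT := QCoh.toAb_shortExact hS
  obtain ⟨y, hy⟩ := Ext.covariant_sequence_exact₁ _ hT x (Subsingleton.elim (α := Coh.HH X S.X₂ (q + 1)) _ _) rfl
  exact ⟨y, hy⟩

include A in
theorem subsingleton_left (hS : S.ShortExact) (q : ℕ) (h₂ : Subsingleton (Coh.HH X S.X₂ (q + 1)))
    (h₃ : Subsingleton (Coh.HH X S.X₃ q)) : Subsingleton (Coh.HH X S.X₁ (q + 1)) :=
  (delta_surjective A hS q h₂).subsingleton

include A in
theorem subsingleton_left_zero (hS : S.ShortExact) (h₂ : Subsingleton (Coh.HH X S.X₂ 0)) :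
    Subsingleton (Coh.HH X S.X₁ 0) := by
  have hinj : Function.Injective (mapLin A S.f 0) := by
    refine (injective_iff_map_eq_zero _).2 fun x hx => ?_
    haveI := (QCoh.toAb_shortExact hS).mono_f
    obtain ⟨x₀, rfl⟩ := (Ext.mk₀_bijective _ _).2 x
    have h1 : Ext.mk₀ (x₀ ≫ (QCoh.toAbFunctor X).map S.f) = 0 := (Ext.mk₀_comp_mk₀ _ _).symm.trans hx
    rw [Ext.mk₀_eq_zero_iff] at h1
    haveI : Mono ((QCoh.toAbFunctor X).map S.f) := (QCoh.toAb_shortExact hS).mono_f
    rw [← zero_comp (f := (QCoh.toAbFunctor X).map S.f), cancel_mono] at h1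
    rw [h1]
    exact map_zero Ext.addEquiv₀.symm
  exact hinj.subsingleton

include A in
theorem subsingleton_right (hS : S.ShortExact) (q : ℕ) (h₂ : Subsingleton (Coh.HH X S.X₂ q))
    (h₁ : Subsingleton (Coh.HH X S.X₁ (q + 1))) : Subsingleton (Coh.HH X S.X₃ q) :=
  (delta_injective A hS q h₂).subsingleton

end General

variable (n : ℕ) (A : Type u) [CommRing A] [QuasiSeparated (CohB1.ProjSpace.toSpec n A)]

theorem vanish_mid {M : (CohB1.ProjSpace n A).Modules} {m : ℤ}
    (h : ∃ (N : ℕ) (a : Fin N → (M ⟶ Twist.twistProjSpace n A m)) (b : Fin N → (Twist.twistProjSpace n A m ⟶ M)),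
      ∑ j, a j ≫ b j = 𝟙 M) (q : ℕ) (h₀ : ¬ (q = 0 ∧ 0 ≤ m)) (hn : ¬ (q = n ∧ m ≤ -((n : ℤ) + 1))) :
    Subsingleton (Coh.HH (CohB1.ProjSpace n A) M q) := by
  obtain ⟨N, a, b, hab⟩ := h
  exact subsingleton_of_decomp a b hab q (S0844.result A n m q h₀ hn)

/-- Positive twists. -/
theorem vanish_pos (k : ℤ) (hk : 0 < k) : ∀ (c p q : ℕ), n + 1 ≤ p + c → (q = 0 → k ≤ p) →
    ∀ M : (CohB1.ProjSpace n A).Modules, PicF.cl M = PnEuler.hodge n A p k →
      Subsingleton (Coh.HH (CohB1.ProjSpace n A) M q) := by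
  intro c
  induction c with
  | zero =>
    intro p q hp _ M hM
    exact Groth.Agent.Euler.subsingleton_HH_of_isZero (PnEuler.hodge_top n A (by omega) k hM) q
  | succ c ih =>
    intro p q hp hq M hM
    by_cases hpn : n < p
    · exact Groth.Agent.Euler.subsingleton_HH_of_isZero (PnEuler.hodge_top n A hpn k hM) q
    obtain ⟨T, hT, h1, h3, hmid⟩ := PnEuler.exists_euler n A p k
    have h₂ : Subsingleton (Coh.HH (CohB1.ProjSpace n A) T.X₂ q) :=
      vanish_mid n A hmid q (fun h => by have := hq h.1; omega) (fun h => by omega)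
    have h₁ := ih (p + 1) (q + 1) (by omega) (by simp) T.X₁ h1
    have h₃ := subsingleton_right A hT q h₂ h₁
    obtain ⟨e⟩ := cl_eq_iff.1 (h3.trans hM.symm)
    exact ((equivLin A e q).symm.toEquiv).subsingleton

/-- Above the dimension. -/
theorem vanish_big (k : ℤ) : ∀ (c p q : ℕ), n + 1 ≤ p + c → n < q →
    ∀ M : (CohB1.ProjSpace n A).Modules, PicF.cl M = PnEuler.hodge n A p k →
      Subsingleton (Coh.HH (CohB1.ProjSpace n A) M q) := by
  intro c
  induction c with
  | zero =>
    intro p q hp _ M hM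
    exact Groth.Agent.Euler.subsingleton_HH_of_isZero (PnEuler.hodge_top n A (by omega) k hM) q
  | succ c ih =>
    intro p q hp hq M hM
    obtain ⟨T, hT, h1, h3, hmid⟩ := PnEuler.exists_euler n A p k
    have h₂ : Subsingleton (Coh.HH (CohB1.ProjSpace n A) T.X₂ q) :=
      vanish_mid n A hmid q (fun h => by omega) (fun h => by omega)
    have h₁ := ih (p + 1) (q + 1) (by omega) (by omega) T.X₁ h1
    have h₃ := subsingleton_right A hT q h₂ h₁
    obtain ⟨e⟩ := cl_eq_iff.1 (h3.trans hM.symm)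
    exact ((equivLin A e q).symm.toEquiv).subsingleton

/-- Non-positive twists, away from the diagonal of degree zero. -/
theorem vanish_nonpos (k : ℤ) (hk : k ≤ 0) : ∀ (p q : ℕ), (q = n → (p : ℤ) ≤ k + n) → ¬ (k = 0 ∧ p = q) →
    ∀ M : (CohB1.ProjSpace n A).Modules, PicF.cl M = PnEuler.hodge n A p k →
      Subsingleton (Coh.HH (CohB1.ProjSpace n A) M q) := by
  intro p
  induction p with
  | zero =>
    intro q hq hne M hM
    rw [PnEuler.hodge_zero] at hM
    obtain ⟨e⟩ := cl_eq_iff.1 hM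
    haveI := S0844.result A n k q (fun h => hne ⟨by omega, h.1.symm⟩) (fun h => by have := hq h.1; omega)
    exact (equivLin A e q).toEquiv.subsingleton
  | succ p ih =>
    intro q hq hne M hM
    by_cases hpn : n < p + 1
    · exact Groth.Agent.Euler.subsingleton_HH_of_isZero (PnEuler.hodge_top n A hpn k hM) q
    obtain ⟨T, hT, h1, h3, hmid⟩ := PnEuler.exists_euler n A p k
    have h₂ : Subsingleton (Coh.HH (CohB1.ProjSpace n A) T.X₂ q) :=
      vanish_mid n A hmid q (fun h => by omega) (fun h => by have := hq h.1; omega)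
    obtain ⟨e⟩ := cl_eq_iff.1 (h1.trans hM.symm)
    suffices h : Subsingleton (Coh.HH (CohB1.ProjSpace n A) T.X₁ q) from (equivLin A e q).symm.toEquiv.subsingleton
    rcases q with _ | q
    · exact subsingleton_left_zero A hT h₂
    · by_cases hbig : n < q + 1
      · exact vanish_big n A k (n + 1) (p + 1) (q + 1) (by omega) hbig T.X₁ h1
      · exact subsingleton_left A hT q h₂ (ih q (fun h => by omega) (fun h => hne ⟨h.1, by omega⟩) T.X₃ h3)

theorem nonempty_homog_zero : Nonempty (↥(MvPolynomial.homogeneousSubmodule (Fin (n + 1)) A 0) ≃ₗ[A] A) := by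
  refine ⟨LinearEquiv.ofLinear ((MvPolynomial.lcoeff A (0 : Fin (n + 1) →₀ ℕ)).comp (Submodule.subtype _))
    ((Algebra.linearMap A (MvPolynomial (Fin (n + 1)) A)).codRestrict _ fun a => MvPolynomial.isHomogeneous_C _ a)
    ?_ ?_⟩
  · ext; simp
  · refine LinearMap.ext fun x => Subtype.ext ?_
    show MvPolynomial.C (MvPolynomial.coeff 0 x.1) = x.1
    obtain ⟨c, hc⟩ : ∃ c, x.1 = MvPolynomial.C c :=
      ⟨_, MvPolynomial.totalDegree_eq_zero_iff_eq_C.1 (Nat.le_zero.1 (x.2.totalDegree_le))⟩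
    rw [hc, MvPolynomial.coeff_zero_C]

/-- The diagonal. -/
theorem diag (hn : 1 ≤ n) : ∀ p : ℕ, p ≤ n → ∀ M : (CohB1.ProjSpace n A).Modules, PicF.cl M = PnEuler.hodge n A p 0 →
    Nonempty (Coh.HH (CohB1.ProjSpace n A) M p ≃ₗ[A] A) := by
  intro p
  induction p with
  | zero =>
    intro _ M hM
    rw [PnEuler.hodge_zero] at hM
    obtain ⟨e⟩ := cl_eq_iff.1 hM
    obtain ⟨e₀⟩ := S0843.result A n 0
    obtain ⟨e₁⟩ := nonempty_homog_zero n A
    exact ⟨(equivLin A e 0).trans (e₀.trans e₁)⟩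
  | succ p ih =>
    intro hp M hM
    obtain ⟨T, hT, h1, h3, hmid⟩ := PnEuler.exists_euler n A p 0
    obtain ⟨e₃⟩ := ih (by omega) T.X₃ h3
    obtain ⟨e⟩ := cl_eq_iff.1 (h1.trans hM.symm)
    let δ := LinearEquiv.ofBijective (deltaLin A hT p)
      ⟨delta_injective A hT p (vanish_mid n A hmid p (fun h => by omega) (fun h => by omega)),
        delta_surjective A hT p (vanish_mid n A hmid (p + 1) (fun h => by omega) (fun h => by omega))⟩
    exact ⟨(equivLin A e (p + 1)).symm.trans (δ.symm.trans e₃)⟩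

end Groth.Agent.Synt29.PnHodge
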