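import Mathlib
import Groth.Agent.Synt29.PnHodge
import Groth.Agent.S0845
import Groth.Agent.PnCoh.Chow.Proper
import Mathlib.Algebra.Order.Antidiag.FinsuppEquiv

/-! Dimensions of the cohomology of twisted forms on projective space over a field. -/

set_option autoImplicit false
set_option linter.style.haveILetI false
set_option linter.unusedSectionVars false
set_option backward.isDefEq.respectTransparency false
set_option backward.isDefEq.respectTransparency.types false
set_option maxHeartbeats 1600000

universe u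

open CategoryTheory CategoryTheory.Limits AlgebraicGeometry TopologicalSpace Opposite
open CategoryTheory.Abelian
open Groth.Agent.PnCoh.Finite (mapLin deltaLin)

noncomputable section

namespace Groth.Agent.Synt29.PnBott

open Groth.Agent Groth.Agent.H23.PicMul

theorem homogeneous (k : Type u) [Field k] (d m : ℕ) :
    Module.Finite k (MvPolynomial.homogeneousSubmodule (Fin d) k m) ∧
      Module.finrank k (MvPolynomial.homogeneousSubmodule (Fin d) k m) = (d + m - 1).choose m := by
  classical
  let S : Set (Fin d →₀ ℕ) := {e | e.degree = m}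
  let e : {a // a ∈ (Finset.univ : Finset (Fin d)).finsuppAntidiag m} ≃ S :=
    Equiv.subtypeEquivRight fun a => by
      simp [S, Finset.mem_finsuppAntidiag, Finsupp.degree_eq_sum]
  haveI : Fintype S := Fintype.ofEquiv _ e
  let φ : MvPolynomial.homogeneousSubmodule (Fin d) k m ≃ₗ[k] (S →₀ k) :=
    (LinearEquiv.ofEq _ _ (MvPolynomial.homogeneousSubmodule_eq_finsupp_supported (σ := Fin d) (R := k) m)).trans
      (AddMonoidAlgebra.supportedEquivFinsupp S)
  refine ⟨Module.Finite.equiv φ.symm, ?_⟩
  rw [φ.finrank_eq, Module.finrank_finsupp_self, ← Fintype.card_congr e, Fintype.card_coe,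
    Finset.card_finsuppAntidiag_nat_eq_choose, Finset.card_univ, Fintype.card_fin]

section General

variable {X : Scheme.{u}} (k : Type u) [Field k] [X.Over (Spec (CommRingCat.of k))]

theorem finrank_decomp {E V : X.Modules} {N : ℕ} (a : Fin N → (E ⟶ V)) (b : Fin N → (V ⟶ E))
    (h : ∑ j, a j ≫ b j = 𝟙 E) (h' : ∀ i j, b i ≫ a j = if i = j then 𝟙 V else 0) (q : ℕ)
    [Module.Finite k (Coh.HH X V q)] :
    Module.Finite k (Coh.HH X E q) ∧
      Module.finrank k (Coh.HH X E q) = N * Module.finrank k (Coh.HH X V q) := by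
  classical
  let Φ : (Fin N → Coh.HH X V q) →ₗ[k] Coh.HH X E q := ∑ j, (mapLin k (b j) q).comp (LinearMap.proj j)
  have hsum : ∀ (s : Finset (Fin N)) (x : Coh.HH X E q),
      ∑ j ∈ s, mapLin k (a j ≫ b j) q x = mapLin k (∑ j ∈ s, a j ≫ b j) q x := fun s x => by
    induction s using Finset.induction with
    | empty =>
      simp only [Finset.sum_empty]
      show (0 : Coh.HH X E q) = Sheaf.H.map ((QCoh.toAbFunctor X).map 0) q x
      rw [Functor.map_zero]
      show (0 : Coh.HH X E q) = ((Sheaf.functorH _ q).map 0).hom x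
      rw [Functor.map_zero]; rfl
    | insert j s hj ih =>
      rw [Finset.sum_insert hj, Finset.sum_insert hj, ih]
      show Sheaf.H.map _ q x + Sheaf.H.map _ q x = Sheaf.H.map ((QCoh.toAbFunctor X).map (_ + _)) q x
      rw [Functor.map_add, Sheaf.H.map_add_apply]
      rfl
  have hsurj : Function.Surjective Φ := fun x => ⟨fun j => mapLin k (a j) q x, by
    simp only [Φ, LinearMap.sum_apply, LinearMap.comp_apply, LinearMap.proj_apply, PnHodge.mapLin_comp_apply]
    rw [hsum, h, PnHodge.mapLin_id_apply]⟩
  have hinj : Function.Injective Φ := by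
    refine (injective_iff_map_eq_zero Φ).2 fun y hy => funext fun i => ?_
    have := congrArg (mapLin k (a i) q) hy
    simp only [Φ, LinearMap.sum_apply, LinearMap.comp_apply, LinearMap.proj_apply, map_sum, map_zero,
      PnHodge.mapLin_comp_apply, h'] at this
    rw [Finset.sum_eq_single i, if_pos rfl, PnHodge.mapLin_id_apply] at this
    · exact this
    · intro j _ hj
      rw [if_neg hj]
      show Sheaf.H.map ((QCoh.toAbFunctor X).map 0) q _ = 0
      rw [Functor.map_zero]
      show ((Sheaf.functorH _ q).map 0).hom (y j) = 0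
      rw [Functor.map_zero]; rfl
    · simp
  let e := LinearEquiv.ofBijective Φ ⟨hinj, hsurj⟩
  exact ⟨Module.Finite.equiv e, by rw [← e.finrank_eq, Module.finrank_pi_fintype]; simp⟩

variable {S : ShortComplex X.Modules}

theorem finrank_ses (hS : S.ShortExact) (q : ℕ) [Module.Finite k (Coh.HH X S.X₂ q)]
    (h₃ : ∀ r, r + 1 = q → Subsingleton (Coh.HH X S.X₃ r)) (h₁ : Subsingleton (Coh.HH X S.X₁ (q + 1))) :
    Module.finrank k (Coh.HH X S.X₁ q) + Module.finrank k (Coh.HH X S.X₃ q) =
      Module.finrank k (Coh.HH X S.X₂ q) := by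
  have hf : Function.Injective (mapLin k S.f q) := by
    rcases q with _ | r
    · exact LinearMap.ker_eq_bot.1 (Groth.Agent.Euler.ker_mapLin_f_zero k hS)
    · refine LinearMap.ker_eq_bot.1 ?_
      rw [← Groth.Agent.Euler.range_deltaLin k hS r]
      haveI := h₃ r rfl
      exact LinearMap.range_eq_bot.2 (LinearMap.ext fun x => by rw [Subsingleton.elim x 0, map_zero, map_zero])
  have hg : Function.Surjective (mapLin k S.g q) := by
    refine LinearMap.range_eq_top.1 ?_
    rw [Groth.Agent.Euler.range_mapLin_g k hS q]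
    exact LinearMap.ker_eq_top.2 (LinearMap.ext fun x => Subsingleton.elim _ _)
  have := LinearMap.finrank_range_add_finrank_ker (mapLin k S.g q)
  rw [LinearMap.range_eq_top.2 hg, finrank_top, ← Groth.Agent.Euler.range_mapLin_f k hS q,
    LinearMap.finrank_range_of_inj hf] at this
  omega

end General

/-- The numerical identity behind the Bott formula. -/
theorem bott_identity (p a b : ℕ) :
    (p + 1 + a + b + 1).choose (p + 1 + a) * (p + a).choose p +
        (p + 1 + a + b).choose (p + 1 + a) * (p + a).choose (p + 1) =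
      (p + b + 2).choose (p + 1) * (p + 1 + a + b).choose (p + 1 + b) := by
  set d := p + 1 + a with hd
  have hd0 : 0 < d := by omega
  have e1 : d * (p + a).choose p = d.choose (p + 1) * (p + 1) := by
    have := Nat.add_one_mul_choose_eq (p + a) p
    rwa [show p + a + 1 = d by omega] at this
  have e2 : d * (p + a).choose (p + 1) = d.choose (p + 1) * a := by
    have h1 := Nat.add_one_mul_choose_eq (p + a) (p + 1)
    rw [show p + a + 1 = d by omega] at h1
    have h2 := Nat.choose_succ_right_eq d (p + 1)
    rw [show d - (p + 1) = a by omega] at h2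
    rw [h1, ← h2]
  have e3 : (d + b + 1).choose d * (b + 1) = (d + b + 1) * (d + b).choose d := by
    have := Nat.choose_mul_succ_eq (d + b) d
    rw [show d + b + 1 - d = b + 1 by omega] at this
    rw [← this, mul_comm]
  have e4 : (b + 1) * (p + b + 2).choose (p + 1) = (p + b + 2) * (p + b + 1).choose (p + 1) := by
    have := Nat.choose_mul_succ_eq (p + b + 1) (p + 1)
    rw [show p + b + 1 + 1 - (p + 1) = b + 1 by omega, show p + b + 1 + 1 = p + b + 2 by omega] at this
    rw [mul_comm (p + b + 2), this, mul_comm]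
  have e5 : d.choose (p + 1) * (d + b).choose d = (p + b + 1).choose (p + 1) * (d + b).choose (p + 1 + b) := by
    have h1 := Nat.choose_mul (n := d + b) (k := d) (s := p + 1) (by omega)
    have h2 := Nat.choose_mul (n := d + b) (k := p + 1 + b) (s := p + 1) (by omega)
    rw [mul_comm, h1, mul_comm ((p + b + 1).choose _), show p + b + 1 = p + 1 + b by omega, h2,
      show p + 1 + b - (p + 1) = b by omega, show d + b - (p + 1) = a + b by omega, show d - (p + 1) = a by omega,
      Nat.choose_symm_add]
  refine Nat.eq_of_mul_eq_mul_left (Nat.mul_pos hd0 (Nat.succ_pos b)) ?_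
  calc d * (b + 1) * ((d + b + 1).choose d * (p + a).choose p + (d + b).choose d * (p + a).choose (p + 1))
      = (d * (p + a).choose p) * ((d + b + 1).choose d * (b + 1)) +
          (d * (p + a).choose (p + 1)) * ((d + b).choose d * (b + 1)) := by ring
    _ = d.choose (p + 1) * (d + b).choose d * ((d + b + 1) * (p + 1) + a * (b + 1)) := by rw [e1, e2, e3]; ring
    _ = ((p + b + 1).choose (p + 1) * (d + b).choose (p + 1 + b)) * ((p + b + 2) * d) := by
        rw [e5]; congr 1; rw [hd]; ring
    _ = d * ((b + 1) * (p + b + 2).choose (p + 1)) * (d + b).choose (p + 1 + b) := by rw [e4]; ring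
    _ = d * (b + 1) * ((p + b + 2).choose (p + 1) * (d + b).choose (p + 1 + b)) := by ring

/-- The Bott number. -/
def bott (n d p : ℕ) : ℕ := (d + n - p).choose d * (d - 1).choose p

theorem bott_zero (n d : ℕ) : bott n d 0 = (d + n).choose d := by simp [bott]

theorem bott_succ (n d p : ℕ) (hp : p + 1 ≤ n) (hd : p < d) :
    bott n d (p + 1) + bott n d p = (n + 1).choose (p + 1) * (d + n - (p + 1)).choose n := by
  obtain ⟨a, rfl⟩ : ∃ a, d = p + 1 + a := ⟨d - (p + 1), by omega⟩
  obtain ⟨b, rfl⟩ : ∃ b, n = p + 1 + b := ⟨n - (p + 1), by omega⟩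
  unfold bott
  rw [show p + 1 + a + (p + 1 + b) - (p + 1) = p + 1 + a + b by omega,
    show p + 1 + a + (p + 1 + b) - p = p + 1 + a + b + 1 by omega, show p + 1 + a - 1 = p + a by omega,
    show p + 1 + b + 1 = p + b + 2 by omega, add_comm]
  exact bott_identity p a b

variable (n : ℕ) (k : Type u) [Field k] [QuasiSeparated (CohB1.ProjSpace.toSpec n k)]

theorem h0_line (d : ℕ) :
    Module.Finite k (Coh.HH (CohB1.ProjSpace n k) (Twist.twistProjSpace n k (d : ℤ)) 0) ∧
      Module.finrank k (Coh.HH (CohB1.ProjSpace n k) (Twist.twistProjSpace n k (d : ℤ)) 0) = (n + d).choose d := by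
  obtain ⟨e⟩ := S0843.result k n d
  obtain ⟨hf, hr⟩ := homogeneous k (n + 1) d
  haveI := hf
  exact ⟨Module.Finite.equiv e.symm, by rw [e.finrank_eq, hr, show n + 1 + d - 1 = n + d by omega]⟩

theorem hn_line (c : ℕ) :
    Module.Finite k (Coh.HH (CohB1.ProjSpace n k) (Twist.twistProjSpace n k (-((n : ℤ) + 1 + c))) n) ∧
      Module.finrank k (Coh.HH (CohB1.ProjSpace n k) (Twist.twistProjSpace n k (-((n : ℤ) + 1 + c))) n) = (n + c).choose c := by
  obtain ⟨e⟩ := S0845.result k n c
  obtain ⟨hf, hr⟩ := homogeneous k (n + 1) c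
  haveI := hf
  exact ⟨Module.Finite.equiv e.symm, by rw [e.finrank_eq, hr, show n + 1 + c - 1 = n + c by omega]⟩

theorem finrank_of_cl {M M' : (CohB1.ProjSpace n k).Modules} (h : PicF.cl M = PicF.cl M') (q : ℕ) :
    Module.finrank k (Coh.HH (CohB1.ProjSpace n k) M q) = Module.finrank k (Coh.HH (CohB1.ProjSpace n k) M' q) := by
  obtain ⟨e⟩ := cl_eq_iff.1 h
  exact (PnHodge.equivLin k e q).finrank_eq

/-- Global sections. -/
theorem h0 (d : ℕ) : ∀ p : ℕ, p ≤ n → p < d → ∀ M : (CohB1.ProjSpace n k).Modules,
    PicF.cl M = PnEuler.hodge n k p (d : ℤ) → Module.finrank k (Coh.HH (CohB1.ProjSpace n k) M 0) = bott n d p := by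
  intro p
  induction p with
  | zero =>
    intro _ _ M hM
    rw [PnEuler.hodge_zero] at hM
    rw [finrank_of_cl n k hM 0, (h0_line n k d).2, bott_zero, add_comm]
  | succ p ih =>
    intro hp hd M hM
    obtain ⟨T, hT, h1, h3, N, a, b, hN, hab, hba⟩ := PnEuler.exists_euler' n k p (d : ℤ)
    have hm : ((d : ℤ) - (p + 1)) = ((d - (p + 1) : ℕ) : ℤ) := by omega
    obtain ⟨hf2, hr2⟩ : Module.Finite k (Coh.HH (CohB1.ProjSpace n k) T.X₂ 0) ∧
        Module.finrank k (Coh.HH (CohB1.ProjSpace n k) T.X₂ 0) = N * (n + (d - (p + 1))).choose (d - (p + 1)) := by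
      revert a b
      rw [hm]
      intro a b hab hba
      haveI := (h0_line n k (d - (p + 1))).1
      rw [← (h0_line n k (d - (p + 1))).2]
      exact finrank_decomp k a b hab hba 0
    haveI := hf2
    have h := finrank_ses k hT 0 (fun r hr => by omega)
      (PnHodge.vanish_pos n k d (by omega) (n + 1) (p + 1) 1 (by omega) (by simp) T.X₁ h1)
    rw [finrank_of_cl n k (h1.trans hM.symm) 0, ih (by omega) (by omega) T.X₃ h3, hr2, hN] at h
    have := bott_succ n d p hp (by omega)
    rw [show n + (d - (p + 1)) = d + n - (p + 1) by omega,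
      ← Nat.choose_symm (show d - (p + 1) ≤ d + n - (p + 1) by omega),
      show d + n - (p + 1) - (d - (p + 1)) = n by omega] at h
    omega

/-- Top cohomology. -/
theorem hn (e : ℕ) (he1 : 1 ≤ e) : ∀ c : ℕ, c ≤ n → c < e → ∀ M : (CohB1.ProjSpace n k).Modules,
    PicF.cl M = PnEuler.hodge n k (n - c) (-(e : ℤ)) →
      Module.finrank k (Coh.HH (CohB1.ProjSpace n k) M n) = bott n e c := by
  intro c
  induction c with
  | zero =>
    intro _ _ M hM
    obtain ⟨T, hT, h1, h3, N, a, b, hN, hab, hba⟩ := PnEuler.exists_euler' n k n (-(e : ℤ))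
    obtain ⟨hf2, hr2⟩ : Module.Finite k (Coh.HH (CohB1.ProjSpace n k) T.X₂ n) ∧
        Module.finrank k (Coh.HH (CohB1.ProjSpace n k) T.X₂ n) = N * (n + e).choose e := by
      revert a b
      rw [show (-(e : ℤ) - ((n : ℕ) + 1)) = -((n : ℤ) + 1 + e) by ring]
      intro a b hab hba
      haveI := (hn_line n k e).1
      rw [← (hn_line n k e).2]
      exact finrank_decomp k a b hab hba n
    haveI := hf2
    have hz := PnEuler.hodge_top n k (Nat.lt_succ_self n) _ h1
    have hz' := fun q => Groth.Agent.Euler.subsingleton_HH_of_isZero hz q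
    have h := finrank_ses k hT n (fun r hr => ?_) (hz' _)
    · rw [finrank_of_cl n k (h3.trans (by simpa using hM.symm)) n, hr2, hN] at h
      haveI := hz' n
      rw [Module.finrank_zero_of_subsingleton, zero_add, Nat.choose_self, one_mul] at h
      rw [h, bott_zero, add_comm]
    · exact PnHodge.vanish_nonpos n k _ (by omega) n r (fun h => by omega) (fun h => by omega) T.X₃ h3
  | succ c ih =>
    intro hc hce M hM
    obtain ⟨T, hT, h1, h3, N, a, b, hN, hab, hba⟩ := PnEuler.exists_euler' n k (n - (c + 1)) (-(e : ℤ))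
    have hm : (-(e : ℤ) - ((n - (c + 1) : ℕ) + 1)) = -((n : ℤ) + 1 + ((e - (c + 1) : ℕ) : ℤ)) := by omega
    obtain ⟨hf2, hr2⟩ : Module.Finite k (Coh.HH (CohB1.ProjSpace n k) T.X₂ n) ∧
        Module.finrank k (Coh.HH (CohB1.ProjSpace n k) T.X₂ n) = N * (n + (e - (c + 1))).choose (e - (c + 1)) := by
      revert a b
      rw [hm]
      intro a b hab hba
      haveI := (hn_line n k (e - (c + 1))).1
      rw [← (hn_line n k (e - (c + 1))).2]
      exact finrank_decomp k a b hab hba n
    haveI := hf2
    have h := finrank_ses k hT n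
      (fun r hr => PnHodge.vanish_nonpos n k _ (by omega) (n - (c + 1)) r (fun h => by omega) (fun h => by omega) T.X₃ h3)
      (PnHodge.vanish_big n k _ (n + 1) _ (n + 1) (by omega) (by omega) T.X₁ h1)
    rw [show n - (c + 1) + 1 = n - c by omega] at h1 hN
    rw [finrank_of_cl n k (h3.trans hM.symm) n, ih (by omega) (by omega) T.X₁ h1, hr2, hN] at h
    have := bott_succ n e c hc (by omega)
    rw [show n + (e - (c + 1)) = e + n - (c + 1) by omega,
      ← Nat.choose_symm (show e - (c + 1) ≤ e + n - (c + 1) by omega),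
      show e + n - (c + 1) - (e - (c + 1)) = n by omega,
      ← Nat.choose_symm (show n - c ≤ n + 1 by omega), show n + 1 - (n - c) = c + 1 by omega] at h
    omega

end Groth.Agent.Synt29.PnBott
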