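import Groth.Agent.Synt29.OmegaRestrict
import Groth.Agent.OmegaLib.Affine
import Groth.Agent.QCoh.FT

/-! A sheaf of differentials is quasi-coherent, with the Kähler differentials as affine sections. -/

set_option autoImplicit false

universe u

open CategoryTheory CategoryTheory.Limits AlgebraicGeometry TopologicalSpace Opposite

namespace Groth.Agent.Synt29.OmegaStalk

/-- two receptacles of universal derivations are isomorphic -/
lemma exists_iso_of_universal {X Y : Scheme.{u}} {f : X ⟶ Y} {Ω₁ Ω₂ : X.Modules}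
    {d₁ : OmegaSh.Der f Ω₁} (h₁ : OmegaSh.IsUniversal d₁) {d₂ : OmegaSh.Der f Ω₂}
    (h₂ : OmegaSh.IsUniversal d₂) :
    ∃ e : Ω₁ ≅ Ω₂, ∀ (W : X.Opens) (s : Γ(X, W)), e.hom.app W (d₁.app W s) = d₂.app W s := by
  obtain ⟨α, hα, -⟩ := h₁ _ d₂
  obtain ⟨β, hβ, -⟩ := h₂ _ d₁
  have hα' : ∀ (W : X.Opens) (s : Γ(X, W)), α.app W (d₁.app W s) = d₂.app W s :=
    fun W s => PresheafOfModules.Derivation.congr_d hα s
  have hβ' : ∀ (W : X.Opens) (s : Γ(X, W)), β.app W (d₂.app W s) = d₁.app W s :=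
    fun W s => PresheafOfModules.Derivation.congr_d hβ s
  refine ⟨⟨α, β, ?_, ?_⟩, hα'⟩
  · refine (h₁ _ d₁).unique ?_ ?_ <;> refine PresheafOfModules.Derivation.ext ?_ <;> funext W <;>
      refine AddMonoidHom.ext fun s => ?_
    · exact (congrArg (β.app W.unop) (hα' W.unop s)).trans (hβ' W.unop s)
    · rfl
  · refine (h₂ _ d₂).unique ?_ ?_ <;> refine PresheafOfModules.Derivation.ext ?_ <;> funext W <;>
      refine AddMonoidHom.ext fun s => ?_
    · exact (congrArg (α.app W.unop) (hβ' W.unop s)).trans (hα' W.unop s)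
    · rfl

/-- On an affine scheme a derivation is determined by its values on global functions. -/
theorem der_ext_top {X Y : Scheme.{u}} [IsAffine X] {f : X ⟶ Y} {F : X.Modules}
    {D₁ D₂ : OmegaSh.Der f F} (h : ∀ b : Γ(X, ⊤), D₁.app ⊤ b = D₂.app ⊤ b) : D₁ = D₂ := by
  refine PresheafOfModules.Derivation.ext ?_
  funext W
  refine AddMonoidHom.ext fun s => ?_
  refine TopCat.Presheaf.section_ext (⟨F.presheaf, F.isSheaf⟩ : TopCat.Sheaf AddCommGrpCat X)
    W.unop _ _ fun x hx => ?_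
  show gm F hx (D₁.app W.unop s) = gm F hx (D₂.app W.unop s)
  rw [← stalkD_germ, ← stalkD_germ]
  generalize X.presheaf.germ W.unop x hx s = b
  have hxt : x ∈ (⊤ : X.Opens) := trivial
  let _ := X.presheaf.algebra_section_stalk (U := ⊤) ⟨x, hxt⟩
  have := (isAffineOpen_top X).isLocalization_stalk ⟨x, hxt⟩
  obtain ⟨⟨a, c⟩, hac⟩ := IsLocalization.surj
    ((isAffineOpen_top X).primeIdealOf ⟨x, hxt⟩).asIdeal.primeCompl b
  have hu : IsUnit (X.presheaf.germ ⊤ x hxt (c : Γ(X, ⊤))) :=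
    IsLocalization.map_units (X.presheaf.stalk x) c
  have e₁ := congrArg (stalkD D₁ x).d hac
  have e₂ := congrArg (stalkD D₂ x).d hac
  change (stalkD D₁ x).d (b * X.presheaf.germ ⊤ x hxt (c : Γ(X, ⊤))) =
    (stalkD D₁ x).d (X.presheaf.germ ⊤ x hxt a) at e₁
  change (stalkD D₂ x).d (b * X.presheaf.germ ⊤ x hxt (c : Γ(X, ⊤))) =
    (stalkD D₂ x).d (X.presheaf.germ ⊤ x hxt a) at e₂
  rw [ModuleCat.Derivation.d_mul, stalkD_germ, stalkD_germ, h, h] at e₁
  rw [ModuleCat.Derivation.d_mul, stalkD_germ, stalkD_germ] at e₂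
  exact hu.smul_left_cancel.mp (add_left_cancel (e₁.trans e₂.symm))

section Affine

variable (A B : Type u) [CommRing A] [CommRing B] [Algebra A B]

lemma toΓ_surjective : Function.Surjective (OmAff.toΓ B) := fun s =>
  ⟨(Scheme.ΓSpecIso (CommRingCat.of B)).hom s, (Scheme.ΓSpecIso (CommRingCat.of B)).hom_inv_id_apply s⟩

lemma top_toTop_bijective : Function.Bijective (OmegaLib.toTop A B) :=
  ConcreteCategory.bijective_of_isIso
    (tilde.isoTop (R := CommRingCat.of B) (ModuleCat.of B (Ω[B⁄A]))).hom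

/-- The derivation of `Spec B ⟶ Spec A` is universal. -/
theorem isUniversal_dOmega : OmegaSh.IsUniversal (OmegaSh.dOmega (OmegaLib.sMap A B)) := by
  intro F D
  obtain ⟨e, he⟩ := OmegaLib.exists_iso_kTilde A B
  have hd : ∀ b, (OmegaSh.dOmega (OmegaLib.sMap A B)).app ⊤ (OmAff.toΓ B b) =
      OmegaSh.dSect (OmegaLib.sMap A B) ⊤ (OmAff.toΓ B b) := fun _ => rfl
  -- the linear map on global sections
  let _ := OmAff.modB B F
  let _ := OmAff.modA A B F
  have := OmAff.isScalarTower_modB_modA A B F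
  have hA : ∀ a : A, D.app ⊤ (OmAff.toΓ B (algebraMap A B a)) = 0 := fun a => by
    rw [← OmAff.appTop_toΓ]
    exact app_base F D ⊤ (OmAff.toΓ A a)
  let δ : Derivation A B Γ(F, ⊤) :=
    { toFun := fun b => D.app ⊤ (OmAff.toΓ B b)
      map_add' := fun b b' => by simp only [map_add]
      map_smul' := fun a b => by
        change D.app ⊤ (OmAff.toΓ B (a • b)) = OmAff.toΓ B (algebraMap A B a) • D.app ⊤ (OmAff.toΓ B b)
        rw [Algebra.smul_def, map_mul, app_mul, hA, smul_zero, add_zero]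
      map_one_eq_zero' := by
        change D.app ⊤ (OmAff.toΓ B 1) = 0
        rw [← (algebraMap A B).map_one, hA]
      leibniz' := fun b b' => by
        change D.app ⊤ (OmAff.toΓ B (b * b')) =
          OmAff.toΓ B b • D.app ⊤ (OmAff.toΓ B b') + OmAff.toΓ B b' • D.app ⊤ (OmAff.toΓ B b)
        rw [map_mul, app_mul] }
  let lin : ModuleCat.of (CommRingCat.of B) (Ω[B⁄A]) ⟶
      (moduleSpecΓFunctor (R := CommRingCat.of B)).obj F :=
    ModuleCat.ofHom
      (Y := ((moduleSpecΓFunctor (R := CommRingCat.of B)).obj F : ModuleCat _))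
      { toFun := δ.liftKaehlerDifferential
        map_add' := map_add _
        map_smul' := fun b z => (δ.liftKaehlerDifferential.map_smul b z).trans
          (congrArg (fun c : Γ(Spec (CommRingCat.of B), ⊤) => c • δ.liftKaehlerDifferential z)
            (OmegaLib.toΓ_res B b)).symm }
  let β : OmegaLib.kTilde A B ⟶ F :=
    ((tilde.adjunction (R := CommRingCat.of B)).homEquiv (ModuleCat.of B (Ω[B⁄A])) F).symm lin
  have hβ : ∀ z, β.app ⊤ (OmegaLib.toTop A B z) = δ.liftKaehlerDifferential z := fun z => by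
    have h := ((tilde.adjunction (R := CommRingCat.of B)).homEquiv (ModuleCat.of B (Ω[B⁄A]))
      F).apply_symm_apply lin
    rw [Adjunction.homEquiv_unit] at h
    exact congr($h z)
  refine ⟨e.hom ≫ β, ?_, fun γ hγ => ?_⟩
  · refine der_ext_top fun s => ?_
    obtain ⟨b, rfl⟩ := toΓ_surjective B s
    show β.app ⊤ (e.hom.app ⊤ (OmegaSh.dSect (OmegaLib.sMap A B) ⊤ (OmAff.toΓ B b))) = _
    rw [he, hβ]
    exact δ.liftKaehlerDifferential_comp_D b
  · suffices h : e.inv ≫ γ = β by rw [← h, Iso.hom_inv_id_assoc]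
    apply ((tilde.adjunction (R := CommRingCat.of B)).homEquiv _ _).injective
    refine (Adjunction.homEquiv_unit _ _ _ _).trans
      (Eq.trans ?_ (Adjunction.homEquiv_unit _ _ _ _).symm)
    apply ModuleCat.hom_ext
    apply LinearMap.ext
    intro z
    show (e.inv ≫ γ).app ⊤ (OmegaLib.toTop A B z) = β.app ⊤ (OmegaLib.toTop A B z)
    rw [hβ]
    have hz : z ∈ Submodule.span B (Set.range (KaehlerDifferential.D A B)) := by
      rw [KaehlerDifferential.span_range_derivation]; trivial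
    induction hz using Submodule.span_induction with
    | mem y hy =>
        obtain ⟨b, rfl⟩ := hy
        rw [← he b]
        show γ.app ⊤ (e.inv.app ⊤ (e.hom.app ⊤ _)) = _
        rw [← ConcreteCategory.comp_apply (e.hom.app ⊤), ← Scheme.Modules.Hom.comp_app,
          Iso.hom_inv_id]
        exact (PresheafOfModules.Derivation.congr_d hγ (OmAff.toΓ B b)).trans
          (δ.liftKaehlerDifferential_comp_D b).symm
    | zero => simp
    | add y y' _ _ h h' => simp only [map_add, h, h']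
    | smul b y _ h =>
        rw [OmegaLib.toTop_smul, Scheme.Modules.Hom.app_smul, h, map_smul]
        rfl

end Affine

/-- On an affine chart the sheaf of differentials is the sheaf of Kähler differentials. -/
theorem exists_iso_chart {X Y : Scheme.{u}} {f : X ⟶ Y} {Ω : X.Modules} {d : OmegaSh.Der f Ω}
    (hd : OmegaSh.IsUniversal d) {U : X.Opens} (hU : IsAffineOpen U) {V : Y.Opens}
    (hV : IsAffineOpen V) (e : U ≤ f ⁻¹ᵁ V) :
    letI := (f.appLE V U e).hom.toAlgebra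
    ∃ i : Ω.restrict hU.fromSpec ≅ OmegaLib.kTilde Γ(Y, V) Γ(X, U),
      ∀ b : Γ(X, U), i.hom.app ⊤ ((restrictDer hU.fromSpec d).app ⊤ (OmAff.toΓ Γ(X, U) b)) =
        OmegaLib.toTop Γ(Y, V) Γ(X, U) (KaehlerDifferential.D Γ(Y, V) Γ(X, U) b) := by
  let _ := (f.appLE V U e).hom.toAlgebra
  have he : hU.fromSpec ≫ f = OmegaLib.sMap Γ(Y, V) Γ(X, U) ≫ hV.fromSpec :=
    (hV.SpecMap_appLE_fromSpec f hU e).symm
  have h1 := isUniversal_derToOpen (isUniversal_restrictDer hU.fromSpec hd)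
    (OmegaLib.sMap Γ(Y, V) Γ(X, U)) hV.fromSpec he
  obtain ⟨i₁, hi₁⟩ := exists_iso_of_universal h1 (isUniversal_dOmega Γ(Y, V) Γ(X, U))
  obtain ⟨i₂, hi₂⟩ := OmegaLib.exists_iso_kTilde Γ(Y, V) Γ(X, U)
  refine ⟨i₁ ≪≫ i₂, fun b => ?_⟩
  show i₂.hom.app ⊤ (i₁.hom.app ⊤ _) = _
  rw [← hi₂ b]
  exact congrArg _ (hi₁ ⊤ _)

/-- small affine charts -/
theorem exists_charts {X Y : Scheme.{u}} (f : X ⟶ Y) (x : X) :
    ∃ (U : X.Opens) (_ : IsAffineOpen U) (V : Y.Opens) (_ : IsAffineOpen V),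
      x ∈ U ∧ U ≤ f ⁻¹ᵁ V := by
  obtain ⟨V, hV, hxV, -⟩ := Opens.isBasis_iff_nbhd.mp Y.isBasis_affineOpens (Opens.mem_top (f x))
  obtain ⟨U, hU, hxU, e⟩ := Opens.isBasis_iff_nbhd.mp X.isBasis_affineOpens
    (show x ∈ f ⁻¹ᵁ V from hxV)
  exact ⟨U, hU, V, hV, hxU, e⟩

/-- A sheaf of differentials is quasi-coherent. -/
theorem isQCoh_of_isUniversal {X Y : Scheme.{u}} {f : X ⟶ Y} {Ω : X.Modules} {d : OmegaSh.Der f Ω}
    (hd : OmegaSh.IsUniversal d) : Coh.IsQCoh Ω := by
  choose U hU V hV hxU e using exists_charts f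
  refine QCoh.isQCoh_of_isOpenCover U (eq_top_iff.mpr fun x _ => Opens.mem_iSup.mpr ⟨x, hxU x⟩)
    fun x => ?_
  let _ := (f.appLE (V x) (U x) (e x)).hom.toAlgebra
  obtain ⟨i, -⟩ := exists_iso_chart hd (hU x) (hV x) (e x)
  refine (QCoh.isQCoh_iff_iso (QCoh.chartRestrictIso (hU x) Ω)).1 (QCoh.isQCoh_restrict _ ?_)
  exact (QCoh.isQCoh_iff_iso i).2
    (inferInstanceAs (SheafOfModules.IsQuasicoherent (R := (Spec Γ(X, U x)).ringCatSheaf) (tilde _)))

/-- Sections of a sheaf of differentials over an affine open. -/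
theorem exists_linearEquiv_sections {X Y : Scheme.{u}} {f : X ⟶ Y} {Ω : X.Modules}
    {d : OmegaSh.Der f Ω} (hd : OmegaSh.IsUniversal d) {U : X.Opens} (hU : IsAffineOpen U)
    {V : Y.Opens} (hV : IsAffineOpen V) (e : U ≤ f ⁻¹ᵁ V) :
    letI := (f.appLE V U e).hom.toAlgebra
    Nonempty (Γ(Ω, U) ≃ₗ[Γ(X, U)] Ω[Γ(X, U)⁄Γ(Y, V)]) := by
  let _ := (f.appLE V U e).hom.toAlgebra
  obtain ⟨i, -⟩ := exists_iso_chart hd hU hV e
  exact ⟨(QCoh.chartEquiv hU Ω).trans (((moduleSpecΓFunctor.mapIso i).trans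
    (tilde.isoTop (R := Γ(X, U)) (ModuleCat.of Γ(X, U) (Ω[Γ(X, U)⁄Γ(Y, V)]))).symm).toLinearEquiv)⟩

end Groth.Agent.Synt29.OmegaStalk
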