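import Groth.Agent.Synt29.ConormalExact

/-! More on the sequences of conormal sheaves and differentials, on stalks. -/

set_option autoImplicit false

universe u

open CategoryTheory CategoryTheory.Limits AlgebraicGeometry TopologicalSpace Opposite
open scoped TensorProduct

namespace Groth.Agent.Synt29.ConormalSeq

open OmegaStalk ConormalStalk ConormalExact Groth.Agent.KFlatLib

section Seq

variable {Z X Y : Scheme.{u}} (i : Z ⟶ X) [IsImmersion i] [QuasiCompact i]

omit [IsImmersion i] [QuasiCompact i] in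
/-- the function of a germ of the ideal module is unique -/
theorem rep_unique {y : X} {m : St (I i) y} {a a' : X.presheaf.stalk y} (h : Rep i y m a)
    (h' : Rep i y m a') : a = a' := by
  obtain ⟨U, hy, k, hk, rfl⟩ := h
  obtain ⟨U', hy', k', hk', rfl⟩ := h'
  obtain ⟨W, hyW, j, j', e⟩ := TopCat.Presheaf.germ_eq (C := AddCommGrpCat.{u}) (I i).presheaf y
    hy hy' k k' (hk.trans hk'.symm)
  have e' : (I i).presheaf.map (homOfLE (leOfHom j)).op k =
      (I i).presheaf.map (homOfLE (leOfHom j')).op k' := e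
  have := congrArg (OmegaSh.idealSect i.ker W) e'
  rw [OmegaLib.idealSect_map, OmegaLib.idealSect_map] at this
  rw [← X.presheaf.germ_res_apply (homOfLE (leOfHom j)) y hyW,
    ← X.presheaf.germ_res_apply (homOfLE (leOfHom j')) y hyW, this]

omit [IsImmersion i] in
/-- the class of a function vanishes only on the square of the ideal -/
theorem mem_sq_of_unit1_eq_zero {x : Z} (hsurj : Function.Surjective (i.stalkMap x))
    {m : St (I i) (i x)} {a : X.presheaf.stalk (i x)}
    (h : Rep i (i x) m a) (h0 : unit1 i x m = 0) :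
    a ∈ RingHom.ker (i.stalkMap x).hom ^ 2 := by
  let A := X.presheaf.stalk (i x)
  let K := RingHom.ker (i.stalkMap x).hom
  let ι : St (I i) (i x) → A := fun m => (rep_exists i (i x) m).choose
  have hι : ∀ m, Rep i (i x) m (ι m) := fun m => (rep_exists i (i x) m).choose_spec
  let s : Z.presheaf.stalk x → A := Function.surjInv hsurj
  have hs : ∀ b, i.stalkMap x (s b) = b := Function.surjInv_eq hsurj
  let π : A →+* A ⧸ K ^ 2 := Ideal.Quotient.mk _
  have hmul : ∀ (u v : A) (n : St (I i) (i x)), i.stalkMap x u = i.stalkMap x v →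
      π (u * ι n) = π (v * ι n) := fun u v n e => by
    refine Ideal.Quotient.eq.mpr ?_
    rw [← sub_mul, sq]
    exact Ideal.mul_mem_mul (RingHom.mem_ker.mpr (by rw [map_sub]; exact sub_eq_zero.mpr e))
      (RingHom.mem_ker.mpr (rep_mem i (hι n)))
  let _ := (i.stalkMap x).hom.toAlgebra
  let Φ : (Z.presheaf.stalk x) ⊗[A] (St (I i) (i x)) →ₗ[A] A ⧸ K ^ 2 :=
    TensorProduct.lift (LinearMap.mk₂ A (fun b n => π (s b * ι n))
      (fun b b' n => by
        rw [← map_add, ← add_mul]
        exact hmul _ _ n (by rw [map_add, hs, hs, hs]))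
      (fun c b n => by
        show π _ = π (c * (s b * ι n))
        rw [← mul_assoc]
        exact hmul _ _ n (by rw [map_mul, hs, hs]; rfl))
      (fun b n n' => by
        rw [← map_add, ← mul_add, rep_unique i (hι (n + n')) (rep_add i (hι n) (hι n'))])
      (fun c b n => by
        show π _ = π (c * (s b * ι n))
        rw [rep_unique i (hι (c • n)) (rep_smul i (hι n) c), mul_left_comm]))
  have h1 : π (s 1 * ι m) = 0 := (congrArg Φ h0).trans (map_zero Φ)
  rw [hmul (s 1) 1 m (by rw [hs, map_one]), one_mul, rep_unique i (hι m) h] at h1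
  exact Ideal.Quotient.eq_zero_iff_mem.mp h1

/-- elements killed by the map to the differentials -/
theorem exists_of_map_conormalDiff_eq_zero (f : X ⟶ Y) (Ω : X.Modules) (d : OmegaSh.Der f Ω)
    (hd : OmegaSh.IsUniversal d)
    (φ : Omega.conormal i ⟶ (Scheme.Modules.pullback i).obj Ω) (hφ : OmegaSh.IsConormalDiff i d φ)
    (x : Z) (z : St (Omega.conormal i) x) (hz : (DerSch.stalkFunctor Z x).map φ z = 0) :
    ∃ (U : X.Opens) (hx : x ∈ i ⁻¹ᵁ U) (k : Γ(I i, U)),
      gm (Omega.conormal i) hx (OmegaSh.conormalSect i U k) = z ∧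
      let _ := (f.stalkMap (i x)).hom.toAlgebra
      let _ := (i.stalkMap x).hom.toAlgebra
      (1 : Z.presheaf.stalk x) ⊗ₜ[X.presheaf.stalk (i x)]
        KaehlerDifferential.D (Y.presheaf.stalk (f (i x))) (X.presheaf.stalk (i x))
          (X.presheaf.germ U (i x) hx (OmegaSh.idealSect i.ker U k)) = 0 := by
  obtain ⟨U, hx, k, rfl⟩ := exists_conormalSect i x z
  refine ⟨U, hx, k, rfl, ?_⟩
  have h1 : (DerSch.stalkFunctor Z x).map φ (gm _ hx (OmegaSh.conormalSect i U k)) =
      gm _ hx (OmegaSh.pullSect i Ω U (d.app U (OmegaSh.idealSect i.ker U k))) := by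
    refine (DerSch.stalkFunctor_map_germ x φ _ hx _).trans ?_
    exact congrArg _ (hφ U k)
  rw [h1] at hz
  have h2 := (stalkPullbackIso_gm i Ω x hx (d.app U (OmegaSh.idealSect i.ker U k))).symm.trans
    ((congrArg _ hz).trans (map_zero _))
  rw [← stalkD_germ] at h2
  generalize X.presheaf.germ U (i x) hx (OmegaSh.idealSect i.ker U k) = a at h2 ⊢
  obtain ⟨j, hj⟩ := exists_iso_of_eq hd (i x) (f.stalkMap (i x)) rfl
  let E := (ModuleCat.extendScalars (i.stalkMap x).hom).mapIso j
  have h3 : E.hom (((ModuleCat.extendRestrictScalarsAdj (i.stalkMap x).hom).unit.app _).hom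
      (CommRingCat.KaehlerDifferential.d a)) = 0 := by
    rw [← h2, ← hj a]
    exact (congr($((ModuleCat.extendRestrictScalarsAdj (i.stalkMap x).hom).unit.naturality j.hom)
      (CommRingCat.KaehlerDifferential.d a))).symm
  exact (ConcreteCategory.bijective_of_isIso E.hom).1 (h3.trans (map_zero E.hom.hom).symm)

end Seq

section Retraction

variable {Z X S : Scheme.{u}} (f : X ⟶ S) (i : Z ⟶ X) [IsImmersion i] [QuasiCompact i]
  (g : X ⟶ Z) (hgi : i ≫ g = 𝟙 Z) (hgS : g ≫ i ≫ f = f)

include hgi hgS in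
theorem mono_of_retraction (ΩX : X.Modules) (dX : OmegaSh.Der f ΩX) (hX : OmegaSh.IsUniversal dX)
    (φ : Omega.conormal i ⟶ (Scheme.Modules.pullback i).obj ΩX)
    (hφ : OmegaSh.IsConormalDiff i dX φ) : Mono φ := by
  rw [mono_iff_stalk]
  intro x
  refine (injective_iff_map_eq_zero _).mpr fun z hz => ?_
  obtain ⟨U, hx, k, rfl, hzero⟩ := exists_of_map_conormalDiff_eq_zero i f ΩX dX hX φ hφ x z hz
  refine conormalSect_eq_zero i hx k ?_
  have hgx : g (i x) = x := congr($hgi x)
  let sX : Z.presheaf.stalk x ⟶ X.presheaf.stalk (i x) :=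
    (Z.presheaf.stalkCongr (.of_eq hgx)).inv ≫ g.stalkMap (i x)
  have hsec : ∀ b, i.stalkMap x (sX b) = b := by
    intro b
    obtain ⟨W, hW, t, rfl⟩ := Z.presheaf.exists_germ_eq (x := x) b
    have hW' : g (i x) ∈ W := by rw [hgx]; exact hW
    simp only [sX, ConcreteCategory.comp_apply, TopCat.Presheaf.stalkCongr_inv]
    rw [Z.presheaf.germ_stalkSpecializes_apply]
    rw [Scheme.Hom.germ_stalkMap_apply, Scheme.Hom.germ_stalkMap_apply]
    rw [show i.app (g ⁻¹ᵁ W) (g.app W t) = (i ≫ g).app W t from rfl]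
    rw [Scheme.Hom.congr_app hgi W, ConcreteCategory.comp_apply]
    exact Z.presheaf.germ_res_apply _ _ _ _
  have hbase : ∀ r, sX (i.stalkMap x (f.stalkMap (i x) r)) = f.stalkMap (i x) r := by
    intro r
    obtain ⟨W, hW, b, rfl⟩ := S.presheaf.exists_germ_eq (x := f (i x)) r
    have hW' : g (i x) ∈ (i ≫ f) ⁻¹ᵁ W := by rw [hgx]; exact hW
    rw [Scheme.Hom.germ_stalkMap_apply, Scheme.Hom.germ_stalkMap_apply]
    simp only [sX, ConcreteCategory.comp_apply, TopCat.Presheaf.stalkCongr_inv]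
    rw [Z.presheaf.germ_stalkSpecializes_apply]
    rw [Scheme.Hom.germ_stalkMap_apply]
    show X.presheaf.germ ((g ≫ i ≫ f) ⁻¹ᵁ W) (i x) _ ((g ≫ i ≫ f).app W b) = _
    erw [Scheme.Hom.congr_app hgS W, ConcreteCategory.comp_apply]
    exact X.presheaf.germ_res_apply _ _ _ _
  let R := S.presheaf.stalk (f (i x))
  let _ := (f.stalkMap (i x)).hom.toAlgebra
  let _ := (i.stalkMap x).hom.toAlgebra
  let _ : Algebra R (Z.presheaf.stalk x) := (f.stalkMap (i x) ≫ i.stalkMap x).hom.toAlgebra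
  have : IsScalarTower R (X.presheaf.stalk (i x)) (Z.presheaf.stalk x) :=
    IsScalarTower.of_algebraMap_eq' rfl
  let K := RingHom.ker (i.stalkMap x).hom
  let s : Z.presheaf.stalk x →ₐ[R] X.presheaf.stalk (i x) := { sX.hom with commutes' := hbase }
  refine mem_of_tmul_D (K ^ 2) le_rfl (Ideal.pow_le_self two_ne_zero)
    ((Ideal.Quotient.mkₐ R _).comp s) (fun b => hsec b) _ ?_ hzero
  exact rep_mem i ⟨U, hx, k, rfl, rfl⟩

end Retraction

section DiffCompat

variable {Z X S : Scheme.{u}} (f : X ⟶ S) (i : Z ⟶ X) [IsImmersion i] [QuasiCompact i]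
  (ΩX : X.Modules) (dX : OmegaSh.Der f ΩX) (hX : OmegaSh.IsUniversal dX)
  (ΩZ : Z.Modules) (dZ : OmegaSh.Der (i ≫ f) ΩZ) (hZ : OmegaSh.IsUniversal dZ)
  (φ : Omega.conormal i ⟶ (Scheme.Modules.pullback i).obj ΩX) (hφ : OmegaSh.IsConormalDiff i dX φ)
  (c : (Scheme.Modules.pullback i).obj ΩX ⟶ ΩZ) (hc : OmegaSh.IsDiffCompat i dX dZ c)

omit [QuasiCompact i] in
include hX hZ hc in
theorem exists_square (x : Z) :
    let _ := (f.stalkMap (i x)).hom.toAlgebra
    let _ := (i.stalkMap x).hom.toAlgebra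
    let _ := (f.stalkMap (i x) ≫ i.stalkMap x).hom.toAlgebra
    ∃ (i₁ : (ModuleCat.extendScalars (i.stalkMap x).hom).obj
          (CommRingCat.KaehlerDifferential (f.stalkMap (i x))) ≅
          St ((Scheme.Modules.pullback i).obj ΩX) x)
      (i₂ : CommRingCat.KaehlerDifferential (f.stalkMap (i x) ≫ i.stalkMap x) ≅ St ΩZ x),
      (∀ a : X.presheaf.stalk (i x), i₁.hom
        (((ModuleCat.extendRestrictScalarsAdj (i.stalkMap x).hom).unit.app _).hom
          (CommRingCat.KaehlerDifferential.d a)) =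
        ((stalkPullbackIso i x).app ΩX).inv
          (((ModuleCat.extendRestrictScalarsAdj (i.stalkMap x).hom).unit.app _).hom
            ((stalkD dX (i x)).d a))) ∧
      ∀ γ : (ModuleCat.extendScalars (i.stalkMap x).hom).obj
            (CommRingCat.KaehlerDifferential (f.stalkMap (i x))) ⟶
          CommRingCat.KaehlerDifferential (f.stalkMap (i x) ≫ i.stalkMap x),
        (∀ b : X.presheaf.stalk (i x),
          γ (((ModuleCat.extendRestrictScalarsAdj (i.stalkMap x).hom).unit.app _).hom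
              (CommRingCat.KaehlerDifferential.d b)) =
            CommRingCat.KaehlerDifferential.d (i.stalkMap x b)) →
        i₁.hom ≫ (DerSch.stalkFunctor Z x).map c = γ ≫ i₂.hom := by
  intro _ _ _
  obtain ⟨j, hj⟩ := exists_iso_of_eq hX (i x) (f.stalkMap (i x)) rfl
  obtain ⟨i₂, hi₂⟩ := exists_iso_of_eq hZ x (f.stalkMap (i x) ≫ i.stalkMap x)
    (Scheme.Hom.stalkMap_comp i f x).symm
  let P := (stalkPullbackIso i x).app ΩX
  let E := (ModuleCat.extendScalars (i.stalkMap x).hom).mapIso j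
  let adj := ModuleCat.extendRestrictScalarsAdj (i.stalkMap x).hom
  have hE : ∀ a, E.hom ((adj.unit.app _).hom (CommRingCat.KaehlerDifferential.d a)) =
      (adj.unit.app (St ΩX (i x))).hom ((stalkD dX (i x)).d a) := by
    intro a
    rw [← hj a]
    exact (congr($(adj.unit.naturality j.hom) (CommRingCat.KaehlerDifferential.d a))).symm
  refine ⟨E ≪≫ P.symm, i₂, fun a => congrArg P.inv (hE a), fun γ hγ => ?_⟩
  apply (adj.homEquiv _ _).injective
  refine CommRingCat.KaehlerDifferential.ext fun b => ?_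
  rw [Adjunction.homEquiv_unit, Adjunction.homEquiv_unit, ModuleCat.comp_apply,
    ModuleCat.comp_apply]
  show (DerSch.stalkFunctor Z x).map c (P.inv (E.hom ((adj.unit.app _).hom
      (CommRingCat.KaehlerDifferential.d b)))) =
    i₂.hom (γ ((adj.unit.app _).hom (CommRingCat.KaehlerDifferential.d b)))
  rw [hγ]
  refine Eq.trans ?_ (hi₂ _).symm
  erw [hE]
  obtain ⟨U, hU, s, rfl⟩ := X.presheaf.exists_germ_eq (x := i x) b
  have hU' : x ∈ i ⁻¹ᵁ U := hU
  have h2 : P.inv ((adj.unit.app (St ΩX (i x))).hom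
      ((stalkD dX (i x)).d (X.presheaf.germ U (i x) hU s))) =
      gm _ hU' (OmegaSh.pullSect i ΩX U (dX.app U s)) := by
    rw [stalkD_germ]
    have h3 : (adj.unit.app (St ΩX (i x))).hom (gm ΩX hU (dX.app U s)) =
        P.hom (gm _ hU' (OmegaSh.pullSect i ΩX U (dX.app U s))) :=
      (stalkPullbackIso_gm i ΩX x hU' _).symm
    rw [h3, Iso.hom_inv_id_apply]
  rw [h2, Scheme.Hom.germ_stalkMap_apply]
  refine (DerSch.stalkFunctor_map_germ x c _ hU' _).trans ?_
  rw [hc U s]
  exact (stalkD_germ dZ (i ⁻¹ᵁ U) hU' _).symm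

omit [QuasiCompact i] in
include hX hZ hc in
theorem exists_gamma (x : Z) :
    let _ := (f.stalkMap (i x)).hom.toAlgebra
    let _ := (i.stalkMap x).hom.toAlgebra
    let _ := (f.stalkMap (i x) ≫ i.stalkMap x).hom.toAlgebra
    have : IsScalarTower (S.presheaf.stalk (f (i x))) (X.presheaf.stalk (i x))
      (Z.presheaf.stalk x) := IsScalarTower.of_algebraMap_eq' rfl
    ∃ (i₁ : (ModuleCat.extendScalars (i.stalkMap x).hom).obj
          (CommRingCat.KaehlerDifferential (f.stalkMap (i x))) ≅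
          St ((Scheme.Modules.pullback i).obj ΩX) x)
      (i₂ : CommRingCat.KaehlerDifferential (f.stalkMap (i x) ≫ i.stalkMap x) ≅ St ΩZ x),
      (∀ a : X.presheaf.stalk (i x), i₁.hom
        (((ModuleCat.extendRestrictScalarsAdj (i.stalkMap x).hom).unit.app _).hom
          (CommRingCat.KaehlerDifferential.d a)) =
        ((stalkPullbackIso i x).app ΩX).inv
          (((ModuleCat.extendRestrictScalarsAdj (i.stalkMap x).hom).unit.app _).hom
            ((stalkD dX (i x)).d a))) ∧
      ∀ w, (DerSch.stalkFunctor Z x).map c (i₁.hom w) =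
        i₂.hom (KaehlerDifferential.mapBaseChange (S.presheaf.stalk (f (i x)))
          (X.presheaf.stalk (i x)) (Z.presheaf.stalk x) w) := by
  intro _ _ _ _
  obtain ⟨i₁, i₂, h₁, h⟩ := exists_square f i ΩX dX hX ΩZ dZ hZ c hc x
  refine ⟨i₁, i₂, h₁, fun w => ?_⟩
  have hγ := h (baseMap (f.stalkMap (i x)) (i.stalkMap x)) (baseMap_unit _ _)
  exact congr($hγ w)

omit [QuasiCompact i] in
include hX hZ hc in
theorem epi_diffCompat : Epi c := by
  rw [epi_iff_stalk]
  intro x z
  let _ := (f.stalkMap (i x)).hom.toAlgebra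
  let _ := (i.stalkMap x).hom.toAlgebra
  let _ := (f.stalkMap (i x) ≫ i.stalkMap x).hom.toAlgebra
  have : IsScalarTower (S.presheaf.stalk (f (i x))) (X.presheaf.stalk (i x))
      (Z.presheaf.stalk x) := IsScalarTower.of_algebraMap_eq' rfl
  obtain ⟨i₁, i₂, -, h⟩ := exists_gamma f i ΩX dX hX ΩZ dZ hZ c hc x
  obtain ⟨v, rfl⟩ := (ConcreteCategory.bijective_of_isIso i₂.hom).2 z
  obtain ⟨w, hw⟩ := KaehlerDifferential.mapBaseChange_surjective (S.presheaf.stalk (f (i x)))
    (X.presheaf.stalk (i x)) (Z.presheaf.stalk x) (i.stalkMap_surjective x) v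
  exact ⟨i₁.hom w, (h w).trans (congrArg i₂.hom hw)⟩

include hφ hc in
theorem comp_eq_zero : φ ≫ c = 0 := by
  refine hom_ext_stalk _ _ fun x z => ?_
  rw [Functor.map_zero]
  obtain ⟨U, hx, k, rfl⟩ := exists_conormalSect i x z
  rw [Functor.map_comp, ModuleCat.comp_apply]
  refine (congrArg ((DerSch.stalkFunctor Z x).map c)
    ((DerSch.stalkFunctor_map_germ x φ _ hx _).trans (congrArg _ (hφ U k)))).trans ?_
  refine (DerSch.stalkFunctor_map_germ x c _ hx _).trans ?_
  rw [hc U, OmegaUniv.app_idealSect, map_zero, map_zero]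
  rfl

include hX hZ hφ hc in
theorem exact_conormal_diffCompat (w : φ ≫ c = 0) : (ShortComplex.mk φ c w).Exact := by
  rw [exact_iff_stalk]
  intro x
  rw [ShortComplex.moduleCat_exact_iff]
  intro z hz
  let _ := (f.stalkMap (i x)).hom.toAlgebra
  let _ := (i.stalkMap x).hom.toAlgebra
  let _ := (f.stalkMap (i x) ≫ i.stalkMap x).hom.toAlgebra
  have : IsScalarTower (S.presheaf.stalk (f (i x))) (X.presheaf.stalk (i x))
      (Z.presheaf.stalk x) := IsScalarTower.of_algebraMap_eq' rfl
  obtain ⟨i₁, i₂, h₁, h⟩ := exists_gamma f i ΩX dX hX ΩZ dZ hZ c hc x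
  obtain ⟨v, rfl⟩ := (ConcreteCategory.bijective_of_isIso i₁.hom).2 z
  have hv : KaehlerDifferential.mapBaseChange (S.presheaf.stalk (f (i x)))
      (X.presheaf.stalk (i x)) (Z.presheaf.stalk x) v = 0 :=
    (ConcreteCategory.bijective_of_isIso i₂.hom).1 (((h v).symm.trans hz).trans (map_zero i₂.hom.hom).symm)
  obtain ⟨t, rfl⟩ := ((KaehlerDifferential.exact_kerCotangentToTensor_mapBaseChange
    (S.presheaf.stalk (f (i x))) (X.presheaf.stalk (i x)) (Z.presheaf.stalk x)
    (i.stalkMap_surjective x)) v).mp hv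
  obtain ⟨⟨a, ha⟩, rfl⟩ := Ideal.toCotangent_surjective _ t
  obtain ⟨_, U, hx, k, -, hk⟩ := exists_rep i (RingHom.mem_ker.mp ha)
  have hx' : x ∈ i ⁻¹ᵁ U := hx
  refine ⟨gm (Omega.conormal i) hx' (OmegaSh.conormalSect i U k), ?_⟩
  refine ((DerSch.stalkFunctor_map_germ x φ _ hx' _).trans (congrArg _ (hφ U k))).trans ?_
  refine Eq.trans ?_ (h₁ a).symm
  rw [← hk, stalkD_germ]
  refine (ConcreteCategory.bijective_of_isIso ((stalkPullbackIso i x).app ΩX).hom).1 ?_
  rw [Iso.inv_hom_id_apply]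
  exact stalkPullbackIso_gm i ΩX x hx' _

end DiffCompat

end Groth.Agent.Synt29.ConormalSeq
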