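import Mathlib
import Groth.Agent.Synt29.CIPoints
import Groth.Agent.Synt29.LocalRelGCI
import Groth.Agent.Synt29.Syntomic
import Groth.Agent.FlatModel.Open

/-!
# Algebras syntomic at a prime
-/

universe u

open TensorProduct

set_option linter.style.haveILetI false
set_option backward.isDefEq.respectTransparency.types false

namespace Groth.Agent.Synt29

variable {R S : Type u} [CommRing R] [CommRing S] [Algebra R S]

theorem exists_prime_away (g : S) (q : Ideal S) [q.IsPrime] (hg : g ∉ q) (T : Type u) [CommRing T] [Algebra S T]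
    [IsLocalization.Away g T] : ∃ qT : PrimeSpectrum T, qT.asIdeal.comap (algebraMap S T) = q := by
  obtain ⟨qT, hqT⟩ : (⟨q, inferInstance⟩ : PrimeSpectrum S) ∈ Set.range (PrimeSpectrum.comap (algebraMap S T)) := by
    rw [PrimeSpectrum.localization_away_comap_range T g]; exact hg
  exact ⟨qT, congrArg PrimeSpectrum.asIdeal hqT⟩

theorem atPrime_localization_equiv (g : S) (T : Type u) [CommRing T] [Algebra S T] [Algebra R T] [IsScalarTower R S T]
    [IsLocalization.Away g T] (qT : Ideal T) [qT.IsPrime] (q : Ideal S) [q.IsPrime]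
    (h : qT.comap (algebraMap S T) = q) :
    Nonempty (Localization.AtPrime qT ≃ₐ[R] Localization.AtPrime q) := by
  haveI : IsLocalization q.primeCompl (Localization.AtPrime qT) := by
    have := IsLocalization.isLocalization_isLocalization_atPrime_isLocalization (Submonoid.powers g) (Localization.AtPrime qT) qT
    simpa [h] using this
  exact ⟨(IsLocalization.algEquiv q.primeCompl (Localization.AtPrime qT) (Localization.AtPrime q)).restrictScalars R⟩

theorem exists_away_away (g : S) (q : Ideal S) [q.IsPrime] (hg : g ∉ q) (T : Type u) [CommRing T] [Algebra S T]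
    [Algebra R T] [IsScalarTower R S T] [IsLocalization.Away g T] (qT : Ideal T)
    (hqT : qT.comap (algebraMap S T) = q) (g' : T) (hg' : g' ∉ qT) :
    ∃ h : S, h ∉ q ∧ Nonempty (Localization.Away g' ≃ₐ[R] Localization.Away h) := by
  obtain ⟨N, b, hb⟩ := IsLocalization.Away.surj g g'
  have hunit : IsUnit (algebraMap S T g ^ N) := (IsLocalization.Away.algebraMap_isUnit g).pow N
  have hgb : Associated g' (algebraMap S T b) := ⟨hunit.unit, hb⟩
  let V := Localization.Away g'
  haveI : IsLocalization.Away (algebraMap S T b) V := IsLocalization.Away.of_associated hgb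
  haveI : IsLocalization.Away (g * b) V := IsLocalization.Away.mul' T V g b
  refine ⟨g * b, fun hmem => ?_,
    ⟨(IsLocalization.algEquiv (Submonoid.powers (g * b)) V (Localization.Away (g * b))).restrictScalars R⟩⟩
  refine (Ideal.IsPrime.mem_or_mem inferInstance hmem).elim hg fun hbq => hg' ?_
  rw [← hqT] at hbq
  exact Ideal.mem_of_dvd _ hgb.symm.dvd hbq

theorem isSyntomic_of_algEquiv {T : Type u} [CommRing T] [Algebra R T] (e : S ≃ₐ[R] T) (h : Synt.IsSyntomic R S) :
    Synt.IsSyntomic R T := by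
  letI : Algebra S T := e.toAlgHom.toRingHom.toAlgebra
  haveI : IsScalarTower R S T := IsScalarTower.of_algebraMap_eq fun x => (e.commutes x).symm
  haveI : IsLocalization.Away (1 : S) T := IsLocalization.away_of_isUnit_of_bijective T isUnit_one e.bijective
  exact isSyntomic_away_target h 1 T

/-- The local rings of the fibres of a localisation. -/
theorem exists_fiber_localization (g : S) (T : Type u) [CommRing T] [Algebra S T] [Algebra R T] [IsScalarTower R S T]
    [IsLocalization.Away g T] (p : Ideal R) [p.IsPrime] (Q : Ideal (p.Fiber S)) [Q.IsPrime]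
    (hg : (1 : p.ResidueField) ⊗ₜ[R] g ∉ Q) :
    ∃ (QT : Ideal (p.Fiber T)) (_ : QT.IsPrime),
      (QT.comap (Algebra.TensorProduct.includeRight : T →ₐ[R] p.Fiber T)).comap (algebraMap S T) =
        Q.comap (Algebra.TensorProduct.includeRight : S →ₐ[R] p.Fiber S) ∧
      (Synt.IsCIOver p.ResidueField (Localization.AtPrime QT) ↔
        Synt.IsCIOver p.ResidueField (Localization.AtPrime Q)) := by
  let k := p.ResidueField
  let ι : p.Fiber S →ₐ[k] p.Fiber T := Algebra.TensorProduct.map (AlgHom.id _ _) (IsScalarTower.toAlgHom R S T)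
  letI : Algebra (p.Fiber S) (p.Fiber T) := ι.toRingHom.toAlgebra
  haveI : IsScalarTower k (p.Fiber S) (p.Fiber T) := .of_algebraMap_eq fun x => (ι.commutes x).symm
  haveI hloc := IsLocalization.tensorProduct_tensorProduct_right R k (Submonoid.powers g) T
    (RingHom.ext fun s => by
      show ι ((1 : k) ⊗ₜ[R] s) = _
      exact Algebra.TensorProduct.map_tmul _ _ _ _)
  haveI : IsLocalization.Away ((Algebra.TensorProduct.includeRight : S →ₐ[R] p.Fiber S) g) (p.Fiber T) := by
    show IsLocalization (Submonoid.powers _) _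
    rw [← Submonoid.map_powers]
    exact hloc
  obtain ⟨QT, hQT⟩ := exists_prime_away ((Algebra.TensorProduct.includeRight : S →ₐ[R] p.Fiber S) g) Q hg (p.Fiber T)
  obtain ⟨e⟩ := atPrime_localization_equiv (R := k) ((Algebra.TensorProduct.includeRight : S →ₐ[R] p.Fiber S) g)
    (p.Fiber T) QT.asIdeal Q hQT
  refine ⟨QT.asIdeal, QT.2, ?_, ⟨isCIOver_of_algEquiv e, isCIOver_of_algEquiv e.symm⟩⟩
  ext s
  rw [← hQT]
  show (1 : k) ⊗ₜ[R] algebraMap S T s ∈ QT.asIdeal ↔ ι ((1 : k) ⊗ₜ[R] s) ∈ QT.asIdeal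
  rw [show ι ((1 : k) ⊗ₜ[R] s) = (1 : k) ⊗ₜ[R] algebraMap S T s from Algebra.TensorProduct.map_tmul _ _ _ _]

theorem flat_atPrime_of_flat_away (g : S) (q : Ideal S) [q.IsPrime] (hg : g ∉ q)
    [Module.Flat R (Localization.Away g)] : Module.Flat R (Localization.AtPrime q) := by
  obtain ⟨qT, hqT⟩ := exists_prime_away g q hg (Localization.Away g)
  obtain ⟨e⟩ := atPrime_localization_equiv (R := R) g (Localization.Away g) qT.asIdeal q hqT
  haveI : Module.Flat R (Localization.AtPrime qT.asIdeal) := Module.Flat.trans R (Localization.Away g) _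
  exact Module.Flat.of_linearEquiv e.symm.toLinearEquiv

theorem exists_syntomic_away_iff (p : Ideal R) [p.IsPrime] (q : Ideal S) [q.IsPrime] (Q : Ideal (p.Fiber S)) [Q.IsPrime]
    (hQ : Q.comap (Algebra.TensorProduct.includeRight : S →ₐ[R] p.Fiber S) = q) (hp : q.comap (algebraMap R S) = p)
    (g : S) (hg : g ∉ q) [Algebra.FinitePresentation R (Localization.Away g)]
    (hfl : Module.Flat R (Localization.AtPrime q))
    (hCI : Synt.IsCIOver p.ResidueField (Localization.AtPrime Q)) :
    ∃ h : S, h ∉ q ∧ IsStd R (Localization.Away h) := by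
  let T := Localization.Away g
  have hgQ : (1 : p.ResidueField) ⊗ₜ[R] g ∉ Q := fun h => hg (hQ ▸ h)
  obtain ⟨QT, hQTp, hQTc, eQ⟩ := exists_fiber_localization g T p Q hgQ
  let qT : Ideal T := QT.comap (Algebra.TensorProduct.includeRight : T →ₐ[R] p.Fiber T)
  haveI : qT.IsPrime := Ideal.comap_isPrime _ _
  have hqT : qT.comap (algebraMap S T) = q := hQTc.trans hQ
  obtain ⟨e⟩ := atPrime_localization_equiv (R := R) g T qT q hqT
  haveI hflT : Module.Flat R (Localization.AtPrime qT) := Module.Flat.of_linearEquiv e.toLinearEquiv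
  obtain ⟨g₁, hg₁, hflat⟩ := FlatModel.exists_flat_nhd (R := R) (S := T) T qT hflT
  let U := Localization.Away g₁
  haveI : Module.Flat R U := hflat (Submonoid.powers g₁) (Submonoid.mem_powers g₁)
  haveI : Algebra.FinitePresentation T U := IsLocalization.Away.finitePresentation g₁
  haveI : Algebra.FinitePresentation R U := Algebra.FinitePresentation.trans R T U
  have hg₁Q : (1 : p.ResidueField) ⊗ₜ[R] g₁ ∉ QT := hg₁
  obtain ⟨QU, hQUp, hQUc, eU⟩ := exists_fiber_localization g₁ U p QT hg₁Q
  have hCIU := eU.2 (eQ.2 hCI)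
  obtain ⟨g₀, hg₀, hCI₀⟩ := exists_isGlobalCI_away_of_isCIOver (B := p.Fiber U) (k := p.ResidueField) QU hCIU
  let qU : PrimeSpectrum U := ⟨QU.comap (Algebra.TensorProduct.includeRight : U →ₐ[R] p.Fiber U), Ideal.comap_isPrime _ _⟩
  have hqU : qU.asIdeal.comap (algebraMap T U) = qT := hQUc
  obtain ⟨g₂, hg₂, hstd⟩ := exists_isStd_away_of_point qU ⟨p, inferInstance⟩ (PrimeSpectrum.ext (by
      show qU.asIdeal.comap (algebraMap R U) = p
      rw [IsScalarTower.algebraMap_eq R T U, ← Ideal.comap_comap, hqU, IsScalarTower.algebraMap_eq R S T,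
        ← Ideal.comap_comap, hqT, hp]))
    ⟨QU, hQUp⟩ rfl g₀ hg₀ hCI₀
  obtain ⟨h₁, hh₁, ⟨e₁⟩⟩ := exists_away_away (R := R) g₁ qT hg₁ U qU.asIdeal hqU g₂ hg₂
  obtain ⟨h₂, hh₂, ⟨e₂⟩⟩ := exists_away_away (R := R) g q hg T qT hqT h₁ hh₁
  exact ⟨h₂, hh₂, isStd_of_algEquiv (e₁.trans e₂) hstd⟩

theorem isCIOver_fiber_of_isSyntomic_away (p : Ideal R) [p.IsPrime] (Q : Ideal (p.Fiber S)) [Q.IsPrime]
    (g : S) (hgQ : (1 : p.ResidueField) ⊗ₜ[R] g ∉ Q) (h : Synt.IsSyntomic R (Localization.Away g)) :
    Synt.IsCIOver p.ResidueField (Localization.AtPrime Q) := by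
  obtain ⟨QT, hQTp, -, eQ⟩ := exists_fiber_localization g (Localization.Away g) p Q hgQ
  exact eQ.1 (isCIOver_atPrime_of_isLCIOver (h.2.2 ⟨p, inferInstance⟩) QT)

end Groth.Agent.Synt29
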