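import Groth.Prelude.Def_MultCurve
import Groth.Agent.HTopCov.AlmostBlowUp
import Mathlib.AlgebraicGeometry.Morphisms.ClosedImmersion

/-! Closed immersions out of a square-zero thickening. -/

set_option autoImplicit false

universe u

open CategoryTheory AlgebraicGeometry TopologicalSpace

namespace Groth.Agent.Synt29.RibbonClosed

variable {D C X : Scheme.{u}}

lemma surjective_of_sq (i : D ⟶ C) [IsClosedImmersion i] (h2 : i.ker ^ 2 = ⊥) :
    Function.Surjective i.base := by
  intro x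
  have hs : x ∈ i.ker.support := by
    obtain ⟨U, hU, hxU, -⟩ := Opens.isBasis_iff_nbhd.mp C.isBasis_affineOpens (Opens.mem_top x)
    rw [Scheme.IdealSheafData.mem_support_iff_of_mem (U := ⟨U, hU⟩) hxU, Scheme.mem_zeroLocus_iff]
    intro a ha hxa
    have h0 : a ^ 2 = 0 := by
      have := Ideal.pow_mem_pow ha 2
      rw [← Pi.pow_apply, ← Scheme.IdealSheafData.ideal_pow, h2] at this
      simpa using this
    have : C.basicOpen (a ^ 2) = C.basicOpen a := Scheme.basicOpen_pow _ a (by norm_num)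
    rw [h0, Scheme.basicOpen_zero] at this
    rw [← this] at hxa
    exact hxa
  have : x ∈ (i.ker.support : Set C) := hs
  rw [Scheme.Hom.support_ker] at this
  exact (Set.ext_iff.mp i.isClosedEmbedding.isClosed_range.closure_eq x).mp this

/-- germs killed by the closed immersion -/
lemma exists_ker_section (i : D ⟶ C) [IsClosedImmersion i] (d : D) (c : C.presheaf.stalk (i d))
    (hc : i.stalkMap d c = 0) (O : C.Opens) (hO : i d ∈ O) :
    ∃ (W : C.affineOpens) (hW : i d ∈ W.1) (_ : W.1 ≤ O) (e : Γ(C, W.1)),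
      e ∈ i.ker.ideal W ∧ C.presheaf.germ W.1 (i d) hW e = c := by
  obtain ⟨U, hxU, s, rfl⟩ := C.presheaf.exists_germ_eq (x := i d) c
  rw [Scheme.Hom.germ_stalkMap_apply, ← map_zero (D.presheaf.germ (i ⁻¹ᵁ U) d hxU).hom] at hc
  obtain ⟨T, hdT, i₁, i₂, hT⟩ := D.presheaf.germ_eq d hxU hxU _ _ hc
  obtain ⟨T', hT', hTT'⟩ := i.isEmbedding.isInducing.isOpen_iff.mp T.2
  have hdT' : i d ∈ T' := (Set.ext_iff.mp hTT' d).mpr hdT
  obtain ⟨W, hW, hxW, hWle⟩ := Opens.isBasis_iff_nbhd.mp C.isBasis_affineOpens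
    (show i d ∈ (U ⊓ O) ⊓ ⟨T', hT'⟩ from ⟨⟨hxU, hO⟩, hdT'⟩)
  have hWU : W ≤ U := hWle.trans (inf_le_left.trans inf_le_left)
  refine ⟨⟨W, hW⟩, hxW, hWle.trans (inf_le_left.trans inf_le_right),
    C.presheaf.map (homOfLE hWU).op s, ?_, C.presheaf.germ_res_apply _ _ _ _⟩
  rw [Scheme.Hom.ker_apply, RingHom.mem_ker]
  have hWT : i ⁻¹ᵁ W ≤ T := fun z hz => (Set.ext_iff.mp hTT' z).mp (hWle hz).2
  have h1 : D.presheaf.map (homOfLE hWT).op (D.presheaf.map i₁.op (i.app U s)) = 0 := by
    rw [show D.presheaf.map i₁.op (i.app U s) = 0 from hT.trans (map_zero _), map_zero]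
  rw [← ConcreteCategory.comp_apply, ← Functor.map_comp] at h1
  refine (congr($(i.naturality (homOfLE hWU).op) s)).trans ?_
  rw [ConcreteCategory.comp_apply]
  exact h1

theorem mul_eq_zero_of_stalkMap (i : D ⟶ C) [IsClosedImmersion i] (h2 : i.ker ^ 2 = ⊥) (d : D)
    (a b : C.presheaf.stalk (i d)) (ha : i.stalkMap d a = 0) (hb : i.stalkMap d b = 0) :
    a * b = 0 := by
  obtain ⟨W, hW, -, e, he, rfl⟩ := exists_ker_section i d a ha ⊤ trivial
  obtain ⟨W', hW', hle, e', he', rfl⟩ := exists_ker_section i d b hb W.1 hW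
  have hr : C.presheaf.map (homOfLE hle).op e ∈ i.ker.ideal W' := by
    rw [Scheme.Hom.ker_apply, RingHom.mem_ker] at he ⊢
    refine (congr($(i.naturality (homOfLE hle).op) e)).trans ?_
    rw [ConcreteCategory.comp_apply]
    exact (congrArg _ he).trans (map_zero (D.presheaf.map _).hom)
  have hp : C.presheaf.map (homOfLE hle).op e * e' = 0 := by
    have := Ideal.mul_mem_mul hr he'
    rw [← sq, ← Pi.pow_apply, ← Scheme.IdealSheafData.ideal_pow, h2] at this
    simpa using this
  rw [← C.presheaf.germ_res_apply (homOfLE hle) (i d) hW' e, ← map_mul, hp, map_zero]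

theorem surjective_stalkMap (i : D ⟶ C) [IsClosedImmersion i] (h2 : i.ker ^ 2 = ⊥) (f : C ⟶ X)
    [IsClosedImmersion (i ≫ f)] (hker : (i ≫ f).ker.comap f = i.ker) (d : D) :
    Function.Surjective (f.stalkMap (i d)) := by
  have hg : ∀ c : C.presheaf.stalk (i d), ∃ a, i.stalkMap d (c - f.stalkMap (i d) a) = 0 := by
    intro c
    obtain ⟨a, ha⟩ := (i ≫ f).stalkMap_surjective d (i.stalkMap d c)
    rw [Scheme.Hom.stalkMap_comp] at ha
    exact ⟨a, by rw [map_sub, sub_eq_zero]; exact ha.symm⟩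
  have hI : ∀ c : C.presheaf.stalk (i d), i.stalkMap d c = 0 → ∃ a, f.stalkMap (i d) a = c := by
    intro c hc
    obtain ⟨V, hV, hxV, -⟩ := Opens.isBasis_iff_nbhd.mp X.isBasis_affineOpens
      (Opens.mem_top (f (i d)))
    obtain ⟨W, hW, hle, e, he, rfl⟩ := exists_ker_section i d c hc (f ⁻¹ᵁ V) hxV
    rw [← hker, HTopCov.ideal_comap_appLE f _ ⟨V, hV⟩ W hle] at he
    induction he using Submodule.span_induction with
    | mem y hy =>
        obtain ⟨k, -, rfl⟩ := hy
        exact ⟨X.presheaf.germ V _ hxV k, by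
          rw [Scheme.Hom.germ_stalkMap_apply]
          exact (C.presheaf.germ_res_apply (homOfLE hle) (i d) hW (f.app V k)).symm⟩
    | zero => exact ⟨0, by rw [map_zero, map_zero]⟩
    | add y z hy hz ihy ihz =>
        have hyk : ∀ w ∈ Ideal.map (f.appLE V W.1 hle).hom ((i ≫ f).ker.ideal ⟨V, hV⟩),
            i.stalkMap d (C.presheaf.germ W.1 (i d) hW w) = 0 := fun w hw => by
          have hw' : w ∈ i.ker.ideal W := by
            rw [← hker, HTopCov.ideal_comap_appLE f _ ⟨V, hV⟩ W hle]; exact hw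
          rw [Scheme.Hom.ker_apply, RingHom.mem_ker] at hw'
          rw [Scheme.Hom.germ_stalkMap_apply, hw', map_zero]
        obtain ⟨a, ha⟩ := ihy (hyk y hy)
        obtain ⟨b, hb⟩ := ihz (hyk z hz)
        exact ⟨a + b, by rw [map_add, map_add, ha, hb]⟩
    | smul r y hy ih =>
        have hy' : y ∈ i.ker.ideal W := by
          rw [← hker, HTopCov.ideal_comap_appLE f _ ⟨V, hV⟩ W hle]; exact hy
        rw [Scheme.Hom.ker_apply, RingHom.mem_ker] at hy'
        have hy0 : i.stalkMap d (C.presheaf.germ W.1 (i d) hW y) = 0 := by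
          rw [Scheme.Hom.germ_stalkMap_apply, hy', map_zero]
        obtain ⟨a, ha⟩ := ih hy0
        obtain ⟨b, hb⟩ := hg (C.presheaf.germ W.1 (i d) hW r)
        have := mul_eq_zero_of_stalkMap i h2 d _ _ hb hy0
        refine ⟨b * a, ?_⟩
        rw [map_mul, ha, smul_eq_mul, map_mul]
        rw [sub_mul, sub_eq_zero] at this
        exact this.symm
  intro c
  obtain ⟨a, ha⟩ := hg c
  obtain ⟨b, hb⟩ := hI _ ha
  exact ⟨a + b, by rw [map_add, hb, add_sub_cancel]⟩

theorem isClosedImmersion_iff (i : D ⟶ C) [IsClosedImmersion i] (h2 : i.ker ^ 2 = ⊥) (f : C ⟶ X) :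
    IsClosedImmersion f ↔ (IsClosedImmersion (i ≫ f) ∧ (i ≫ f).ker.comap f = i.ker) := by
  constructor
  · intro hf
    refine ⟨inferInstance, ?_⟩
    rw [← Scheme.IdealSheafData.map_ker]
    let U : X.affineOpens → C.affineOpens := fun V => ⟨f ⁻¹ᵁ V.1, V.2.preimage f⟩
    refine Scheme.IdealSheafData.ext_of_iSup_eq_top U
      (eq_top_iff.mpr fun x _ => ?_) fun V => ?_
    · obtain ⟨V, hV, hxV, -⟩ := Opens.isBasis_iff_nbhd.mp X.isBasis_affineOpens (Opens.mem_top (f x))
      exact Opens.mem_iSup.mpr ⟨⟨V, hV⟩, hxV⟩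
    · rw [HTopCov.ideal_comap_appLE f _ V (U V) le_rfl, ← Scheme.Hom.app_eq_appLE,
        Scheme.IdealSheafData.ideal_map_of_isAffineHom]
      exact Ideal.map_comap_of_surjective _ (f.app_surjective V.1 V.2) _
  · rintro ⟨hg, hker⟩
    have hsurj := surjective_of_sq i h2
    have hhom : IsHomeomorph i.base :=
      isHomeomorph_iff_isEmbedding_surjective.mpr ⟨i.isEmbedding, hsurj⟩
    have hemb : Topology.IsClosedEmbedding f.base := by
      let e := hhom.homeomorph
      have : (f.base : C → X) = (i ≫ f).base ∘ e.symm := funext fun c => by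
        show f.base c = f.base (i.base (e.symm c))
        exact congrArg f.base (e.apply_symm_apply c).symm
      rw [this]
      exact (i ≫ f).isClosedEmbedding.comp e.symm.isClosedEmbedding
    have : SurjectiveOnStalks f := ⟨fun x => by
      obtain ⟨d, rfl⟩ := hsurj x
      exact surjective_stalkMap i h2 f hker d⟩
    exact { isClosedEmbedding := hemb }

end Groth.Agent.Synt29.RibbonClosed
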