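import Groth.Prelude.Def_Omega3
import Mathlib.Algebra.Category.ModuleCat.Differentials.Presheaf
import Mathlib.Algebra.Category.ModuleCat.Presheaf.Sheafification

/-!
Existence of a universal derivation for every morphism of schemes: sheafify the relative differentials over the
presheaf pullback of the base.
-/

set_option autoImplicit false
set_option backward.isDefEq.respectTransparency false
set_option backward.isDefEq.respectTransparency.types false

universe u

open CategoryTheory CategoryTheory.Limits AlgebraicGeometry TopologicalSpace Opposite

namespace Groth.Agent.Synt29.OmegaExists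

variable {X Y : Scheme.{u}} (f : X ⟶ Y)

/-- The base presheaf on `X`. -/
noncomputable abbrev base : TopCat.Presheaf CommRingCat.{u} X.carrier :=
  (TopCat.Presheaf.pullback CommRingCat.{u} f.base).obj Y.presheaf

/-- The structure map. -/
noncomputable def str : base f ⟶ X.presheaf :=
  ((TopCat.Presheaf.pullbackPushforwardAdjunction CommRingCat.{u} f.base).homEquiv _ _).symm f.c

theorem app_str (V : Y.Opens) (c : Γ(Y, V)) :
    (str f).app (op (f ⁻¹ᵁ V))
      (((TopCat.Presheaf.pullbackPushforwardAdjunction CommRingCat.{u} f.base).unit.app Y.presheaf).app (op V) c) =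
      f.app V c := by
  have h := ((TopCat.Presheaf.pullbackPushforwardAdjunction CommRingCat.{u} f.base).homEquiv_unit
    (f := str f))
  rw [str, Equiv.apply_symm_apply] at h
  exact (ConcreteCategory.congr_hom (NatTrans.congr_app h (op V)) c).symm

section Kernel

variable {f} {F : X.PresheafOfModules} (D : PresheafOfModules.Derivation (S := Y.presheaf) (F := Opens.map f.base) (R := X.presheaf) F f.c)

/-- Functions killed by a derivation. -/
noncomputable def kerRing (U : X.Opensᵒᵖ) : Subring (X.presheaf.obj U) where
  carrier := {a | D.d a = 0}
  zero_mem' := map_zero _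
  one_mem' := PresheafOfModules.Derivation.d_one D U
  add_mem' {a b} ha hb := by
    show D.d (a + b) = 0
    rw [map_add, show D.d a = 0 from ha, show D.d b = 0 from hb, add_zero]
  neg_mem' {a} ha := by
    show D.d (-a) = 0
    rw [map_neg, show D.d a = 0 from ha, neg_zero]
  mul_mem' {a b} ha hb := by
    show D.d (a * b) = 0
    rw [D.d_mul, show D.d a = 0 from ha, show D.d b = 0 from hb, smul_zero, smul_zero, add_zero]

theorem kerRing_map {U V : X.Opensᵒᵖ} (i : U ⟶ V) (a : X.presheaf.obj U) (ha : a ∈ kerRing D U) :
    X.presheaf.map i a ∈ kerRing D V := by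
  show D.d (X.presheaf.map i a) = 0
  rw [D.d_map, show D.d a = 0 from ha, map_zero]

/-- The presheaf of functions killed by a derivation. -/
noncomputable def kerPsh : TopCat.Presheaf CommRingCat.{u} X.carrier where
  obj U := CommRingCat.of (kerRing D U)
  map {U V} i := CommRingCat.ofHom (((X.presheaf.map i).hom.comp (kerRing D U).subtype).codRestrict _
    fun a => kerRing_map D i a a.2)
  map_id U := by
    refine CommRingCat.hom_ext (RingHom.ext fun a => Subtype.ext ?_)
    exact ConcreteCategory.congr_hom (X.presheaf.map_id U) (a : X.presheaf.obj U)
  map_comp {U V W} i j := by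
    refine CommRingCat.hom_ext (RingHom.ext fun a => Subtype.ext ?_)
    exact ConcreteCategory.congr_hom (X.presheaf.map_comp i j) (a : X.presheaf.obj U)

/-- The inclusion. -/
noncomputable def kerIncl : kerPsh D ⟶ X.presheaf where
  app U := CommRingCat.ofHom (kerRing D U).subtype
  naturality _ _ _ := rfl

/-- The base maps into the functions killed by a derivation. -/
noncomputable def toKer : Y.presheaf ⟶ f.base _* kerPsh D where
  app V := CommRingCat.ofHom ((f.c.app V).hom.codRestrict _ fun a => D.d_app a)
  naturality U V i := by
    refine CommRingCat.hom_ext (RingHom.ext fun a => Subtype.ext ?_)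
    exact ConcreteCategory.congr_hom (f.c.naturality i) a

theorem d_str (U : X.Opensᵒᵖ) (a : (base f).obj U) : D.d ((str f).app U a) = 0 := by
  let adj := TopCat.Presheaf.pullbackPushforwardAdjunction CommRingCat.{u} f.base
  have h : (adj.homEquiv _ _).symm (toKer D) ≫ kerIncl D = str f := by
    rw [str, ← adj.homEquiv_naturality_right_symm]
    rfl
  rw [← h]
  exact (((adj.homEquiv _ _).symm (toKer D)).app U a).2

end Kernel

/-- The presheaf of differentials. -/
noncomputable abbrev pre : X.PresheafOfModules :=
  PresheafOfModules.DifferentialsConstruction.relativeDifferentials' (str f)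

/-- The universal derivation into the presheaf, relative to the base. -/
noncomputable def preDer : PresheafOfModules.Derivation (S := Y.presheaf) (F := Opens.map f.base) (R := X.presheaf)
    (pre f) f.c where
  d {U} := (PresheafOfModules.DifferentialsConstruction.derivation' (str f)).d
  d_mul a b := (PresheafOfModules.DifferentialsConstruction.derivation' (str f)).d_mul a b
  d_map i a := (PresheafOfModules.DifferentialsConstruction.derivation' (str f)).d_map i a
  d_app {V} c := by
    show (PresheafOfModules.DifferentialsConstruction.derivation' (str f)).d (f.app V.unop c) = 0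
    rw [← app_str f V.unop c]
    exact (PresheafOfModules.DifferentialsConstruction.derivation' (str f)).d_app _

/-- A derivation relative to the base presheaf. -/
noncomputable def toDer' {F : X.PresheafOfModules}
    (D : PresheafOfModules.Derivation (S := Y.presheaf) (F := Opens.map f.base) (R := X.presheaf) F f.c) :
    F.Derivation' (str f) where
  d {U} := D.d (X := U)
  d_mul a b := D.d_mul a b
  d_map i a := D.d_map i a
  d_app {U} a := d_str D U a

theorem existsUnique_pre {F : X.PresheafOfModules}
    (D : PresheafOfModules.Derivation (S := Y.presheaf) (F := Opens.map f.base) (R := X.presheaf) F f.c) :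
    ∃! α : pre f ⟶ F, (preDer f).postcomp α = D := by
  let h := PresheafOfModules.DifferentialsConstruction.isUniversal' (str f)
  refine ⟨h.desc (toDer' f D), ?_, fun β hβ => h.postcomp_injective _ _ ?_⟩
  · refine PresheafOfModules.Derivation.ext ?_
    funext U
    exact AddMonoidHom.ext fun a => PresheafOfModules.Derivation.congr_d (h.fac (toDer' f D)) a
  · rw [h.fac]
    refine PresheafOfModules.Derivation.ext ?_
    funext U
    exact AddMonoidHom.ext fun a => PresheafOfModules.Derivation.congr_d hβ a

/-- A universal derivation exists. -/
theorem exists_isUniversal : ∃ (Ω : X.Modules) (d : OmegaSh.Der f Ω), OmegaSh.IsUniversal d := by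
  let adj := PresheafOfModules.sheafificationAdjunction.{u, u, u, u}
    (J := Opens.grothendieckTopology X) (𝟙 X.ringCatSheaf.obj)
  let P : X.PresheafOfModules := pre f
  let Ω : X.Modules := (PresheafOfModules.sheafification (𝟙 X.ringCatSheaf.obj)).obj P
  let η : pre f ⟶ Ω.val := adj.unit.app P
  refine ⟨Ω, (preDer f).postcomp η, fun F D => ?_⟩
  obtain ⟨α, hα, huniq⟩ := existsUnique_pre f (F := F.val) D
  have key : ∀ β : Ω ⟶ F, ((preDer f).postcomp η).postcomp β.val =
      (preDer f).postcomp ((show pre f ⟶ F.val from adj.homEquiv P F β)) := fun β => by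
    refine PresheafOfModules.Derivation.ext ?_
    funext U
    refine AddMonoidHom.ext fun a => ?_
    rw [adj.homEquiv_unit]
    rfl
  refine ⟨(adj.homEquiv P F).symm α, ?_, fun β hβ => ?_⟩
  · show ((preDer f).postcomp η).postcomp _ = D
    rw [key, Equiv.apply_symm_apply]
    exact hα
  · rw [Equiv.eq_symm_apply]
    exact huniq _ ((key β).symm.trans hβ)

end Groth.Agent.Synt29.OmegaExists
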