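import Groth.Agent.Synt29.OmegaBase

/-! Stalks of a fibre product and base change of differentials. -/

set_option autoImplicit false

universe u

open CategoryTheory CategoryTheory.Limits AlgebraicGeometry TopologicalSpace Opposite
open scoped TensorProduct

namespace Groth.Agent.Synt29.OmegaStalk

variable {X S X' S' : Scheme.{u}} {f : X ⟶ S} {g : S' ⟶ S} {g' : X' ⟶ X} {f' : X' ⟶ S'}

lemma specMap_stalkCongr {y z : X} (e : y = z) :
    Spec.map (X.presheaf.stalkCongr (.of_eq e)).hom ≫ X.fromSpecStalk y = X.fromSpecStalk z := by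
  subst e
  rw [TopCat.Presheaf.stalkCongr_hom, TopCat.Presheaf.stalkSpecializes_refl]
  exact (congrArg (· ≫ X.fromSpecStalk y) (Spec.map_id _)).trans (Category.id_comp _)

/-- the comparison of the two base local rings at a point of a fibre product -/
noncomputable def baseStalk (sq : IsPullback g' f' f g) (x : X') :
    S.presheaf.stalk (f (g' x)) ⟶ S'.presheaf.stalk (f' x) :=
  (S.presheaf.stalkCongr
    (.of_eq (show f (g' x) = g (f' x) from congrArg (fun t : X' ⟶ S => t x) sq.w))).hom ≫
      g.stalkMap (f' x)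

lemma baseStalk_comp (sq : IsPullback g' f' f g) (x : X') :
    f.stalkMap (g' x) ≫ g'.stalkMap x = baseStalk sq x ≫ f'.stalkMap x := by
  rw [baseStalk, ← Scheme.Hom.stalkMap_comp, Scheme.Hom.stalkMap_congr_hom _ _ sq.w x,
    Scheme.Hom.stalkMap_comp]
  exact (Category.assoc _ _ _).symm

/-- A compatible pair of maps into a local ring, restricting to a given point of the local ring of
the fibre product, extends uniquely to the local ring of the fibre product. -/
theorem stalk_pullback_ext (sq : IsPullback g' f' f g) (x : X') {E : CommRingCat.{u}}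
    {l₁ l₂ : X'.presheaf.stalk x ⟶ E} (h₁ : g'.stalkMap x ≫ l₁ = g'.stalkMap x ≫ l₂)
    (h₂ : f'.stalkMap x ≫ l₁ = f'.stalkMap x ≫ l₂) : l₁ = l₂ := by
  apply Spec.map_injective
  rw [← cancel_mono (X'.fromSpecStalk x)]
  apply sq.hom_ext
  · simp only [Category.assoc, ← Scheme.SpecMap_stalkMap_fromSpecStalk, ← Spec.map_comp_assoc, h₁]
  · simp only [Category.assoc, ← Scheme.SpecMap_stalkMap_fromSpecStalk, ← Spec.map_comp_assoc, h₂]

theorem exists_stalk_pullback_lift (sq : IsPullback g' f' f g) (x : X') {E : CommRingCat.{u}}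
    [IsLocalRing E] (π : E ⟶ X'.presheaf.stalk x) [IsLocalHom π.hom]
    (α : X.presheaf.stalk (g' x) ⟶ E) (β : S'.presheaf.stalk (f' x) ⟶ E)
    (hc : f.stalkMap (g' x) ≫ α = baseStalk sq x ≫ β)
    (hα : α ≫ π = g'.stalkMap x) (hβ : β ≫ π = f'.stalkMap x) :
    ∃ l : X'.presheaf.stalk x ⟶ E, g'.stalkMap x ≫ l = α ∧ f'.stalkMap x ≫ l = β := by
  let a : Spec E ⟶ X := Spec.map α ≫ X.fromSpecStalk (g' x)
  let b : Spec E ⟶ S' := Spec.map β ≫ S'.fromSpecStalk (f' x)
  have w : a ≫ f = b ≫ g := by
    have e1 : X.fromSpecStalk (g' x) ≫ f =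
        Spec.map (f.stalkMap (g' x)) ≫ S.fromSpecStalk (f (g' x)) :=
      (Scheme.SpecMap_stalkMap_fromSpecStalk f (x := g' x)).symm
    have e2 : S'.fromSpecStalk (f' x) ≫ g =
        Spec.map (baseStalk sq x) ≫ S.fromSpecStalk (f (g' x)) := by
      rw [baseStalk, Spec.map_comp, Category.assoc,
        specMap_stalkCongr (show f (g' x) = g (f' x) from congrArg (fun t : X' ⟶ S => t x) sq.w),
        Scheme.SpecMap_stalkMap_fromSpecStalk]
    simp only [a, b, Category.assoc, e1, e2, ← Spec.map_comp_assoc, hc]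
  let l := sq.lift a b w
  have hl : Spec.map π ≫ l = X'.fromSpecStalk x := by
    apply sq.hom_ext
    · simp only [Category.assoc, l, IsPullback.lift_fst, a, ← Spec.map_comp_assoc, hα,
        Scheme.SpecMap_stalkMap_fromSpecStalk]
    · simp only [Category.assoc, l, IsPullback.lift_snd, b, ← Spec.map_comp_assoc, hβ,
        Scheme.SpecMap_stalkMap_fromSpecStalk]
  have hx : l (IsLocalRing.closedPoint E) = x := by
    have h := congrArg (fun t : Spec (X'.presheaf.stalk x) ⟶ X' =>
      t (IsLocalRing.closedPoint (X'.presheaf.stalk x))) hl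
    change l ((Spec.map π) (IsLocalRing.closedPoint (X'.presheaf.stalk x))) =
      (X'.fromSpecStalk x) (IsLocalRing.closedPoint (X'.presheaf.stalk x)) at h
    rw [Spec_closedPoint, Scheme.fromSpecStalk_closedPoint] at h
    exact h
  let lam : X'.presheaf.stalk x ⟶ E :=
    (X'.presheaf.stalkCongr (.of_eq hx.symm)).hom ≫ Scheme.stalkClosedPointTo l
  have hlam : Spec.map lam ≫ X'.fromSpecStalk x = l := by
    rw [Spec.map_comp, Category.assoc, specMap_stalkCongr hx.symm,
      Scheme.Spec_stalkClosedPointTo_fromSpecStalk]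
  refine ⟨lam, ?_, ?_⟩
  · apply Spec.map_injective
    rw [← cancel_mono (X.fromSpecStalk (g' x)), Spec.map_comp_assoc,
      Scheme.SpecMap_stalkMap_fromSpecStalk, reassoc_of% hlam]
    exact sq.lift_fst a b w
  · apply Spec.map_injective
    rw [← cancel_mono (S'.fromSpecStalk (f' x)), Spec.map_comp_assoc,
      Scheme.SpecMap_stalkMap_fromSpecStalk, reassoc_of% hlam]
    exact sq.lift_snd a b w

section SquareZero

variable (T : CommRingCat.{u}) (N : ModuleCat.{u} T)

/-- `N` with the right action equal to the left one -/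
@[reducible] def opModule : Module (↑T)ᵐᵒᵖ N :=
  Module.compHom N ((RingHom.id T).fromOpposite mul_comm)

/-- `T ⊕ N` -/
noncomputable def sqZero : CommRingCat.{u} :=
  letI := opModule T N
  haveI : IsCentralScalar T N := ⟨fun _ _ => rfl⟩
  CommRingCat.of (TrivSqZeroExt T N)

/-- the projection -/
noncomputable def sqZeroFst : sqZero T N ⟶ T :=
  letI := opModule T N
  haveI : IsCentralScalar T N := ⟨fun _ _ => rfl⟩
  CommRingCat.ofHom (TrivSqZeroExt.fstHom T T N).toRingHom

instance isLocalRing_sqZero [IsLocalRing T] : IsLocalRing (sqZero T N) := by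
  let _ := opModule T N
  have : IsCentralScalar T N := ⟨fun _ _ => rfl⟩
  show IsLocalRing (TrivSqZeroExt T N)
  refine IsLocalRing.of_isUnit_or_isUnit_one_sub_self fun z => ?_
  rw [TrivSqZeroExt.isUnit_iff_isUnit_fst, TrivSqZeroExt.isUnit_iff_isUnit_fst,
    TrivSqZeroExt.fst_sub, TrivSqZeroExt.fst_one]
  exact IsLocalRing.isUnit_or_isUnit_one_sub_self _

instance isLocalHom_sqZeroFst : IsLocalHom (sqZeroFst T N).hom := by
  let _ := opModule T N
  have : IsCentralScalar T N := ⟨fun _ _ => rfl⟩
  constructor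
  intro z hz
  exact TrivSqZeroExt.isUnit_iff_isUnit_fst.mpr hz

variable {T N} {A : CommRingCat.{u}}

/-- the map to `T ⊕ N` attached to a derivation -/
noncomputable def sqZeroHom (ψ : A ⟶ T) (δ : A → N)
    (hadd : ∀ a b, δ (a + b) = δ a + δ b)
    (hmul : ∀ a b, δ (a * b) = ψ a • δ b + ψ b • δ a) : A ⟶ sqZero T N :=
  letI := opModule T N
  haveI : IsCentralScalar T N := ⟨fun _ _ => rfl⟩
  CommRingCat.ofHom (S := TrivSqZeroExt T N)
    { toFun := fun a => TrivSqZeroExt.inl (ψ a) + TrivSqZeroExt.inr (δ a)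
      map_one' := by
        have h : δ 1 = 0 := by
          have := hmul 1 1
          rw [one_mul, map_one, one_smul] at this
          exact left_eq_add.mp this
        rw [map_one, h, TrivSqZeroExt.inl_one, TrivSqZeroExt.inr_zero, add_zero]
      map_mul' := fun a b => by
        apply TrivSqZeroExt.ext
        · simp [TrivSqZeroExt.fst_mul]
        · simp [TrivSqZeroExt.snd_mul, hmul]
      map_zero' := by
        have h : δ 0 = 0 := by
          have := hadd 0 0
          rw [add_zero] at this
          exact left_eq_add.mp this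
        rw [map_zero, h, TrivSqZeroExt.inl_zero, TrivSqZeroExt.inr_zero, add_zero]
      map_add' := fun a b => by
        apply TrivSqZeroExt.ext
        · simp
        · simp [hadd] }

/-- the second component -/
noncomputable def sqZeroSnd (z : sqZero T N) : N :=
  letI := opModule T N
  TrivSqZeroExt.snd (show TrivSqZeroExt T N from z)

/-- pairs -/
lemma sqZero_ext {z z' : sqZero T N} (h₁ : sqZeroFst T N z = sqZeroFst T N z')
    (h₂ : sqZeroSnd z = sqZeroSnd z') : z = z' :=
  Prod.ext h₁ h₂

lemma sqZeroFst_hom (ψ : A ⟶ T) (δ : A → N) (hadd) (hmul) (a : A) :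
    sqZeroFst T N (sqZeroHom ψ δ hadd hmul a) = ψ a := by
  let _ := opModule T N
  exact (TrivSqZeroExt.fst_add _ _).trans (by simp)

lemma sqZeroSnd_hom (ψ : A ⟶ T) (δ : A → N) (hadd) (hmul) (a : A) :
    sqZeroSnd (sqZeroHom ψ δ hadd hmul a) = δ a := by
  let _ := opModule T N
  exact (TrivSqZeroExt.snd_add _ _).trans (by simp)

lemma sqZeroSnd_add (z z' : sqZero T N) : sqZeroSnd (z + z') = sqZeroSnd z + sqZeroSnd z' := rfl

lemma sqZeroSnd_mul (z z' : sqZero T N) :
    sqZeroSnd (z * z') = sqZeroFst T N z • sqZeroSnd z' + sqZeroFst T N z' • sqZeroSnd z := by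
  let _ := opModule T N
  exact TrivSqZeroExt.snd_mul (show TrivSqZeroExt T N from z) z'

end SquareZero

/-- base change of differentials, on stalks -/
theorem isIso_squareMap_of_isPullback (sq : IsPullback g' f' f g) (x : X') :
    IsIso (squareMap (baseStalk sq x) (f'.stalkMap x) (f.stalkMap (g' x)) (g'.stalkMap x)
      (baseStalk_comp sq x)) := by
  let T := X'.presheaf.stalk x
  set φ := f.stalkMap (g' x)
  set φ' := f'.stalkMap x
  set ψ := g'.stalkMap x
  set N := (ModuleCat.extendScalars ψ.hom).obj (CommRingCat.KaehlerDifferential φ) with hN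
  let adj := ModuleCat.extendRestrictScalarsAdj ψ.hom
  let η : CommRingCat.KaehlerDifferential φ ⟶ (ModuleCat.restrictScalars ψ.hom).obj N :=
    adj.unit.app (CommRingCat.KaehlerDifferential φ)
  let δ : X.presheaf.stalk (g' x) → N := fun a => η (CommRingCat.KaehlerDifferential.d a)
  let α : X.presheaf.stalk (g' x) ⟶ sqZero T N := sqZeroHom ψ δ
    (fun a b => by
      show η _ = η _ + η _
      rw [CommRingCat.KaehlerDifferential.d, (CommRingCat.KaehlerDifferential.D φ).d_add, map_add])
    (fun a b => by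
      show η _ = ψ a • η _ + ψ b • η _
      rw [CommRingCat.KaehlerDifferential.d, (CommRingCat.KaehlerDifferential.D φ).d_mul, map_add,
        map_smul, map_smul]
      rfl)
  let β : S'.presheaf.stalk (f' x) ⟶ sqZero T N := sqZeroHom φ' (fun _ => 0)
    (fun _ _ => by simp) (fun _ _ => by simp)
  have hc : φ ≫ α = baseStalk sq x ≫ β := by
    ext r
    apply sqZero_ext
    · rw [ConcreteCategory.comp_apply, ConcreteCategory.comp_apply, sqZeroFst_hom, sqZeroFst_hom]
      exact (ConcreteCategory.comp_apply _ _ r).symm.trans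
        ((ConcreteCategory.congr_hom (baseStalk_comp sq x) r).trans
          (ConcreteCategory.comp_apply _ _ r))
    · rw [ConcreteCategory.comp_apply, ConcreteCategory.comp_apply, sqZeroSnd_hom, sqZeroSnd_hom]
      show η (CommRingCat.KaehlerDifferential.d (φ r)) = 0
      exact (congrArg η.hom ((CommRingCat.KaehlerDifferential.D φ).d_map r)).trans (map_zero η.hom)
  have hα : α ≫ sqZeroFst T N = ψ := by
    ext a
    simp only [α, ConcreteCategory.comp_apply, sqZeroFst_hom]
  have hβ : β ≫ sqZeroFst T N = φ' := by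
    ext a
    simp only [β, ConcreteCategory.comp_apply, sqZeroFst_hom]
  obtain ⟨l, hl₁, hl₂⟩ := exists_stalk_pullback_lift sq x (sqZeroFst T N) α β hc hα hβ
  have hfst : ∀ b, sqZeroFst T N (l b) = b := by
    intro b
    have := stalk_pullback_ext sq x (l₁ := l ≫ sqZeroFst T N) (l₂ := 𝟙 T)
      (by rw [reassoc_of% hl₁, hα, Category.comp_id]) (by rw [reassoc_of% hl₂, hβ, Category.comp_id])
    exact congr($this b)
  let ν : N.Derivation φ' := ModuleCat.Derivation.mk (fun b => sqZeroSnd (l b))
    (fun b b' => by rw [map_add, sqZeroSnd_add])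
    (fun b b' => by rw [map_mul, sqZeroSnd_mul, hfst, hfst])
    (fun r => by
      rw [← ConcreteCategory.comp_apply, hl₂]
      exact sqZeroSnd_hom _ _ _ _ r)
  have hν : ∀ a, ν.d (ψ a) = δ a := fun a => by
    show sqZeroSnd (l (ψ a)) = _
    rw [← ConcreteCategory.comp_apply, hl₁]
    exact sqZeroSnd_hom _ _ _ _ a
  set M := squareMap (baseStalk sq x) φ' φ ψ (baseStalk_comp sq x)
  refine ⟨ν.desc, ?_, ?_⟩
  · apply (adj.homEquiv _ _).injective
    refine CommRingCat.KaehlerDifferential.ext fun a => ?_
    rw [Adjunction.homEquiv_unit, Adjunction.homEquiv_unit, ModuleCat.comp_apply,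
      ModuleCat.comp_apply]
    show ν.desc (M ((adj.unit.app _).hom (CommRingCat.KaehlerDifferential.d a))) =
      (adj.unit.app _).hom (CommRingCat.KaehlerDifferential.d a)
    rw [squareMap_unit, ModuleCat.Derivation.desc_d, hν]
    rfl
  · -- two derivations of `T` over `R'` agreeing on `A` are equal
    refine CommRingCat.KaehlerDifferential.ext fun b => ?_
    rw [ModuleCat.comp_apply, ModuleCat.Derivation.desc_d, ModuleCat.id_apply]
    let K := CommRingCat.KaehlerDifferential φ'
    let D₁ : T → K := fun b => M (ν.d b)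
    let D₂ : T → K := fun b => CommRingCat.KaehlerDifferential.d b
    let L₁ : T ⟶ sqZero T K := sqZeroHom (𝟙 T) D₁
      (fun a b => by show M _ = M _ + M _; rw [ν.d_add, map_add])
      (fun a b => by
        show M _ = a • M _ + b • M _
        rw [ν.d_mul, map_add, map_smul, map_smul])
    let L₂ : T ⟶ sqZero T K := sqZeroHom (𝟙 T) D₂
      (fun a b => (CommRingCat.KaehlerDifferential.D φ').d_add a b)
      (fun a b => (CommRingCat.KaehlerDifferential.D φ').d_mul a b)
    have hL : L₁ = L₂ := by
      refine stalk_pullback_ext sq x ?_ ?_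
      · ext a
        apply sqZero_ext
        · simp only [ConcreteCategory.comp_apply, L₁, L₂, sqZeroFst_hom]
        · simp only [ConcreteCategory.comp_apply, L₁, L₂, sqZeroSnd_hom, D₁, D₂]
          show M (ν.d (ψ a)) = _
          rw [hν]
          exact squareMap_unit _ _ _ _ _ a
      · ext r
        apply sqZero_ext
        · simp only [ConcreteCategory.comp_apply, L₁, L₂, sqZeroFst_hom]
        · simp only [ConcreteCategory.comp_apply, L₁, L₂, sqZeroSnd_hom, D₁, D₂]
          show M (ν.d (φ' r)) = CommRingCat.KaehlerDifferential.d (φ' r)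
          rw [ν.d_map, map_zero]
          exact ((CommRingCat.KaehlerDifferential.D φ').d_map r).symm
    have h := congr(sqZeroSnd ($hL b))
    simp only [L₁, L₂, sqZeroSnd_hom] at h
    exact h

end Groth.Agent.Synt29.OmegaStalk
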