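import Mathlib
import Groth.Prelude.Def_CAlg

/-!
# Flat algebras over Artinian local rings: comparison of lifted ideals
-/

universe u

open TensorProduct

namespace Groth.Agent.Synt29.ArtinLift

variable {C A : Type u} [CommRing C] [CommRing A] [Algebra C A]

/-- For flat `A ⧸ I`, `J A ∩ I = J I`. -/
theorem inf_le_mul (J : Ideal C) (I : Ideal A) [Module.Flat C (A ⧸ I)] :
    J.map (algebraMap C A) ⊓ I ≤ J.map (algebraMap C A) * I := by
  rintro j ⟨hjJ, hjI⟩
  let ev : ↥J ⊗[C] A →ₗ[C] A := (TensorProduct.lid C A).toLinearMap.comp (J.subtype.rTensor A)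
  have hev : ∀ (c : J) (a : A), ev (c ⊗ₜ a) = algebraMap C A c * a := fun c a => by
    simp [ev, Algebra.smul_def]
  have hj : ∃ z, ev z = j := by
    suffices h : J.map (algebraMap C A) ≤
        ({ carrier := Set.range ev
           zero_mem' := ⟨0, map_zero _⟩
           add_mem' := by rintro _ _ ⟨z, rfl⟩ ⟨w, rfl⟩; exact ⟨z + w, map_add _ _ _⟩
           smul_mem' := by
             rintro a _ ⟨z, rfl⟩
             refine ⟨(LinearMap.mulLeft C a).lTensor ↥J z, ?_⟩
             induction z using TensorProduct.induction_on with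
             | zero => simp
             | tmul c b => rw [LinearMap.lTensor_tmul, hev, hev, smul_eq_mul, LinearMap.mulLeft_apply]; ring
             | add p q hp hq => rw [map_add, map_add, hp, hq, map_add, smul_add] } : Ideal A) from h hjJ
    rw [Ideal.map_le_iff_le_comap]
    exact fun c hc => ⟨(⟨c, hc⟩ : J) ⊗ₜ 1, by rw [hev, mul_one]⟩
  obtain ⟨z, rfl⟩ := hj
  let q : A →ₗ[C] A ⧸ I := (Submodule.mkQ I).restrictScalars C
  let ι : ↥I →ₗ[C] A := (Submodule.subtype I).restrictScalars C
  have hq : Function.Surjective q := Submodule.mkQ_surjective I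
  have hexact : Function.Exact ι q := LinearMap.exact_subtype_mkQ I
  have h0 : q.lTensor ↥J z = 0 := by
    apply Module.Flat.rTensor_preserves_injective_linearMap (M := A ⧸ I) J.subtype J.injective_subtype
    apply (TensorProduct.lid C (A ⧸ I)).injective
    have : ∀ w, TensorProduct.lid C (A ⧸ I) (J.subtype.rTensor (A ⧸ I) (q.lTensor ↥J w)) = q (ev w) := by
      intro w
      induction w using TensorProduct.induction_on with
      | zero => simp
      | tmul c b => simp [ev, q]
      | add p q hp hq => simp only [map_add, hp, hq]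
    rw [this, map_zero, map_zero]
    exact (Submodule.Quotient.mk_eq_zero I).2 hjI
  obtain ⟨w, rfl⟩ := (lTensor_exact ↥J hexact hq z).1 h0
  clear h0 hjI hjJ
  induction w using TensorProduct.induction_on with
  | zero => simp
  | tmul c b =>
    rw [LinearMap.lTensor_tmul, hev]
    exact Ideal.mul_mem_mul (Ideal.mem_map_of_mem _ c.2) b.2
  | add p q hp hq => rw [map_add, map_add]; exact add_mem hp hq

/-- Two ideals `K ≤ I` with the same reduction modulo a nilpotent `J`, with `A ⧸ I` flat, are equal. -/
theorem eq_of_map_eq (J : Ideal C) (hJ : IsNilpotent J) (I K : Ideal A) [Module.Flat C (A ⧸ I)] (hKI : K ≤ I)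
    (h : I.map (Ideal.Quotient.mk (J.map (algebraMap C A))) ≤ K.map (Ideal.Quotient.mk (J.map (algebraMap C A)))) :
    K = I := by
  refine le_antisymm hKI ?_
  have h1 : I ≤ K ⊔ J.map (algebraMap C A) * I := by
    intro x hx
    obtain ⟨k, hk, hkx⟩ := (Ideal.mem_map_iff_of_surjective _ Ideal.Quotient.mk_surjective).1
      (h (Ideal.mem_map_of_mem _ hx))
    have hd := Ideal.Quotient.eq.1 hkx.symm
    have := inf_le_mul J I ⟨hd, I.sub_mem hx (hKI hk)⟩
    have hx' : x = k + (x - k) := by ring
    rw [hx']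
    exact add_mem (Ideal.mem_sup_left hk) (Ideal.mem_sup_right this)
  have h2 : ∀ n : ℕ, I ≤ K ⊔ (J.map (algebraMap C A)) ^ n * I := by
    intro n
    induction n with
    | zero => simp
    | succ n ih =>
      refine ih.trans (sup_le le_sup_left ?_)
      calc (J.map (algebraMap C A)) ^ n * I ≤ (J.map (algebraMap C A)) ^ n * (K ⊔ J.map (algebraMap C A) * I) :=
            Ideal.mul_mono_right h1
        _ ≤ K ⊔ (J.map (algebraMap C A)) ^ (n + 1) * I := by
            rw [Ideal.mul_sup, pow_succ, mul_assoc]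
            exact sup_le_sup_right (le_trans Ideal.mul_le_inf inf_le_right) _
  obtain ⟨n, hn⟩ := hJ
  have := h2 n
  rwa [← Ideal.map_pow, hn, Ideal.zero_eq_bot, Ideal.map_bot, Ideal.bot_mul, sup_bot_eq] at this

/-- An algebra over an Artinian local ring whose closed fibre is Noetherian local is Noetherian local. -/
theorem instances_of_fibre [IsLocalRing C] [IsArtinianRing C]
    [IsNoetherianRing (A ⧸ (IsLocalRing.maximalIdeal C).map (algebraMap C A))]
    [IsLocalRing (A ⧸ (IsLocalRing.maximalIdeal C).map (algebraMap C A))] :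
    IsNoetherianRing A ∧ IsLocalRing A ∧ IsLocalHom (algebraMap C A) := by
  set N := (IsLocalRing.maximalIdeal C).map (algebraMap C A) with hN
  obtain ⟨n, hn⟩ := (isArtinianRing_iff_isNilpotent_maximalIdeal C).1 inferInstance
  have hNn : N ^ n = ⊥ := by rw [hN, ← Ideal.map_pow, hn, Ideal.zero_eq_bot, Ideal.map_bot]
  have hle : ∀ q : Ideal A, q.IsPrime → N ≤ q := fun q hq x hx => hq.mem_of_pow_mem n (by
    have h := Ideal.pow_mem_pow hx n
    rw [hNn, Ideal.mem_bot] at h
    rw [h]
    exact q.zero_mem)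
  have hne : N ≠ ⊤ := Ideal.Quotient.nontrivial_iff.1 inferInstance
  have : Nontrivial A := (Ideal.Quotient.mk N).domain_nontrivial
  have hmax : ∀ q : Ideal A, q.IsMaximal →
      q = (IsLocalRing.maximalIdeal (A ⧸ N)).comap (Ideal.Quotient.mk N) := by
    intro q hq
    refine hq.eq_of_le (Ideal.IsPrime.ne_top inferInstance) fun x hx => ?_
    refine IsLocalRing.le_maximalIdeal (fun h => hq.ne_top ?_) (Ideal.mem_map_of_mem (Ideal.Quotient.mk N) hx)
    have h' := congrArg (Ideal.comap (Ideal.Quotient.mk N)) h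
    rwa [Ideal.comap_map_of_surjective _ Ideal.Quotient.mk_surjective, ← RingHom.ker_eq_comap_bot,
      Ideal.mk_ker, Ideal.comap_top, sup_eq_left.2 (hle q hq.isPrime)] at h'
  refine ⟨?_, ?_, ?_⟩
  · refine IsNoetherianRing.of_prime fun q hq => ?_
    refine Ideal.fg_of_fg_map_of_fg_inf_ker_of_surjective (f := Ideal.Quotient.mk N)
      (IsNoetherian.noetherian _) ?_ Ideal.Quotient.mk_surjective
    rw [Ideal.mk_ker, inf_eq_right.2 (hle q hq)]
    exact Ideal.FG.map (IsNoetherian.noetherian _) _
  · refine IsLocalRing.of_unique_max_ideal ?_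
    obtain ⟨q, hq⟩ := Ideal.exists_maximal A
    exact ⟨q, hq, fun r hr => (hmax r hr).trans (hmax q hq).symm⟩
  · constructor
    intro c hc
    by_contra hcu
    exact hne (Ideal.eq_top_of_isUnit_mem _ (Ideal.mem_map_of_mem (algebraMap C A) hcu) hc)

end Groth.Agent.Synt29.ArtinLift
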