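import Mathlib
import Groth.Agent.Synt29.CILocal
import Groth.Agent.Synt29.CIBaseChangeLocal

/-!
# Complete intersection points and extensions of the base field
-/

universe u

open MvPolynomial TensorProduct IsLocalRing

set_option linter.style.haveILetI false
set_option backward.isDefEq.respectTransparency.types false

attribute [local instance] MvPolynomial.algebraMvPolynomial

namespace Groth.Agent.Synt29

theorem flat_mvPolynomial_field_ext (k L : Type u) [Field k] [Field L] [Algebra k L] (n : ℕ) :
    Module.Flat (MvPolynomial (Fin n) k) (MvPolynomial (Fin n) L) :=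
  Module.Flat.isBaseChange k (MvPolynomial (Fin n) k) L (MvPolynomial (Fin n) L)
    (Algebra.IsPushout.out (R := k) (S := MvPolynomial (Fin n) k) (R' := L) (S' := MvPolynomial (Fin n) L))

theorem exists_baseChange_presentation {k L B B' : Type u} [Field k] [Field L] [Algebra k L] [CommRing B] [Algebra k B]
    [CommRing B'] [Algebra L B'] [Algebra k B'] [Algebra B B'] [IsScalarTower k L B'] [IsScalarTower k B B']
    [Algebra.IsPushout k L B B'] {n : ℕ} (f : MvPolynomial (Fin n) k →ₐ[k] B) (hf : Function.Surjective f) :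
    ∃ g : MvPolynomial (Fin n) L →ₐ[L] B', Function.Surjective g ∧
      (∀ x, g (MvPolynomial.map (algebraMap k L) x) = algebraMap B B' (f x)) ∧
      RingHom.ker g.toRingHom = (RingHom.ker f.toRingHom).map (MvPolynomial.map (algebraMap k L)) := by
  let e1 := MvPolynomial.algebraTensorAlgEquiv (σ := Fin n) k L
  let m : L ⊗[k] MvPolynomial (Fin n) k →ₐ[L] L ⊗[k] B := Algebra.TensorProduct.map (AlgHom.id L L) f
  let e2 : L ⊗[k] B ≃ₐ[L] B' := Algebra.IsPushout.equiv k L B B'
  have hm : Function.Surjective m := fun z => by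
    induction z using TensorProduct.induction_on with
    | zero => exact ⟨0, map_zero m⟩
    | tmul a b =>
      obtain ⟨x, rfl⟩ := hf b
      exact ⟨a ⊗ₜ[k] x, by show Algebra.TensorProduct.map (AlgHom.id L L) f (a ⊗ₜ[k] x) = _; rw [Algebra.TensorProduct.map_tmul]; rfl⟩
    | add a b ha hb =>
      obtain ⟨x, rfl⟩ := ha
      obtain ⟨y, rfl⟩ := hb
      exact ⟨x + y, map_add m x y⟩
  let g : MvPolynomial (Fin n) L →ₐ[L] B' := e2.toAlgHom.comp (m.comp e1.symm.toAlgHom)
  have hgx : ∀ x, g (MvPolynomial.map (algebraMap k L) x) = algebraMap B B' (f x) := fun x => by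
    show e2 (m (e1.symm (MvPolynomial.map (algebraMap k L) x))) = _
    rw [MvPolynomial.algebraTensorAlgEquiv_symm_map]
    show e2 ((1 : L) ⊗ₜ[k] f x) = _
    rw [Algebra.IsPushout.equiv_tmul]
    simp
  refine ⟨g, e2.surjective.comp (hm.comp e1.symm.surjective), hgx, le_antisymm ?_ ?_⟩
  · intro y hy
    have h1 : e1.symm y ∈ RingHom.ker m.toRingHom := e2.injective (by rw [map_zero]; exact hy)
    have h2 : RingHom.ker m.toRingHom =
        (RingHom.ker f.toRingHom).map (Algebra.TensorProduct.includeRight : MvPolynomial (Fin n) k →ₐ[k] L ⊗[k] _).toRingHom :=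
      Algebra.TensorProduct.lTensor_ker (A := L) f hf
    rw [h2] at h1
    have h3 := Ideal.mem_map_of_mem e1.toRingEquiv.toRingHom h1
    rw [Ideal.map_map] at h3
    have h4 : e1.toRingEquiv.toRingHom.comp
        (Algebra.TensorProduct.includeRight : MvPolynomial (Fin n) k →ₐ[k] L ⊗[k] _).toRingHom =
        MvPolynomial.map (algebraMap k L) := RingHom.ext fun x => by
      show e1 ((1 : L) ⊗ₜ[k] x) = _
      rw [MvPolynomial.algebraTensorAlgEquiv_tmul, one_smul]
    rw [h4] at h3
    rwa [show e1.toRingEquiv.toRingHom (e1.symm y) = y from e1.apply_symm_apply y] at h3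
  · rw [Ideal.map_le_iff_le_comap]
    intro x hx
    show g (MvPolynomial.map (algebraMap k L) x) = 0
    rw [hgx, show f x = 0 from hx, map_zero]

/-- Being a complete intersection at a point is insensitive to field extensions. -/
theorem isCIOver_atPrime_iff_of_isPushout {k L B B' : Type u} [Field k] [Field L] [Algebra k L] [CommRing B]
    [Algebra k B] [Algebra.FiniteType k B] [CommRing B'] [Algebra L B'] [Algebra k B'] [Algebra B B']
    [IsScalarTower k L B'] [IsScalarTower k B B'] [Algebra.IsPushout k L B B'] (Q' : Ideal B') [Q'.IsPrime]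
    (Q : Ideal B) [Q.IsPrime] (hQ : Q'.comap (algebraMap B B') = Q) :
    Synt.IsCIOver L (Localization.AtPrime Q') ↔ Synt.IsCIOver k (Localization.AtPrime Q) := by
  obtain ⟨n, f, hf⟩ := Algebra.FiniteType.iff_quotient_mvPolynomial''.1 ‹Algebra.FiniteType k B›
  obtain ⟨g, hg, hgx, hgk⟩ := exists_baseChange_presentation (L := L) (B' := B') f hf
  let q := Q.comap f
  let q' := Q'.comap g
  haveI : q.IsPrime := Ideal.comap_isPrime _ _
  haveI : q'.IsPrime := Ideal.comap_isPrime _ _
  obtain ⟨π, hπ, -, hπk⟩ := exists_atPrime_presentation f hf Q q rfl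
  obtain ⟨π', hπ', -, hπk'⟩ := exists_atPrime_presentation g hg Q' q' rfl
  haveI : q'.LiesOver q := ⟨by
    ext x
    show f x ∈ Q ↔ g (MvPolynomial.map (algebraMap k L) x) ∈ Q'
    rw [hgx, ← hQ]
    rfl⟩
  let P := Localization.AtPrime q
  let P' := Localization.AtPrime q'
  haveI := isRegularLocalRing_localization_mvPolynomial q
  haveI := isRegularLocalRing_localization_mvPolynomial q'
  haveI := essFiniteType_localization_mvPolynomial q
  haveI := essFiniteType_localization_mvPolynomial q'
  letI := Localization.AtPrime.algebraOfLiesOver q q'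
  haveI : IsLocalHom (algebraMap P P') := FlatLoc6.isLocalHom_atPrime q q'
  haveI := flat_mvPolynomial_field_ext k L n
  haveI : Module.Flat (MvPolynomial (Fin n) L) P' := IsLocalization.flat P' q'.primeCompl
  haveI : Module.Flat (MvPolynomial (Fin n) k) P' := Module.Flat.trans (MvPolynomial (Fin n) k) (MvPolynomial (Fin n) L) P'
  haveI : Module.Flat P P' := (Module.flat_iff_of_isLocalization (S := P) (p := q.primeCompl) (M := P')).2 inferInstance
  rw [isCIOver_iff_ciKer π' hπ', isCIOver_iff_ciKer π hπ]
  refine (ciKer_iff_of_flat π.toRingHom hπ π'.toRingHom hπ' ?_).symm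
  rw [hπk', hπk, hgk, Ideal.map_map, Ideal.map_map]
  congr 1
  refine RingHom.ext fun x => ?_
  show algebraMap _ P' (MvPolynomial.map (algebraMap k L) x) = algebraMap P P' (algebraMap _ P x)
  rw [← IsScalarTower.algebraMap_apply (MvPolynomial (Fin n) k) P P',
    IsScalarTower.algebraMap_apply (MvPolynomial (Fin n) k) (MvPolynomial (Fin n) L) P']
  rfl

end Groth.Agent.Synt29
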