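import Groth.Agent.Synt29.UnramAt
import Groth.Prelude.Def_ega3

/-! Unramifiedness is detected on fibres. -/

set_option autoImplicit false

universe u

open CategoryTheory CategoryTheory.Limits AlgebraicGeometry TopologicalSpace Opposite

namespace Groth.Agent.Synt29.UnramFibre

variable {X Y S : Scheme.{u}}

theorem stalkMap_of_fibre (f : X ⟶ Y) (g : Y ⟶ S) [LocallyOfFiniteType f] (x : X) (s : S)
    (hs : g (f x) = s)
    (z : ↥(pullback f (g.fiberι s))) (hz : pullback.fst f (g.fiberι s) z = x)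
    (hu : ∃ O : (pullback f (g.fiberι s)).Opens, z ∈ O ∧
      FormallyUnramified (O.ι ≫ pullback.snd f (g.fiberι s))) :
    (f.stalkMap x).hom.FormallyUnramified := by
  let φA := f.stalkMap x
  let _ := φA.hom.toAlgebra
  let A := X.presheaf.stalk x
  let R := Y.presheaf.stalk (f x)
  let M := Ω[A⁄R]
  let κ := X.residueField x
  let m := IsLocalRing.maximalIdeal A
  let V := M ⧸ m • (⊤ : Submodule A M)
  let eκ : κ →+* A ⧸ m := RingHom.id (A ⧸ m)
  let _ : Module κ V := Module.compHom V eκ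
  let _ : Module κᵐᵒᵖ V := Module.compHom V ((RingHom.id κ).fromOpposite mul_comm)
  have : IsCentralScalar κ V := ⟨fun _ _ => rfl⟩
  let E := TrivSqZeroExt κ V
  let φ : E →+* κ := (TrivSqZeroExt.fstHom κ κ V).toRingHom
  have hφ : Function.Surjective φ := fun a => ⟨TrivSqZeroExt.inl a, TrivSqZeroExt.fst_inl V a⟩
  have hsq : RingHom.ker φ ^ 2 = ⊥ := by
    rw [sq, eq_bot_iff, Ideal.mul_le]
    intro a ha b hb
    have ha' : TrivSqZeroExt.fst a = 0 := ha
    have hb' : TrivSqZeroExt.fst b = 0 := hb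
    refine Ideal.mem_bot.mpr (TrivSqZeroExt.ext ?_ ?_)
    · rw [TrivSqZeroExt.fst_mul, ha', zero_mul, TrivSqZeroExt.fst_zero]
    · rw [TrivSqZeroExt.snd_mul, ha', hb', zero_smul, MulOpposite.op_zero, zero_smul, add_zero,
        TrivSqZeroExt.snd_zero]
  have : IsLocalRing E := IsLocalRing.of_isUnit_or_isUnit_one_sub_self fun a => by
    rw [TrivSqZeroExt.isUnit_iff_isUnit_fst, TrivSqZeroExt.isUnit_iff_isUnit_fst,
      TrivSqZeroExt.fst_sub, TrivSqZeroExt.fst_one]
    exact IsLocalRing.isUnit_or_isUnit_one_sub_self _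
  let ρ : A →+* κ := (X.residue x).hom
  let D := KaehlerDifferential.D R A
  let Db : A → V := fun a => Submodule.mkQ _ (D a)
  let γa : A →+* E := (TrivSqZeroExt.inlHom κ V).comp ρ
  let γb : A →+* E :=
    { toFun := fun a => (ρ a, Db a)
      map_one' := TrivSqZeroExt.ext (map_one ρ) (by
        show Submodule.mkQ _ (D 1) = 0
        rw [D.map_one_eq_zero, map_zero])
      map_mul' := fun a b => TrivSqZeroExt.ext (map_mul ρ a b) (by
        show Submodule.mkQ _ (D (a * b)) =
          ρ a • (Submodule.mkQ _ (D b) : V) + ρ b • (Submodule.mkQ _ (D a) : V)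
        rw [Derivation.leibniz, map_add, map_smul, map_smul]
        rfl)
      map_zero' := TrivSqZeroExt.ext (map_zero ρ) (by
        show Submodule.mkQ _ (D 0) = 0
        rw [map_zero, map_zero])
      map_add' := fun a b => TrivSqZeroExt.ext (map_add ρ a b) (by
        show Submodule.mkQ _ (D (a + b)) = Submodule.mkQ _ (D a) + Submodule.mkQ _ (D b)
        rw [map_add, map_add]) }
  have hbase : γb.comp φA.hom = γa.comp φA.hom := by
    ext c
    · rfl
    · show Submodule.mkQ _ (D (φA.hom c)) = TrivSqZeroExt.snd (TrivSqZeroExt.inl (ρ (φA.hom c)))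
      rw [show φA.hom c = algebraMap R A c from rfl, D.map_algebraMap, map_zero,
        TrivSqZeroExt.snd_inl]
  let G : (A →+* E) → (Spec (CommRingCat.of E) ⟶ X) := fun γ =>
    Spec.map (CommRingCat.ofHom γ) ≫ X.fromSpecStalk x
  have hGf : G γb ≫ f = G γa ≫ f := by
    simp only [G, Category.assoc, ← Scheme.SpecMap_stalkMap_fromSpecStalk]
    rw [← Category.assoc, ← Category.assoc, ← Spec.map_comp, ← Spec.map_comp]
    congr 2
    exact CommRingCat.hom_ext hbase
  -- the composite to the base factors through the residue field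
  let τ : Spec (CommRingCat.of E) ⟶ Spec (S.residueField (g (f x))) :=
    Spec.map (CommRingCat.ofHom (TrivSqZeroExt.inlHom κ V)) ≫ Spec.map ((f ≫ g).residueFieldMap x)
  have hτ : (G γa ≫ f) ≫ g = τ ≫ S.fromSpecResidueField (g (f x)) := by
    let u : X.residueField x ⟶ CommRingCat.of E := CommRingCat.ofHom (TrivSqZeroExt.inlHom κ V)
    have e1 : Spec.map (CommRingCat.ofHom γa) = Spec.map u ≫ Spec.map (X.residue x) :=
      Spec.map_comp (X.residue x) u
    show ((Spec.map (CommRingCat.ofHom γa) ≫ X.fromSpecStalk x) ≫ f) ≫ g =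
      (Spec.map u ≫ Spec.map ((f ≫ g).residueFieldMap x)) ≫ S.fromSpecResidueField ((f ≫ g) x)
    rw [e1]
    simp only [Category.assoc]
    refine congrArg (Spec.map u ≫ ·) ?_
    refine Eq.trans ?_ (Scheme.Hom.SpecMap_residueFieldMap_fromSpecResidueField (f ≫ g) x).symm
    exact (Category.assoc (Spec.map (X.residue x)) (X.fromSpecStalk x) (f ≫ g)).symm
  subst hs
  let β' : Spec (CommRingCat.of E) ⟶ g.fiber (g (f x)) := pullback.lift (G γa ≫ f) τ hτ
  let P := pullback f (g.fiberι (g (f x)))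
  let L : (γ : A →+* E) → (G γ ≫ f = G γa ≫ f) → (Spec (CommRingCat.of E) ⟶ P) := fun γ hγ =>
    pullback.lift (G γ) β' (by
      rw [hγ]
      exact (pullback.lift_fst _ _ _).symm)
  let i := Spec.map (CommRingCat.ofHom φ)
  have hiG : ∀ γ : A →+* E, φ.comp γ = ρ → i ≫ G γ = X.fromSpecResidueField x := fun γ hγ => by
    show Spec.map _ ≫ Spec.map _ ≫ _ = Spec.map (X.residue x) ≫ X.fromSpecStalk x
    rw [← Category.assoc, ← Spec.map_comp, ← CommRingCat.ofHom_comp, hγ]
    rfl
  have hia : i ≫ G γa = X.fromSpecResidueField x := hiG γa (RingHom.ext fun a => rfl)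
  have hib : i ≫ G γb = X.fromSpecResidueField x := hiG γb (RingHom.ext fun a => rfl)
  let α := i ≫ L γa rfl
  have hα : α (IsLocalRing.closedPoint κ) = z := by
    have hfst : α ≫ pullback.fst f (g.fiberι (g (f x))) = X.fromSpecResidueField x := by
      rw [Category.assoc, pullback.lift_fst, hia]
    refine (pullback.fst f (g.fiberι (g (f x)))).isEmbedding.injective ?_
    refine Eq.trans ?_ hz.symm
    exact ((Scheme.Hom.comp_apply _ _ _).symm.trans
      (congr($hfst (IsLocalRing.closedPoint κ)))).trans (Scheme.fromSpecResidueField_apply _ _)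
  have hLb : i ≫ L γb hGf = α := by
    apply pullback.hom_ext
    · rw [Category.assoc, Category.assoc, pullback.lift_fst, pullback.lift_fst, hia, hib]
    · rw [Category.assoc, Category.assoc, pullback.lift_snd, pullback.lift_snd]
  have : LocallyOfFiniteType (pullback.snd f (g.fiberι (g (f x)))) := inferInstance
  have heq : L γa rfl = L γb hGf :=
    (UnramAt.iff_lift_unique (pullback.snd f (g.fiberι (g (f x)))) z).mp hu κ E φ hφ hsq α β' hα
      (by rw [Category.assoc, pullback.lift_snd]) _ _ rfl (pullback.lift_snd _ _ _) hLb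
      (pullback.lift_snd _ _ _)
  have h1 : G γa = G γb := by
    have := congrArg (· ≫ pullback.fst f (g.fiberι (g (f x)))) heq
    exact (pullback.lift_fst _ _ _).symm.trans (this.trans (pullback.lift_fst _ _ _))
  have h0 : γa = γb :=
    congrArg CommRingCat.Hom.hom (Spec.map_inj.mp ((cancel_mono (X.fromSpecStalk x)).mp h1))
  have hD : ∀ a, D a ∈ m • (⊤ : Submodule A M) := fun a =>
    (Submodule.Quotient.mk_eq_zero _).mp
      ((congr(TrivSqZeroExt.snd ($h0 a))).symm.trans (TrivSqZeroExt.snd_inl V (ρ a)))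
  have htop : (⊤ : Submodule A M) ≤ m • (⊤ : Submodule A M) := by
    exact le_trans (KaehlerDifferential.span_range_derivation R A).ge
      (Submodule.span_le.mpr (by rintro _ ⟨a, rfl⟩; exact hD a))
  have : Algebra.EssFiniteType R A := by
    rw [← RingHom.essFiniteType_algebraMap, RingHom.algebraMap_toAlgebra]
    exact LocallyOfFiniteType.stalkMap f x
  have hM : (⊤ : Submodule A M) = ⊥ := Submodule.eq_bot_of_le_smul_of_le_jacobson_bot m ⊤
    Module.Finite.fg_top htop (IsLocalRing.maximalIdeal_le_jacobson _)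
  show Algebra.FormallyUnramified R A
  exact ⟨subsingleton_of_forall_eq 0 fun w => by
    have hw : w ∈ (⊤ : Submodule A M) := trivial
    rw [hM] at hw
    exact hw⟩

theorem iff_fibre (f : X ⟶ Y) (g : Y ⟶ S) [LocallyOfFiniteType f] (s : S)
    (z : ↥(pullback f (g.fiberι s))) :
    (∃ O : X.Opens, pullback.fst f (g.fiberι s) z ∈ O ∧ FormallyUnramified (O.ι ≫ f)) ↔
      ∃ O : (pullback f (g.fiberι s)).Opens, z ∈ O ∧
        FormallyUnramified (O.ι ≫ pullback.snd f (g.fiberι s)) := by
  let q := pullback.fst f (g.fiberι s)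
  constructor
  · rintro ⟨O, hz, h⟩
    refine ⟨q ⁻¹ᵁ O, hz, ?_⟩
    have sq : IsPullback (q ∣_ O) ((q ⁻¹ᵁ O).ι ≫ pullback.snd f (g.fiberι s)) (O.ι ≫ f) (g.fiberι s) :=
      (isPullback_morphismRestrict q O).paste_vert (IsPullback.of_hasPullback f (g.fiberι s))
    exact MorphismProperty.of_isPullback sq h
  · intro h
    refine UnramAt.exists_nhd f (stalkMap_of_fibre f g _ s ?_ z rfl h)
    have h1 : g.fiberι s (pullback.snd f (g.fiberι s) z) ∈ Set.range (g.fiberι s) := ⟨_, rfl⟩
    rw [Scheme.Hom.range_fiberι] at h1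
    have h2 : f (pullback.fst f (g.fiberι s) z) = g.fiberι s (pullback.snd f (g.fiberι s) z) :=
      congr($(pullback.condition (f := f) (g := g.fiberι s)) z)
    rw [h2]
    exact h1

theorem formallyUnramified_iff_fibres (f : X ⟶ Y) (g : Y ⟶ S) [LocallyOfFiniteType f] :
    FormallyUnramified f ↔ ∀ s, FormallyUnramified (pullback.snd f (g.fiberι s)) := by
  refine ⟨fun hf s => MorphismProperty.of_isPullback (P := @FormallyUnramified)
    (IsPullback.of_hasPullback f (g.fiberι s)) hf, fun h => ?_⟩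
  rw [StalkFormal.formallyUnramified_iff_stalkMap]
  intro x
  obtain ⟨w, hw⟩ : f x ∈ Set.range (g.fiberι (g (f x))) := by
    rw [Scheme.Hom.range_fiberι]; rfl
  obtain ⟨z, hz, -⟩ := Scheme.Pullback.exists_preimage_pullback x w hw.symm
  have := h (g (f x))
  exact stalkMap_of_fibre f g x _ rfl z hz
    ⟨⊤, trivial, MorphismProperty.comp_mem _ _ _ inferInstance this⟩

/-- the canonical identification of the fibre -/
lemma isPullback_fiberMapOver (f : X ⟶ Y) (h : X ⟶ S) (g : Y ⟶ S) (w : f ≫ g = h) (s : S) :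
    IsPullback (h.fiberι s) (CohIII.fiberMapOver f h g w s) f (g.fiberι s) := by
  subst w
  refine IsPullback.of_bot ?_ ?_ (IsPullback.of_hasPullback g (S.fromSpecResidueField s))
  · show IsPullback _ (CohIII.fiberMapOver f (f ≫ g) g rfl s ≫ pullback.snd g _) (f ≫ g) _
    rw [show CohIII.fiberMapOver f (f ≫ g) g rfl s ≫ pullback.snd g _ =
      pullback.snd (f ≫ g) (S.fromSpecResidueField s) from
      (pullback.lift_snd _ _ _).trans (Category.comp_id _)]
    exact IsPullback.of_hasPullback _ _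
  · exact (pullback.lift_fst _ _ _).symm

theorem iff_fiberMapOver (f : X ⟶ Y) (h : X ⟶ S) (g : Y ⟶ S) (w : f ≫ g = h) [LocallyOfFiniteType f]
    (s : S) (x' : h.fiber s) :
    (∃ O : X.Opens, h.fiberι s x' ∈ O ∧ FormallyUnramified (O.ι ≫ f)) ↔
      ∃ V : (h.fiber s).Opens, x' ∈ V ∧ FormallyUnramified (V.ι ≫ CohIII.fiberMapOver f h g w s) := by
  have sq := isPullback_fiberMapOver f h g w s
  let e := sq.isoPullback
  have e1 : e.hom ≫ pullback.fst f (g.fiberι s) = h.fiberι s := sq.isoPullback_hom_fst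
  have e2 : e.hom ≫ pullback.snd f (g.fiberι s) = CohIII.fiberMapOver f h g w s :=
    sq.isoPullback_hom_snd
  have hz : pullback.fst f (g.fiberι s) (e.hom x') = h.fiberι s x' := by
    rw [← Scheme.Hom.comp_apply, e1]
  rw [← hz, iff_fibre]
  constructor
  · rintro ⟨O, hxO, hO⟩
    refine ⟨e.hom ⁻¹ᵁ O, hxO, ?_⟩
    have : (e.hom ⁻¹ᵁ O).ι ≫ CohIII.fiberMapOver f h g w s =
        (e.hom ∣_ O) ≫ O.ι ≫ pullback.snd f (g.fiberι s) := by
      rw [← e2, morphismRestrict_ι_assoc]
    rw [this]
    exact MorphismProperty.comp_mem _ _ _ inferInstance hO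
  · rintro ⟨O, hxO, hO⟩
    refine ⟨e.inv ⁻¹ᵁ O, ?_, ?_⟩
    · show e.inv (e.hom x') ∈ O
      rw [← Scheme.Hom.comp_apply, e.hom_inv_id]
      exact hxO
    · have : (e.inv ⁻¹ᵁ O).ι ≫ pullback.snd f (g.fiberι s) =
          (e.inv ∣_ O) ≫ O.ι ≫ CohIII.fiberMapOver f h g w s := by
        rw [← e2, morphismRestrict_ι_assoc, e.inv_hom_id_assoc]
      rw [this]
      exact MorphismProperty.comp_mem _ _ _ inferInstance hO

end Groth.Agent.Synt29.UnramFibre
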