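import Groth.Agent.Synt29.HilbertBurch
import Groth.Agent.Synt29.RibbonClosed
import Groth.Agent.GrpSchLib.SmoothRegular
import Groth.Agent.LC.LiaisonLocal

/-!
Spreading out a Hilbert–Burch resolution.
-/

universe u

open Matrix AlgebraicGeometry CategoryTheory

set_option linter.style.haveILetI false

namespace Groth.Agent.Synt29.CodimTwo

open MinorsLift

theorem exists_denom {R : Type u} [CommRing R] (P : Ideal R) [P.IsPrime] {M : Type u} [AddCommGroup M] [Module R M]
    (N T : Submodule R M) (hN : N.FG) (h : ∀ x ∈ N, ∃ s ∉ P, s • x ∈ T) :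
    ∃ f ∉ P, ∀ x ∈ N, f • x ∈ T := by
  classical
  obtain ⟨S, rfl⟩ := hN
  choose! s hs hsx using h
  refine ⟨∏ x ∈ S, s x, fun hp => ?_, fun x hx => ?_⟩
  · obtain ⟨x, hx, hxP⟩ := Ideal.IsPrime.prod_mem_iff.1 hp
    exact hs x (Submodule.subset_span hx) hxP
  · induction hx using Submodule.span_induction with
    | mem y hy =>
      rw [← Finset.mul_prod_erase S s hy, mul_comm, mul_smul]
      exact T.smul_mem _ (hsx y (Submodule.subset_span hy))
    | zero => simp
    | add a b _ _ ha hb => rw [smul_add]; exact T.add_mem ha hb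
    | smul c a _ ha => rw [smul_comm]; exact T.smul_mem _ ha

variable {R : Type u} [CommRing R] {r : ℕ}

theorem map_mulVec' {A : Type u} [CommRing A] (π : R →+* A) (φ : Matrix (Fin (r + 1)) (Fin r) R) (x : Fin r → R) :
    (φ.map π) *ᵥ (fun j => π (x j)) = fun i => π ((φ *ᵥ x) i) :=
  funext fun i => (RingHom.map_mulVec π φ x i).symm

/-- Scale the columns of a matrix over a localization to clear denominators. -/
theorem exists_integral_matrix {A : Type u} [CommRing A] [Algebra R A] (S : Submonoid R) [IsLocalization S A]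
    (φ : Matrix (Fin (r + 1)) (Fin r) A) :
    ∃ (φ₁ : Matrix (Fin (r + 1)) (Fin r) R) (c : Fin r → Aˣ),
      ∀ i j, algebraMap R A (φ₁ i j) = φ i j * c j := by
  classical
  obtain ⟨b, hb⟩ := IsLocalization.exist_integer_multiples_of_finite S (fun p : Fin (r + 1) × Fin r => φ p.1 p.2)
  choose ψ hψ using fun p => hb p
  refine ⟨Matrix.of fun i j => ψ (i, j), fun _ => (IsLocalization.map_units A b).unit, fun i j => ?_⟩
  show algebraMap R A (ψ (i, j)) = _
  rw [hψ (i, j), Algebra.smul_def, mul_comm]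
  rfl

theorem minors_scale {A : Type u} [CommRing A] (φ : Matrix (Fin (r + 1)) (Fin r) A) (c : Fin r → A) (i : Fin (r + 1)) :
    minors (Matrix.of fun i j => φ i j * c j) i = (∏ j, c j) * minors φ i := by
  have h : (Matrix.of fun i j => φ i j * c j : Matrix (Fin (r + 1)) (Fin r) A).submatrix i.succAbove id =
      Matrix.of fun a b => c b * φ.submatrix i.succAbove id a b := by
    ext a b; simp [mul_comm]
  simp only [minors, h]
  rw [Matrix.det_mul_row]
  ring

/-- The resolution over a local ring spreads out to a basic open. -/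
theorem exists_away_resolution [IsNoetherianRing R] (I P : Ideal R) [P.IsPrime] (A : Type u) [CommRing A]
    [Algebra R A] [IsLocalization.AtPrime A P]
    (φ₁ : Matrix (Fin (r + 1)) (Fin r) R)
    (hspan : Ideal.span (Set.range (minors (φ₁.map (algebraMap R A)))) = I.map (algebraMap R A))
    (hinj : Function.Injective (φ₁.map (algebraMap R A)).mulVecLin)
    (hex : LinearMap.range (φ₁.map (algebraMap R A)).mulVecLin =
      LinearMap.ker (Fintype.linearCombination A (minors (φ₁.map (algebraMap R A))))) :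
    ∃ f ∉ P, ∀ (B : Type u) [CommRing B] [Algebra R B] [IsLocalization.Away f B],
      Ideal.span (Set.range (minors (φ₁.map (algebraMap R B)))) = I.map (algebraMap R B) ∧
      Function.Injective (φ₁.map (algebraMap R B)).mulVecLin ∧
      LinearMap.range (φ₁.map (algebraMap R B)).mulVecLin =
        LinearMap.ker (Fintype.linearCombination B (minors (φ₁.map (algebraMap R B)))) := by
  classical
  set D : Ideal R := Ideal.span (Set.range (minors φ₁)) with hD
  have hDmap : ∀ (B : Type u) [CommRing B] [Algebra R B],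
      D.map (algebraMap R B) = Ideal.span (Set.range (minors (φ₁.map (algebraMap R B)))) := fun B _ _ => by
    rw [hD, Ideal.map_span, ← Set.range_comp]
    exact congrArg (fun F => Ideal.span (Set.range F)) (funext fun i => minors_map _ _ i)
  have zero_of : ∀ {n : ℕ} (x : Fin n → R), (∀ i, algebraMap R A (x i) = 0) → ∃ s ∉ P, s • x = 0 := by
    intro n x hx
    choose s hs using fun i => (IsLocalization.map_eq_zero_iff P.primeCompl A (x i)).1 (hx i)
    refine ⟨∏ i, (s i : R), fun hp => ?_, funext fun i => ?_⟩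
    · obtain ⟨i, -, hi⟩ := Ideal.IsPrime.prod_mem_iff.1 hp
      exact (s i).2 hi
    · rw [Pi.smul_apply, smul_eq_mul, ← Finset.mul_prod_erase Finset.univ _ (Finset.mem_univ i), Pi.zero_apply,
        mul_right_comm, hs i, zero_mul]
  have ideal_of : ∀ (J K : Ideal R), J.map (algebraMap R A) ≤ K.map (algebraMap R A) →
      ∀ x ∈ J, ∃ s ∉ P, s • x ∈ K := fun J K h x hx => by
    obtain ⟨s, hs⟩ := (IsLocalization.algebraMap_mem_map_algebraMap_iff P.primeCompl A K x).1
      (h (Ideal.mem_map_of_mem _ hx))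
    exact ⟨s, hs.1, hs.2⟩
  obtain ⟨f₁, hf₁, h₁⟩ := exists_denom P I D I.fg_of_isNoetherianRing
    (ideal_of I D (by rw [hDmap A, hspan]))
  obtain ⟨f₂, hf₂, h₂⟩ := exists_denom P D I D.fg_of_isNoetherianRing
    (ideal_of D I (by rw [hDmap A, hspan]))
  obtain ⟨f₃, hf₃, h₃⟩ := exists_denom P (LinearMap.ker φ₁.mulVecLin) ⊥ (IsNoetherian.noetherian _) fun x hx => by
    obtain ⟨s, hs, hsx⟩ := zero_of x fun i => by
      have : (φ₁.map (algebraMap R A)) *ᵥ (fun j => algebraMap R A (x j)) = (φ₁.map (algebraMap R A)) *ᵥ 0 := by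
        rw [map_mulVec', Matrix.mulVec_zero]
        funext i
        rw [show (φ₁ *ᵥ x) i = 0 from congrFun hx i, map_zero]
        rfl
      exact congrFun (hinj this) i
    exact ⟨s, hs, (Submodule.mem_bot R).2 hsx⟩
  obtain ⟨f₄, hf₄, h₄⟩ := exists_denom P (LinearMap.ker (Fintype.linearCombination R (minors φ₁)))
    (LinearMap.range φ₁.mulVecLin) (IsNoetherian.noetherian _) fun z hz => by
    rw [LinearMap.mem_ker, linearCombination_eq] at hz
    have hzA : (fun i => algebraMap R A (z i)) ∈ LinearMap.ker (Fintype.linearCombination A (minors (φ₁.map (algebraMap R A)))) := by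
      rw [LinearMap.mem_ker, linearCombination_eq, ← map_zero (algebraMap R A), ← hz, map_sum]
      exact Finset.sum_congr rfl fun i _ => by rw [map_mul, minors_map]
    rw [← hex] at hzA
    obtain ⟨w, hw⟩ := hzA
    obtain ⟨b, hb⟩ := IsLocalization.exist_integer_multiples_of_finite P.primeCompl w
    choose w' hw' using hb
    obtain ⟨s, hs, hsz⟩ := zero_of (φ₁ *ᵥ w' - (b : R) • z) fun i => by
      rw [Pi.sub_apply, map_sub, sub_eq_zero, Pi.smul_apply, smul_eq_mul, map_mul,
        ← congrFun (map_mulVec' (algebraMap R A) φ₁ w') i,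
        show (fun j => algebraMap R A (w' j)) = (algebraMap R A b) • w from funext fun j => (hw' j).trans (Algebra.smul_def _ _),
        Matrix.mulVec_smul, Pi.smul_apply, smul_eq_mul]
      exact congrArg (algebraMap R A b * ·) (congrFun hw i)
    refine ⟨s * b, fun h => (Ideal.IsPrime.mem_or_mem inferInstance h).elim hs b.2, ⟨s • w', ?_⟩⟩
    rw [map_smul, mul_smul]
    rw [smul_sub, sub_eq_zero] at hsz
    exact hsz
  refine ⟨f₁ * f₂ * f₃ * f₄, fun h => ?_, fun B _ _ _ => ?_⟩
  · rcases Ideal.IsPrime.mem_or_mem inferInstance h with h | h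
    · rcases Ideal.IsPrime.mem_or_mem inferInstance h with h | h
      · exact (Ideal.IsPrime.mem_or_mem inferInstance h).elim hf₁ hf₂
      · exact hf₃ h
    · exact hf₄ h
  set f := f₁ * f₂ * f₃ * f₄ with hf
  have hu : IsUnit (algebraMap R B f) := IsLocalization.Away.algebraMap_isUnit f
  have hu' : ∀ g, g ∣ f → IsUnit (algebraMap R B g) := fun g hg => isUnit_of_dvd_unit (map_dvd _ hg) hu
  refine ⟨?_, ?_, le_antisymm ?_ ?_⟩
  · rw [← hDmap B]
    refine le_antisymm (Ideal.map_le_iff_le_comap.2 fun x hx => ?_) (Ideal.map_le_iff_le_comap.2 fun x hx => ?_)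
    · have := Ideal.mem_map_of_mem (algebraMap R B) (h₂ x hx)
      rw [smul_eq_mul, map_mul] at this
      exact (Ideal.unit_mul_mem_iff_mem _ (hu' f₂ ⟨f₁ * f₃ * f₄, by ring⟩)).1 this
    · have := Ideal.mem_map_of_mem (algebraMap R B) (h₁ x hx)
      rw [smul_eq_mul, map_mul] at this
      exact (Ideal.unit_mul_mem_iff_mem _ (hu' f₁ ⟨f₂ * f₃ * f₄, by ring⟩)).1 this
  · refine (injective_iff_map_eq_zero _).2 fun x hx => ?_
    obtain ⟨b, hb⟩ := IsLocalization.exist_integer_multiples_of_finite (Submonoid.powers f) x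
    choose x' hx' using hb
    have hxx : (fun j => algebraMap R B (x' j)) = (algebraMap R B b) • x :=
      funext fun j => (hx' j).trans (Algebra.smul_def _ _)
    have h0 : ∀ i, algebraMap R B ((φ₁ *ᵥ x') i) = 0 := fun i => by
      rw [← congrFun (map_mulVec' (algebraMap R B) φ₁ x') i, hxx, Matrix.mulVec_smul, Pi.smul_apply,
        show (φ₁.map (algebraMap R B) *ᵥ x) i = 0 from congrFun hx i, smul_zero]
    choose s hs using fun i => (IsLocalization.map_eq_zero_iff (Submonoid.powers f) B _).1 (h0 i)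
    let t := ∏ i, s i
    have ht : φ₁.mulVecLin ((t : R) • x') = 0 := funext fun i => by
      rw [map_smul, Pi.smul_apply, smul_eq_mul, Submonoid.coe_finsetProd,
        ← Finset.mul_prod_erase Finset.univ _ (Finset.mem_univ i), mul_right_comm, Matrix.mulVecLin_apply, hs i,
        zero_mul]
      rfl
    have h5 : f₃ • (t : R) • x' = 0 := (Submodule.mem_bot R).1 (h₃ _ ht)
    funext j
    have h6 : algebraMap R B f₃ * (algebraMap R B t * (algebraMap R B b * x j)) = 0 := by
      rw [← show algebraMap R B (x' j) = algebraMap R B b * x j from congrFun hxx j, ← map_mul, ← map_mul]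
      rw [show f₃ * ((t : R) * x' j) = (f₃ • (t : R) • x') j from rfl, h5]
      simp
    rwa [(hu' f₃ ⟨f₁ * f₂ * f₄, by ring⟩).mul_right_eq_zero, (IsLocalization.map_units B t).mul_right_eq_zero,
      (IsLocalization.map_units B b).mul_right_eq_zero] at h6
  · rintro _ ⟨x, rfl⟩
    rw [LinearMap.mem_ker, linearCombination_eq]
    exact minors_dot_mulVec _ x
  · intro z hz
    rw [LinearMap.mem_ker, linearCombination_eq] at hz
    obtain ⟨b, hb⟩ := IsLocalization.exist_integer_multiples_of_finite (Submonoid.powers f) z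
    choose z' hz' using hb
    have hzz : ∀ i, algebraMap R B (z' i) = algebraMap R B b * z i := fun i => (hz' i).trans (Algebra.smul_def _ _)
    have h0 : algebraMap R B (∑ i, minors φ₁ i * z' i) = 0 := by
      rw [map_sum, ← mul_zero (algebraMap R B b), ← hz, Finset.mul_sum]
      exact Finset.sum_congr rfl fun i _ => by rw [map_mul, minors_map, hzz]; ring
    obtain ⟨s, hs⟩ := (IsLocalization.map_eq_zero_iff (Submonoid.powers f) B _).1 h0
    obtain ⟨w, hw⟩ := h₄ ((s : R) • z') (by
      rw [LinearMap.mem_ker, linearCombination_eq, ← hs, Finset.mul_sum]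
      exact Finset.sum_congr rfl fun i _ => by rw [Pi.smul_apply, smul_eq_mul]; ring)
    have huu : IsUnit (algebraMap R B f₄ * algebraMap R B s * algebraMap R B b) :=
      ((hu' f₄ ⟨f₁ * f₂ * f₃, by ring⟩).mul (IsLocalization.map_units B s)).mul (IsLocalization.map_units B b)
    refine ⟨(↑huu.unit⁻¹ : B) • (fun j => algebraMap R B (w j)), ?_⟩
    rw [map_smul, Matrix.mulVecLin_apply, map_mulVec']
    funext i
    show (↑huu.unit⁻¹ : B) * algebraMap R B ((φ₁ *ᵥ w) i) = z i
    rw [show (φ₁ *ᵥ w) i = f₄ * ((s : R) * z' i) from congrFun hw i, map_mul, map_mul, hzz]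
    rw [← mul_assoc (algebraMap R B f₄), ← mul_assoc (algebraMap R B f₄ * algebraMap R B s)]
    rw [← mul_assoc, IsUnit.val_inv_mul, one_mul]

/-- A Cohen–Macaulay closed subscheme of codimension two of a smooth variety, near a point. -/
theorem exists_affine_resolution (k : Type u) [Field k] (X Y : Scheme.{u}) (f : X ⟶ Spec (CommRingCat.of k))
    [Smooth f] (ι : Y ⟶ X) [IsClosedImmersion ι]
    (hCM : ∀ y : Y, LocCoh.IsCohenMacaulayLocalRing (Y.presheaf.stalk y))
    (hcodim : ∀ y : Y, ringKrullDim (Y.presheaf.stalk y) + 2 = ringKrullDim (X.presheaf.stalk (ι.base y)))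
    (y : Y) :
    ∃ U : X.affineOpens, ι.base y ∈ (U : X.Opens) ∧ ∃ (r : ℕ) (φ : Matrix (Fin (r + 1)) (Fin r) Γ(X, U)),
      Ideal.span (Set.range (minors φ)) = ι.ker.ideal U ∧ Function.Injective φ.mulVecLin ∧
        LinearMap.range φ.mulVecLin = LinearMap.ker (Fintype.linearCombination Γ(X, U) (minors φ)) := by
  haveI : LocallyOfFiniteType f := inferInstance
  haveI : IsLocallyNoetherian X := LocallyOfFiniteType.isLocallyNoetherian f
  obtain ⟨_, ⟨U₀, hU₀, rfl⟩, hp, -⟩ :=
    X.isBasis_affineOpens.exists_subset_of_mem_open (Set.mem_univ (ι.base y)) isOpen_univ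
  have hp : ι.base y ∈ U₀ := hp
  set A := X.presheaf.stalk (ι.base y)
  set R := Γ(X, U₀)
  letI algA : Algebra R A := (X.presheaf.germ U₀ (ι.base y) hp).hom.toAlgebra
  haveI : IsLocalization.AtPrime A (hU₀.primeIdealOf ⟨ι.base y, hp⟩).asIdeal := hU₀.isLocalization_stalk ⟨_, hp⟩
  haveI : IsNoetherianRing R := IsLocallyNoetherian.component_noetherian ⟨U₀, hU₀⟩
  set P := (hU₀.primeIdealOf ⟨ι.base y, hp⟩).asIdeal
  set I := ι.ker.ideal ⟨U₀, hU₀⟩ with hI
  haveI : IsRegularLocalRing A := Groth.Agent.GrpSchLib.isRegularLocalRing_stalk_of_smooth f (ι.base y)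
  have hker : RingHom.ker (ι.stalkMap y).hom = I.map (algebraMap R A) := by
    refine le_antisymm (fun c hc => ?_) (Ideal.map_le_iff_le_comap.2 fun e he => ?_)
    · obtain ⟨W, hW, hle, e, he, rfl⟩ := RibbonClosed.exists_ker_section ι y c hc U₀ hp
      rw [← ι.ker.map_ideal (U := W) (V := ⟨U₀, hU₀⟩) hle] at he
      have h := Ideal.mem_map_of_mem (X.presheaf.germ W.1 (ι.base y) hW).hom he
      rw [Ideal.map_map, ← CommRingCat.hom_comp] at h
      erw [TopCat.Presheaf.germ_res] at h
      exact h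
    · show (ι.stalkMap y).hom ((X.presheaf.germ U₀ (ι.base y) hp).hom e) = 0
      rw [hI, Scheme.Hom.ker_apply, RingHom.mem_ker] at he
      erw [Scheme.Hom.germ_stalkMap_apply, he, map_zero]
  let σ : (A ⧸ I.map (algebraMap R A)) ≃+* Y.presheaf.stalk y :=
    (Ideal.quotEquivOfEq hker.symm).trans (RingHom.quotientKerEquivOfSurjective (ι.stalkMap_surjective y))
  haveI : LocCoh.IsCohenMacaulayLocalRing (A ⧸ I.map (algebraMap R A)) :=
    haveI := hCM y
    haveI : Nontrivial (A ⧸ I.map (algebraMap R A)) := σ.toEquiv.nontrivial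
    haveI : IsLocalRing (A ⧸ I.map (algebraMap R A)) := IsLocalRing.of_surjective' _ Ideal.Quotient.mk_surjective
    Groth.Agent.LC.Liaison.isCMLocal_of_ringEquiv σ.symm
  obtain ⟨r, φ, hspan, -, hinj, hex⟩ := HilbertBurch.exists_matrix A (I.map (algebraMap R A))
    (by rw [ringKrullDim_eq_of_ringEquiv σ]; exact hcodim y)
  obtain ⟨φ₁, c, hc⟩ := exists_integral_matrix (A := A) P.primeCompl φ
  have hmap : φ₁.map (algebraMap R A) = Matrix.of fun i j => φ i j * (c j : A) := by ext i j; exact hc i j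
  have hu : IsUnit (∏ j, (c j : A)) := ⟨∏ j, c j, by simp⟩
  have hmin : ∀ i, minors (φ₁.map (algebraMap R A)) i = (∏ j, (c j : A)) * minors φ i := fun i => by
    rw [hmap, minors_scale]
  have hspan₁ : Ideal.span (Set.range (minors (φ₁.map (algebraMap R A)))) = I.map (algebraMap R A) := by
    rw [← hspan]
    refine le_antisymm (Ideal.span_le.2 ?_) (Ideal.span_le.2 ?_)
    · rintro _ ⟨i, rfl⟩
      rw [hmin]
      exact Ideal.mul_mem_left _ _ (Ideal.subset_span ⟨i, rfl⟩)
    · rintro _ ⟨i, rfl⟩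
      rw [SetLike.mem_coe, ← Ideal.unit_mul_mem_iff_mem _ hu, ← hmin]
      exact Ideal.subset_span ⟨i, rfl⟩
  have hmv : ∀ x, φ₁.map (algebraMap R A) *ᵥ x = φ *ᵥ fun j => (c j : A) * x j := fun x => by
    rw [hmap]
    funext i
    simp [Matrix.mulVec, dotProduct, mul_assoc]
  have hinj₁ : Function.Injective (φ₁.map (algebraMap R A)).mulVecLin := fun a b hab => by
    have h := hinj (show φ *ᵥ (fun j => (c j : A) * a j) = φ *ᵥ (fun j => (c j : A) * b j) by rw [← hmv, ← hmv]; exact hab)
    funext j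
    exact (c j).isUnit.mul_left_cancel (congrFun h j)
  have hex₁ : LinearMap.range (φ₁.map (algebraMap R A)).mulVecLin =
      LinearMap.ker (Fintype.linearCombination A (minors (φ₁.map (algebraMap R A)))) := by
    refine le_antisymm ?_ fun z hz => ?_
    · rintro _ ⟨x, rfl⟩
      rw [LinearMap.mem_ker, linearCombination_eq]
      exact minors_dot_mulVec _ x
    · rw [LinearMap.mem_ker, linearCombination_eq] at hz
      simp only [hmin, mul_assoc, ← Finset.mul_sum, hu.mul_right_eq_zero] at hz
      have hz' : z ∈ LinearMap.ker (Fintype.linearCombination A (minors φ)) := by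
        rw [LinearMap.mem_ker, linearCombination_eq]; exact hz
      rw [← hex] at hz'
      obtain ⟨w, rfl⟩ := hz'
      refine ⟨fun j => ↑(c j)⁻¹ * w j, ?_⟩
      rw [Matrix.mulVecLin_apply, hmv]
      simp
  obtain ⟨g, hg, hB⟩ := exists_away_resolution I P A φ₁ hspan₁ hinj₁ hex₁
  let U : X.affineOpens := X.affineBasicOpen (U := ⟨U₀, hU₀⟩) g
  have hUle : U.1 ≤ U₀ := X.basicOpen_le g
  haveI := hU₀.isLocalization_basicOpen g
  obtain ⟨h1, h2, h3⟩ := hB Γ(X, X.basicOpen g)
  refine ⟨U, ?_, r, φ₁.map (algebraMap R Γ(X, X.basicOpen g)), ?_, h2, h3⟩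
  · have hgu : IsUnit (algebraMap R A g) := IsLocalization.map_units A (⟨g, hg⟩ : P.primeCompl)
    exact (X.mem_basicOpen g (ι.base y) hp).2 hgu
  · refine h1.trans ?_
    exact ι.ker.map_ideal (U := U) (V := ⟨U₀, hU₀⟩) hUle

end Groth.Agent.Synt29.CodimTwo
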