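import Groth.Agent.Synt29.MinorsLift

/-!
A determinantal resolution with flat cokernel stays exact on the special fibre.
-/

universe u

open Matrix IsLocalRing

set_option linter.style.haveILetI false

namespace Groth.Agent.Synt29.MinorsLift

theorem specialExact_of_quotient {C A : Type u} [CommRing C] [IsLocalRing C] [IsArtinianRing C] [CommRing A]
    [Algebra C A] [Module.Flat C A] (J : Ideal C) (hJne : J ≠ ⊤) {r : ℕ} (φ : Matrix (Fin (r + 1)) (Fin r) A)
    (hinj : Function.Injective (φ.map (Ideal.Quotient.mk (J.map (algebraMap C A)))).mulVecLin)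
    (hex : LinearMap.range (φ.map (Ideal.Quotient.mk (J.map (algebraMap C A)))).mulVecLin =
      LinearMap.ker (Fintype.linearCombination (A ⧸ J.map (algebraMap C A))
        (minors (φ.map (Ideal.Quotient.mk (J.map (algebraMap C A)))))))
    (hflat : Module.Flat (C ⧸ J) ((A ⧸ J.map (algebraMap C A)) ⧸
      Ideal.span (Set.range (minors (φ.map (Ideal.Quotient.mk (J.map (algebraMap C A)))))))) :
    SpecialExact (C := C) φ := by
  set AJ := A ⧸ J.map (algebraMap C A)
  set π := Ideal.Quotient.mk (J.map (algebraMap C A)) with hπ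
  set ψ := φ.map π with hψ
  haveI : Nontrivial (C ⧸ J) := Ideal.Quotient.nontrivial_iff.2 hJne
  haveI : IsLocalRing (C ⧸ J) := IsLocalRing.of_surjective' _ (Ideal.Quotient.mk_surjective (I := J))
  haveI : IsArtinianRing (C ⧸ J) := inferInstance
  haveI : Module.Flat (C ⧸ J) AJ :=
    Module.Flat.of_linearEquiv (Algebra.TensorProduct.quotIdealMapEquivQuotTensor A J).toLinearEquiv
  haveI : Module.Free (C ⧸ J) AJ := Groth.Agent.AffDefLib.free_of_flat_artinian (R := C ⧸ J) AJ
  let f : (Fin r → AJ) →ₗ[C ⧸ J] (Fin (r + 1) → AJ) := ψ.mulVecLin.restrictScalars _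
  let g : (Fin (r + 1) → AJ) →ₗ[C ⧸ J] AJ := (Fintype.linearCombination AJ (minors ψ)).restrictScalars _
  have hrange : LinearMap.range g = (Ideal.span (Set.range (minors ψ))).restrictScalars (C ⧸ J) := by
    rw [LinearMap.range_restrictScalars, Fintype.range_linearCombination AJ (minors ψ)]
  haveI : Module.Flat (C ⧸ J) (AJ ⧸ LinearMap.range g) :=
    Module.Flat.of_linearEquiv ((Submodule.quotEquivOfEq _ _ hrange).trans
      (Submodule.Quotient.restrictScalarsEquiv (C ⧸ J) (Ideal.span (Set.range (minors ψ)))))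
  haveI : Module.Free (C ⧸ J) (AJ ⧸ LinearMap.range g) :=
    Groth.Agent.AffDefLib.free_of_flat_artinian (R := C ⧸ J) _
  obtain ⟨t, ht⟩ := Module.projective_lifting_property (LinearMap.range g).mkQ LinearMap.id
    (Submodule.mkQ_surjective _)
  have hp : ∀ y, y - t ((LinearMap.range g).mkQ y) ∈ LinearMap.range g := fun y => by
    rw [← Submodule.Quotient.mk_eq_zero, Submodule.Quotient.mk_sub, sub_eq_zero]
    exact (LinearMap.congr_fun ht ((LinearMap.range g).mkQ y)).symm
  let p : AJ →ₗ[C ⧸ J] LinearMap.range g :=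
    (LinearMap.id - t ∘ₗ (LinearMap.range g).mkQ).codRestrict _ hp
  haveI : Module.Projective (C ⧸ J) (LinearMap.range g) :=
    Module.Projective.of_split (LinearMap.range g).subtype p (LinearMap.ext fun y => Subtype.ext (by
      show (y : AJ) - t (Submodule.Quotient.mk (y : AJ)) = y
      rw [(Submodule.Quotient.mk_eq_zero _).2 y.2, map_zero, sub_zero]))
  obtain ⟨s, hs⟩ := Module.projective_lifting_property g.rangeRestrict LinearMap.id
    (LinearMap.surjective_rangeRestrict g)
  let h0 := s ∘ₗ p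
  have hh0 : ∀ y, g (h0 (g y)) = g y := fun y => by
    have h1 := congrArg Subtype.val (LinearMap.congr_fun hs (p (g y)))
    refine h1.trans ?_
    show g y - t (Submodule.Quotient.mk (g y)) = g y
    rw [(Submodule.Quotient.mk_eq_zero _).2 (LinearMap.mem_range_self g y), map_zero, sub_zero]
  obtain ⟨w, hw⟩ : ∃ w : (Fin (r + 1) → AJ) →ₗ[C ⧸ J] (Fin (r + 1) → AJ), w = LinearMap.id - h0 ∘ₗ g := ⟨_, rfl⟩
  have hwker : ∀ y, w y ∈ LinearMap.range f := fun y => by
    have hk : w y ∈ LinearMap.ker (Fintype.linearCombination AJ (minors ψ)) := by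
      show g (w y) = 0
      rw [hw, LinearMap.sub_apply, map_sub, LinearMap.comp_apply, LinearMap.id_apply, hh0, sub_self]
    rw [← hex] at hk
    exact hk
  let e := LinearEquiv.ofInjective f hinj
  let h1 : (Fin (r + 1) → AJ) →ₗ[C ⧸ J] (Fin r → AJ) := e.symm.toLinearMap ∘ₗ w.codRestrict _ hwker
  have hh1 : ∀ x, h1 (f x) = x := fun x => by
    have hgf : g (f x) = 0 := by
      show Fintype.linearCombination AJ (minors ψ) (ψ *ᵥ x) = 0
      rw [linearCombination_eq]
      exact minors_dot_mulVec ψ x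
    refine e.injective ?_
    rw [LinearMap.comp_apply, LinearEquiv.coe_coe, e.apply_symm_apply]
    refine Subtype.ext ?_
    show w (f x) = f x
    rw [hw, LinearMap.sub_apply, LinearMap.comp_apply, hgf, map_zero, sub_zero, LinearMap.id_apply]
  have hMmap : (maximalIdeal (C ⧸ J)).map (algebraMap (C ⧸ J) AJ) =
      ((maximalIdeal C).map (algebraMap C A)).map π := by
    rw [← IsLocalRing.map_maximalIdeal_of_surjective (Ideal.Quotient.mk J) Ideal.Quotient.mk_surjective,
      Ideal.map_map, Ideal.map_map]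
    rfl
  have hJM : J.map (algebraMap C A) ≤ (maximalIdeal C).map (algebraMap C A) :=
    Ideal.map_mono (IsLocalRing.le_maximalIdeal hJne)
  have hback : ∀ a : A, π a ∈ (maximalIdeal (C ⧸ J)).map (algebraMap (C ⧸ J) AJ) →
      a ∈ (maximalIdeal C).map (algebraMap C A) := fun a ha => by
    rw [hMmap, ← Ideal.mem_comap, Ideal.comap_map_of_surjective' _ Ideal.Quotient.mk_surjective, Ideal.mk_ker,
      sup_eq_left.2 hJM] at ha
    exact ha
  have hforw : ∀ a : A, a ∈ (maximalIdeal C).map (algebraMap C A) →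
      π a ∈ (maximalIdeal (C ⧸ J)).map (algebraMap (C ⧸ J) AJ) := fun a ha => by
    rw [hMmap]
    exact Ideal.mem_map_of_mem π ha
  have hmv : ∀ (x : Fin r → A) i, π ((φ *ᵥ x) i) = (ψ *ᵥ fun j => π (x j)) i := fun x i =>
    RingHom.map_mulVec π φ x i
  refine ⟨fun x hx j => hback _ ?_, fun z hz => ?_⟩
  · have h2 : f (fun j => π (x j)) ∈ (maximalIdeal (C ⧸ J) • ⊤ : Submodule (C ⧸ J) (Fin (r + 1) → AJ)) :=
      (mem_pi_smul_top (C := C ⧸ J) _).2 fun i => by
        show (ψ *ᵥ fun j => π (x j)) i ∈ _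
        rw [← hmv]
        exact hforw _ (hx i)
    have h3 := SplitLift.smul_top_le_comap _ h1 h2
    rw [Submodule.mem_comap, hh1] at h3
    exact (mem_pi_smul_top (C := C ⧸ J) _).1 h3 j
  · obtain ⟨xb, hxb⟩ := hwker (fun i => π (z i))
    choose x hx using fun j => Ideal.Quotient.mk_surjective (xb j)
    refine ⟨x, fun i => hback _ ?_⟩
    have h2 : g (fun i => π (z i)) ∈ (maximalIdeal (C ⧸ J) • ⊤ : Submodule (C ⧸ J) AJ) := by
      rw [Ideal.smul_top_eq_map]
      show Fintype.linearCombination AJ (minors ψ) (fun i => π (z i)) ∈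
        (maximalIdeal (C ⧸ J)).map (algebraMap (C ⧸ J) AJ)
      rw [linearCombination_eq]
      have h := hforw _ hz
      rw [map_sum] at h
      simp only [map_mul, minors_map π φ] at h
      exact h
    have h3 := SplitLift.smul_top_le_comap _ h0 h2
    rw [Submodule.mem_comap] at h3
    have h4 : h0 (g fun i => π (z i)) = fun i => π (z i - (φ *ᵥ x) i) := by
      funext i
      rw [map_sub, hmv, funext hx, show ψ *ᵥ xb = f xb from rfl, hxb, hw]
      simp
    rw [h4] at h3
    exact (mem_pi_smul_top (C := C ⧸ J) _).1 h3 i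

end Groth.Agent.Synt29.MinorsLift

namespace Groth.Agent.Synt29.MinorsLift

open IsLocalRing

/-- Heights are unchanged by a quotient by a nil ideal. -/
theorem height_comap_of_ker_le {A B : Type u} [CommRing A] [CommRing B] (φ : A →+* B)
    (hsurj : Function.Surjective φ) (hker : RingHom.ker φ ≤ nilradical A) (p : Ideal B) [p.IsPrime] :
    (p.comap φ).height = p.height := by
  let f : PrimeSpectrum B → PrimeSpectrum A := PrimeSpectrum.comap φ
  have hle : ∀ a b, f a ≤ f b ↔ a ≤ b := fun a b =>
    ⟨fun h => (Ideal.comap_le_comap_iff_of_surjective φ hsurj _ _).1 h, fun h => Ideal.comap_mono h⟩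
  have hb : Function.Surjective f := fun q => by
    have hq : RingHom.ker φ ≤ q.asIdeal := hker.trans (nilradical_le_prime q.asIdeal)
    haveI := Ideal.map_isPrime_of_surjective hsurj hq
    refine ⟨⟨q.asIdeal.map φ, inferInstance⟩, PrimeSpectrum.ext ?_⟩
    show (q.asIdeal.map φ).comap φ = q.asIdeal
    rw [Ideal.comap_map_of_surjective' _ hsurj, sup_eq_left.2 hq]
  let e : PrimeSpectrum B ≃o PrimeSpectrum A :=
    { toEquiv := Equiv.ofBijective f ⟨PrimeSpectrum.comap_injective_of_surjective φ hsurj, hb⟩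
      map_rel_iff' := hle _ _ }
  rw [show p.height = Order.height (⟨p, ‹_›⟩ : PrimeSpectrum B) from PrimeSpectrum.height_eq_orderHeight ⟨p, ‹_›⟩,
    ← Order.height_orderIso e, ← PrimeSpectrum.height_eq_orderHeight]
  rfl

/-- A deformation of a determinantal ideal of height two is determinantal. -/
theorem exists_lift_of_quotient {C A : Type u} [CommRing C] [IsLocalRing C] [IsArtinianRing C] [CommRing A]
    [Algebra C A] [Module.Flat C A]
    [Algebra.Smooth (C ⧸ maximalIdeal C) (A ⧸ (maximalIdeal C).map (algebraMap C A))]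
    (J : Ideal C) (hJne : J ≠ ⊤) {r : ℕ} (φ : Matrix (Fin (r + 1)) (Fin r) (A ⧸ J.map (algebraMap C A)))
    (hinj : Function.Injective φ.mulVecLin)
    (hex : LinearMap.range φ.mulVecLin =
      LinearMap.ker (Fintype.linearCombination (A ⧸ J.map (algebraMap C A)) (minors φ)))
    (hflat : Module.Flat (C ⧸ J) ((A ⧸ J.map (algebraMap C A)) ⧸ Ideal.span (Set.range (minors φ))))
    (hcodim : ∀ p : Ideal (A ⧸ J.map (algebraMap C A)), p.IsPrime →
      Ideal.span (Set.range (minors φ)) ≤ p → (2 : ℕ∞) ≤ p.height)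
    (I : Ideal A) [Module.Flat C (A ⧸ I)]
    (hI : I.map (Ideal.Quotient.mk (J.map (algebraMap C A))) = Ideal.span (Set.range (minors φ))) :
    ∃ φ' : Matrix (Fin (r + 1)) (Fin r) A, φ'.map (Ideal.Quotient.mk (J.map (algebraMap C A))) = φ ∧
      Ideal.span (Set.range (minors φ')) = I ∧ Function.Injective φ'.mulVecLin ∧
      LinearMap.range φ'.mulVecLin = LinearMap.ker (Fintype.linearCombination A (minors φ')) := by
  choose φ₀ hφ₀ using fun i j => Ideal.Quotient.mk_surjective (φ i j)
  have hmap : (Matrix.of φ₀).map (Ideal.Quotient.mk (J.map (algebraMap C A))) = φ := by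
    ext i j
    exact hφ₀ i j
  have hsp : SpecialExact (C := C) (Matrix.of φ₀) := by
    refine specialExact_of_quotient J hJne _ ?_ ?_ ?_ <;> rw [hmap] <;> assumption
  have hspanJ : (Ideal.span (Set.range (minors (Matrix.of φ₀)))).map (Ideal.Quotient.mk (J.map (algebraMap C A))) =
      Ideal.span (Set.range (minors φ)) := by
    rw [Ideal.map_span, ← Set.range_comp]
    refine congrArg (fun F => Ideal.span (Set.range F)) (funext fun i => ?_)
    rw [Function.comp_apply, minors_map, hmap]
  have hJM : J.map (algebraMap C A) ≤ (maximalIdeal C).map (algebraMap C A) :=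
    Ideal.map_mono (IsLocalRing.le_maximalIdeal hJne)
  obtain ⟨φ', hφ', hspan, hsp'⟩ := exists_lift_matrix J (IsLocalRing.le_maximalIdeal hJne) _ hsp
    (fun p hp hle => by
      have hnil : RingHom.ker (Ideal.Quotient.factor hJM) ≤ nilradical (A ⧸ J.map (algebraMap C A)) := by
        obtain ⟨t, ht⟩ := (isArtinianRing_iff_isNilpotent_maximalIdeal C).1 inferInstance
        intro z hz
        obtain ⟨a, rfl⟩ := Ideal.Quotient.mk_surjective z
        have ha : a ∈ (maximalIdeal C).map (algebraMap C A) := Ideal.Quotient.eq_zero_iff_mem.1 hz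
        refine mem_nilradical.2 ⟨t, ?_⟩
        have h := Ideal.pow_mem_pow ha t
        rw [← Ideal.map_pow, ht, Ideal.zero_eq_bot, Ideal.map_bot, Ideal.mem_bot] at h
        rw [← map_pow, h, map_zero]
      haveI := hp
      rw [← height_comap_of_ker_le _ (Ideal.Quotient.factor_surjective hJM) hnil p]
      refine hcodim _ inferInstance ?_
      rw [← hspanJ, ← Ideal.map_le_iff_le_comap, Ideal.map_map, Ideal.Quotient.factor_comp_mk]
      exact hle) I (hI.trans hspanJ.symm)
  refine ⟨φ', ?_, hspan, (exact_of_special φ' hsp').1, (exact_of_special φ' hsp').2.1⟩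
  rw [← hmap]
  ext i j
  exact Ideal.Quotient.eq.2 (hφ' i j)

end Groth.Agent.Synt29.MinorsLift
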