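import Mathlib
import Groth.Agent.FlatLoc6.Regular
import Groth.Agent.EtGlue7.Flat
import Groth.Agent.RegLoc6.Pd

/-!
# Projective dimension from the closed fibre
-/

set_option autoImplicit false
set_option linter.style.haveILetI false
set_option backward.isDefEq.respectTransparency.types false

universe u

open IsLocalRing TensorProduct Groth.Agent.RegLoc6 Groth.Agent.FlatLoc6

namespace Groth.Agent.Synt29

variable {A B : Type u} [CommRing A] [IsLocalRing A] [CommRing B] [IsLocalRing B] [IsNoetherianRing B] [Algebra A B]
  [IsLocalHom (algebraMap A B)]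

theorem mem_mN_of_flat {L F K : Type u} [AddCommGroup L] [Module B L] [Module A L] [IsScalarTower A B L]
    [AddCommGroup F] [Module B F] [Module A F] [IsScalarTower A B F] [AddCommGroup K] [Module B K] [Module A K]
    [IsScalarTower A B K] [Module.Flat A K] (ι : L →ₗ[B] F) (hι : Function.Injective ι) (g : F →ₗ[B] K)
    (hex : Function.Exact ι g) (hg : Function.Surjective g) {x : L} (hx : ι x ∈ mN A B F) : x ∈ mN A B L := by
  rw [← tmul_one_eq_zero_iff]
  refine EtGlue7.rTensor_injective_of_flat (ι.restrictScalars A) (g.restrictScalars A) hex hg hι (ResidueField A) ?_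
  rw [map_zero]
  exact (tmul_one_eq_zero_iff (B := B) (ι x)).2 hx

theorem subsingleton_of_eq_mN (L : Type u) [AddCommGroup L] [Module B L] [Module.Finite B L]
    (h : ∀ x : L, x ∈ mN A B L) : Subsingleton L := by
  have : (⊤ : Submodule B L) = ⊥ := Submodule.eq_bot_of_le_smul_of_le_jacobson_bot _ _ Module.Finite.fg_top
    (fun x _ => h x) ((IsLocalRing.map_maximalIdeal_le (algebraMap A B)).trans
      (IsLocalRing.maximalIdeal_le_jacobson ⊥))
  exact Submodule.subsingleton_iff B |>.1 (subsingleton_of_bot_eq_top this.symm)

/-- A finite module flat over the base whose closed fibre has finite projective dimension has finite projective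
dimension. -/
theorem pdLE_of_fibre [IsNoetherianRing (B ⧸ (maximalIdeal A).map (algebraMap A B))]
    [IsLocalRing (B ⧸ (maximalIdeal A).map (algebraMap A B))] [Module.Flat A B] : ∀ (n : ℕ) (K : Type u)
    [AddCommGroup K] [Module B K] [Module A K] [IsScalarTower A B K] [Module.Finite B K] [Module.Flat A K],
    PdLE (B ⧸ (maximalIdeal A).map (algebraMap A B)) n (K ⧸ mN A B K) → PdLE B n K := by
  intro n
  induction n with
  | zero =>
    intro K _ _ _ _ _ _ h
    let J := (maximalIdeal A).map (algebraMap A B)
    haveI : Module.Projective (B ⧸ J) (K ⧸ mN A B K) := pdLE_zero_iff.1 h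
    haveI : Module.Finite (B ⧸ J) (K ⧸ mN A B K) := Module.Finite.of_restrictScalars_finite B (B ⧸ J) _
    haveI : Module.Free (B ⧸ J) (K ⧸ mN A B K) := Module.free_of_flat_of_isLocalRing
    let b := Module.finBasis (B ⧸ J) (K ⧸ mN A B K)
    let r := Module.finrank (B ⧸ J) (K ⧸ mN A B K)
    choose x hx using fun i => Submodule.Quotient.mk_surjective (mN A B K) (b i)
    let g : (Fin r → B) →ₗ[B] K := Fintype.linearCombination B x
    have hg : Function.Surjective g := by
      rw [← LinearMap.range_eq_top, eq_top_iff]
      refine Submodule.le_of_le_smul_of_le_jacobson_bot (I := J) Module.Finite.fg_top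
        ((IsLocalRing.map_maximalIdeal_le (algebraMap A B)).trans (IsLocalRing.maximalIdeal_le_jacobson ⊥))
        fun y _ => ?_
      choose c hc using fun i => Ideal.Quotient.mk_surjective (b.repr (Submodule.Quotient.mk y) i)
      refine Submodule.mem_sup.2 ⟨g c, ⟨c, rfl⟩, y - g c, ?_, add_sub_cancel _ _⟩
      rw [← Submodule.Quotient.mk_eq_zero (mN A B K), Submodule.Quotient.mk_sub, sub_eq_zero]
      refine (b.sum_repr _).symm.trans ?_
      rw [Fintype.linearCombination_apply, show (Submodule.Quotient.mk (∑ i, c i • x i) : K ⧸ mN A B K) = (mN A B K).mkQ (∑ i, c i • x i) from rfl, map_sum]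
      refine Finset.sum_congr rfl fun i _ => ?_
      rw [map_smul, ← hc i, Submodule.mkQ_apply, hx, ← Ideal.Quotient.algebraMap_eq, algebraMap_smul]
    haveI : Module.Finite B (LinearMap.ker g) := Module.Finite.iff_fg.2 (IsNoetherian.noetherian _)
    haveI := subsingleton_of_eq_mN (A := A) (LinearMap.ker g) fun c => by
      refine mem_mN_of_flat (LinearMap.ker g).subtype Subtype.val_injective g (LinearMap.exact_subtype_ker_map g) hg ?_
      have h0 : ∑ i, Ideal.Quotient.mk J (c.1 i) • b i = 0 := by
        have := congrArg (mN A B K).mkQ (c.2 : g c.1 = 0)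
        rw [map_zero, Fintype.linearCombination_apply, map_sum] at this
        refine (Finset.sum_congr rfl fun i _ => ?_).trans this
        rw [map_smul, Submodule.mkQ_apply, hx, ← Ideal.Quotient.algebraMap_eq, algebraMap_smul]
      have hci : ∀ i, c.1 i ∈ J := fun i =>
        Ideal.Quotient.eq_zero_iff_mem.1 (Fintype.linearIndependent_iff.1 b.linearIndependent _ h0 i)
      show c.1 ∈ J • (⊤ : Submodule B (Fin r → B))
      rw [pi_eq_sum_univ' c.1]
      exact Submodule.sum_mem _ fun i _ => Submodule.smul_mem_smul (hci i) Submodule.mem_top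
    exact pdLE_of_equiv (LinearEquiv.ofBijective g ⟨LinearMap.ker_eq_bot.1 (Submodule.subsingleton_iff_eq_bot.1 this), hg⟩)
      (pdLE_of_projective 0)
  | succ n ih =>
    intro K _ _ _ _ _ _ h
    let J := (maximalIdeal A).map (algebraMap A B)
    obtain ⟨k, g, hg⟩ := exists_presentation (R := B) (M := K)
    let L := LinearMap.ker g
    haveI : Module.Finite B L := Module.Finite.iff_fg.2 (IsNoetherian.noetherian _)
    haveI : Module.Flat A (Fin k → B) := Module.Flat.trans A B _
    haveI : Module.Flat A L :=
      EtGlue7.flat_ker (L.subtype.restrictScalars A) (g.restrictScalars A) (LinearMap.exact_subtype_ker_map g) hg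
        Subtype.val_injective
    refine (pdLE_succ_iff g hg).2 (ih L ?_)
    let F := Fin k → B
    have hle : mN A B F ≤ (mN A B K).comap g := by
      rw [← Submodule.map_le_iff_le_comap, Submodule.map_smul'']
      exact Submodule.smul_mono le_rfl le_top
    have hle' : mN A B L ≤ (mN A B F).comap L.subtype := by
      rw [← Submodule.map_le_iff_le_comap, Submodule.map_smul'']
      exact Submodule.smul_mono le_rfl le_top
    let gq : (F ⧸ mN A B F) →ₗ[B ⧸ J] (K ⧸ mN A B K) :=
      (Submodule.mapQ _ _ g hle).extendScalarsOfSurjective Ideal.Quotient.mk_surjective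
    let ι : (L ⧸ mN A B L) →ₗ[B ⧸ J] (F ⧸ mN A B F) :=
      (Submodule.mapQ _ _ L.subtype hle').extendScalarsOfSurjective Ideal.Quotient.mk_surjective
    have hgq : Function.Surjective gq := fun v => by
      obtain ⟨m, rfl⟩ := Submodule.Quotient.mk_surjective _ v
      obtain ⟨a, rfl⟩ := hg m
      exact ⟨Submodule.Quotient.mk a, rfl⟩
    have hι : Function.Injective ι := by
      refine (injective_iff_map_eq_zero ι).mpr fun v hv => ?_
      obtain ⟨a, rfl⟩ := Submodule.Quotient.mk_surjective _ v
      exact (Submodule.Quotient.mk_eq_zero _).2 (mem_mN_of_flat L.subtype Subtype.val_injective g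
        (LinearMap.exact_subtype_ker_map g) hg ((Submodule.Quotient.mk_eq_zero _).1 hv))
    have hrange : LinearMap.range ι = LinearMap.ker gq := by
      ext v
      constructor
      · rintro ⟨w, rfl⟩
        obtain ⟨a, rfl⟩ := Submodule.Quotient.mk_surjective _ w
        show (Submodule.Quotient.mk (g a.1) : K ⧸ mN A B K) = 0
        rw [show g a.1 = 0 from a.2, Submodule.Quotient.mk_zero]
      · intro hv
        obtain ⟨a, rfl⟩ := Submodule.Quotient.mk_surjective _ v
        have ha : g a ∈ (mN A B F).map g := by
          rw [Submodule.map_smul'', Submodule.map_top, LinearMap.range_eq_top.2 hg]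
          exact (Submodule.Quotient.mk_eq_zero _).1 hv
        obtain ⟨b, hb, hgb⟩ := ha
        refine ⟨Submodule.Quotient.mk ⟨a - b, by rw [LinearMap.mem_ker, map_sub, hgb, sub_self]⟩, ?_⟩
        show (Submodule.Quotient.mk (a - b) : F ⧸ mN A B F) = _
        rw [Submodule.Quotient.eq, sub_sub_cancel_left]
        exact Submodule.neg_mem _ hb
    haveI : Module.Projective (B ⧸ J) (F ⧸ mN A B F) :=
      Module.Projective.of_equiv
        ((TensorProduct.quotTensorEquivQuotSMul F J).extendScalarsOfSurjective Ideal.Quotient.mk_surjective)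
    exact pdLE_of_equiv ((LinearEquiv.ofInjective ι hι).trans (LinearEquiv.ofEq _ _ hrange)).symm
      (pdLE_ker gq hgq h (pdLE_of_projective n))

end Groth.Agent.Synt29
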