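import Mathlib
import Groth.Prelude.Def_DRing2
import Groth.Agent.TorBridge.Basic
import Groth.Agent.EtGlue7.Flat

/-!
# Syzygies of modules of bounded tor dimension
-/

set_option autoImplicit false
set_option linter.style.haveILetI false
set_option backward.isDefEq.respectTransparency.types false

universe u

open CategoryTheory MonoidalCategory TensorProduct

namespace Groth.Agent.Synt29

variable {A : Type u} [CommRing A]

/-- `M ⊗ Q` is exact in degree `i + 1`. -/
def TorExact (M : Type u) [AddCommGroup M] [Module A M] {N : ModuleCat.{u} A} (Q : ProjectiveResolution N) (i : ℕ) : Prop :=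
  Function.Exact ((Q.complex.d (i + 2) (i + 1)).hom.lTensor M) ((Q.complex.d (i + 1) i).hom.lTensor M)

theorem torExact_iff (M : Type u) [AddCommGroup M] [Module A M] {N : ModuleCat.{u} A} (Q : ProjectiveResolution N)
    (i : ℕ) : TorExact M Q i ↔ Limits.IsZero (((Tor (ModuleCat.{u} A) (i + 1)).obj (ModuleCat.of A M)).obj N) := by
  let G : ModuleCat.{u} A ⥤ ModuleCat.{u} A := (tensoringLeft (ModuleCat.{u} A)).obj (ModuleCat.of A M)
  show _ ↔ Limits.IsZero ((G.leftDerived (i + 1)).obj N)
  rw [Iso.isZero_iff (Q.isoLeftDerivedObj G (i + 1))]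
  show _ ↔ Limits.IsZero (((G.mapHomologicalComplex _).obj Q.complex).homology (i + 1))
  rw [← HomologicalComplex.exactAt_iff_isZero_homology,
    HomologicalComplex.exactAt_iff' _ (i + 2) (i + 1) i (by simp) (by simp),
    ShortComplex.ShortExact.moduleCat_exact_iff_function_exact]
  rfl

/-- The syzygy of a module with bounded tor dimension for a flat cover has smaller tor dimension. -/
theorem torExact_ker {M F : Type u} [AddCommGroup M] [Module A M] [AddCommGroup F] [Module A F] [Module.Flat A F]
    (q : F →ₗ[A] M) (hq : Function.Surjective q) {N : ModuleCat.{u} A} (Q : ProjectiveResolution N) (i : ℕ)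
    (h : TorExact M Q (i + 1)) : TorExact (LinearMap.ker q) Q i := by
  haveI : ∀ j, Module.Projective A (Q.complex.X j) := fun j => (IsProjective.iff_projective _).2 (Q.projective j)
  let ι := (LinearMap.ker q).subtype
  let X : ℕ → Type u := fun j => Q.complex.X j
  let d : ∀ j, Q.complex.X (j + 1) →ₗ[A] Q.complex.X j := fun j => (Q.complex.d (j + 1) j).hom
  have hdd : ∀ j, (d j).comp (d (j + 1)) = 0 := fun j =>
    congrArg ModuleCat.Hom.hom (Q.complex.d_comp_d (j + 2) (j + 1) j)
  have hι : ∀ j, Function.Injective (ι.rTensor (Q.complex.X j)) := fun j =>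
    Module.Flat.rTensor_preserves_injective_linearMap (M := Q.complex.X j) ι Subtype.val_injective
  have hFex : Function.Exact ((d (i + 1)).lTensor F) ((d i).lTensor F) :=
    Module.Flat.lTensor_exact F ((ShortComplex.ShortExact.moduleCat_exact_iff_function_exact _).1 (Q.exact_succ i))
  have hrow : ∀ j, Function.Exact (ι.rTensor (Q.complex.X j)) (q.rTensor (Q.complex.X j)) := fun j =>
    rTensor_exact _ (LinearMap.exact_subtype_ker_map q) hq
  have hcomm : ∀ {V W : Type u} [AddCommGroup V] [Module A V] [AddCommGroup W] [Module A W] {a b : ℕ}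
      (f : V →ₗ[A] W) (g : Q.complex.X a →ₗ[A] Q.complex.X b) (x : V ⊗[A] Q.complex.X a),
      f.rTensor _ (g.lTensor V x) = g.lTensor W (f.rTensor _ x) := fun f g x => EtGlue7.rTensor_lTensor_comm f g x
  intro z
  constructor
  · intro hz
    obtain ⟨w, hw⟩ := (hFex (ι.rTensor _ z)).1 (by
      rw [← hcomm]
      show ι.rTensor _ ((d i).lTensor _ z) = 0
      rw [show (d i).lTensor _ z = 0 from hz, map_zero])
    have hcyc : (d (i + 1)).lTensor M (q.rTensor _ w) = 0 := by
      rw [← hcomm, hw]
      exact (hrow _).apply_apply_eq_zero z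
    obtain ⟨v, hv⟩ := (h (q.rTensor _ w)).1 hcyc
    obtain ⟨v', rfl⟩ := LinearMap.rTensor_surjective (Q.complex.X (i + 3)) hq v
    obtain ⟨y, hy⟩ := (hrow _ (w - (d (i + 2)).lTensor F v')).1 (by
      rw [map_sub, hcomm]
      exact sub_eq_zero.2 hv.symm)
    refine ⟨y, hι (i + 1) ?_⟩
    show ι.rTensor _ ((d (i + 1)).lTensor _ y) = _
    rw [hcomm, hy, map_sub, ← LinearMap.lTensor_comp_apply, hdd, LinearMap.lTensor_zero, LinearMap.zero_apply,
      sub_zero, hw]
  · rintro ⟨y, rfl⟩
    show (d i).lTensor _ ((d (i + 1)).lTensor _ y) = 0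
    rw [← LinearMap.lTensor_comp_apply, hdd, LinearMap.lTensor_zero, LinearMap.zero_apply]

/-- Bounded tor dimension, in terms of projective resolutions. -/
def TorExactFrom (A : Type u) [CommRing A] (d : ℕ) (M : Type u) [AddCommGroup M] [Module A M] : Prop :=
  ∀ (N : ModuleCat.{u} A) (Q : ProjectiveResolution N) (i : ℕ), d ≤ i → TorExact M Q i

theorem torExactFrom_of_hasTorDimLE {d : ℕ} {M : Type u} [AddCommGroup M] [Module A M]
    (h : DRing.HasTorDimLE A d M) : TorExactFrom A d M := fun N Q i hi => by
  rw [torExact_iff]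
  exact ModuleCat.isZero_iff_subsingleton.2 (h N (i + 1) (by omega))

theorem torExactFrom_ker {d : ℕ} {M F : Type u} [AddCommGroup M] [Module A M] [AddCommGroup F] [Module A F]
    [Module.Flat A F] (q : F →ₗ[A] M) (hq : Function.Surjective q) (h : TorExactFrom A (d + 1) M) :
    TorExactFrom A d (LinearMap.ker q) :=
  fun N Q i hi => torExact_ker q hq Q i (h N Q (i + 1) (by omega))

theorem flat_of_torExactFrom_zero {M : Type u} [AddCommGroup M] [Module A M] (h : TorExactFrom A 0 M) :
    Module.Flat A M := by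
  let q : (M →₀ A) →ₗ[A] M := Finsupp.linearCombination A id
  have hq : Function.Surjective q := fun m => ⟨Finsupp.single m 1, by simp [q]⟩
  refine EtGlue7.flat_of_rTensor_injective (A := A) (Z := ↥(LinearMap.ker q)) (G := M →₀ A) (L := M) (LinearMap.ker q).subtype q (LinearMap.exact_subtype_ker_map q) hq
    fun C _ _ => ?_
  exact (TorBridge.isZero_tor_one_iff C M q hq).1 ((torExact_iff M (ProjectiveResolution.of (ModuleCat.of A C)) 0).1
    (h _ _ 0 le_rfl))

end Groth.Agent.Synt29
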