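import Mathlib
import Groth.Agent.Synt29.PnHodge
import Groth.Agent.Synt29.PnBott
import Groth.Agent.Lib.PnDualTwistAdj
import Groth.Agent.Lib.PnDualExtPn
import Groth.Agent.Lib.RegularResolution
import Groth.Agent.GeomField.GlobalFunctions
import Groth.Agent.H28.PullVB
import Groth.Prelude.Def_KLin

/-! The cotangent bundle of projective space has no trivial quotient; morphisms between twists. -/

set_option autoImplicit false
set_option linter.style.haveILetI false
set_option linter.unusedSectionVars false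
set_option backward.isDefEq.respectTransparency false
set_option backward.isDefEq.respectTransparency.types false
set_option maxHeartbeats 1600000

universe u

open CategoryTheory CategoryTheory.Limits AlgebraicGeometry TopologicalSpace Opposite
open CategoryTheory.Abelian

noncomputable section

namespace Groth.Agent.Synt29.PnRigid

open Groth.Agent Groth.Agent.H23.PicMul

section General

variable (A : Type u) [CommRing A] {X : Scheme.{u}} [X.Over (Spec (CommRingCat.of A))]

include A in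
/-- A module whose exterior powers are this acyclic has no trivial quotient. -/
theorem not_epi {E : X.Modules} (hE : FlatMod.IsFinLocFree E) (m : ℕ)
    (hz : ∀ p, m ≤ p → IsZero (H28.ExtBase.L E (p + 1)))
    (hv : ∀ p q, q ≠ p + 1 → Subsingleton (Coh.HH X (H28.ExtBase.L E (p + 1)) q))
    (hO : ¬ Subsingleton (Coh.HH X (Coh.structureModule X) 0))
    (f : E ⟶ Coh.structureModule X) : ¬ Epi f := by
  intro hf
  let S : ShortComplex X.Modules := ShortComplex.mk (kernel.ι f) f (kernel.condition f)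
  have hS : S.ShortExact := KZ.kerSeq_shortExact f
  have h1 : FlatMod.IsFinLocFreeOfRank 1 (Coh.structureModule X) :=
    InvEnd.isFinLocFreeOfRank_one InvX.isInvertible_structureModule
  have hK : FlatMod.IsFinLocFree (kernel f) :=
    KFlatLib.isFinLocFree_kernel f hE (PnEuler.isFinLocFree_of_rank h1)
  have hc1 : PicF.cl (Coh.structureModule X) = 1 := (one_def (X := X)).symm
  suffices h : ∀ c p, m ≤ p + c → ∀ M : X.Modules, PicF.cl M = PicF.cl (H28.ExtBase.L (kernel f) p) →
      ∀ q, q ≠ p + 1 → Subsingleton (Coh.HH X M q) by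
    refine hO (h m 0 (by omega) _ ?_ 0 (by omega))
    obtain ⟨e⟩ := H28.ExtSh.nonempty_iso_L hK (H28.KvbLam.isExtPow_zero (kernel f))
    exact cl_eq_iff.2 ⟨e.symm⟩
  intro c
  induction c with
  | zero =>
    intro p hp M hM q _
    obtain ⟨T, hT, -, hT2, hT3⟩ := PnEuler.exists_ses_of_rank_one hS hK h1 p
    rw [show PicF.cl S.X₃ = 1 from hc1, mul_one] at hT3
    obtain ⟨e⟩ := cl_eq_iff.1 hT2
    obtain ⟨e'⟩ := cl_eq_iff.1 (hT3.trans hM.symm)
    haveI := hT.epi_g
    have h0 : IsZero T.X₂ := (hz p (by omega)).of_iso e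
    exact Euler.subsingleton_HH_of_isZero (IsZero.of_iso (IsZero.of_epi T.g h0) e'.symm) q
  | succ c ih =>
    intro p hp M hM q hq
    obtain ⟨T, hT, hT1, hT2, hT3⟩ := PnEuler.exists_ses_of_rank_one hS hK h1 p
    rw [show PicF.cl S.X₃ = 1 from hc1, mul_one] at hT3
    obtain ⟨e⟩ := cl_eq_iff.1 hT2
    obtain ⟨e'⟩ := cl_eq_iff.1 (hT3.trans hM.symm)
    refine QCoh.subsingleton_HH_of_iso e' q ?_
    exact PnHodge.subsingleton_right A hT q (QCoh.subsingleton_HH_of_iso e.symm q (hv p q hq))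
      (ih (p + 1) (by omega) _ hT1 (q + 1) (by omega))

end General

variable (n : ℕ) (k : Type u) [Field k] [QuasiSeparated (CohB1.ProjSpace.toSpec n k)]

local notation "P" => CohB1.ProjSpace n k
local notation "Ω" => Omega.sheaf (CohB1.ProjSpace.toSpec n k)

local instance : (CohB1.ProjSpace n k).Over (Spec (CommRingCat.of k)) :=
  ⟨CohB1.ProjSpace.toSpec n k⟩

theorem not_subsingleton_h0 :
    ¬ Subsingleton (Coh.HH (CohB1.ProjSpace n k) (Coh.structureModule (CohB1.ProjSpace n k)) 0) := by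
  intro h
  obtain ⟨e⟩ := cl_eq_iff.1 ((PnEuler.tw_zero n k).trans one_def)
  have h' : Subsingleton (Coh.HH (CohB1.ProjSpace n k) (Twist.twistProjSpace n k ((0 : ℕ) : ℤ)) 0) :=
    QCoh.subsingleton_HH_of_iso (by simpa using e.symm) 0 h
  have := (PnBott.h0_line n k 0).2
  rw [Module.finrank_zero_of_subsingleton] at this
  simp at this

/-- `Ω` has no trivial quotient. -/
theorem not_epi_omega (f : Ω ⟶ Coh.structureModule (CohB1.ProjSpace n k)) : ¬ Epi f := by
  refine not_epi k (PnEuler.isFinLocFree_of_rank (PnEuler.rank_omega n k)) n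
    (fun p hp => H28.KvbModel.isZero_L (PnEuler.rank_omega n k) (by omega))
    (fun p q hq => ?_) (not_subsingleton_h0 n k) f
  by_cases hp : n < p + 1
  · exact Euler.subsingleton_HH_of_isZero (H28.KvbModel.isZero_L (PnEuler.rank_omega n k) hp) q
  · exact PnHodge.vanish_nonpos n k 0 le_rfl (p + 1) q (fun _ => by omega) (fun h => hq h.2.symm) _
      ((one_mul _).symm.trans (congrArg (· * PicF.cl (H28.ExtBase.L Ω (p + 1))) (PnEuler.tw_zero n k).symm))

open Groth.Agent.PnCoh Groth.Agent.PnCoh.Finite Groth.Agent.PnDual in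
/-- `Ext` out of a twist is cohomology of the opposite twist. -/
theorem ext_twist [HasExt.{u} (CohB1.ProjSpace n k).Modules] (d : ℤ) (M : (CohB1.ProjSpace n k).Modules) (q : ℕ)
    (h : ∀ M' : (CohB1.ProjSpace n k).Modules, PicF.cl M' = PicF.cl M * PnEuler.tw n k (-d) →
      Subsingleton (Coh.HH (CohB1.ProjSpace n k) M' q)) :
    Subsingleton (Ext.{u} (Twist.twistProjSpace n k d) M q) := by
  haveI : HasExt.{u} (Proj (CohB1.polyGrading n k)).Modules := ‹HasExt.{u} (CohB1.ProjSpace n k).Modules›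
  let E := PnDual.twistEquivalence (coordsR k n) coordsR_mem coordsR_cover d (-d) (add_neg_cancel d)
  haveI : E.functor.IsEquivalence := E.isEquivalence_functor
  haveI : E.inverse.IsEquivalence := E.isEquivalence_inverse
  haveI : E.inverse.Additive := Functor.additive_of_preserves_binary_products _
  haveI : EnoughInjectives (Proj (CohB1.polyGrading n k)).Modules :=
    inferInstanceAs (EnoughInjectives (SheafOfModules _))
  let i : E.functor.obj (Coh.structureModule (Proj (CohB1.polyGrading n k))) ≅ Twist.twist (CohB1.polyGrading n k) d :=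
    (DCoh.tensorBi.mapIso (@asIso _ _ _ _ _ (isIso_oneHom (coordsR k n) coordsR_mem coordsR_cover))).app
        (Twist.twist (CohB1.polyGrading n k) d) ≪≫
      (twist_tensor_iso (coordsR k n) coordsR_mem coordsR_cover 0 d).some ≪≫ eqToIso (by rw [zero_add])
  obtain ⟨e₁⟩ := SiteBase.nonempty_ext_addEquiv_of_adjunction E.toAdjunction i q M
  obtain ⟨e₂⟩ := SiteBase.nonempty_ext_unit_addEquiv (R := (Proj (CohB1.polyGrading n k)).ringCatSheaf)
    (E.inverse.obj M) q
  have hs : Subsingleton (Coh.HH (Proj (CohB1.polyGrading n k)) (E.inverse.obj M) q) :=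
    h (E.inverse.obj M) (PnEuler.cl_tens M (Twist.twistProjSpace n k (-d)))
  exact (e₁.trans e₂).toEquiv.subsingleton_congr.2 hs

theorem hasExt : HasExt.{u} (CohB1.ProjSpace n k).Modules :=
  haveI : IsGrothendieckAbelian.{u} (CohB1.ProjSpace n k).Modules :=
    inferInstanceAs (IsGrothendieckAbelian.{u} (SheafOfModules.{u} (CohB1.ProjSpace n k).ringCatSheaf))
  IsGrothendieckAbelian.hasExt _

/-- Morphisms out of a twist vanish with the sections of the opposite twist. -/
theorem hom_twist_eq_zero {M : (CohB1.ProjSpace n k).Modules} (d : ℤ) (f : Twist.twistProjSpace n k d ⟶ M)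
    (h : ∀ M' : (CohB1.ProjSpace n k).Modules, PicF.cl M' = PicF.cl M * PnEuler.tw n k (-d) →
      Subsingleton (Coh.HH (CohB1.ProjSpace n k) M' 0)) : f = 0 := by
  haveI := hasExt n k
  exact (Ext.mk₀_bijective _ _).1 ((ext_twist n k d M 0 h).elim _ _)

/-- Extending a morphism along a short exact sequence whose quotient is a twist. -/
theorem exists_extend {S : ShortComplex (CohB1.ProjSpace n k).Modules} (hS : S.ShortExact) (d : ℤ)
    (e : S.X₃ ≅ Twist.twistProjSpace n k d) {M : (CohB1.ProjSpace n k).Modules} (f : S.X₁ ⟶ M)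
    (h : ∀ M' : (CohB1.ProjSpace n k).Modules, PicF.cl M' = PicF.cl M * PnEuler.tw n k (-d) →
      Subsingleton (Coh.HH (CohB1.ProjSpace n k) M' 1)) : ∃ g : S.X₂ ⟶ M, S.f ≫ g = f := by
  haveI := hasExt n k
  have h0 : hS.extClass.comp (Ext.mk₀ f) (add_zero 1) = 0 := by
    have h1 : (Ext.mk₀ e.inv).comp (hS.extClass.comp (Ext.mk₀ f) (add_zero 1)) (zero_add 1) = 0 :=
      (ext_twist n k d M 1 h).elim _ _
    have h2 := congrArg (fun z => (Ext.mk₀ e.hom).comp z (zero_add 1)) h1
    simpa using h2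
  obtain ⟨g, hg⟩ := Ext.contravariant_sequence_exact₁ hS M (Ext.mk₀ f) (add_zero 1) h0
  obtain ⟨g, rfl⟩ := (Ext.mk₀_bijective _ _).2 g
  rw [Ext.mk₀_comp_mk₀] at hg
  exact ⟨g, (Ext.mk₀_bijective _ _).1 hg⟩

attribute [local instance] GeomField.globalAlgebra in
theorem toGlobal_surjective : Function.Surjective
    (Coh.toGlobal ((CohB1.ProjSpace n k) ↘ Spec (CommRingCat.of k))) := by
  obtain ⟨e⟩ := cl_eq_iff.1 ((PnEuler.tw_zero n k).trans one_def)
  have h1 := (PnHodge.equivLin k e 0).finrank_eq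
  have h2 := (PnBott.h0_line n k 0).2
  rw [GeomField.finrank_HH_zero, ] at h1
  simp only [Nat.cast_zero, Nat.choose_zero_right] at h2
  have h3 : Module.finrank k Γ(CohB1.ProjSpace n k, ⊤) = 1 := h1.symm.trans h2
  haveI := Module.nontrivial_of_finrank_eq_succ h3
  intro r
  obtain ⟨c, hc⟩ := exists_smul_eq_of_finrank_eq_one h3 (one_ne_zero : (1 : Γ(CohB1.ProjSpace n k, ⊤)) ≠ 0) r
  exact ⟨c, by rw [← hc, Algebra.smul_def, mul_one]; rfl⟩

/-- The endomorphisms of the structure sheaf are scalars. -/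
theorem exists_smul_id_one (γ : Coh.structureModule (CohB1.ProjSpace n k) ⟶ Coh.structureModule (CohB1.ProjSpace n k)) :
    ∃ c : k, γ = c • 𝟙 (Coh.structureModule (CohB1.ProjSpace n k)) := by
  obtain ⟨c, hc⟩ := toGlobal_surjective n k (InvX.one γ)
  refine ⟨c, (SheafOfModules.unitHomEquiv _).injective (Subtype.ext (funext fun V => ?_))⟩
  show γ.app V.unop (1 : Γ(CohB1.ProjSpace n k, V.unop)) =
    (c • 𝟙 (Coh.structureModule (CohB1.ProjSpace n k))).app V.unop (1 : Γ(CohB1.ProjSpace n k, V.unop))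
  rw [KLin.smul_id]
  refine Eq.trans ?_ (KLin.smulModΓ_app_apply _ _ V.unop _).symm
  show γ.app V.unop (1 : Γ(CohB1.ProjSpace n k, V.unop)) =
    @HMul.hMul Γ(CohB1.ProjSpace n k, V.unop) Γ(CohB1.ProjSpace n k, V.unop) Γ(CohB1.ProjSpace n k, V.unop) _
      ((CohB1.ProjSpace n k).presheaf.map (homOfLE (le_top : V.unop ≤ ⊤)).op
        (Coh.toGlobal ((CohB1.ProjSpace n k) ↘ Spec (CommRingCat.of k)) c)) 1
  rw [mul_one, hc]
  have h := congr($(γ.mapPresheaf.naturality (homOfLE (le_top : V.unop ≤ ⊤)).op) (1 : Γ(CohB1.ProjSpace n k, ⊤)))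
  refine Eq.trans (congrArg (γ.app V.unop)
    (map_one ((CohB1.ProjSpace n k).presheaf.map (homOfLE (le_top : V.unop ≤ ⊤)).op).hom).symm) (h.trans ?_)
  rfl

/-- The endomorphisms of a twist are scalars. -/
theorem exists_smul_id {M : (CohB1.ProjSpace n k).Modules} (e : M ≅ Coh.structureModule (CohB1.ProjSpace n k))
    (γ : M ⟶ M) : ∃ c : k, γ = c • 𝟙 M := by
  obtain ⟨c, hc⟩ := exists_smul_id_one n k (e.inv ≫ γ ≫ e.hom)
  refine ⟨c, ?_⟩
  rw [← cancel_mono e.hom, ← cancel_epi e.inv, hc]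
  simp

/-- `Ω` is simple. -/
theorem exists_smul_omega (φ : Ω ⟶ Ω) : ∃ c : k, φ = c • 𝟙 Ω := by
  obtain ⟨T, hT, h1, h3, N, a, b, -, hab, -⟩ := PnEuler.exists_euler' n k 0 0
  obtain ⟨e1'⟩ := H28.ExtSh.nonempty_iso_L (PnEuler.isFinLocFree_of_rank (PnEuler.rank_omega n k))
    (H28.KvbLam.isExtPow_one Ω)
  have h1Ω : PicF.cl T.X₁ = PicF.cl Ω := by
    rw [h1, PnEuler.hodge, PnEuler.tw_zero, one_mul]
    exact cl_eq_iff.2 ⟨e1'⟩
  obtain ⟨e1⟩ := cl_eq_iff.1 h1Ω
  rw [PnEuler.hodge_zero, PnEuler.tw_zero, one_def] at h3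
  obtain ⟨e3⟩ := cl_eq_iff.1 h3
  obtain ⟨e0⟩ := cl_eq_iff.1 ((PnEuler.tw_zero n k).trans one_def)
  obtain ⟨θ, hθ⟩ := exists_extend n k hT 0 (e3 ≪≫ e0.symm) (e1.hom ≫ φ ≫ e1.inv ≫ T.f) (fun M hM => by
    rw [neg_zero, PnEuler.tw_zero, mul_one] at hM
    obtain ⟨eM⟩ := cl_eq_iff.1 hM
    exact QCoh.subsingleton_HH_of_iso eM.symm 1 (PnHodge.vanish_mid n k ⟨N, a, b, hab⟩ 1 (by simp)
      (fun h => by push_cast at h; omega)))
  haveI := hT.epi_g
  haveI := hT.mono_f
  obtain ⟨γ, hγ⟩ := CokernelCofork.IsColimit.desc' hT.gIsCokernel (θ ≫ T.g) (by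
    rw [reassoc_of% hθ, T.zero]; simp)
  obtain ⟨c, rfl⟩ := exists_smul_id n k e3 γ
  have h0 : (θ - c • 𝟙 T.X₂) ≫ T.g = 0 := by
    have hγ' : T.g ≫ (c • 𝟙 T.X₃) = θ ≫ T.g := hγ
    simp [Preadditive.sub_comp, ← hγ']
  obtain ⟨u, hu⟩ := KernelFork.IsLimit.lift' hT.fIsKernel _ h0
  have hz : ∀ j, b j ≫ u = 0 := fun j => hom_twist_eq_zero n k _ _ fun M hM => by
    refine PnHodge.vanish_pos n k 1 one_pos n 1 0 (by omega) (fun _ => le_rfl) M ?_
    change PicF.cl M = PicF.cl T.X₁ * _ at hM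
    rw [hM, h1, PnEuler.hodge, mul_right_comm, PnEuler.tw_add]
    norm_num
  have hu0 : u = 0 := by
    rw [← Category.id_comp u, ← hab, Preadditive.sum_comp]
    exact Finset.sum_eq_zero fun j _ => by rw [Category.assoc, hz j, comp_zero]
  rw [hu0, zero_comp] at hu
  have hθc : θ = c • 𝟙 T.X₂ := sub_eq_zero.1 hu.symm
  refine ⟨c, ?_⟩
  have h := hθ.symm.trans (congrArg (T.f ≫ ·) hθc)
  simp only [Linear.comp_smul, Category.comp_id] at h
  have h' : e1.hom ≫ φ ≫ e1.inv = c • 𝟙 T.X₁ := by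
    rw [← cancel_mono T.f]
    simpa using h
  rw [← cancel_epi e1.hom, ← cancel_mono e1.inv, Category.assoc, h']
  simp

end Groth.Agent.Synt29.PnRigid
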