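import Groth.Agent.SeesawX.PicPn
import Groth.Agent.Synt29.PnRigid
import Groth.Agent.VarDim.Proj
import Groth.Agent.ProjUPX.Unique
import Groth.Agent.TwistX.Global
import Groth.Agent.PnCoh.TwistH0
import Groth.Agent.PnCoh.Finite.TwistInv
import Groth.Agent.SegreX.Coord
import Groth.Agent.PnCoh.Chow.Proper

/-!
# Morphisms from `P^n` to `P^m` for `m < n` are constant
-/

set_option autoImplicit false
set_option backward.isDefEq.respectTransparency false
set_option backward.isDefEq.respectTransparency.types false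
set_option linter.style.haveILetI false
set_option maxHeartbeats 800000

universe u

open CategoryTheory AlgebraicGeometry TopologicalSpace Opposite HomogeneousLocalization Order

noncomputable section

namespace Groth.Agent.Synt29.PnConst

open Groth.Agent

theorem exists_factor_of_isIso_appTop {X Y U : Scheme.{u}} [IsAffine U] [IsAffine Y] (p : X ⟶ Y)
    [IsIso p.appTop] (g : X ⟶ U) : ∃ q : Y ⟶ U, g = p ≫ q := by
  refine ⟨Y.isoSpec.hom ≫ Spec.map (g.appTop ≫ inv p.appTop) ≫ U.isoSpec.inv, ?_⟩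
  rw [← cancel_mono U.isoSpec.hom]
  simp only [Category.assoc, Iso.inv_hom_id, Category.comp_id]
  change g ≫ U.toSpecΓ = p ≫ Y.toSpecΓ ≫ Spec.map (g.appTop ≫ inv p.appTop)
  rw [Scheme.toSpecΓ_naturality, Scheme.toSpecΓ_naturality_assoc, ← Spec.map_comp, Category.assoc,
    IsIso.inv_hom_id, Category.comp_id]

variable {k : Type u} [Field k]

local notation "A" n => MvPolynomial (Fin (n + 1)) k

theorem isIso_toSpec_appTop (n : ℕ) : IsIso (CohB1.ProjSpace.toSpec n k).appTop := by
  haveI := PnCoh.Chow.isProper_toSpec n k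
  haveI : IsIso (Scheme.ΓSpecIso (CommRingCat.of k)).inv := inferInstance
  suffices IsIso ((Scheme.ΓSpecIso (CommRingCat.of k)).inv ≫ (CohB1.ProjSpace.toSpec n k).appTop) from
    IsIso.of_isIso_comp_left (Scheme.ΓSpecIso (CommRingCat.of k)).inv _
  obtain ⟨x, -⟩ := VarDim.ProjN.exists_bot_point (k := k) (n := n)
  haveI : Nonempty (CohB1.ProjSpace n k) := ⟨x⟩
  haveI : Nontrivial Γ(CohB1.ProjSpace n k, ⊤) :=
    ((CohB1.ProjSpace n k).presheaf.germ ⊤ x trivial).hom.domain_nontrivial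
  exact (ConcreteCategory.isIso_iff_bijective _).2 ⟨RingHom.injective (CommRingCat.Hom.hom
    ((Scheme.ΓSpecIso (CommRingCat.of k)).inv ≫ (CohB1.ProjSpace.toSpec n k).appTop)),
    Synt29.PnRigid.toGlobal_surjective n k⟩

theorem exists_irrelevant_notMem {n : ℕ} (x : ProjectiveSpectrum (CohB1.polyGrading n k)) :
    ∃ j : Fin (n + 1), (MvPolynomial.X j : A n) ∉ x.asHomogeneousIdeal := by
  by_contra! h
  exact x.not_irrelevant_le ((SegreX.irrelevant_le_span n k).trans
    (Ideal.span_le.2 (Set.range_subset_iff.2 h)))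

/-- A form which generates `O(d)` near `x` does not vanish at `x`. -/
theorem notMem_of_isFrame {n d : ℕ} {F : A n} (hF : F ∈ CohB1.polyGrading n k d)
    {U : (Proj (CohB1.polyGrading n k)).Opens} (x : U)
    (h : InvX.IsFrame (AModX.res (Twist.twist (CohB1.polyGrading n k) (d : ℤ)) (le_top : U ≤ ⊤)
      (Twist.globalOf (CohB1.polyGrading n k) ⟨F, hF⟩))) : F ∉ x.1.asHomogeneousIdeal := by
  intro hx
  obtain ⟨j, hj⟩ := exists_irrelevant_notMem x.1
  have hT : (MvPolynomial.X j : A n) ^ d ∈ CohB1.polyGrading n k d := by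
    simpa using SetLike.pow_mem_graded d (ProjPt.X_mem (R := k) j)
  obtain ⟨c, hc⟩ := h.exists_coord le_rfl (AModX.res (Twist.twist (CohB1.polyGrading n k) (d : ℤ))
    (le_top : U ≤ ⊤) (Twist.globalOf (CohB1.polyGrading n k) ⟨_, hT⟩))
  rw [AModX.res_self] at hc
  have h1 : (Localization.mk ((MvPolynomial.X j : A n) ^ d) 1 : Twist.Loc (CohB1.polyGrading n k) x.1) =
      (c.1 x).val * Localization.mk F 1 :=
    (congrArg (fun s : Twist.sectN (𝒜 := CohB1.polyGrading n k) (d : ℤ) (op U) => (s.1 x).1) hc).trans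
      (Twist.coe_smul_val _ _ _ _)
  rw [Localization.mk_one_eq_algebraMap, Localization.mk_one_eq_algebraMap] at h1
  have h2 : algebraMap (A n) (Twist.Loc (CohB1.polyGrading n k) x.1) ((MvPolynomial.X j) ^ d) ∈
      IsLocalRing.maximalIdeal _ := by
    rw [h1]
    exact Ideal.mul_mem_left _ _ ((IsLocalization.AtPrime.to_map_mem_maximal_iff _ _ F).2 hx)
  exact hj (x.1.isPrime.mem_of_pow_mem d ((IsLocalization.AtPrime.to_map_mem_maximal_iff _ _ _).1 h2))

/-- At most `n` forms of positive degree have a common zero in `P^n`. -/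
theorem exists_common_zero {n r d : ℕ} (hr : r ≤ n) (hd : 0 < d) (F : Fin r → A n)
    (hF : ∀ i, F i ∈ CohB1.polyGrading n k d) :
    ∃ x : ProjectiveSpectrum (CohB1.polyGrading n k), ∀ i, F i ∈ x.asHomogeneousIdeal := by
  classical
  let J : Ideal (A n) := Ideal.span (Finset.univ.image F : Finset _)
  have hJ : J.IsHomogeneous (CohB1.polyGrading n k) := Ideal.homogeneous_span _ _ fun a ha => by
    obtain ⟨i, -, rfl⟩ := Finset.mem_image.1 (Finset.mem_coe.1 ha)
    exact ⟨d, hF i⟩
  have hJle : J ≤ VarDim.ProjN.vertex k n := Ideal.span_le.2 fun a ha => by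
    obtain ⟨i, -, rfl⟩ := Finset.mem_image.1 (Finset.mem_coe.1 ha)
    show MvPolynomial.constantCoeff (F i) = 0
    rw [MvPolynomial.constantCoeff_eq]
    exact MvPolynomial.IsHomogeneous.coeff_eq_zero (hF i) (by rw [map_zero]; omega)
  obtain ⟨P, hP, -⟩ := Ideal.exists_minimalPrimes_le hJle
  have hne : P ≠ VarDim.ProjN.vertex k n := by
    rintro rfl
    have h1 := Ideal.height_le_card_of_mem_minimalPrimes_span_finset hP
    have h2 := VarDim.ProjN.height_add_coheight_pp (k := k) (n := n) (VarDim.ProjN.vertexPoint k n)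
    rw [VarDim.ProjN.coheight_vertexPoint, add_zero, ← PrimeSpectrum.height_eq_orderHeight] at h2
    rw [show VarDim.ProjN.vertex k n = (VarDim.ProjN.vertexPoint k n).asIdeal from rfl, h2] at h1
    have h3 : n + 1 ≤ r := (show n + 1 ≤ (Finset.univ.image F).card by exact_mod_cast h1).trans
      (Finset.card_image_le.trans (by simp))
    omega
  obtain ⟨x, hx⟩ := VarDim.ProjN.exists_point_minimal hJ hP hne
  exact ⟨x, fun i => hx.ge (hP.1.2 (Ideal.subset_span (Finset.mem_coe.2
    (Finset.mem_image.2 ⟨i, Finset.mem_univ _, rfl⟩))))⟩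

/-- A morphism from `P^n` whose image avoids the common zeros of at most `n` linear forms is constant. -/
theorem exists_factor_of_linearForms {n m r : ℕ} (hrn : r ≤ n) (hn : 0 < n) (h : Fin r → A m)
    (hT : ∀ i, h i ∈ CohB1.polyGrading m k 1) (f : CohB1.ProjSpace n k ⟶ CohB1.ProjSpace m k)
    (hcov : ∀ y : CohB1.ProjSpace n k, ∃ i, f.base y ∈ Proj.basicOpen (CohB1.polyGrading m k) (h i)) :
    ∃ q : Spec (CommRingCat.of k) ⟶ CohB1.ProjSpace m k, f = CohB1.ProjSpace.toSpec n k ≫ q := by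
  classical
  let X : Scheme.{u} := Proj (CohB1.polyGrading n k)
  let f' : X ⟶ Proj (CohB1.polyGrading m k) := f
  have hL : PicF.IsInvertible ((Scheme.Modules.pullback f').obj (Twist.twist (CohB1.polyGrading m k) 1)) :=
    PicClLib.isInvertible_pullback _ (PnCoh.Finite.isInvertible_twist (g := fun i : Fin (m + 1) =>
      (MvPolynomial.X i : A m)) (fun i => ProjPt.X_mem i) (Proj.iSup_basicOpen_eq_top _ _ (SegreX.irrelevant_le_span m k)) 1)
  obtain ⟨d, ⟨e⟩⟩ := SeesawX.PicPn.exists_iso_twist _ hL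
  let s : Fin r → Γ(Twist.twist (CohB1.polyGrading n k) d, ⊤) := fun i =>
    e.hom.app ⊤ (ProjUPX.pullG f' (hT i))
  have hs1 : ∀ i, InvX.IsFrame (AModX.res _ (le_top : f' ⁻¹ᵁ Proj.basicOpen _ (h i) ≤ ⊤) (s i)) := by
    intro i
    rw [← AModX.app_res]
    exact (ProjUPX.isFrame_pullG f' (hT i)).map_iso e
  obtain ⟨x₀, -⟩ := VarDim.ProjN.exists_bot_point (k := k) (n := n)
  obtain ⟨d, rfl⟩ : ∃ d' : ℕ, d = d' := by
    by_cases hd : 0 ≤ d
    · exact ⟨d.toNat, (Int.toNat_of_nonneg hd).symm⟩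
    exfalso
    haveI : Subsingleton Γ(Twist.twist (CohB1.polyGrading n k) d, ⊤) :=
      PnCoh.subsingleton_global (ι := Fin (n + 1)) (R := k) (by simp; omega) (by omega)
    obtain ⟨i, hi⟩ := hcov x₀
    have h1 := hs1 i
    rw [Subsingleton.elim (s i) 0, map_zero] at h1
    have h2 : (1 : Γ(X, f' ⁻¹ᵁ Proj.basicOpen _ (h i))) = 0 :=
      h1.coord_unique le_rfl (by simp only [map_zero, smul_zero])
    exact zero_ne_one (α := X.presheaf.stalk x₀)
      (by simpa using congrArg (X.presheaf.germ _ x₀ hi) h2.symm)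
  have hF : ∀ i, ∃ a : CohB1.polyGrading n k d, Twist.globalOf (CohB1.polyGrading n k) a = s i := fun i =>
    PnCoh.exists_globalOf_eq (ι := Fin (n + 1)) (R := k) (s i)
  choose F hF using hF
  have hnot : ∀ (x : X) (i : Fin r), f'.base x ∈ Proj.basicOpen _ (h i) →
      (F i).1 ∉ (x : ProjectiveSpectrum (CohB1.polyGrading n k)).asHomogeneousIdeal := fun x i hi => by
    refine notMem_of_isFrame (F i).2 (U := f' ⁻¹ᵁ Proj.basicOpen _ (h i)) ⟨x, hi⟩ ?_
    rw [Subtype.coe_eta, hF]
    exact hs1 i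
  rcases Nat.eq_zero_or_pos d with hd | hd
  · obtain ⟨i, hi⟩ := hcov x₀
    have hFc : ∀ y : ProjectiveSpectrum (CohB1.polyGrading n k), (F i).1 ∉ y.asHomogeneousIdeal := by
      have h0 := hnot x₀ i hi
      have hc : (F i).1 = MvPolynomial.C ((F i).1.coeff 0) := by
        refine MvPolynomial.totalDegree_eq_zero_iff_eq_C.1 (Nat.le_zero.1 ?_)
        exact ((show (F i).1.IsHomogeneous d from (F i).2).totalDegree_le).trans hd.le
      intro y hy
      have hu : IsUnit (F i).1 := by
        rw [hc]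
        refine (isUnit_iff_ne_zero.2 fun h => h0 ?_).map MvPolynomial.C
        rw [hc, h, map_zero]
        exact Submodule.zero_mem _
      exact y.isPrime.ne_top (Ideal.eq_top_of_isUnit_mem _ hy hu)
    have hsi : InvX.IsFrame (s i) := by
      have := TwistX.isFrame_res_globalOf (F i).2 (U := ⊤) (fun y => hFc y.1)
      rwa [Subtype.coe_eta, hF, AModX.res_self] at this
    have hle : ∀ j, f' ⁻¹ᵁ Proj.basicOpen _ (h j) ≤
        f' ⁻¹ᵁ Proj.basicOpen _ (h i) := fun j => by
      refine ProjUPX.le_preimage_of_isUnit f' (hT i) (hT j) le_rfl ?_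
      have h1 := ProjUPX.res_pullG f' (hT i) (hT j) (W := f' ⁻¹ᵁ Proj.basicOpen _ (h j)) le_rfl
      have h2 := congrArg (e.hom.app (f' ⁻¹ᵁ Proj.basicOpen _ (h j))) h1
      rw [Scheme.Modules.Hom.app_smul, AModX.app_res, AModX.app_res] at h2
      obtain ⟨c, hc⟩ := (hsi.res (le_top : f' ⁻¹ᵁ Proj.basicOpen _ (h j) ≤ ⊤)).exists_coord
        le_rfl (AModX.res _ le_top (s j))
      rw [AModX.res_self] at hc
      refine IsUnit.of_mul_eq_one c ((hs1 j).coord_unique le_rfl ?_)
      rw [one_smul, AModX.res_self, mul_comm, mul_smul, ← show AModX.res _ le_top (s i) = _ from h2, ← hc]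
    have htop : f' ⁻¹ᵁ Proj.basicOpen _ (h i) = ⊤ := top_le_iff.1 fun y _ => by
      obtain ⟨j, hj⟩ := hcov y
      exact hle j hj
    let U := Proj.basicOpen (CohB1.polyGrading m k) (h i)
    haveI : IsAffine U := Proj.isAffineOpen_basicOpen _ _ (hT i) one_pos
    let g : CohB1.ProjSpace n k ⟶ U.toScheme := IsOpenImmersion.lift U.ι f' (by
      rw [Scheme.Opens.range_ι]
      rintro _ ⟨y, rfl⟩
      exact htop.ge (trivial : y ∈ (⊤ : X.Opens)))
    haveI := isIso_toSpec_appTop (k := k) n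
    obtain ⟨q, hq⟩ := exists_factor_of_isIso_appTop (CohB1.ProjSpace.toSpec n k) g
    refine ⟨q ≫ U.ι, ?_⟩
    rw [← Category.assoc, ← hq]
    exact (IsOpenImmersion.lift_fac U.ι f' _).symm
  · obtain ⟨x, hx⟩ := exists_common_zero hrn hd (fun i => (F i).1) fun i => (F i).2
    obtain ⟨i, hi⟩ := hcov x
    exact absurd (hx i) (hnot x i hi)

/-- Every morphism `P^n ⟶ P^m` over `k`, `m < n`, is constant. -/
theorem exists_factor {n m : ℕ} (hmn : m < n) (f : CohB1.ProjSpace n k ⟶ CohB1.ProjSpace m k) :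
    ∃ q : Spec (CommRingCat.of k) ⟶ CohB1.ProjSpace m k, f = CohB1.ProjSpace.toSpec n k ≫ q :=
  exists_factor_of_linearForms (show m + 1 ≤ n by omega) (by omega)
    (fun i => (MvPolynomial.X i : A m)) (fun i => ProjPt.X_mem i) f fun y =>
    TopologicalSpace.Opens.mem_iSup.mp ((Proj.iSup_basicOpen_eq_top (CohB1.polyGrading m k) _
      (SegreX.irrelevant_le_span m k)).ge (Set.mem_univ (f.base y)))

end Groth.Agent.Synt29.PnConst
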