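import Mathlib
import Groth.Agent.H9Misc.StalkHomExt
import Groth.Agent.Algz7.Canon2.Stalk
import Groth.Agent.QCoh.LocFree
import Groth.Agent.QCoh.Support
import Groth.Agent.FPEnough.Descend
import Groth.Agent.CurveCohLib.SubBundle
import Groth.Agent.ConsPropLib.FibreLocFreeRank
import Groth.Agent.Synt29.PnEuler

/-! Matrices of maps into free modules on stalks, and locally free cokernels. -/

set_option autoImplicit false
set_option linter.style.haveILetI false
set_option linter.unusedSectionVars false
set_option backward.isDefEq.respectTransparency false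
set_option backward.isDefEq.respectTransparency.types false
set_option maxHeartbeats 1000000

universe u

open CategoryTheory CategoryTheory.Limits AlgebraicGeometry TopologicalSpace Opposite

noncomputable section

namespace Groth.Agent.Synt29.StalkMat

open Groth.Agent

section Algebra

variable {R : Type u} [CommRing R] [IsLocalRing R] {r N : ℕ}

/-- Vectors independent modulo the maximal ideal span a direct summand. -/
theorem quot_of_indep (v : Fin r → (Fin N → R))
    (h : LinearIndependent (IsLocalRing.ResidueField R) fun i => IsLocalRing.residue R ∘ v i) :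
    Module.Free R ((Fin N → R) ⧸ Submodule.span R (Set.range v)) ∧
      Module.finrank R ((Fin N → R) ⧸ Submodule.span R (Set.range v)) = N - r := by
  classical
  let κ := IsLocalRing.ResidueField R
  let M : Matrix (Fin N) (Fin r) R := Matrix.of fun s i => v i s
  let Mb : Matrix (Fin N) (Fin r) κ := M.map (IsLocalRing.residue R)
  have hinj : Function.Injective Mb.mulVecLin := by
    rw [show ⇑Mb.mulVecLin = Mb.mulVec from rfl]
    exact Matrix.mulVec_injective_iff.2 h
  obtain ⟨g, hg⟩ := Mb.mulVecLin.exists_leftInverse_of_injective (LinearMap.ker_eq_bot.2 hinj)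
  let Gb : Matrix (Fin r) (Fin N) κ := LinearMap.toMatrix' g
  have hGM : Gb * Mb = 1 := by
    conv_lhs => rw [← LinearMap.toMatrix'_toLin' Mb]
    rw [← LinearMap.toMatrix'_comp, Matrix.toLin'_apply', hg, LinearMap.toMatrix'_id]
  choose lift hlift using (IsLocalRing.residue_surjective : Function.Surjective (IsLocalRing.residue R))
  let G : Matrix (Fin r) (Fin N) R := Gb.map lift
  have hGmap : G.map (IsLocalRing.residue R) = Gb := by
    ext i j
    exact hlift _
  have hu : IsUnit (G * M).det := by
    refine IsLocalRing.residue_ne_zero_iff_isUnit _ |>.1 ?_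
    rw [RingHom.map_det, RingHom.mapMatrix_apply, Matrix.map_mul, hGmap, hGM, Matrix.det_one]
    exact one_ne_zero
  let L : (Fin r → R) →ₗ[R] (Fin N → R) := M.mulVecLin
  let P : (Fin N → R) →ₗ[R] (Fin r → R) := ((G * M)⁻¹ * G).mulVecLin
  have hPL : P ∘ₗ L = LinearMap.id := by
    rw [← Matrix.mulVecLin_mul, Matrix.mul_assoc, Matrix.nonsing_inv_mul _ hu, Matrix.mulVecLin_one]
  have hPL' : ∀ c, P (L c) = c := fun c => LinearMap.congr_fun hPL c
  have hrange : LinearMap.range L = Submodule.span R (Set.range v) := Matrix.range_mulVecLin M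
  let q : (Fin N → R) →ₗ[R] (Fin N → R) := LinearMap.id - L ∘ₗ P
  let e : ((Fin N → R) ⧸ LinearMap.range L) ≃ₗ[R] LinearMap.ker P :=
    LinearEquiv.ofLinear
      ((LinearMap.range L).liftQ (q.codRestrict (LinearMap.ker P) fun x => by
          simp [q, LinearMap.mem_ker, hPL']) (by
          rintro _ ⟨c, rfl⟩
          exact LinearMap.mem_ker.2 (Subtype.ext (by simp [q, hPL']))))
      ((LinearMap.range L).mkQ ∘ₗ (LinearMap.ker P).subtype)
      (LinearMap.ext fun x => Subtype.ext (by
        show q (x : Fin N → R) = x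
        simp [q, LinearMap.mem_ker.1 x.2]))
      (Submodule.linearMap_qext _ (LinearMap.ext fun x => by
        show Submodule.Quotient.mk (q x) = Submodule.Quotient.mk x
        rw [Submodule.Quotient.eq]
        exact ⟨-P x, by simp [q]⟩))
  haveI : Module.Finite R (LinearMap.ker P) := Module.Finite.equiv e
  haveI : Module.Projective R (LinearMap.ker P) := Module.Projective.of_split (LinearMap.ker P).subtype
    (q.codRestrict (LinearMap.ker P) fun x => by simp [q, LinearMap.mem_ker, hPL'])
    (LinearMap.ext fun x => Subtype.ext (by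
      show q (x : Fin N → R) = x
      simp [q, LinearMap.mem_ker.1 x.2]))
  haveI : Module.Free R (LinearMap.ker P) := Module.free_of_flat_of_isLocalRing
  rw [← hrange]
  refine ⟨Module.Free.of_equiv e.symm, ?_⟩
  rw [e.finrank_eq]
  have hsum := (LinearEquiv.ofLinear (((LinearMap.ker P).subtype).coprod L)
    ((q.codRestrict (LinearMap.ker P) fun x => by simp [q, LinearMap.mem_ker, hPL']).prod P)
    (LinearMap.ext fun x => by simp [q])
    (LinearMap.ext fun ⟨a, b⟩ => by
      have ha := LinearMap.mem_ker.1 a.2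
      refine Prod.ext (Subtype.ext ?_) ?_
      · simp [q, ha, hPL']
      · simp [ha, hPL'])).finrank_eq
  rw [Module.finrank_prod, Module.finrank_fin_fun, Module.finrank_fin_fun] at hsum
  omega

end Algebra

variable {X : Scheme.{u}} {N : ℕ} (x : X)

local notation "R" => X.presheaf.stalk x

/-- The stalk map. -/
abbrev st {M M' : X.Modules} (φ : M ⟶ M') : M.presheaf.stalk x →ₗ[R] M'.presheaf.stalk x :=
  ((DerSch.stalkFunctor X x).map φ).hom

theorem st_comp {A B C : X.Modules} (φ : A ⟶ B) (ψ : B ⟶ C) (v : A.presheaf.stalk x) :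
    st x (φ ≫ ψ) v = st x ψ (st x φ v) :=
  congr($((DerSch.stalkFunctor X x).map_comp φ ψ) v)

theorem st_zero {A B : X.Modules} (v : A.presheaf.stalk x) : st x (0 : A ⟶ B) v = 0 :=
  congr($((DerSch.stalkFunctor X x).map_zero A B) v)

theorem st_id {A : X.Modules} (v : A.presheaf.stalk x) : st x (𝟙 A) v = v :=
  congr($((DerSch.stalkFunctor X x).map_id A) v)

theorem st_smul {k : Type u} [Field k] [X.Over (Spec (CommRingCat.of k))] {A B : X.Modules} (c : k) (φ : A ⟶ B) (v : A.presheaf.stalk x) :
    st x (c • φ) v = Algz.toStalk k X x c • st x φ v := by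
  rw [show c • φ = φ ≫ (c • 𝟙 B) by rw [Linear.comp_smul, Category.comp_id], st_comp, KLin.smul_id]
  exact Algz7.Canon2.stalk_smulMod B c x _

theorem st_sum {A B : X.Modules} {ι : Type*} (s : Finset ι) (φ : ι → (A ⟶ B)) (v : A.presheaf.stalk x) :
    st x (∑ i ∈ s, φ i) v = ∑ i ∈ s, st x (φ i) v := by
  show ((DerSch.stalkFunctor X x).map (∑ i ∈ s, φ i)).hom v = _
  rw [Functor.map_sum, ModuleCat.hom_sum, LinearMap.sum_apply]
  rfl

/-- Data of a decomposition into copies of `L` gives the decomposition of the stalk. -/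
theorem exists_equiv {T L : X.Modules} (a : Fin N → (T ⟶ L)) (b : Fin N → (L ⟶ T))
    (hab : ∑ i, a i ≫ b i = 𝟙 T) (hba : ∀ i j, b i ≫ a j = if i = j then 𝟙 L else 0) :
    ∃ e : T.presheaf.stalk x ≃ₗ[R] (Fin N → L.presheaf.stalk x),
      (∀ t i, e t i = st x (a i) t) ∧ ∀ c, e.symm c = ∑ i, st x (b i) (c i) := by
  classical
  refine ⟨LinearEquiv.ofLinear (LinearMap.pi fun i => st x (a i))
    (∑ i, (st x (b i)).comp (LinearMap.proj i)) (LinearMap.ext fun c => funext fun j => ?_)
    (LinearMap.ext fun t => ?_), fun t i => rfl, fun c => by simp⟩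
  · simp only [LinearMap.comp_apply, LinearMap.pi_apply, LinearMap.sum_apply, LinearMap.proj_apply, map_sum,
      LinearMap.id_apply]
    rw [Finset.sum_eq_single j]
    · rw [← st_comp, hba, if_pos rfl, st_id]
    · intro i _ hi
      rw [← st_comp, hba, if_neg hi]
      exact st_zero x _
    · simp
  · simp only [LinearMap.comp_apply, LinearMap.pi_apply, LinearMap.sum_apply, LinearMap.proj_apply,
      LinearMap.id_apply]
    simp only [← st_comp]
    rw [← st_sum, hab, st_id]

/-- Coordinates on the stalk of a free module. -/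
def coord (t : (FlatMod.freeMod X N).presheaf.stalk x) (i : Fin N) : R :=
  (H9Misc.StalkHomExt.unitEquiv (x := x)).symm (st x (H23.Frame.proj X N i) t)

/-- Coordinates as a linear equivalence. -/
def coordEquiv : (FlatMod.freeMod X N).presheaf.stalk x ≃ₗ[R] (Fin N → R) :=
  (exists_equiv x (H23.Frame.proj X N) (H23.Frame.incl X N) (H23.Frame.total X N)
    (fun i j => H23.Frame.incl_proj X N j i)).choose.trans
    (LinearEquiv.piCongrRight fun _ => (H9Misc.StalkHomExt.unitEquiv (x := x)).symm)

theorem coordEquiv_apply (t : (FlatMod.freeMod X N).presheaf.stalk x) (i : Fin N) :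
    coordEquiv x t i = coord x t i :=
  congrArg (H9Misc.StalkHomExt.unitEquiv (x := x)).symm
    ((exists_equiv x (H23.Frame.proj X N) (H23.Frame.incl X N) (H23.Frame.total X N)
      (fun i j => H23.Frame.incl_proj X N j i)).choose_spec.1 t i)

theorem coord_incl (s : Fin N) (z : (Coh.structureModule X).presheaf.stalk x) (i : Fin N) :
    coord x (st x (H23.Frame.incl X N s) z) i = if s = i then (H9Misc.StalkHomExt.unitEquiv (x := x)).symm z else 0 := by
  rw [coord, ← st_comp, H23.Frame.incl_proj]
  by_cases h : s = i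
  · rw [if_pos h, if_pos h, st_id]
  · rw [if_neg h, if_neg h]
    exact (congrArg _ (st_zero x z)).trans (map_zero _)

/-- A cokernel is locally free when on every stalk the image is spanned by residually independent vectors. -/
theorem rank_cokernel {r : ℕ} {T : X.Modules} (hT : FlatMod.IsFinLocFree T) (Φ : T ⟶ FlatMod.freeMod X N)
    (h : ∀ x : X, ∃ v : Fin r → (Fin N → X.presheaf.stalk x),
      (LinearMap.range (st x Φ)).map ((coordEquiv x).toLinearMap) = Submodule.span _ (Set.range v) ∧
      LinearIndependent (IsLocalRing.ResidueField (X.presheaf.stalk x))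
        fun i => IsLocalRing.residue (X.presheaf.stalk x) ∘ v i) :
    FlatMod.IsFinLocFreeOfRank (N - r) (cokernel Φ) := by
  have hF : FlatMod.IsFinLocFree (FlatMod.freeMod X N) := PnEuler.isFinLocFree_freeMod N
  have hfp : CohB1.IsFP (cokernel Φ) := FPEnough.isFP_cokernel (QCoh.isQCoh_of_isFinLocFree hT)
    (QCoh.isFT_of_isFP (QCoh.isFP_of_isFinLocFree hT)) (QCoh.isQCoh_of_isFinLocFree hF)
    (QCoh.isFP_of_isFinLocFree hF) Φ
  let S : ShortComplex X.Modules := ShortComplex.mk Φ (cokernel.π Φ) (cokernel.condition Φ)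
  have hex : S.Exact := ShortComplex.exact_of_g_is_cokernel S (cokernelIsCokernel Φ)
  have key : ∀ x : X, Module.Free (X.presheaf.stalk x) ((cokernel Φ).presheaf.stalk x) ∧
      Module.finrank (X.presheaf.stalk x) ((cokernel Φ).presheaf.stalk x) = N - r := by
    intro x
    obtain ⟨v, hv, hind⟩ := h x
    obtain ⟨hfree, hrk⟩ := quot_of_indep v hind
    let g : (FlatMod.freeMod X N).presheaf.stalk x →ₗ[X.presheaf.stalk x] (cokernel Φ).presheaf.stalk x :=
      st x (cokernel.π Φ)
    have hker : LinearMap.ker g = LinearMap.range (st x Φ) :=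
      (((KFlatLib.exact_iff_stalk S).1 hex x).moduleCat_range_eq_ker).symm
    have hsurj : Function.Surjective g :=
      (ModuleCat.epi_iff_surjective ((DerSch.stalkFunctor X x).map (cokernel.π Φ))).1 inferInstance
    let e := ((LinearMap.quotKerEquivOfSurjective g hsurj).symm.trans
      (Submodule.Quotient.equiv _ (Submodule.span _ (Set.range v)) (coordEquiv x) (by rw [hker]; exact hv)))
    haveI := hfree
    exact ⟨Module.Free.of_equiv e.symm, e.finrank_eq.trans hrk⟩
  exact ConsPropLib.isFinLocFreeOfRank_iff.2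
    ⟨QCoh.isFinLocFree_iff.2 ⟨hfp, fun x => (key x).1⟩, fun x => (key x).2⟩

/-- The kernel of a surjection of bundles is a bundle. -/
theorem rank_kernel {a b : ℕ} {A B : X.Modules} (g : A ⟶ B) [Epi g] (hA : FlatMod.IsFinLocFreeOfRank a A)
    (hB : FlatMod.IsFinLocFreeOfRank b B) [IsLocallyNoetherian X] :
    FlatMod.IsFinLocFreeOfRank (a - b) (kernel g) := by
  have hA' := (ConsPropLib.isFinLocFreeOfRank_iff.1 hA).1
  have hB' := (ConsPropLib.isFinLocFreeOfRank_iff.1 hB).1
  have hKc : Coh.IsCoh (kernel g) := QCoh.isCoh_kernel (QCoh.isCoh_iff_isFP.2 (QCoh.isFP_of_isFinLocFree hA'))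
    (QCoh.isCoh_iff_isFP.2 (QCoh.isFP_of_isFinLocFree hB')) g
  let S : ShortComplex X.Modules := ShortComplex.mk (kernel.ι g) g (kernel.condition g)
  have hex : S.Exact := ShortComplex.exact_kernel g
  have key : ∀ x : X, Module.Free (X.presheaf.stalk x) ((kernel g).presheaf.stalk x) ∧
      Module.finrank (X.presheaf.stalk x) ((kernel g).presheaf.stalk x) = a - b := by
    intro x
    haveI := QCoh.free_stalk_of_isFinLocFree hA' x
    haveI := QCoh.free_stalk_of_isFinLocFree hB' x
    haveI : Module.Finite (X.presheaf.stalk x) (A.presheaf.stalk x) :=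
      QCoh.finite_stalk_of_isFT (QCoh.isQCoh_of_isFinLocFree hA') (QCoh.isFT_of_isFP (QCoh.isFP_of_isFinLocFree hA')) x
    haveI : Module.Finite (X.presheaf.stalk x) (B.presheaf.stalk x) :=
      QCoh.finite_stalk_of_isFT (QCoh.isQCoh_of_isFinLocFree hB') (QCoh.isFT_of_isFP (QCoh.isFP_of_isFinLocFree hB')) x
    let f : A.presheaf.stalk x →ₗ[X.presheaf.stalk x] B.presheaf.stalk x := st x g
    have hsurj : Function.Surjective f :=
      (ModuleCat.epi_iff_surjective ((DerSch.stalkFunctor X x).map g)).1 inferInstance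
    obtain ⟨s, hs⟩ := Module.projective_lifting_property f LinearMap.id hsurj
    have hs' : ∀ y, f (s y) = y := fun y => LinearMap.congr_fun hs y
    let q : A.presheaf.stalk x →ₗ[X.presheaf.stalk x] LinearMap.ker f :=
      (LinearMap.id - s ∘ₗ f).codRestrict (LinearMap.ker f) fun y => by simp [LinearMap.mem_ker, hs']
    have hq : q ∘ₗ (LinearMap.ker f).subtype = LinearMap.id :=
      LinearMap.ext fun y => Subtype.ext (by simp [q])
    haveI : Module.Finite (X.presheaf.stalk x) (LinearMap.ker f) :=
      Module.Finite.of_surjective q (fun y => ⟨y, LinearMap.congr_fun hq y⟩)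
    haveI : Module.Projective (X.presheaf.stalk x) (LinearMap.ker f) := Module.Projective.of_split _ q hq
    haveI : Module.Free (X.presheaf.stalk x) (LinearMap.ker f) := Module.free_of_flat_of_isLocalRing
    let e : (kernel g).presheaf.stalk x ≃ₗ[X.presheaf.stalk x] LinearMap.ker f :=
      (LinearEquiv.ofInjective (st x (kernel.ι g)) (CurveCohLib.stalk_injective _ x)).trans
        (LinearEquiv.ofEq _ _ ((KFlatLib.exact_iff_stalk S).1 hex x).moduleCat_range_eq_ker)
    refine ⟨Module.Free.of_equiv e.symm, e.finrank_eq.trans ?_⟩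
    have hsum := (LinearEquiv.ofLinear ((LinearMap.ker f).subtype.coprod s) (q.prod f)
      (LinearMap.ext fun y => by simp [q])
      (LinearMap.ext fun ⟨y, z⟩ => by
        have hy := LinearMap.mem_ker.1 y.2
        refine Prod.ext (Subtype.ext ?_) ?_
        · simp [q, hy, hs']
        · simp [hy, hs'])).finrank_eq
    rw [Module.finrank_prod, (ConsPropLib.isFinLocFreeOfRank_iff.1 hA).2 x,
      (ConsPropLib.isFinLocFreeOfRank_iff.1 hB).2 x] at hsum
    omega
  exact ConsPropLib.isFinLocFreeOfRank_iff.2
    ⟨QCoh.isFinLocFree_iff.2 ⟨QCoh.isCoh_iff_isFP.1 hKc, fun x => (key x).1⟩, fun x => (key x).2⟩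

end Groth.Agent.Synt29.StalkMat
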