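import Groth.Agent.Synt29.Rank2Pn
import Groth.Agent.Synt29.StalkMat
import Groth.Agent.Synt29.PnConst
import Groth.Agent.Synt29.PnHodge
import Groth.Agent.Euler.Main
import Groth.Agent.HyperplaneLib.Main
import Groth.Agent.Synt29.HyperIso
import Groth.Agent.HyperplaneLib.Sections
import Groth.Agent.Lib.UnitMono
import Groth.Agent.Lib.NegVanClosed
import Groth.Agent.Alg6.AssDepth
import Groth.Agent.H23.MaxRank
import Groth.Agent.Lib.CurveTensor
import Groth.Agent.QCoh.ClosedPush
import Groth.Agent.QCoh.SubCompare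
import Groth.Agent.TFOneX.Beta
import Groth.Agent.ZeroSchX.Basic

/-!
# Sections of negative twists and restriction to hyperplanes
-/

set_option autoImplicit false
set_option backward.isDefEq.respectTransparency false
set_option backward.isDefEq.respectTransparency.types false
set_option linter.style.haveILetI false
set_option linter.unusedSectionVars false
set_option maxHeartbeats 1000000
set_option synthInstance.maxHeartbeats 400000

universe u

open CategoryTheory CategoryTheory.Limits AlgebraicGeometry TopologicalSpace Opposite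
open scoped Groth.Agent.H23.PicMul

noncomputable section

namespace Groth.Agent.Synt29.HyperH0

open Groth.Agent Groth.Agent.H23.PicMul Groth.Agent.AModX

section General

variable {X : Scheme.{u}}

theorem subsingleton_sections {M : X.Modules} (h : Subsingleton (Coh.HH X M 0)) :
    Subsingleton Γ(M, ⊤) := by
  haveI := h
  exact (Sheaf.H.equiv₀ (Coh.toAb M) Limits.isTerminalTop).toEquiv.symm.subsingleton

theorem subsingleton_HH0 {M : X.Modules} (h : Subsingleton Γ(M, ⊤)) : Subsingleton (Coh.HH X M 0) := by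
  haveI : Subsingleton ((Coh.toAb M).obj.obj (op ⊤)) := h
  exact (Sheaf.H.equiv₀ (Coh.toAb M) Limits.isTerminalTop).toEquiv.subsingleton

/-- If neither `M` nor the restriction of `M ⊗ L` to the divisor of a section of `L` has sections,
then neither has `M ⊗ L`. -/
theorem subsingleton_tensor_of_restrict [IsIntegral X] {L : X.Modules} (hL : PicF.IsInvertible L)
    {s : Coh.structureModule X ⟶ L} (hs : s ≠ 0) {M : X.Modules} (hMlf : FlatMod.IsFinLocFree M)
    {Z : Scheme.{u}} (j : Z ⟶ X) [IsClosedImmersion j] (hker : j.ker = PicF2.zeroScheme L s)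
    (h₀ : Subsingleton Γ(M, ⊤))
    (h₁ : Subsingleton Γ((Scheme.Modules.pullback j).obj ((DCoh.tensorBi.obj M).obj L), ⊤)) :
    Subsingleton Γ((DCoh.tensorBi.obj M).obj L, ⊤) := by
  let N := (DCoh.tensorBi.obj M).obj L
  let α : (DCoh.tensorBi.obj M).obj (Coh.structureModule X) ⟶ N := (DCoh.tensorBi.obj M).map s
  haveI : IsReduced X := inferInstance
  have hM : Coh.IsQCoh M := QCoh.isQCoh_of_isFinLocFree hMlf
  have hLq : Coh.IsQCoh L := ZeroSchX.isQCoh_inv hL
  have hLlf : FlatMod.IsFinLocFree L := H28.KvbModel.lf_of_rank (H28.PBCores.isInvertible_iff_rank.1 hL)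
  have hN : Coh.IsQCoh N := QCoh.isQCoh_of_isFinLocFree (PnEuler.isFinLocFree_tensorMod hMlf hLlf)
  have hms : Mono s := UnitMono.mono_of_ne_zero hLlf s hs
  haveI : Mono α := by
    haveI := hms
    have hι : (ShortComplex.mk s (cokernel.π s) (cokernel.condition s)).ShortExact :=
      { exact := ShortComplex.exact_cokernel s }
    exact (CurveTensor.shortExact_tensor hMlf _ _ _ hι).mono_f
  haveI : Subsingleton Γ((DCoh.tensorBi.obj M).obj (Coh.structureModule X), ⊤) :=
    ((ConcreteCategory.bijective_of_isIso ((KFlatLib.tensorUnitIso M).hom.app ⊤)).1).subsingleton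
  suffices ∀ t : Γ(N, ⊤), t = 0 from ⟨fun a b => (this a).trans (this b).symm⟩
  intro t
  let η := (Scheme.Modules.pullbackPushforwardAdjunction j).unit.app N
  have ht : η.app ⊤ t = 0 := @Subsingleton.elim _ h₁ _ _
  have hc : (cokernel.π α).app ⊤ t = 0 := by
    refine AModX.eq_of_locally (M := cokernel α) _ _ fun x _ => ?_
    obtain ⟨U, hU, e, he⟩ := InvX.exists_frame hL x
    obtain ⟨_, ⟨W, hW, rfl⟩, hxW, hWU⟩ := X.isBasis_affineOpens.exists_subset_of_mem_open hU U.2
    refine ⟨W, le_top, hxW, ?_⟩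
    obtain ⟨c, hc⟩ := ((he.res hWU) W le_rfl).2 (ZeroSchX.sv s W)
    have hc' : ZeroSchX.sv s W = c • res L hWU e :=
      hc.symm.trans (congrArg (c • ·) (res_self _))
    have hideal : j.ker.ideal ⟨W, hW⟩ = Ideal.span {c} := by
      rw [hker, ZeroSchX.ideal_zeroScheme hL, ZeroSchX.zeroIdealOn_eq_span s (he.res hWU) hc']
    have h2 := ((QCoh.unit_app_closed j hN hW).2 (res N le_top t)).1 ((app_res η le_top t).trans (by rw [ht, map_zero]))
    rw [hideal, Submodule.ideal_span_singleton_smul, Submodule.mem_smul_pointwise_iff_exists] at h2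
    obtain ⟨z, -, hz⟩ := h2
    obtain ⟨m, hm⟩ := (Euler.bijective_tmS_frame hM hLq hW (he.res hWU)).2 z
    rw [map_zero, ← app_res]
    have h3 : res N le_top t = α.app W (QCoh.tmS M (Coh.structureModule X) m (show Γ(X, W) from 1)) := by
      refine hz.symm.trans (Eq.trans ?_ (KFlatLib.tmSh_naturality_right M s (U := W) m _).symm)
      rw [show z = QCoh.tmS M L m (res L hWU e) from hm.symm]
      refine (QCoh.tmS_smul_right M L c m (res L hWU e)).symm.trans (congrArg (QCoh.tmS M L m) ?_)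
      exact hc'.symm
    rw [h3]
    exact congr($(cokernel.condition α).app W (QCoh.tmS M (Coh.structureModule X) m (show Γ(X, W) from 1)))
  obtain ⟨a, ha⟩ := (QCoh.mem_range_iff_cokernel α ⊤ t).1 hc
  rw [← ha, Subsingleton.elim a 0, map_zero]

theorem stalk_field_of_ass [IsIntegral X] {r : ℕ} {F : X.Modules} (hF : FlatMod.IsFinLocFreeOfRank r F) {x : X}
    (hx : Curv2.IsAssPoint F x) : IsLocalRing.maximalIdeal (X.presheaf.stalk x) = ⊥ := by
  haveI := QCoh.free_stalk_of_isFinLocFree (H28.KvbModel.lf_of_rank hF) x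
  haveI : IsDomain (X.presheaf.stalk x) := inferInstance
  haveI := hx.1
  obtain ⟨m, hm⟩ := hx.2
  by_cases h0 : m = 0
  · subst h0
    refine absurd (hm.trans ?_) (IsLocalRing.maximalIdeal.isMaximal _).ne_top
    rw [Submodule.colon_singleton_zero, Ideal.radical_top]
  rw [hm, show Submodule.colon (⊥ : Submodule (X.presheaf.stalk x) (F.presheaf.stalk x)) {m} = ⊥ from
    (Submodule.eq_bot_iff _).2 fun a ha =>
      (smul_eq_zero.1 ((Submodule.mem_bot _).1 (Submodule.mem_colon_singleton.1 ha))).resolve_right h0]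
  exact Ideal.radical_eq_iff.2 Ideal.isPrime_bot.isRadical

end General

variable {n : ℕ} {k : Type u} [Field k]

theorem pullCl_O {m : ℕ} (i : CohB1.ProjSpace m k ⟶ CohB1.ProjSpace n k)
    (hO : Nonempty ((Scheme.Modules.pullback i).obj (Twist.twistProjSpace n k 1) ≅ Twist.twistProjSpace m k 1))
    (d : ℤ) : PicF.pullCl i (PnEuler.tw n k d) = PnEuler.tw m k d := by
  have h1 : pullHom i (PnEuler.tw n k 1) = PnEuler.tw m k 1 := cl_eq_iff.2 hO
  have hm : pullHom i (PnEuler.tw n k (-1)) = PnEuler.tw m k (-1) := by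
    refine (isUnit_cl (PnEuler.isInvertible_O n k 1)).map (pullHom i) |>.mul_left_cancel ?_
    rw [← map_mul, h1, PnEuler.tw_add, PnEuler.tw_add, add_neg_cancel, PnEuler.tw_zero, map_one,
      ← PnEuler.tw_zero m k]
  change (pullHom i : PicF.Cl (CohB1.ProjSpace n k) →* PicF.Cl (CohB1.ProjSpace m k)) (PnEuler.tw n k d) = PnEuler.tw m k d
  induction d using Int.induction_on with
  | zero => rw [PnEuler.tw_zero, map_one, PnEuler.tw_zero]
  | succ d ih => rw [← PnEuler.tw_add, map_mul, ih, h1, PnEuler.tw_add]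
  | pred d ih => rw [sub_eq_add_neg, ← PnEuler.tw_add, map_mul, ih, hm, PnEuler.tw_add]

/-- No associated point of a bundle on `P^n`, `n ≥ 1`, is closed. -/
theorem not_isClosed_assPoint (hn : 1 ≤ n) {r : ℕ} {F : (CohB1.ProjSpace n k).Modules}
    (hF : FlatMod.IsFinLocFreeOfRank r F) (x : CohB1.ProjSpace n k)
    (hcl : IsClosed ({x} : Set ↥(CohB1.ProjSpace n k))) : ¬ Curv2.IsAssPoint F x := by
  intro hx
  haveI : IsIntegral (CohB1.ProjSpace n k) := H23.PnChart.isIntegral_projSpace n k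
  have hfield := stalk_field_of_ass hF hx
  have hmax : H23.MaxRank.IsMax x :=
    ringKrullDim_eq_zero_of_isField (IsLocalRing.isField_iff_maximalIdeal_eq.2 hfield)
  obtain ⟨y, hy⟩ := PnConst.exists_common_zero (k := k) (n := n) (r := 1) hn one_pos
    (fun _ => (MvPolynomial.X 0 : MvPolynomial (Fin (n + 1)) k)) (fun _ => ProjPt.X_mem 0)
  obtain ⟨x₀, hx₀⟩ := VarDim.ProjN.exists_bot_point (k := k) (n := n)
  have hle : ∀ z : ProjectiveSpectrum (CohB1.polyGrading n k), x₀ ≤ z := fun z =>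
    VarDim.ProjN.pp_le_pp.1 (hx₀ ▸ bot_le)
  have hsp : ∀ z : CohB1.ProjSpace n k, (x₀ : ↥(CohB1.ProjSpace n k)) ⤳ z := fun z =>
    specializes_iff_mem_closure.2 ((ProjectiveSpectrum.le_iff_mem_closure _ _ _).1 (hle z))
  have he : (x₀ : ↥(CohB1.ProjSpace n k)) = x := H23.MaxRank.isMax_iff.1 hmax _ (hsp x)
  have hy' : (y : ↥(CohB1.ProjSpace n k)) = x₀ := by
    have h1 := (hsp y).mem_closed hcl (Set.mem_singleton_iff.2 he)
    exact (Set.mem_singleton_iff.1 h1).trans he.symm
  have h1 : (MvPolynomial.X 0 : MvPolynomial (Fin (n + 1)) k) ∈ (VarDim.ProjN.pp x₀).asIdeal := hy' ▸ hy 0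
  rw [hx₀] at h1
  exact MvPolynomial.X_ne_zero 0 ((Submodule.mem_bot _).1 h1)

theorem cl_twist_id (F : (CohB1.ProjSpace n k).Modules) (e : ℤ) :
    PicF.cl (CohB1.tensorMod F (Twist.twistProjSpace n k e)) =
      PicF.cl (CohB1.tensorMod F ((Scheme.Modules.pullback (𝟙 (CohB1.ProjSpace n k))).obj
        (Twist.twistProjSpace n k e))) :=
  (cl_tensor _ _).trans ((congrArg (PicF.cl F * ·)
    (cl_eq_iff.2 ⟨((Scheme.Modules.pullbackId _).app _).symm⟩)).trans (cl_tensor _ _).symm)

theorem depth_bundle (hn : 1 ≤ n) {r : ℕ} {F : (CohB1.ProjSpace n k).Modules}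
    (hF : FlatMod.IsFinLocFreeOfRank r F) (hFc : Coh.IsCoh F) (x : CohB1.ProjSpace n k)
    (hx : IsClosed ({x} : Set ↥(CohB1.ProjSpace n k))) :
    ((1 : ℕ) : ℕ∞) ≤ LocCoh.depth ((CohB1.ProjSpace n k).presheaf.stalk x) (F.presheaf.stalk x) := by
  haveI : IsLocallyNoetherian (CohB1.ProjSpace n k) := PnCoh.Finite.isLocallyNoetherian_projSpace n k
  haveI : IsNoetherianRing ((CohB1.ProjSpace n k).presheaf.stalk x) := inferInstance
  haveI := QCoh.finite_stalk_of_isFT hFc.1 hFc.2 x
  rw [Nat.cast_one]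
  exact Alg6.one_le_depth_iff.2 (not_isClosed_assPoint hn hF x hx)

/-- Sufficiently negative twists of a bundle on `P^n`, `n ≥ 1`, have no sections. -/
theorem exists_vanish [IsAlgClosed k] (hn : 1 ≤ n) {r : ℕ} {F : (CohB1.ProjSpace n k).Modules}
    (hF : FlatMod.IsFinLocFreeOfRank r F) :
    ∃ N₀ : ℕ, ∀ N : ℕ, N₀ ≤ N → Subsingleton
      (Coh.HH (CohB1.ProjSpace n k) (CohB1.tensorMod F (Twist.twistProjSpace n k (-(N : ℤ)))) 0) := by
  haveI : IsLocallyNoetherian (CohB1.ProjSpace n k) := PnCoh.Finite.isLocallyNoetherian_projSpace n k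
  have hFc : Coh.IsCoh F := QCoh.isCoh_iff_isFP.2
    (QCoh.isFP_of_isFinLocFree (ConsPropLib.isFinLocFreeOfRank_iff.1 hF).1)
  have h1 := NegVanClosed.negVan_closed_iff (k := k) (X := CohB1.ProjSpace n k) (𝟙 (CohB1.ProjSpace n k)) hFc 1
  have h2 := h1.mpr (depth_bundle hn hF hFc)
  have h3 := h2 0 Nat.zero_lt_one
  rw [Filter.eventually_atBot] at h3
  obtain ⟨e₀, he₀⟩ := h3
  refine ⟨(-e₀).toNat, fun N hN => ?_⟩
  have hN' : (-(N : ℤ)) ≤ e₀ := by omega
  have h4 := he₀ (-(N : ℤ)) hN'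
  let e := (cl_eq_iff.1 (cl_twist_id F (-(N : ℤ)))).some
  exact QCoh.subsingleton_HH_of_iso e.symm 0 h4

/-- The image of a line in `P^n`, `n ≤ 1`, is everything. -/
theorem surjective_line (hn : n ≤ 1) (i : CohB1.ProjSpace 1 k ⟶ CohB1.ProjSpace n k) [IsClosedImmersion i] :
    Function.Surjective i.base := by
  have hrg : IsClosed (Set.range i.base) := i.isClosedEmbedding.isClosed_range
  obtain ⟨x₁, hx₁⟩ := VarDim.ProjN.exists_bot_point (k := k) (n := 1)
  obtain ⟨y₁, hy₁⟩ := PnConst.exists_common_zero (k := k) (n := 1) (r := 1) le_rfl one_pos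
    (fun _ => (MvPolynomial.X 0 : MvPolynomial (Fin (1 + 1)) k)) (fun _ => ProjPt.X_mem 0)
  have hlt : x₁ < y₁ := by
    refine lt_of_le_of_ne (VarDim.ProjN.pp_le_pp.1 (hx₁ ▸ bot_le)) fun h => ?_
    have h1 : (MvPolynomial.X 0 : MvPolynomial (Fin (1 + 1)) k) ∈ (VarDim.ProjN.pp x₁).asIdeal := h ▸ hy₁ 0
    rw [hx₁] at h1
    exact MvPolynomial.X_ne_zero 0 ((Submodule.mem_bot _).1 h1)
  let f : ProjectiveSpectrum (CohB1.polyGrading 1 k) → ProjectiveSpectrum (CohB1.polyGrading n k) := i.base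
  have hsp : f x₁ ≤ f y₁ := (ProjectiveSpectrum.le_iff_mem_closure _ _ _).2
    (specializes_iff_mem_closure.1 ((specializes_iff_mem_closure.2
      ((ProjectiveSpectrum.le_iff_mem_closure _ _ _).1 hlt.le)).map i.continuous))
  have hd := VarDim.ProjN.pdim_strictAnti (lt_of_le_of_ne hsp fun h => hlt.ne (i.isClosedEmbedding.injective h))
  have hd' := VarDim.ProjN.pdim_le (f x₁)
  obtain ⟨x₀, hx₀⟩ := VarDim.ProjN.exists_bot_point (k := k) (n := n)
  have he : f x₁ = x₀ := by
    by_contra hne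
    have h2 := VarDim.ProjN.pdim_strictAnti (lt_of_le_of_ne (VarDim.ProjN.pp_le_pp.1 (hx₀ ▸ bot_le)) (Ne.symm hne))
    have h3 := VarDim.ProjN.pdim_le x₀
    omega
  intro y
  have hle : x₀ ≤ (y : ProjectiveSpectrum (CohB1.polyGrading n k)) := VarDim.ProjN.pp_le_pp.1 (hx₀ ▸ bot_le)
  exact VarDim.ProjN.mem_of_le hrg ⟨x₁, he⟩ hle

theorem coord_indep (N : ℕ) (c : Fin (N + 1) → k)
    (h : ∑ a, (ProjUP.toGlobal (CohB1.ProjSpace.toSpec N k) (c a) •
      (ProjUP.coord N k a : Γ(Twist.twistProjSpace N k 1, ⊤)) : Γ(Twist.twistProjSpace N k 1, ⊤)) = 0) : c = 0 := by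
  classical
  let O1 := Twist.twistProjSpace N k 1
  let F : Fin (N + 1) → MvPolynomial.homogeneousSubmodule (Fin (N + 1)) k 1 := fun a =>
    ⟨MvPolynomial.X a, MvPolynomial.isHomogeneous_X k a⟩
  have h0 : (PnCoh.globalOfEquiv (0 : MvPolynomial.homogeneousSubmodule (Fin (N + 1)) k 1) : Γ(O1, ⊤)) = 0 := by
    have h := PnCoh.globalOf_add (ι := Fin (N + 1)) (R := k) (d := 1) 0 0
    rw [add_zero] at h
    exact left_eq_add.1 h
  have hG : ∀ s : Finset (Fin (N + 1)), (PnCoh.globalOfEquiv (∑ a ∈ s, c a • F a) : Γ(O1, ⊤)) =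
      ∑ a ∈ s, (ProjUP.toGlobal (CohB1.ProjSpace.toSpec N k) (c a) • (ProjUP.coord N k a : Γ(O1, ⊤)) : Γ(O1, ⊤)) := by
    intro s
    induction s using Finset.induction with
    | empty => rw [Finset.sum_empty, Finset.sum_empty]; exact h0
    | insert a s ha ih =>
      rw [Finset.sum_insert ha, Finset.sum_insert ha, PnCoh.globalOf_add, ← ih]
      refine congrArg₂ (HAdd.hAdd (α := Γ(O1, ⊤)) (β := Γ(O1, ⊤))) ((PnCoh.globalOf_smul (c a) (F a)).trans ?_) rfl
      exact congrArg (fun r : Γ(CohB1.ProjSpace N k, ⊤) => r • (ProjUP.coord N k a : Γ(O1, ⊤)))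
        (ConcreteCategory.congr_hom ((CohB1.ProjSpace N k).presheaf.map_id (op ⊤)) _)
  have h1 : (∑ a, c a • F a) = 0 := PnCoh.globalOfEquiv.injective (((hG _).trans h).trans h0.symm)
  funext a
  have h2 := congrArg (fun p : MvPolynomial.homogeneousSubmodule (Fin (N + 1)) k 1 =>
    MvPolynomial.coeff (Finsupp.single a 1) p.1) h1
  simpa [F, Submodule.coe_sum, MvPolynomial.coeff_sum, MvPolynomial.coeff_smul, MvPolynomial.coeff_X,
    Finsupp.single_left_inj] using h2

/-- A nonzero section of `O(1)` vanishing on a linear `P^m`, `m < n`. -/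
theorem exists_form' {m : ℕ} (hn : m < n) (i : CohB1.ProjSpace m k ⟶ CohB1.ProjSpace n k)
    (hi : i ≫ CohB1.ProjSpace.toSpec n k = CohB1.ProjSpace.toSpec m k)
    (hO : Nonempty ((Scheme.Modules.pullback i).obj (Twist.twistProjSpace n k 1) ≅ Twist.twistProjSpace m k 1)) :
    ∃ s : Coh.structureModule (CohB1.ProjSpace n k) ⟶ Twist.twistProjSpace n k 1, s ≠ 0 ∧
      ProjUP.pullSec i (Twist.twistProjSpace n k 1) (PicF2.secVal (Twist.twistProjSpace n k 1) s ⊤) = 0 := by
  classical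
  obtain ⟨τ⟩ := hO
  let O' := Twist.twistProjSpace n k 1
  let T : Fin (n + 1) → Γ(O', ⊤) := fun a => ProjUP.coord n k a
  have hT : ∀ a, ∃ c : Fin (m + 1) → k, (τ.hom.app ⊤ (ProjUP.pullSec i O' (T a)) : Γ(Twist.twistProjSpace m k 1, ⊤)) =
      ∑ b, (ProjUP.toGlobal (CohB1.ProjSpace.toSpec m k) (c b) • ProjUP.coord m k b :
        Γ(Twist.twistProjSpace m k 1, ⊤)) := fun a => HyperplaneLib.exists_sum_coord m _
  choose C hC using hT
  obtain ⟨g, hg, hg0⟩ : ∃ g : Fin (n + 1) → k, g ≠ 0 ∧ ∀ b, ∑ a, g a * C a b = 0 := by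
    let L : (Fin (n + 1) → k) →ₗ[k] (Fin (m + 1) → k) := Fintype.linearCombination k C
    obtain ⟨g, hg, hgne⟩ := Submodule.exists_mem_ne_zero_of_ne_bot (LinearMap.ker_ne_bot_of_finrank_lt (f := L)
      (by simp; omega))
    refine ⟨g, hgne, fun b => ?_⟩
    have := congrFun (LinearMap.mem_ker.1 hg) b
    simpa [L, Fintype.linearCombination_apply, Finset.sum_apply] using this
  let v : Γ(O', ⊤) := ∑ a, (ProjUP.toGlobal (CohB1.ProjSpace.toSpec n k) (g a) • T a : Γ(O', ⊤))
  refine ⟨InvX.ofSect v, fun h => ?_, ?_⟩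
  · have hv : v = 0 := by rw [← InvX.one_ofSect v, h]; rfl
    exact hg (coord_indep n g hv)
  · rw [show PicF2.secVal O' (InvX.ofSect v) ⊤ = v from InvX.one_ofSect v]
    refine (HyperplaneLib.pullSec_lin i O' hi g T).trans ?_
    refine (ConcreteCategory.bijective_of_isIso (τ.hom.app ⊤)).1 ?_
    rw [map_sum, map_zero]
    refine Eq.trans (Finset.sum_congr rfl fun a _ => (Scheme.Modules.Hom.app_smul τ.hom _ _).trans
      (congrArg (ProjUP.toGlobal (CohB1.ProjSpace.toSpec m k) (g a) • ·) (hC a))) ?_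
    simp only [Finset.smul_sum, smul_smul, ← map_mul]
    rw [Finset.sum_comm]
    refine Finset.sum_eq_zero fun b _ => ?_
    rw [← Finset.sum_smul, ← map_sum, hg0 b, map_zero, zero_smul]

/-- A nonzero section of `O(1)` vanishing on a line, `n ≥ 2`. -/
theorem exists_form (hn : 2 ≤ n) (i : CohB1.ProjSpace 1 k ⟶ CohB1.ProjSpace n k)
    (hi : i ≫ CohB1.ProjSpace.toSpec n k = CohB1.ProjSpace.toSpec 1 k)
    (hO : Nonempty ((Scheme.Modules.pullback i).obj (Twist.twistProjSpace n k 1) ≅ Twist.twistProjSpace 1 k 1)) :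
    ∃ s : Coh.structureModule (CohB1.ProjSpace n k) ⟶ Twist.twistProjSpace n k 1, s ≠ 0 ∧
      ProjUP.pullSec i (Twist.twistProjSpace n k 1) (PicF2.secVal (Twist.twistProjSpace n k 1) s ⊤) = 0 :=
  exists_form' (by omega) i hi hO

theorem pullback_twist_free {m : ℕ} (i : CohB1.ProjSpace m k ⟶ CohB1.ProjSpace n k)
    (hO : Nonempty ((Scheme.Modules.pullback i).obj (Twist.twistProjSpace n k 1) ≅ Twist.twistProjSpace m k 1))
    {E : (CohB1.ProjSpace n k).Modules} {E' : (CohB1.ProjSpace m k).Modules}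
    (e : (Scheme.Modules.pullback i).obj E ≅ E') (d : ℤ) :
    Nonempty ((Scheme.Modules.pullback i).obj (CohB1.tensorMod E (Twist.twistProjSpace n k d)) ≅
      CohB1.tensorMod E' (Twist.twistProjSpace m k d)) := by
  refine cl_eq_iff.1 ?_
  show pullHom i (PicF.cl (CohB1.tensorMod E (Twist.twistProjSpace n k d))) = _
  rw [cl_tensor, map_mul, cl_tensor]
  exact congrArg₂ (· * ·) (cl_eq_iff.2 ⟨e⟩) (pullCl_O i hO d)

theorem subsingleton_free_twist (r : ℕ) {d : ℤ} (hd : d < 0) :
    Subsingleton Γ(CohB1.tensorMod (FlatMod.freeMod (CohB1.ProjSpace 1 k) r) (Twist.twistProjSpace 1 k d), ⊤) := by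
  let V := Twist.twistProjSpace 1 k d
  haveI : Subsingleton Γ(V, ⊤) := PnCoh.subsingleton_global (ι := Fin (1 + 1)) (R := k) (by simp) hd
  obtain ⟨a, b, hab, -⟩ := PnEuler.exists_decomp V (Iso.refl (FlatMod.freeMod (CohB1.ProjSpace 1 k) r))
  obtain ⟨e⟩ := cl_eq_iff.1 (show PicF.cl (CohB1.tensorMod (FlatMod.freeMod (CohB1.ProjSpace 1 k) r) V) =
      PicF.cl (((DCoh.tensorBi).obj V).obj (FlatMod.freeMod (CohB1.ProjSpace 1 k) r)) by
    rw [cl_tensor, PnEuler.cl_tens, mul_comm])
  haveI : Subsingleton Γ(((DCoh.tensorBi).obj V).obj (FlatMod.freeMod (CohB1.ProjSpace 1 k) r), ⊤) := by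
    suffices h : ∀ t : Γ(((DCoh.tensorBi).obj V).obj (FlatMod.freeMod (CohB1.ProjSpace 1 k) r), ⊤), t = 0 from
      ⟨fun u v => (h u).trans (h v).symm⟩
    intro t
    have h1 := congr($(congrArg (fun φ => Scheme.Modules.Hom.app φ ⊤) hab) t)
    refine h1.symm.trans ?_
    rw [H23.Frame.app_sum]
    refine Finset.sum_eq_zero fun j _ => ?_
    show (b j).app ⊤ ((a j).app ⊤ t) = 0
    rw [Subsingleton.elim ((a j).app ⊤ t) 0, map_zero]
  exact (ConcreteCategory.bijective_of_isIso (e.hom.app ⊤)).1.subsingleton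

/-- A bundle trivial on one line has no sections in negative twists. -/
theorem subsingleton_h0 [IsAlgClosed k] {r : ℕ} : ∀ (n : ℕ) (E : (CohB1.ProjSpace n k).Modules),
    FlatMod.IsFinLocFreeOfRank r E → ∀ (i : CohB1.ProjSpace 1 k ⟶ CohB1.ProjSpace n k), IsClosedImmersion i →
    i ≫ CohB1.ProjSpace.toSpec n k = CohB1.ProjSpace.toSpec 1 k →
    Nonempty ((Scheme.Modules.pullback i).obj (Twist.twistProjSpace n k 1) ≅ Twist.twistProjSpace 1 k 1) →
    Nonempty ((Scheme.Modules.pullback i).obj E ≅ FlatMod.freeMod (CohB1.ProjSpace 1 k) r) →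
    ∀ d : ℕ, 1 ≤ d →
      Subsingleton Γ(CohB1.tensorMod E (Twist.twistProjSpace n k (-(d : ℤ))), ⊤) := by
  intro n
  induction n using Nat.strong_induction_on with
  | h n ih =>
    intro E hE i hci hi hO htriv d hd
    haveI := hci
    haveI : IsIntegral (CohB1.ProjSpace n k) := H23.PnChart.isIntegral_projSpace n k
    obtain ⟨et⟩ := htriv
    have hline : ∀ d : ℕ, 1 ≤ d → Subsingleton
        Γ((Scheme.Modules.pullback i).obj (CohB1.tensorMod E (Twist.twistProjSpace n k (-(d : ℤ)))), ⊤) := by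
      intro d hd
      obtain ⟨e⟩ := pullback_twist_free i hO et (-(d : ℤ))
      exact subsingleton_sections (QCoh.subsingleton_HH_of_iso e.symm 0
        (subsingleton_HH0 (subsingleton_free_twist r (by omega))))
    rcases Nat.lt_or_ge n 2 with hn | hn
    · haveI : IsIso i := by
        haveI : Surjective i := ⟨surjective_line (by omega) i⟩
        exact isIso_of_isClosedImmersion_of_surjective i
      haveI := hline d hd
      let T := CohB1.tensorMod E (Twist.twistProjSpace n k (-(d : ℤ)))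
      have hT : Coh.IsQCoh T := QCoh.isQCoh_of_isFinLocFree (PnEuler.isFinLocFree_tensorMod
        (H28.KvbModel.lf_of_rank hE) (H28.KvbModel.lf_of_rank (Rank2Pn.rank_O _)))
      let η := (Scheme.Modules.pullbackPushforwardAdjunction i).unit.app T
      haveI hsub : Subsingleton Γ((Scheme.Modules.pushforward i).obj ((Scheme.Modules.pullback i).obj T), ⊤) :=
        hline d hd
      suffices h : ∀ t : Γ(T, ⊤), t = 0 from ⟨fun u v => (h u).trans (h v).symm⟩
      intro t
      have ht : η.app ⊤ t = 0 := @Subsingleton.elim _ hsub _ _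
      refine AModX.eq_of_locally (M := T) _ _ fun x _ => ?_
      obtain ⟨_, ⟨W, hW, rfl⟩, hxW, -⟩ :=
        (CohB1.ProjSpace n k).isBasis_affineOpens.exists_subset_of_mem_open (Set.mem_univ x) isOpen_univ
      refine ⟨W, le_top, hxW, ?_⟩
      have h2 := ((QCoh.unit_app_closed i hT hW).2 (res T le_top t)).1 ((app_res η le_top t).trans (by rw [ht, map_zero]))
      rw [Scheme.Hom.ker_eq_bot_of_isIso, Scheme.IdealSheafData.ideal_bot] at h2
      rw [map_zero]
      simpa using h2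
    obtain ⟨n, rfl⟩ : ∃ n', n = n' + 1 := ⟨n - 1, by omega⟩
    obtain ⟨s, hs, hs0⟩ := exists_form hn i hi hO
    obtain ⟨φ, hφq, ⟨τ⟩⟩ := HyperIso.exists_iso k n s hs
    let Zs := PicF2.zeroScheme (Twist.twistProjSpace (n + 1) k 1) s
    have hL : PicF.IsInvertible (Twist.twistProjSpace (n + 1) k 1) := HyperplaneLib.isInvertible_O1 _ _
    let a : CohB1.ProjSpace 1 k ⟶ Zs.subscheme := IsClosedImmersion.lift Zs.subschemeι i (by
      rw [Scheme.IdealSheafData.ker_subschemeι]
      exact HyperplaneLib.zeroScheme_le_ker hL s i hs0)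
    let i' : CohB1.ProjSpace 1 k ⟶ CohB1.ProjSpace n k := a ≫ φ.inv
    let j := φ.hom ≫ Zs.subschemeι
    have hij : i' ≫ j = i := by
      simp only [i', j, Category.assoc, Iso.inv_hom_id_assoc]
      exact IsClosedImmersion.lift_fac _ _ _
    haveI : IsClosedImmersion i' := by
      haveI : IsClosedImmersion (i' ≫ j) := hij ▸ hci
      exact IsClosedImmersion.of_comp i' j
    have hker : j.ker = Zs := by
      show (φ.hom ≫ Zs.subschemeι).ker = _
      rw [Scheme.Hom.ker_comp_of_isIso, Scheme.IdealSheafData.ker_subschemeι]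
    have hjq : j ≫ CohB1.ProjSpace.toSpec (n + 1) k = CohB1.ProjSpace.toSpec n k := hφq
    have hi' : i' ≫ CohB1.ProjSpace.toSpec n k = CohB1.ProjSpace.toSpec 1 k := by
      rw [← hjq, ← Category.assoc, hij, hi]
    have hO' : Nonempty ((Scheme.Modules.pullback i').obj (Twist.twistProjSpace n k 1) ≅ Twist.twistProjSpace 1 k 1) :=
      ⟨(Scheme.Modules.pullback i').mapIso τ.symm ≪≫ (Scheme.Modules.pullbackComp i' j).app _ ≪≫
        (Scheme.Modules.pullbackCongr hij).app _ ≪≫ hO.some⟩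
    let E' := (Scheme.Modules.pullback j).obj E
    have hH := ih n (by omega) E' (TFOneX.isFinLocFreeOfRank_pullback j hE) i' inferInstance hi' hO'
      ⟨(Scheme.Modules.pullbackComp i' j).app E ≪≫ (Scheme.Modules.pullbackCongr hij).app _ ≪≫ et⟩
    obtain ⟨N₀, hN₀⟩ := exists_vanish (by omega : 1 ≤ n + 1) hE
    suffices key : ∀ m d : ℕ, N₀ ≤ d + m → 1 ≤ d →
        Subsingleton Γ(CohB1.tensorMod E (Twist.twistProjSpace (n + 1) k (-(d : ℤ))), ⊤) from
      key N₀ d (by omega) hd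
    intro m
    induction m with
    | zero => exact fun d hd _ => subsingleton_sections (hN₀ d hd)
    | succ m ihm =>
      intro d hd h1
      haveI h0 := ihm (d + 1) (by omega) (by omega)
      let M := CohB1.tensorMod E (Twist.twistProjSpace (n + 1) k (-((d + 1 : ℕ) : ℤ)))
      have hcl : PicF.cl ((DCoh.tensorBi.obj M).obj (Twist.twistProjSpace (n + 1) k 1)) =
          PicF.cl (CohB1.tensorMod E (Twist.twistProjSpace (n + 1) k (-(d : ℤ)))) := by
        rw [PnEuler.cl_tens, cl_tensor, cl_tensor, mul_assoc, PnEuler.tw_add]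
        congr 3
        push_cast
        ring
      obtain ⟨e⟩ := cl_eq_iff.1 hcl
      obtain ⟨eH⟩ := pullback_twist_free j ⟨τ⟩ (Iso.refl E') (-(d : ℤ))
      haveI := subsingleton_tensor_of_restrict hL hs
        (PnEuler.isFinLocFree_tensorMod (H28.KvbModel.lf_of_rank hE) (H28.KvbModel.lf_of_rank (Rank2Pn.rank_O _))) j hker h0
        (subsingleton_sections (QCoh.subsingleton_HH_of_iso
          (((Scheme.Modules.pullback j).mapIso e ≪≫ eH).symm) 0 (subsingleton_HH0 (hH d h1))))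
      exact (ConcreteCategory.bijective_of_isIso (e.inv.app ⊤)).1.subsingleton

end Groth.Agent.Synt29.HyperH0
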