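import Groth.Agent.Synt29.QuadricX
import Groth.Agent.Lib.PnDualExt
import Groth.Agent.Lib.TwistSumInv
import Groth.Agent.Lib.RegEpiGen
import Groth.Agent.Lib.CurveVanish
import Groth.Agent.Lib.KoszulChop
import Groth.Agent.H28.PBPush

/-!
# Kernels of maps `O(1,0)^r ⊕ O(0,1)^r → O(1,1)^r` on the quadric
-/

set_option autoImplicit false
set_option linter.style.haveILetI false
set_option linter.unusedSectionVars false
set_option backward.isDefEq.respectTransparency false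
set_option backward.isDefEq.respectTransparency.types false
set_option maxHeartbeats 1000000
set_option synthInstance.maxHeartbeats 400000

universe u

open CategoryTheory CategoryTheory.Limits AlgebraicGeometry TopologicalSpace Opposite
open CategoryTheory.Abelian
open scoped Groth.Agent.H23.PicMul

noncomputable section

namespace Groth.Agent.Synt29.Quadric

open Groth.Agent Groth.Agent.H23.PicMul

section Dim

variable {k : Type u} [Field k] {X : Scheme.{u}} [X.Over (Spec (CommRingCat.of k))]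

variable (k) in
/-- The space of sections has dimension `n`. -/
abbrev HasH0 (M : X.Modules) (n : ℕ) : Prop :=
  Module.Finite k (Coh.HH X M 0) ∧ Module.finrank k (Coh.HH X M 0) = n

theorem hasH0_of_bijective {A B : X.Modules} (φ : A ⟶ B) (h : Function.Bijective (Canon.HHlin k φ 0)) {n : ℕ}
    (hA : HasH0 k A n) : HasH0 k B n := by
  let e := LinearEquiv.ofBijective (Canon.HHlin k φ 0) h
  haveI := hA.1
  exact ⟨Module.Finite.equiv e, e.finrank_eq.symm.trans hA.2⟩

theorem hasH0_iso {A B : X.Modules} (e : A ≅ B) {n : ℕ} (hA : HasH0 k A n) : HasH0 k B n := by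
  refine hasH0_of_bijective e.hom ?_ hA
  refine Function.bijective_iff_has_inverse.2 ⟨Canon.HHlin k e.inv 0, fun x => ?_, fun x => ?_⟩
  · rw [PnDual.HHlin_comp, e.hom_inv_id, PnDual.HHlin_id]
  · rw [PnDual.HHlin_comp, e.inv_hom_id, PnDual.HHlin_id]

theorem hasH0_sigma {b n : ℕ} (T : Fin b → X.Modules) (h : ∀ j, HasH0 k (T j) n) :
    HasH0 k (∐ T) (b * n) := by
  classical
  haveI := fun j => (h j).1
  refine ⟨?_, ?_⟩
  · let p : ∀ j, ∐ T ⟶ T j := fun j => Sigma.desc fun i => if h : i = j then eqToHom (by rw [h]) else 0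
    have hid : ∑ j, p j ≫ Sigma.ι T j = 𝟙 (∐ T) := by
      refine Sigma.hom_ext _ _ fun i => ?_
      rw [Preadditive.comp_sum, Category.comp_id, Finset.sum_eq_single i]
      · simp [p]
      · intro j _ hj
        simp [p, Ne.symm hj]
      · simp
    refine Module.Finite.of_injective (LinearMap.pi fun j => Canon.HHlin k (p j) 0) fun x y hxy => ?_
    have hx : ∀ z, Canon.HHlin k (∑ j, p j ≫ Sigma.ι T j) 0 z = z := fun z => by rw [hid, PnDual.HHlin_id]
    rw [← hx x, ← hx y, PnDual.HHlin_sum, PnDual.HHlin_sum]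
    refine Finset.sum_congr rfl fun j _ => ?_
    rw [← PnDual.HHlin_comp, ← PnDual.HHlin_comp]
    exact congrArg _ (congrFun hxy j)
  · rw [TwistSum.finrank_HH_sigma]
    simp [fun j => (h j).2]

theorem hasH0_biprod {A B : X.Modules} {m n : ℕ} (hA : HasH0 k A m) (hB : HasH0 k B n) :
    HasH0 k (A ⊞ B) (m + n) := by
  haveI := hA.1
  haveI := hB.1
  let f := (Canon.HHlin k (biprod.fst : A ⊞ B ⟶ A) 0).prod (Canon.HHlin k (biprod.snd : A ⊞ B ⟶ B) 0)
  have hsum : ∀ x, Canon.HHlin k ((biprod.fst : A ⊞ B ⟶ A) ≫ biprod.inl + biprod.snd ≫ biprod.inr) 0 x = x := by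
    intro x
    rw [biprod.total, PnDual.HHlin_id]
  have hadd : ∀ {C D : X.Modules} (φ ψ : C ⟶ D) (x : Coh.HH X C 0),
      Canon.HHlin k (φ + ψ) 0 x = Canon.HHlin k φ 0 x + Canon.HHlin k ψ 0 x := fun φ ψ x => by
    show Sheaf.H.map ((QCoh.toAbFunctor X).map (φ + ψ)) 0 x = _
    rw [Functor.map_add]
    exact Sheaf.H.map_add_apply _ _ _
  have hzero : ∀ {C D : X.Modules} (x : Coh.HH X C 0), Canon.HHlin k (0 : C ⟶ D) 0 x = 0 := fun x =>
    TwistSum.HHlin_zero' 0 x
  have hb : Function.Bijective f := by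
    refine ⟨fun x y hxy => ?_, fun z => ⟨Canon.HHlin k biprod.inl 0 z.1 + Canon.HHlin k biprod.inr 0 z.2, ?_⟩⟩
    · rw [← hsum x, ← hsum y, hadd, hadd, ← PnDual.HHlin_comp, ← PnDual.HHlin_comp, ← PnDual.HHlin_comp,
        ← PnDual.HHlin_comp]
      exact congrArg₂ (fun a b => Canon.HHlin k (biprod.inl : A ⟶ A ⊞ B) 0 a +
        Canon.HHlin k (biprod.inr : B ⟶ A ⊞ B) 0 b) (congrArg Prod.fst hxy) (congrArg Prod.snd hxy)
    · refine Prod.ext ?_ ?_ <;>
        simp only [f, LinearMap.prod_apply, Function.prod_apply, Pi.prod, map_add, PnDual.HHlin_comp,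
          biprod.inl_fst, biprod.inr_fst, biprod.inl_snd, biprod.inr_snd, PnDual.HHlin_id, hzero, add_zero,
          zero_add, Prod.fst_add, Prod.snd_add, Prod.mk_add_mk]
  let e := LinearEquiv.ofBijective f hb
  refine ⟨Module.Finite.equiv e.symm, ?_⟩
  rw [e.finrank_eq, Module.finrank_prod, hA.2, hB.2]

/-- Sections of the quotient when the kernel has no cohomology. -/
theorem bijective_g {S : ShortComplex X.Modules} (hS : S.ShortExact) (h0 : Subsingleton (Coh.HH X S.X₁ 0))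
    (h1 : Subsingleton (Coh.HH X S.X₁ 1)) : Function.Bijective (Canon.HHlin k S.g 0) := by
  have hT := QCoh.toAb_shortExact hS
  refine ⟨(injective_iff_map_eq_zero _).2 fun x hx => ?_, fun x => ?_⟩
  · obtain ⟨y, rfl⟩ := Ext.covariant_sequence_exact₂ _ hT x hx
    rw [h0.elim y 0]
    exact Ext.zero_comp _ _ _ _ _
  · obtain ⟨y, hy⟩ := Ext.covariant_sequence_exact₃ _ hT x (zero_add 1) (h1.elim _ _)
    exact ⟨y, hy⟩

/-- No sections in the kernel of an injective map. -/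
theorem subsingleton_HH_zero_kernel {A B : X.Modules} (φ : A ⟶ B)
    (h : Function.Injective (Canon.HHlin k φ 0)) : Subsingleton (Coh.HH X (kernel φ) 0) := by
  have hinj : Function.Injective (Canon.HHlin k (kernel.ι φ) 0) :=
    PnDual.HHlin_f_injective (S := ShortComplex.mk (kernel.ι φ) (cokernel.π (kernel.ι φ)) (cokernel.condition _))
      { exact := ShortComplex.exact_of_g_is_cokernel _ (cokernelIsCokernel _) }
  refine subsingleton_of_forall_eq 0 fun x => hinj (h ?_)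
  rw [map_zero, map_zero, PnDual.HHlin_comp, kernel.condition, TwistSum.HHlin_zero']

/-- No `H¹` in the kernel of an epimorphism surjective on sections. -/
theorem subsingleton_HH_one_kernel {S : ShortComplex X.Modules} (hS : S.ShortExact)
    (h : Function.Surjective (Canon.HHlin k S.g 0)) (h₂ : Subsingleton (Coh.HH X S.X₂ 1)) :
    Subsingleton (Coh.HH X S.X₁ 1) := by
  have hT := QCoh.toAb_shortExact hS
  refine subsingleton_of_forall_eq 0 fun x => ?_
  obtain ⟨z, rfl⟩ := Ext.covariant_sequence_exact₁ _ hT x (h₂.elim _ _) rfl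
  obtain ⟨y, rfl⟩ := h z
  show (Ext.comp y (Ext.mk₀ _) (add_zero 0)).comp hT.extClass rfl = 0
  rw [Ext.comp_assoc_of_second_deg_zero]
  exact (congrArg (fun e => Ext.comp y e (zero_add 1)) hT.comp_extClass).trans (Ext.comp_zero y _ _ _ _)

end Dim

section Quad

variable {k : Type u} [Field k] [IsAlgClosed k]

/-- The quadric over the field. -/
instance instOverXQ : (XQ k).Over (Spec (CommRingCat.of k)) := ⟨xTo k⟩

attribute [local instance] GeomField.globalAlgebra

theorem hasH0_zero : HasH0 k (OX k 0 0) 1 := by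
  obtain ⟨e⟩ := cl_eq_iff.1 ((cl_OX_zero (k := k)).trans one_def)
  refine hasH0_iso e.symm ?_
  have hb : Function.Bijective (algebraMap k Γ(XQ k, ⊤)) :=
    (bijective_xTo (k := k)).comp (ConcreteCategory.bijective_of_isIso (Scheme.ΓSpecIso (CommRingCat.of k)).inv)
  have h1 : Module.finrank k (Coh.HH (XQ k) (Coh.structureModule (XQ k)) 0) = 1 := by
    rw [GeomField.finrank_HH_zero]
    let e : k ≃ₗ[k] Γ(XQ k, ⊤) := LinearEquiv.ofBijective (Algebra.linearMap k Γ(XQ k, ⊤)) hb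
    rw [← e.finrank_eq, Module.finrank_self]
  exact ⟨Module.finite_of_finrank_eq_succ h1, h1⟩

theorem hasH0_left_succ (b : ℤ) (hb : -1 ≤ b) {n : ℕ} (h : HasH0 k (OX k 0 b) n) : HasH0 k (OX k 1 b) (n + n) := by
  obtain ⟨S, hS, ⟨e₁⟩, ⟨e₂⟩, ⟨e₃⟩⟩ := exists_koszul_left (k := k) 1 b
  have h2 : HasH0 k S.X₂ (n + n) :=
    hasH0_iso e₂.symm (hasH0_biprod (by simpa using h) (by simpa using h))
  refine hasH0_iso e₃ (hasH0_of_bijective S.g (bijective_g hS ?_ ?_) h2)
  · refine QCoh.subsingleton_HH_of_iso e₁.symm 0 ?_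
    exact hh_neg_one b 0
  · refine QCoh.subsingleton_HH_of_iso e₁.symm 1 ?_
    exact hh_neg_one b 1

theorem hasH0_right : HasH0 k (OX k 0 1) 2 := by
  obtain ⟨S, hS, ⟨e₁⟩, ⟨e₂⟩, ⟨e₃⟩⟩ := exists_koszul_right (k := k) 0 1
  have h2 : HasH0 k S.X₂ (1 + 1) :=
    hasH0_iso e₂.symm (hasH0_biprod (by simpa using hasH0_zero (k := k)) (by simpa using hasH0_zero (k := k)))
  refine hasH0_iso e₃ (hasH0_of_bijective S.g (bijective_g hS ?_ ?_) h2)
  · refine QCoh.subsingleton_HH_of_iso e₁.symm 0 ?_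
    exact hh_zero_right 0 (1 - 2) (by norm_num)
  · refine QCoh.subsingleton_HH_of_iso e₁.symm 1 ?_
    exact hh_pos 0 (1 - 2) (by norm_num) (by norm_num) 1 le_rfl

variable (k) in
/-- Twisting by `O(a, b)`. -/
abbrev tw (a b : ℤ) : (XQ k).Modules ⥤ (XQ k).Modules := DCoh.tensorBi.obj (OX k a b)

theorem nonempty_tw_OX (a b c d : ℤ) : Nonempty ((tw k a b).obj (OX k c d) ≅ OX k (a + c) (b + d)) :=
  cl_eq_iff.1 ((cl_tensor (OX k a b) (OX k c d)).trans (cl_OX_mul a b c d))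

variable {r : ℕ} {Q₁ Q₂ P : (XQ k).Modules} (e₁ : Q₁ ≅ ∐ fun _ : Fin r => OX k 1 0)
  (e₂ : Q₂ ≅ ∐ fun _ : Fin r => OX k 0 1) (eP : P ≅ ∐ fun _ : Fin r => OX k 1 1)

theorem hh_tw_sigma (a b c d : ℤ) (i : ℕ) (M : (XQ k).Modules) (e : M ≅ ∐ fun _ : Fin r => OX k c d)
    (h : Subsingleton (Coh.HH (XQ k) (OX k (a + c) (b + d)) i)) :
    Subsingleton (Coh.HH (XQ k) ((tw k a b).obj M) i) := by
  classical
  let T := fun _ : Fin r => OX k c d
  let p : ∀ j, M ⟶ T j := fun j => e.hom ≫ Sigma.desc fun i => if i = j then 𝟙 _ else 0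
  let q : ∀ j, T j ⟶ M := fun j => Sigma.ι T j ≫ e.inv
  have hid : ∑ j, p j ≫ q j = 𝟙 M := by
    have h1 : ∑ j, (Sigma.desc fun i => if i = j then 𝟙 _ else 0 : ∐ T ⟶ T j) ≫ Sigma.ι T j
        = 𝟙 (∐ T) := by
      refine Sigma.hom_ext _ _ fun i => ?_
      rw [Preadditive.comp_sum, Category.comp_id, Finset.sum_eq_single i]
      · simp
      · intro j _ hj
        simp [Ne.symm hj]
      · simp
    calc ∑ j, p j ≫ q j = e.hom ≫ (∑ j, (Sigma.desc fun i => if i = j then 𝟙 _ else 0 :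
          ∐ T ⟶ T j) ≫ Sigma.ι T j) ≫ e.inv := by
            simp only [p, q, T, Preadditive.comp_sum, Preadditive.sum_comp, Category.assoc]
      _ = 𝟙 M := by rw [h1, Category.id_comp, Iso.hom_inv_id]
  haveI : (tw k a b).Additive := Functor.additive_of_preserves_binary_products _
  refine PnCoh.Finite.subsingleton_HH_of_decomposition (fun j => (tw k a b).obj (T j))
    (fun j => (tw k a b).map (p j)) (fun j => (tw k a b).map (q j)) ?_ i
    (fun j => QCoh.subsingleton_HH_of_iso (nonempty_tw_OX a b c d).some.symm i h)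
  rw [Finset.sum_congr rfl fun j _ => ((tw k a b).map_comp (p j) (q j)).symm, ← Functor.map_sum, hid]
  exact (tw k a b).map_id M

variable (m : Q₁ ⊞ Q₂ ⟶ P) [Epi m]

omit [IsAlgClosed k] in
theorem kernel_shortExact :
    (ShortComplex.mk (kernel.ι m) m (kernel.condition m)).ShortExact :=
  ShortComplex.ShortExact.mk' (ShortComplex.exact_of_f_is_kernel _ (kernelIsKernel m)) inferInstance inferInstance

theorem kernel_tw_shortExact (a b : ℤ) :
    ((ShortComplex.mk (kernel.ι m) m (kernel.condition m)).map (tw k a b)).ShortExact :=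
  H28.PBPush.shortExact_tens (lf_OX a b) (kernel_shortExact m)

include e₁ e₂ in
theorem hh_tw_mid (a b : ℤ) (i : ℕ) (h₁ : Subsingleton (Coh.HH (XQ k) (OX k (a + 1) b) i))
    (h₂ : Subsingleton (Coh.HH (XQ k) (OX k a (b + 1)) i)) :
    Subsingleton (Coh.HH (XQ k) ((tw k a b).obj (Q₁ ⊞ Q₂)) i) := by
  haveI : (tw k a b).Additive := Functor.additive_of_preserves_binary_products _
  haveI : PreservesBinaryBiproducts (tw k a b) := preservesBinaryBiproducts_of_preservesBiproducts _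
  refine QCoh.subsingleton_HH_of_iso ((tw k a b).mapBiprod Q₁ Q₂).symm i ?_
  refine KoszulChop.subsingleton_HH_biprod i ?_ ?_
  · exact hh_tw_sigma a b 1 0 i Q₁ e₁ (by simpa using h₁)
  · exact hh_tw_sigma a b 0 1 i Q₂ e₂ (by simpa using h₂)

include e₁ e₂ eP in
/-- `H²(F(a, b))` vanishes for `a, b ≥ -1`, and for some negative twists. -/
theorem hh_two (a b : ℤ) (hP : Subsingleton (Coh.HH (XQ k) (OX k (a + 1) (b + 1)) 1))
    (h₁ : Subsingleton (Coh.HH (XQ k) (OX k (a + 1) b) 2))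
    (h₂ : Subsingleton (Coh.HH (XQ k) (OX k a (b + 1)) 2)) :
    Subsingleton (Coh.HH (XQ k) ((tw k a b).obj (kernel m)) 2) :=
  CurveVanish.subsingleton_HH_X₁ (kernel_tw_shortExact m a b) 1 (hh_tw_mid e₁ e₂ a b 2 h₁ h₂)
    (hh_tw_sigma a b 1 1 1 P eP hP)


omit [IsAlgClosed k] in
include e₁ e₂ eP in
theorem lf_kernel : FlatMod.IsFinLocFree (kernel m) := by
  have hs : ∀ a b : ℤ, FlatMod.IsFinLocFree (∐ fun _ : Fin r => OX k a b) := fun a b =>
    KFlatLib.isFinLocFree_sigma (fun _ : Fin r => OX k a b) Finset.univ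
      (fun i hi => absurd (Finset.mem_univ i) hi) fun _ => lf_OX a b
  exact H28.GenPush.lf_X₁ (kernel_shortExact m)
    (KFlatLib.isFinLocFree_biprod (H23.PullPush.isFinLocFree_of_iso e₁.symm (hs 1 0))
      (H23.PullPush.isFinLocFree_of_iso e₂.symm (hs 0 1)))
    (H23.PullPush.isFinLocFree_of_iso eP.symm (hs 1 1))

include e₁ e₂ eP in
theorem hh_two_pos (a b : ℤ) (ha : -1 ≤ a) (hb : -1 ≤ b) :
    Subsingleton (Coh.HH (XQ k) ((tw k a b).obj (kernel m)) 2) :=
  hh_two e₁ e₂ eP m a b (hh_pos _ _ (by omega) (by omega) 1 le_rfl)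
    (hh_pos _ _ (by omega) hb 2 (by norm_num)) (hh_pos _ _ ha (by omega) 2 (by norm_num))

/-- The Koszul step on a bundle. -/
theorem hh_koszul_step {F : (XQ k).Modules} (hF : FlatMod.IsFinLocFree F) {a b a₁ b₁ a₂ b₂ : ℤ}
    (S : ShortComplex (XQ k).Modules) (hS : S.ShortExact) (e₁' : S.X₁ ≅ OX k a₂ b₂)
    (e₂' : S.X₂ ≅ OX k a₁ b₁ ⊞ OX k a₁ b₁) (e₃' : S.X₃ ≅ OX k a b) (i : ℕ)
    (h₁ : Subsingleton (Coh.HH (XQ k) ((tw k a₁ b₁).obj F) i))
    (h₂ : Subsingleton (Coh.HH (XQ k) ((tw k a₂ b₂).obj F) (i + 1))) :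
    Subsingleton (Coh.HH (XQ k) ((tw k a b).obj F) i) := by
  let G := DCoh.tensorBi.obj F
  haveI : G.Additive := Functor.additive_of_preserves_binary_products _
  haveI : PreservesBinaryBiproducts G := preservesBinaryBiproducts_of_preservesBiproducts _
  have c : ∀ p q, Nonempty (G.obj (OX k p q) ≅ (tw k p q).obj F) := fun p q => comm F (OX k p q)
  have hS' := H28.PBPush.shortExact_tens hF hS
  refine QCoh.subsingleton_HH_of_iso (G.mapIso e₃' ≪≫ (c a b).some) i ?_
  refine PnCoh.Finite.subsingleton_HH_X₃ hS' i ?_ ?_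
  · refine QCoh.subsingleton_HH_of_iso (G.mapIso e₂' ≪≫ G.mapBiprod _ _).symm i ?_
    exact KoszulChop.subsingleton_HH_biprod i (QCoh.subsingleton_HH_of_iso (c a₁ b₁).some.symm i h₁)
      (QCoh.subsingleton_HH_of_iso (c a₁ b₁).some.symm i h₁)
  · exact QCoh.subsingleton_HH_of_iso (G.mapIso e₁' ≪≫ (c a₂ b₂).some).symm (i + 1) h₂

variable (hm : Function.Surjective (Canon.HHlin k m 0))

include e₁ e₂ eP hm in
theorem injective_m : Function.Injective (Canon.HHlin k m 0) := by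
  have h10 : HasH0 k (OX k 1 0) 2 := hasH0_left_succ 0 (by norm_num) hasH0_zero
  have h11 : HasH0 k (OX k 1 1) 4 := hasH0_left_succ 1 (by norm_num) hasH0_right
  have hQ := hasH0_biprod (hasH0_iso e₁.symm (hasH0_sigma (k := k) _ fun _ : Fin r => h10))
    (hasH0_iso e₂.symm (hasH0_sigma (k := k) _ fun _ : Fin r => hasH0_right (k := k)))
  have hP := hasH0_iso eP.symm (hasH0_sigma (k := k) _ fun _ : Fin r => h11)
  haveI := hQ.1
  haveI := hP.1
  exact (LinearMap.injective_iff_surjective_of_finrank_eq_finrank (by rw [hQ.2, hP.2]; ring)).2 hm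

include e₁ e₂ eP hm in
theorem hh_zero_kernel : Subsingleton (Coh.HH (XQ k) (kernel m) 0) :=
  subsingleton_HH_zero_kernel m (injective_m e₁ e₂ eP m hm)

omit [IsAlgClosed k] in
theorem nonempty_tw_zero (F : (XQ k).Modules) : Nonempty ((tw k 0 0).obj F ≅ F) :=
  cl_eq_iff.1 (show PicF.cl (CohB1.tensorMod (OX k 0 0) F) = PicF.cl F by
    rw [cl_tensor, cl_OX_zero, one_mul])

include e₁ e₂ hm in
theorem hh_one_kernel : Subsingleton (Coh.HH (XQ k) (kernel m) 1) := by
  refine subsingleton_HH_one_kernel (kernel_shortExact m) hm ?_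
  exact QCoh.subsingleton_HH_of_iso (nonempty_tw_zero (Q₁ ⊞ Q₂)).some 1
    (hh_tw_mid e₁ e₂ 0 0 1 (hh_pos _ _ (by norm_num) (by norm_num) 1 le_rfl)
      (hh_pos _ _ (by norm_num) (by norm_num) 1 le_rfl))

include e₁ e₂ eP hm in
theorem hh_one_row : ∀ b : ℕ, Subsingleton (Coh.HH (XQ k) ((tw k 0 (b : ℤ)).obj (kernel m)) 1)
  | 0 => QCoh.subsingleton_HH_of_iso (nonempty_tw_zero (kernel m)).some.symm 1 (hh_one_kernel e₁ e₂ m hm)
  | b + 1 => by
    obtain ⟨S, hS, ⟨f₁⟩, ⟨f₂⟩, ⟨f₃⟩⟩ := exists_koszul_right (k := k) 0 ((b + 1 : ℕ) : ℤ)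
    refine hh_koszul_step (lf_kernel e₁ e₂ eP m) S hS f₁ f₂ f₃ 1 ?_
      (hh_two_pos e₁ e₂ eP m _ _ (by norm_num) (by omega))
    rw [show ((b + 1 : ℕ) : ℤ) - 1 = (b : ℤ) by omega]
    exact hh_one_row b

include e₁ e₂ eP hm in
theorem hh_one_grid (b : ℕ) : ∀ a : ℕ, Subsingleton (Coh.HH (XQ k) ((tw k (a : ℤ) (b : ℤ)).obj (kernel m)) 1)
  | 0 => hh_one_row e₁ e₂ eP m hm b
  | a + 1 => by
    obtain ⟨S, hS, ⟨f₁⟩, ⟨f₂⟩, ⟨f₃⟩⟩ := exists_koszul_left (k := k) ((a + 1 : ℕ) : ℤ) (b : ℤ)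
    refine hh_koszul_step (lf_kernel e₁ e₂ eP m) S hS f₁ f₂ f₃ 1 ?_
      (hh_two_pos e₁ e₂ eP m _ _ (by omega) (by omega))
    rw [show ((a + 1 : ℕ) : ℤ) - 1 = (a : ℤ) by omega]
    exact hh_one_grid b a

include e₁ e₂ eP hm in
/-- No `H¹` in any even twist. -/
theorem hh_one_twists (t : ℤ) : Subsingleton (Coh.HH (XQ k) ((tw k (2 * t) (2 * t)).obj (kernel m)) 1) := by
  rcases le_or_gt 0 t with h | h
  · obtain ⟨n, hn⟩ : ∃ n : ℕ, 2 * t = (n : ℤ) := ⟨(2 * t).toNat, by omega⟩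
    rw [hn]
    exact hh_one_grid e₁ e₂ eP m hm n n
  · refine CurveVanish.subsingleton_HH_X₁ (kernel_tw_shortExact m (2 * t) (2 * t)) 0 ?_ ?_
    · exact hh_tw_mid e₁ e₂ _ _ 1 (hh_one_neg _ _ (by omega) (by omega)) (hh_one_neg _ _ (by omega) (by omega))
    · exact hh_tw_sigma _ _ 1 1 0 P eP (hh_zero_left _ _ (by omega))

include e₁ e₂ eP in
/-- `H²(F(-2, -2)) = 0`. -/
theorem hh_two_dual : Subsingleton (Coh.HH (XQ k) ((tw k (-2) (-2)).obj (kernel m)) 2) :=
  hh_two e₁ e₂ eP m (-2) (-2) (hh_one_neg _ _ (by norm_num) (by norm_num))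
    (by simpa using hh_neg_one (k := k) (-2) 2)
    (by simpa using hh_swap (k := k) (-2) (-1) 2 (hh_neg_one (-2) 2))

end Quad

end Groth.Agent.Synt29.Quadric
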