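import Mathlib

/-!
A local ring whose quotient by a regular sequence is formally smooth is formally smooth.
-/

universe u

open TensorProduct IsLocalRing KaehlerDifferential RingTheory.Sequence

set_option linter.style.haveILetI false

namespace Groth.Agent.Synt29.RegSmooth

/-- An ideal meets the ideal of a sequence regular modulo it in their product. -/
theorem inf_ofList_le_mul {P : Type u} [CommRing P] (K : Ideal P) (l : List P)
    (h : ∀ (i : ℕ) (hi : i < l.length) (x : P), l[i] * x ∈ K ⊔ Ideal.ofList (l.take i) →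
      x ∈ K ⊔ Ideal.ofList (l.take i)) :
    K ⊓ Ideal.ofList l ≤ K * Ideal.ofList l := by
  induction l using List.reverseRecOn with
  | nil => simp
  | append_singleton l g ih =>
    have ih' := ih fun i hi x hx => by
      have h' := h i (by simp; omega) x
      rw [List.getElem_append_left hi, List.take_append_of_le_length hi.le] at h'
      exact h' hx
    rw [Ideal.ofList_append, Ideal.ofList_singleton]
    intro x hx
    obtain ⟨hxK, hxJ⟩ := Submodule.mem_inf.1 hx
    obtain ⟨j, hj, z, hz, rfl⟩ := Submodule.mem_sup.1 hxJ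
    obtain ⟨c, rfl⟩ := Ideal.mem_span_singleton'.1 hz
    have hgc : g * c ∈ K ⊔ Ideal.ofList l := by
      rw [show g * c = (j + c * g) - j by ring]
      exact Ideal.sub_mem _ (Ideal.mem_sup_left hxK) (Ideal.mem_sup_right hj)
    have h' := h l.length (by simp) c
    rw [List.getElem_concat_length (by simp), List.take_left] at h'
    obtain ⟨κ, hκ, w, hw, rfl⟩ := Submodule.mem_sup.1 (h' hgc)
    have h1 : j + w * g ∈ K * Ideal.ofList l := ih' ⟨by
      rw [show j + w * g = (j + (κ + w) * g) - κ * g by ring]
      exact Ideal.sub_mem _ hxK (Ideal.mul_mem_right _ _ hκ), Ideal.add_mem _ hj (Ideal.mul_mem_right _ _ hw)⟩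
    rw [show j + (κ + w) * g = (j + w * g) + κ * g by ring, Ideal.mul_sup]
    exact Submodule.add_mem_sup h1 (Ideal.mul_mem_mul hκ (Ideal.mem_span_singleton_self g))

set_option maxHeartbeats 1600000 in
theorem formallySmooth_of_quotient {R P B : Type u} [CommRing R] [CommRing P] [CommRing B] [IsLocalRing P]
    [IsLocalRing B] [Algebra R P] [Algebra R B] [Algebra P B] [IsScalarTower R P B] [Algebra.FormallySmooth R P]
    [Module.Free P Ω[P⁄R]] [Module.Finite P Ω[P⁄R]] (h₁ : Function.Surjective (algebraMap P B))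
    (h₂ : (RingHom.ker (algebraMap P B)).FG) (g : List B) (hg : IsWeaklyRegular B g)
    (hmem : ∀ a ∈ g, a ∈ maximalIdeal B) (hsm : Algebra.FormallySmooth R (B ⧸ Ideal.ofList g)) :
    Algebra.FormallySmooth R B := by
  obtain ⟨G, rfl⟩ := List.map_surjective_iff.2 h₁ g
  let K := RingHom.ker (algebraMap P B)
  let J := Ideal.ofList G
  let m := maximalIdeal P
  have hJm : J ≤ m := by
    refine Ideal.span_le.2 fun a ha hu => ?_
    exact hmem _ (List.mem_map_of_mem ha) (hu.map (algebraMap P B))
  have hmapJ : J.map (algebraMap P B) = Ideal.ofList (G.map (algebraMap P B)) := Ideal.map_ofList _ _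
  have hcom : ∀ l : List P, (Ideal.ofList (l.map (algebraMap P B))).comap (algebraMap P B) = K ⊔ Ideal.ofList l :=
    fun l => by
      rw [← Ideal.map_ofList, Ideal.comap_map_of_surjective _ h₁, sup_comm]; rfl
  have hKJ : K ⊓ J ≤ K * J := inf_ofList_le_mul K G fun i hi x hx => by
    have hi' : i < (G.map (algebraMap P B)).length := by simpa using hi
    have hr := hg.regular_mod_prev i hi'
    rw [isSMulRegular_quotient_iff_mem_of_smul_mem] at hr
    rw [← hcom, Ideal.mem_comap] at hx ⊢
    have := hr (algebraMap P B x)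
    rw [smul_eq_mul, Ideal.mul_top, smul_eq_mul, List.getElem_map, ← map_mul, List.map_take] at *
    exact this hx
  have hJ1 : Ideal.ofList (G.map (algebraMap P B)) ≤ maximalIdeal B := Ideal.span_le.2 hmem
  let S := B ⧸ Ideal.ofList (G.map (algebraMap P B))
  haveI : Nontrivial S := Ideal.Quotient.nontrivial_iff.2 fun htop =>
    (maximalIdeal.isMaximal B).ne_top (top_le_iff.1 (htop ▸ hJ1))
  haveI : IsLocalRing S := IsLocalRing.of_surjective' (Ideal.Quotient.mk _) Ideal.Quotient.mk_surjective
  let k := P ⧸ m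
  letI : Field k := Ideal.Quotient.field m
  have hKm : K ≤ m := le_maximalIdeal (RingHom.ker_ne_top _)
  have hkerS : RingHom.ker (algebraMap P S) = K ⊔ J := by
    rw [IsScalarTower.algebraMap_eq P B S, ← RingHom.comap_ker, Ideal.Quotient.algebraMap_eq, Ideal.mk_ker]
    exact hcom G
  have hS : Function.Surjective (algebraMap P S) := by
    rw [IsScalarTower.algebraMap_eq P B S]
    exact Ideal.Quotient.mk_surjective.comp h₁
  have hkerB : RingHom.ker (algebraMap P B) ≤ RingHom.ker (Ideal.Quotient.mk m) := by rw [Ideal.mk_ker]; exact hKm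
  have hkerS' : RingHom.ker (algebraMap P S) ≤ RingHom.ker (Ideal.Quotient.mk m) := by
    rw [Ideal.mk_ker, hkerS]; exact sup_le hKm hJm
  letI : Algebra B k := (RingHom.liftOfSurjective (algebraMap P B) h₁ ⟨Ideal.Quotient.mk m, hkerB⟩).toAlgebra
  letI : Algebra S k := (RingHom.liftOfSurjective (algebraMap P S) hS ⟨Ideal.Quotient.mk m, hkerS'⟩).toAlgebra
  haveI : IsScalarTower P B k := IsScalarTower.of_algebraMap_eq fun x =>
    (RingHom.liftOfSurjective_comp_apply (algebraMap P B) h₁ ⟨Ideal.Quotient.mk m, hkerB⟩ x).symm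
  haveI : IsScalarTower P S k := IsScalarTower.of_algebraMap_eq fun x =>
    (RingHom.liftOfSurjective_comp_apply (algebraMap P S) hS ⟨Ideal.Quotient.mk m, hkerS'⟩ x).symm
  have hmax : ∀ (T : Type u) [CommRing T] [IsLocalRing T] [Algebra P T] [Algebra T k] [IsScalarTower P T k]
      (hT : Function.Surjective (algebraMap P T)), maximalIdeal T ≤ RingHom.ker (algebraMap T k) := by
    intro T _ _ _ _ _ hT t ht
    obtain ⟨x, rfl⟩ := hT t
    rw [RingHom.mem_ker, ← IsScalarTower.algebraMap_apply]
    exact Ideal.Quotient.eq_zero_iff_mem.2 fun hu => ht (hu.map (algebraMap P T))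
  have hfgS : (RingHom.ker (algebraMap P S)).FG := by
    rw [hkerS]
    exact Submodule.FG.sup h₂ (Submodule.fg_span (List.finite_toSet G))
  have hinj := (Algebra.FormallySmooth.iff_injective_cotangentComplexBaseChange (R := R) (S := S) P k hS hfgS
    (hmax S hS)).1 hsm
  rw [Algebra.FormallySmooth.iff_injective_cotangentComplexBaseChange (R := R) (S := B) P k h₁ h₂ (hmax B h₁)]
  have hle : K ≤ RingHom.ker (algebraMap P S) := hkerS ▸ le_sup_left
  let ι : ↥(RingHom.ker (algebraMap P B)) →ₗ[P] ↥(RingHom.ker (algebraMap P S)) := Submodule.inclusion hle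
  have hι : Function.Injective (ι.baseChange k) := by
    rw [injective_iff_map_eq_zero]
    intro x hx
    obtain ⟨a, rfl⟩ : ∃ a, (1 : k) ⊗ₜ[P] a = x := by
      obtain ⟨y, hy⟩ := TensorProduct.mk_surjective P ↥(RingHom.ker (algebraMap P B)) k Ideal.Quotient.mk_surjective x
      exact ⟨y, hy⟩
    have h0 := congrArg (TensorProduct.quotTensorEquivQuotSMul _ m) hx
    rw [LinearMap.baseChange_tmul, show (1 : k) = Ideal.Quotient.mk m 1 from rfl,
      TensorProduct.quotTensorEquivQuotSMul_mk_tmul, one_smul, map_zero, Submodule.Quotient.mk_eq_zero,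
      Submodule.mem_smul_top_iff] at h0
    have ha : (a : P) ∈ m * (K ⊔ J) := by
      have : (a : P) ∈ m • (RingHom.ker (algebraMap P S) : Submodule P P) := h0
      rwa [hkerS] at this
    rw [Ideal.mul_sup] at ha
    obtain ⟨u, hu, v, hv, huv⟩ := Submodule.mem_sup.1 ha
    have hvK : v ∈ K := by
      rw [show v = (a : P) - u from eq_sub_of_add_eq' huv]
      exact Ideal.sub_mem K (a.2 : (a : P) ∈ K) ((Ideal.mul_le_right : m * K ≤ K) hu)
    have ha' : (a : P) ∈ m • (RingHom.ker (algebraMap P B) : Submodule P P) := by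
      rw [← huv, smul_eq_mul]
      refine Ideal.add_mem _ hu ?_
      rw [mul_comm m]
      exact (Ideal.mul_mono le_rfl hJm : K * J ≤ K * m) (hKJ ⟨hvK, (Ideal.mul_le_right : m * J ≤ J) hv⟩)
    refine (TensorProduct.quotTensorEquivQuotSMul (↥(RingHom.ker (algebraMap P B))) m).injective ?_
    rw [show (1 : k) = Ideal.Quotient.mk m 1 from rfl, TensorProduct.quotTensorEquivQuotSMul_mk_tmul, one_smul,
      map_zero, Submodule.Quotient.mk_eq_zero, Submodule.mem_smul_top_iff]
    exact ha'
  intro x y hxy
  refine hι (hinj ?_)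
  have hcomp : ∀ z, cotangentComplexBaseChange R S P k (ι.baseChange k z) = cotangentComplexBaseChange R B P k z := fun z => by
    induction z using TensorProduct.induction_on with
    | zero => simp
    | add a b ha hb => simp only [map_add, ha, hb]
    | tmul c a => rfl
  rw [hcomp, hcomp, hxy]

end Groth.Agent.Synt29.RegSmooth
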