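import Groth.Agent.Synt29.ConormalSeq

/-! The map of conormal sheaves of a cartesian square of immersions. -/

set_option autoImplicit false

universe u

open CategoryTheory CategoryTheory.Limits AlgebraicGeometry TopologicalSpace Opposite
open scoped TensorProduct

namespace Groth.Agent.Synt29.ConormalBC

open OmegaStalk ConormalStalk ConormalExact ConormalSeq Groth.Agent.KFlatLib

variable {Z X Z' X' : Scheme.{u}} (i : Z ⟶ X) (i' : Z' ⟶ X') (g : X ⟶ X') (gZ : Z ⟶ Z')

/-- the map of local rings of the ambient schemes -/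
noncomputable def δ (w : gZ ≫ i' = i ≫ g) (x : Z) :
    X'.presheaf.stalk (i' (gZ x)) ⟶ X.presheaf.stalk (i x) :=
  (X'.presheaf.stalkCongr (.of_eq congr($w x))).hom ≫ g.stalkMap (i x)

variable (w : gZ ≫ i' = i ≫ g) (x : Z)

lemma δ_germ (U : X'.Opens) (h : i' (gZ x) ∈ U) (h' : i x ∈ g ⁻¹ᵁ U) (r : Γ(X', U)) :
    δ i i' g gZ w x (X'.presheaf.germ U (i' (gZ x)) h r) =
      X.presheaf.germ (g ⁻¹ᵁ U) (i x) h' (g.app U r) := by
  simp only [δ, ConcreteCategory.comp_apply, TopCat.Presheaf.stalkCongr_hom]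
  erw [X'.presheaf.germ_stalkSpecializes_apply]
  exact Scheme.Hom.germ_stalkMap_apply g U (i x) h' r

lemma stalkMap_δ (r : X'.presheaf.stalk (i' (gZ x))) :
    i.stalkMap x (δ i i' g gZ w x r) = gZ.stalkMap x (i'.stalkMap (gZ x) r) := by
  obtain ⟨U, h, r, rfl⟩ := X'.presheaf.exists_germ_eq (x := i' (gZ x)) r
  have h' : i x ∈ g ⁻¹ᵁ U := by
    show (i ≫ g) x ∈ U
    rw [← w]
    exact h
  rw [δ_germ i i' g gZ w x U h h', Scheme.Hom.germ_stalkMap_apply,
    Scheme.Hom.germ_stalkMap_apply, Scheme.Hom.germ_stalkMap_apply]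
  show Z.presheaf.germ ((i ≫ g) ⁻¹ᵁ U) x _ ((i ≫ g).app U r) =
    Z.presheaf.germ ((gZ ≫ i') ⁻¹ᵁ U) x _ ((gZ ≫ i').app U r)
  rw [Scheme.Hom.congr_app w U, ConcreteCategory.comp_apply]
  exact (Z.presheaf.germ_res_apply _ _ _ _).symm

lemma δ_flat [Flat g] : (δ i i' g gZ w x).hom.Flat := by
  have h1 : (g.stalkMap (i x)).hom.Flat := Flat.stalkMap g (i x)
  rw [δ]
  exact (RingHom.Flat.respectsIso.cancel_left_isIso _ _).mpr h1

variable [IsImmersion i] [IsImmersion i']

include w in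
/-- the ideal of a base change at a point -/
theorem ker_le (hsq : IsPullback i gZ g i') :
    RingHom.ker (i.stalkMap x).hom ≤
      (RingHom.ker (i'.stalkMap (gZ x)).hom).map (δ i i' g gZ w x).hom := by
  let A := X.presheaf.stalk (i x)
  let N : Ideal A := (RingHom.ker (i'.stalkMap (gZ x)).hom).map (δ i i' g gZ w x).hom
  have hN : N ≤ RingHom.ker (i.stalkMap x).hom := Ideal.map_le_iff_le_comap.mpr fun r hr => by
    rw [Ideal.mem_comap, RingHom.mem_ker, stalkMap_δ, RingHom.mem_ker.mp hr, map_zero]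
  have : Nontrivial (A ⧸ N) := Ideal.Quotient.nontrivial_iff.mpr
    (ne_top_of_le_ne_top (RingHom.ker_ne_top _) hN)
  let mk : A ⟶ CommRingCat.of (A ⧸ N) := CommRingCat.ofHom (Ideal.Quotient.mk N)
  have : IsLocalRing (A ⧸ N) := IsLocalRing.of_surjective' _ Ideal.Quotient.mk_surjective
  have : IsLocalRing (CommRingCat.of (A ⧸ N)) := this
  have : IsLocalHom mk.hom := IsLocalHom.of_surjective _ Ideal.Quotient.mk_surjective
  let q : Spec (CommRingCat.of (A ⧸ N)) ⟶ X := Spec.map mk ≫ X.fromSpecStalk (i x)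
  let γ : Z'.presheaf.stalk (gZ x) ⟶ CommRingCat.of (A ⧸ N) := CommRingCat.ofHom
    (RingHom.liftOfSurjective (i'.stalkMap (gZ x)).hom (i'.stalkMap_surjective (gZ x))
      ⟨(Ideal.Quotient.mk N).comp (δ i i' g gZ w x).hom, fun r hr =>
        Ideal.Quotient.eq_zero_iff_mem.mpr (Ideal.mem_map_of_mem _ hr)⟩)
  have hγ : i'.stalkMap (gZ x) ≫ γ = δ i i' g gZ w x ≫ mk :=
    CommRingCat.hom_ext (RingHom.liftOfRightInverse_comp _ _ _ _)
  have hcond : q ≫ g = (Spec.map γ ≫ Z'.fromSpecStalk (gZ x)) ≫ i' := by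
    rw [Category.assoc, Category.assoc, ← Scheme.SpecMap_stalkMap_fromSpecStalk,
      ← Scheme.SpecMap_stalkMap_fromSpecStalk, ← Spec.map_comp_assoc (i'.stalkMap (gZ x)) γ, ← Spec.map_comp_assoc (g.stalkMap (i x)) mk, hγ,
      δ, Category.assoc, Spec.map_comp, Category.assoc]
    simp only [Spec.map_comp, Category.assoc, TopCat.Presheaf.stalkCongr_hom]
    exact congrArg (fun t => Spec.map mk ≫ Spec.map (g.stalkMap (i x)) ≫ t)
      (Scheme.SpecMap_stalkSpecializes_fromSpecStalk _).symm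
  intro a ha
  obtain ⟨U, hU, -, e, he, rfl⟩ := exists_killed i a ha ⊤ trivial
  refine Ideal.Quotient.eq_zero_iff_mem.mp ?_
  have hq : q = hsq.lift q (Spec.map γ ≫ Z'.fromSpecStalk (gZ x)) hcond ≫ i :=
    (hsq.lift_fst _ _ _).symm
  have happ : q.app U e = 0 := by
    refine (congr($(Scheme.Hom.congr_app hq U) e)).trans ?_
    show (Spec (CommRingCat.of (A ⧸ N))).presheaf.map _
      ((hsq.lift q (Spec.map γ ≫ Z'.fromSpecStalk (gZ x)) hcond).app (i ⁻¹ᵁ U) (i.app U e)) = 0
    rw [he, map_zero, map_zero]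
  have hclosed : q (IsLocalRing.closedPoint (A ⧸ N)) = i x := by
    show (Spec.map mk ≫ X.fromSpecStalk (i x)) _ = i x
    rw [Scheme.Hom.comp_apply]
    erw [Spec_closedPoint, Scheme.fromSpecStalk_closedPoint]
  have hU' : q (IsLocalRing.closedPoint (A ⧸ N)) ∈ U := by rw [hclosed]; exact hU
  have h1 := congr($(Scheme.germ_stalkClosedPointTo q U hU') e)
  have h2 := congr($(Scheme.germ_stalkClosedPointTo_Spec_fromSpecStalk mk U hU') e)
  rw [ConcreteCategory.comp_apply, ConcreteCategory.comp_apply, happ, map_zero] at h1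
  exact h2.symm.trans h1

variable [QuasiCompact i] [QuasiCompact i']
  (φ : (Scheme.Modules.pullback gZ).obj (Omega.conormal i') ⟶ Omega.conormal i)
  (hφ : OmegaSh.IsConormalMap i i' g gZ φ)

/-- the class of a germ of the ideal, pulled back -/
noncomputable def el (m : St (I i') (i' (gZ x))) :
    St ((Scheme.Modules.pullback gZ).obj (Omega.conormal i')) x :=
  (((stalkPullbackIso gZ x).app (Omega.conormal i')).inv
    (((ModuleCat.extendRestrictScalarsAdj (gZ.stalkMap x).hom).unit.app _).hom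
      (((stalkPullbackIso i' (gZ x)).app (I i')).inv (unit1 i' (gZ x) m))))

omit [IsImmersion i] [IsImmersion i'] [QuasiCompact i] [QuasiCompact i'] in
lemma el_add (m m' : St (I i') (i' (gZ x))) : el i' gZ x (m + m') = el i' gZ x m + el i' gZ x m' := by
  let un := ((ModuleCat.extendRestrictScalarsAdj (gZ.stalkMap x).hom).unit.app
    (St (Omega.conormal i') (gZ x))).hom
  let Q := ((stalkPullbackIso i' (gZ x)).app (I i')).inv
  let P := ((stalkPullbackIso gZ x).app (Omega.conormal i')).inv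
  have h1 : unit1 i' (gZ x) (m + m') = unit1 i' (gZ x) m + unit1 i' (gZ x) m' := map_add _ m m'
  exact (congrArg (fun t => P (un (Q t))) h1).trans ((congrArg (fun t => P (un t))
    (map_add Q.hom _ _)).trans ((congrArg P (map_add un _ _)).trans (map_add P.hom _ _)))

omit [IsImmersion i] [IsImmersion i'] [QuasiCompact i] [QuasiCompact i'] in
lemma el_smul (r : X'.presheaf.stalk (i' (gZ x))) (m : St (I i') (i' (gZ x))) :
    el i' gZ x (r • m) = gZ.stalkMap x (i'.stalkMap (gZ x) r) • el i' gZ x m := by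
  let un := ((ModuleCat.extendRestrictScalarsAdj (gZ.stalkMap x).hom).unit.app
    (St (Omega.conormal i') (gZ x))).hom
  let Q := ((stalkPullbackIso i' (gZ x)).app (I i')).inv
  let P := ((stalkPullbackIso gZ x).app (Omega.conormal i')).inv
  exact (congrArg (fun t => P (un (Q t))) (unit1_smul i' (gZ x) r m)).trans
    ((congrArg (fun t => P (un t)) (map_smul Q.hom _ _)).trans
      ((congrArg P (map_smul un _ _)).trans (map_smul P.hom _ _)))

omit [IsImmersion i] [IsImmersion i'] [QuasiCompact i] [QuasiCompact i'] in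
lemma el_gm {U : X'.Opens} (hU : i' (gZ x) ∈ U) (k : Γ(I i', U)) :
    el i' gZ x (gm (I i') hU k) =
      gm _ (show x ∈ gZ ⁻¹ᵁ (i' ⁻¹ᵁ U) from hU)
        (OmegaSh.pullSect gZ (Omega.conormal i') (i' ⁻¹ᵁ U) (OmegaSh.conormalSect i' U k)) := by
  refine (ConcreteCategory.bijective_of_isIso ((stalkPullbackIso gZ x).app (Omega.conormal i')).hom).1 ?_
  refine (Iso.inv_hom_id_apply _ _).trans (Eq.trans (congrArg _ ?_)
    (stalkPullbackIso_gm gZ (Omega.conormal i') x (show x ∈ gZ ⁻¹ᵁ (i' ⁻¹ᵁ U) from hU) _).symm)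
  refine (ConcreteCategory.bijective_of_isIso ((stalkPullbackIso i' (gZ x)).app (I i')).hom).1 ?_
  refine (Iso.inv_hom_id_apply _ _).trans ?_
  exact (stalkPullbackIso_gm i' (I i') (gZ x) (show gZ x ∈ i' ⁻¹ᵁ U from hU) k).symm

include w hφ in
/-- the value on classes -/
theorem map_el (m : St (I i') (i' (gZ x))) (r : X'.presheaf.stalk (i' (gZ x)))
    (h : Rep i' (i' (gZ x)) m r) :
    ∃ n, Rep i (i x) n (δ i i' g gZ w x r) ∧
      ((stalkPullbackIso i x).app (I i)).hom ((DerSch.stalkFunctor Z x).map φ (el i' gZ x m)) =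
        unit1 i x n := by
  obtain ⟨U, hU, k, rfl, rfl⟩ := h
  have hx : x ∈ i ⁻¹ᵁ g ⁻¹ᵁ U := by
    show (i ≫ g) x ∈ U
    rw [← w]
    exact hU
  have h0 : i.app (g ⁻¹ᵁ U) (g.app U (OmegaSh.idealSect i'.ker U k)) = 0 := by
    show (i ≫ g).app U _ = 0
    rw [Scheme.Hom.congr_app w.symm U]
    show Z.presheaf.map _ (gZ.app (i' ⁻¹ᵁ U) (i'.app U _)) = 0
    rw [OmegaUniv.app_idealSect, map_zero, map_zero]
  obtain ⟨s, hs⟩ := OmegaUniv.exists_idealSect_of_app_eq_zero i _ _ h0
  refine ⟨gm (I i) (show i x ∈ g ⁻¹ᵁ U from hx) s, ⟨g ⁻¹ᵁ U, hx, s, rfl, ?_⟩, ?_⟩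
  · rw [hs, δ_germ i i' g gZ w x U hU hx]
  rw [el_gm]
  have hle : gZ ⁻¹ᵁ (i' ⁻¹ᵁ U) ≤ i ⁻¹ᵁ (g ⁻¹ᵁ U) :=
    (congrArg (fun t : Z ⟶ X' => t ⁻¹ᵁ U) w).le
  have hx' : x ∈ gZ ⁻¹ᵁ (i' ⁻¹ᵁ U) := hU
  have h2 := congrArg (gm (Omega.conormal i) hx')
    (hφ.2 U k s hs (gZ ⁻¹ᵁ (i' ⁻¹ᵁ U)) le_rfl hle)
  erw [gm_res, gm_res] at h2
  refine (congrArg _ ((DerSch.stalkFunctor_map_germ x φ _ hx' _).trans h2)).trans ?_
  exact stalkPullbackIso_gm i (I i) x hx s

variable (hsq : IsPullback i gZ g i')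

include hsq hφ in
theorem epi : Epi φ := by
  rw [epi_iff_stalk]
  intro x z
  let P := (stalkPullbackIso i x).app (I i)
  obtain ⟨U, hx, k, rfl⟩ := exists_conormalSect i x z
  have hrep : Rep i (i x) (gm (I i) hx k) (X.presheaf.germ U (i x) hx (OmegaSh.idealSect i.ker U k)) :=
    ⟨U, hx, k, rfl, rfl⟩
  suffices ∀ a ∈ (RingHom.ker (i'.stalkMap (gZ x)).hom).map (δ i i' g gZ hsq.w.symm x).hom,
      ∃ n, Rep i (i x) n a ∧ ∃ v, P.hom ((DerSch.stalkFunctor Z x).map φ v) = unit1 i x n by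
    obtain ⟨n, hn, v, hv⟩ := this _ (ker_le i i' g gZ hsq.w.symm x hsq
      (RingHom.mem_ker.mpr (rep_mem i hrep)))
    rw [rep_inj i hn hrep] at hv
    exact ⟨v, (ConcreteCategory.bijective_of_isIso P.hom).1
      (hv.trans (stalkPullbackIso_gm i (I i) x hx k).symm)⟩
  intro a ha
  induction ha using Submodule.span_induction with
  | mem a ha =>
      obtain ⟨r, hr, rfl⟩ := ha
      obtain ⟨m, hm⟩ := exists_rep i' (RingHom.mem_ker.mp hr)
      obtain ⟨n, hn, hv⟩ := map_el i i' g gZ hsq.w.symm x φ hφ m r hm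
      exact ⟨n, hn, _, hv⟩
  | zero => exact ⟨0, rep_zero i _, 0, (congrArg P.hom (map_zero _)).trans
      ((map_zero _).trans (map_zero _).symm)⟩
  | add b b' _ _ e e' =>
      obtain ⟨n, h, v, hv⟩ := e
      obtain ⟨n', h', v', hv'⟩ := e'
      exact ⟨n + n', rep_add i h h', v + v', (congrArg P.hom (map_add _ v v')).trans
        ((map_add _ _ _).trans ((congrArg₂ (· + ·) hv hv').trans (map_add _ n n').symm))⟩
  | smul c b _ e =>
      obtain ⟨n, h, v, hv⟩ := e
      refine ⟨c • n, rep_smul i h c, i.stalkMap x c • v, ?_⟩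
      rw [map_smul]
      refine (map_smul _ _ _).trans ?_
      rw [hv, unit1_smul]

include hsq hφ in
theorem mono [Flat g] : Mono φ := by
  rw [mono_iff_stalk]
  intro x
  refine (injective_iff_map_eq_zero _).mpr fun z hz => ?_
  let w := hsq.w.symm
  let A' := X'.presheaf.stalk (i' (gZ x))
  let A := X.presheaf.stalk (i x)
  let d := δ i i' g gZ w x
  let _ : Algebra A' A := d.hom.toAlgebra
  have : Module.Flat A' A := δ_flat i i' g gZ w x
  let M' := St (I i') (i' (gZ x))
  let ι : M' →ₗ[A'] A' :=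
    { toFun := fun m => (rep_exists i' _ m).choose
      map_add' := fun m m' => rep_unique i' (rep_exists i' _ (m + m')).choose_spec
        (rep_add i' (rep_exists i' _ m).choose_spec (rep_exists i' _ m').choose_spec)
      map_smul' := fun r m => rep_unique i' (rep_exists i' _ (r • m)).choose_spec
        (rep_smul i' (rep_exists i' _ m).choose_spec r) }
  have hι : ∀ m, Rep i' (i' (gZ x)) m (ι m) := fun m => (rep_exists i' _ m).choose_spec
  have hιinj : Function.Injective ι := fun m m' e =>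
    rep_inj i' (hι m) (show Rep i' _ m' (ι m) by rw [e]; exact hι m')
  let μ : A ⊗[A'] M' →ₗ[A'] A := (TensorProduct.rid A' A).toLinearMap ∘ₗ ι.lTensor A
  have hμt : ∀ (c : A) (m : M'), μ (c ⊗ₜ m) = d (ι m) * c := fun c m => rfl
  have hμinj : Function.Injective μ := (TensorProduct.rid A' A).injective.comp
    (Module.Flat.lTensor_preserves_injective_linearMap ι hιinj)
  let F : A →+ M' →+ St ((Scheme.Modules.pullback gZ).obj (Omega.conormal i')) x :=
    AddMonoidHom.mk' (fun c => AddMonoidHom.mk' (fun m => i.stalkMap x c • el i' gZ x m)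
        (fun m m' => by rw [el_add, smul_add]))
      (fun c c' => by
        ext m
        show i.stalkMap x (c + c') • el i' gZ x m = i.stalkMap x c • _ + i.stalkMap x c' • _
        rw [map_add, add_smul])
  let Θ : A ⊗[A'] M' →+ St ((Scheme.Modules.pullback gZ).obj (Omega.conormal i')) x :=
    TensorProduct.liftAddHom F fun r c m => by
      show i.stalkMap x (d r * c) • el i' gZ x m = i.stalkMap x c • el i' gZ x (r • m)
      rw [el_smul, smul_smul, map_mul, stalkMap_δ, mul_comm]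
  have hΘt : ∀ (c : A) (m : M'), Θ (c ⊗ₜ m) = i.stalkMap x c • el i' gZ x m := fun c m => rfl
  have hb : ∀ (b : A) (v : A ⊗[A'] M'), μ (b • v) = b * μ v ∧ Θ (b • v) = i.stalkMap x b • Θ v := by
    intro b v
    induction v using TensorProduct.induction_on with
    | zero => simp
    | tmul c m =>
        rw [TensorProduct.smul_tmul', smul_eq_mul, hμt, hμt, hΘt, hΘt, map_mul, smul_smul]
        exact ⟨by ring, rfl⟩
    | add v v' hv hv' =>
        rw [smul_add, map_add, map_add, map_add, map_add, hv.1, hv'.1, hv.2, hv'.2, mul_add, smul_add]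
        exact ⟨rfl, rfl⟩
  -- every element is a value of `Θ`
  obtain ⟨v, rfl⟩ : ∃ v, Θ v = z := by
    let P := (stalkPullbackIso gZ x).app (Omega.conormal i')
    obtain ⟨y, rfl⟩ := (ConcreteCategory.bijective_of_isIso P.inv).2 z
    clear hz
    let _ := (gZ.stalkMap x).hom.toAlgebra
    change (Z.presheaf.stalk x) ⊗[Z'.presheaf.stalk (gZ x)] (St (Omega.conormal i') (gZ x)) at y
    induction y using TensorProduct.induction_on with
    | zero => exact ⟨0, (map_zero Θ).trans (map_zero P.inv.hom).symm⟩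
    | tmul b n =>
        obtain ⟨m, hm⟩ := unit1_surjective i' (gZ x)
          (((stalkPullbackIso i' (gZ x)).app (I i')).hom n)
        obtain ⟨c, hc⟩ := i.stalkMap_surjective x b
        refine ⟨c ⊗ₜ m, (hΘt c m).trans ?_⟩
        have hn : ((stalkPullbackIso i' (gZ x)).app (I i')).inv (unit1 i' (gZ x) m) = n :=
          (congrArg _ hm).trans (Iso.hom_inv_id_apply _ _)
        refine (congrArg (fun t => i.stalkMap x c • P.inv
          (((ModuleCat.extendRestrictScalarsAdj (gZ.stalkMap x).hom).unit.app _).hom t)) hn).trans ?_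
        refine (map_smul P.inv.hom _ _).symm.trans (congrArg P.inv ?_)
        show i.stalkMap x c • ((1 : Z.presheaf.stalk x) ⊗ₜ[Z'.presheaf.stalk (gZ x)] n) =
          b ⊗ₜ[Z'.presheaf.stalk (gZ x)] n
        rw [hc]
        show (b * 1) ⊗ₜ[Z'.presheaf.stalk (gZ x)] n = b ⊗ₜ[Z'.presheaf.stalk (gZ x)] n
        rw [mul_one]
    | add y y' e e' =>
        obtain ⟨v, hv⟩ := e
        obtain ⟨v', hv'⟩ := e'
        exact ⟨v + v', (map_add Θ v v').trans ((congrArg₂ (· + ·) hv hv').trans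
          (map_add P.inv.hom y y').symm)⟩
  let P := (stalkPullbackIso i x).app (I i)
  have hval : ∀ v, ∃ n, Rep i (i x) n (μ v) ∧
      P.hom ((DerSch.stalkFunctor Z x).map φ (Θ v)) = unit1 i x n := by
    intro v
    induction v using TensorProduct.induction_on with
    | zero =>
        refine ⟨0, by rw [map_zero]; exact rep_zero i _, ?_⟩
        rw [map_zero, map_zero]
        exact (map_zero P.hom.hom).trans (map_zero _).symm
    | tmul c m =>
        obtain ⟨n, hn, hv⟩ := map_el i i' g gZ w x φ hφ m (ι m) (hι m)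
        refine ⟨c • n, ?_, ?_⟩
        · rw [hμt, mul_comm]
          exact rep_smul i hn c
        rw [hΘt, map_smul]
        refine (map_smul _ _ _).trans ?_
        rw [hv, unit1_smul]
    | add a b e e' =>
        obtain ⟨n, h, hv⟩ := e
        obtain ⟨n', h', hv'⟩ := e'
        refine ⟨n + n', by rw [map_add]; exact rep_add i h h', ?_⟩
        rw [map_add, map_add]
        exact (map_add P.hom.hom _ _).trans ((congrArg₂ (· + ·) hv hv').trans (map_add _ n n').symm)
  have hK : ∀ a ∈ RingHom.ker (i.stalkMap x).hom, ∃ v, μ v = a := by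
    suffices ∀ a ∈ (RingHom.ker (i'.stalkMap (gZ x)).hom).map d.hom, ∃ v, μ v = a from
      fun a ha => this a (ker_le i i' g gZ w x hsq ha)
    intro a ha
    induction ha using Submodule.span_induction with
    | mem a ha =>
        obtain ⟨r, hr, rfl⟩ := ha
        obtain ⟨m, hm⟩ := exists_rep i' (RingHom.mem_ker.mp hr)
        refine ⟨(1 : A) ⊗ₜ m, ?_⟩
        rw [hμt, mul_one, rep_unique i' (hι m) hm]
    | zero => exact ⟨0, map_zero μ⟩
    | add a b _ _ e e' =>
        obtain ⟨u, hu⟩ := e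
        obtain ⟨u', hu'⟩ := e'
        exact ⟨u + u', by rw [map_add, hu, hu']⟩
    | smul c a _ e =>
        obtain ⟨u, hu⟩ := e
        exact ⟨c • u, by rw [(hb c u).1, hu]; rfl⟩
  obtain ⟨n, hn, hv⟩ := hval v
  rw [hz] at hv
  have hsq2 := mem_sq_of_unit1_eq_zero i (i.stalkMap_surjective x) hn
    (hv.symm.trans (map_zero P.hom.hom))
  obtain ⟨v', hv', hv0⟩ : ∃ v', μ v' = μ v ∧ Θ v' = 0 := by
    generalize μ v = a at hsq2 ⊢
    rw [sq] at hsq2
    induction hsq2 using Submodule.mul_induction_on' with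
    | mem_mul_mem b hb' c hc =>
        obtain ⟨u, hu⟩ := hK c hc
        refine ⟨b • u, by rw [(hb b u).1, hu], ?_⟩
        rw [(hb b u).2, RingHom.mem_ker.mp hb', zero_smul]
    | add b _ c _ e e' =>
        obtain ⟨u, hu, hu0⟩ := e
        obtain ⟨u', hu', hu0'⟩ := e'
        exact ⟨u + u', by rw [map_add, hu, hu'], by rw [map_add, hu0, hu0', add_zero]⟩
  rw [← hμinj hv']
  exact hv0

end Groth.Agent.Synt29.ConormalBC
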