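import Groth.Agent.Synt29.OmegaMaps

/-! Change of base ring for Kähler differentials in `CommRingCat`. -/

set_option autoImplicit false

universe u

open CategoryTheory CategoryTheory.Limits AlgebraicGeometry TopologicalSpace Opposite
open scoped TensorProduct

namespace Groth.Agent.Synt29.OmegaStalk

variable {R R' T : CommRingCat.{u}} (ρ : R ⟶ R') (φ' : R' ⟶ T)

/-- `Ω_{T/R} ⟶ Ω_{T/R'}` -/
noncomputable def changeBase :
    CommRingCat.KaehlerDifferential (ρ ≫ φ') ⟶ CommRingCat.KaehlerDifferential φ' :=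
  ModuleCat.Derivation.desc
    (ModuleCat.Derivation.mk (fun b => CommRingCat.KaehlerDifferential.d (f := φ') b)
      (fun b b' => (CommRingCat.KaehlerDifferential.D φ').d_add b b')
      (fun b b' => (CommRingCat.KaehlerDifferential.D φ').d_mul b b')
      (fun a => (CommRingCat.KaehlerDifferential.D φ').d_map (ρ a)))

lemma changeBase_d (b : T) :
    changeBase ρ φ' (CommRingCat.KaehlerDifferential.d b) = CommRingCat.KaehlerDifferential.d b :=
  ModuleCat.Derivation.desc_d _ b

theorem isIso_changeBase (hρ : ρ.hom.FormallyUnramified) : IsIso (changeBase ρ φ') := by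
  have hsub : Subsingleton (CommRingCat.KaehlerDifferential ρ) := by
    let _ := ρ.hom.toAlgebra
    have : Algebra.FormallyUnramified R R' := hρ
    exact Algebra.FormallyUnramified.subsingleton_kaehlerDifferential
  let E := (ModuleCat.restrictScalars φ'.hom).obj (CommRingCat.KaehlerDifferential (ρ ≫ φ'))
  let δ : E.Derivation ρ :=
    ModuleCat.Derivation.mk (fun a => CommRingCat.KaehlerDifferential.d (f := ρ ≫ φ') (φ' a))
      (fun a a' => by rw [map_add]; exact (CommRingCat.KaehlerDifferential.D (ρ ≫ φ')).d_add _ _)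
      (fun a a' => by rw [map_mul]; exact (CommRingCat.KaehlerDifferential.D (ρ ≫ φ')).d_mul _ _)
      (fun r => (CommRingCat.KaehlerDifferential.D (ρ ≫ φ')).d_map r)
  have hzero : ∀ a : R', CommRingCat.KaehlerDifferential.d (f := ρ ≫ φ') (φ' a) = 0 := by
    intro a
    have h := δ.desc_d a
    rw [hsub.elim (CommRingCat.KaehlerDifferential.d a) 0, map_zero] at h
    exact h.symm
  let ν : (CommRingCat.KaehlerDifferential (ρ ≫ φ')).Derivation φ' :=
    ModuleCat.Derivation.mk (fun b => CommRingCat.KaehlerDifferential.d (f := ρ ≫ φ') b)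
      (fun b b' => (CommRingCat.KaehlerDifferential.D (ρ ≫ φ')).d_add b b')
      (fun b b' => (CommRingCat.KaehlerDifferential.D (ρ ≫ φ')).d_mul b b') hzero
  refine ⟨ν.desc, CommRingCat.KaehlerDifferential.ext fun b => ?_,
    CommRingCat.KaehlerDifferential.ext fun b => ?_⟩
  · rw [ModuleCat.comp_apply, changeBase_d, ModuleCat.Derivation.desc_d, ModuleCat.id_apply]
    rfl
  · rw [ModuleCat.comp_apply, ModuleCat.Derivation.desc_d, ModuleCat.id_apply]
    exact changeBase_d ρ φ' b

/-- the base ring may be replaced by an equal presentation -/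
noncomputable def congrBase {φ φ₂ : R ⟶ T} (e : φ = φ₂) :
    CommRingCat.KaehlerDifferential φ ≅ CommRingCat.KaehlerDifferential φ₂ :=
  eqToIso (by rw [e])

lemma congrBase_d {φ φ₂ : R ⟶ T} (e : φ = φ₂) (b : T) :
    (congrBase e).hom (CommRingCat.KaehlerDifferential.d b) = CommRingCat.KaehlerDifferential.d b := by
  subst e
  rfl

variable {A : CommRingCat.{u}} (φ : R ⟶ A) (ψ : A ⟶ T)

/-- `T ⊗_A Ω_{A/R} ⟶ Ω_{T/R'}` for a commutative square -/
noncomputable def squareMap (e : φ ≫ ψ = ρ ≫ φ') :
    (ModuleCat.extendScalars ψ.hom).obj (CommRingCat.KaehlerDifferential φ) ⟶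
      CommRingCat.KaehlerDifferential φ' :=
  baseMap φ ψ ≫ (congrBase e).hom ≫ changeBase ρ φ'

lemma squareMap_unit (e : φ ≫ ψ = ρ ≫ φ') (a : A) :
    squareMap ρ φ' φ ψ e (((ModuleCat.extendRestrictScalarsAdj ψ.hom).unit.app _).hom
      (CommRingCat.KaehlerDifferential.d a)) = CommRingCat.KaehlerDifferential.d (ψ a) := by
  show changeBase ρ φ' ((congrBase e).hom (baseMap φ ψ _)) = _
  rw [baseMap_unit, congrBase_d, changeBase_d]

theorem isIso_squareMap (e : φ ≫ ψ = ρ ≫ φ') (hρ : ρ.hom.FormallyUnramified)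
    (hψ : ψ.hom.FormallyUnramified) (hψ' : ψ.hom.FormallySmooth) :
    IsIso (squareMap ρ φ' φ ψ e) := by
  have h1 : IsIso (baseMap φ ψ) := by
    rw [ConcreteCategory.isIso_iff_bijective]
    exact ⟨baseMap_injective φ ψ hψ', (baseMap_surjective_iff φ ψ).mpr hψ⟩
  have h2 := isIso_changeBase ρ φ' hρ
  exact IsIso.comp_isIso

end Groth.Agent.Synt29.OmegaStalk
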