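import Groth.Agent.FlatLoc6.FiberSelf
import Groth.Agent.FlatLoc6.Rk
import Groth.Agent.FlatLoc6.RegCM
import Groth.Agent.GeomReg.Basic
import Groth.Agent.RegLoc6.Descent
import Groth.Agent.RegLoc6.FlatDescent
import Groth.Agent.S0564
import Groth.Agent.S2608
import Groth.Agent.S2609
import Mathlib

/-! Properties of local rings along smooth maps of Noetherian rings. -/

set_option autoImplicit false

universe u

open TensorProduct IsLocalRing CategoryTheory AlgebraicGeometry

namespace Groth.Agent.Synt29.SmoothProps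

theorem hasSk_congr {R : Type u} [CommRing R] {M N : Type u} [AddCommGroup M] [Module R M]
    [AddCommGroup N] [Module R N] (e : M ≃ₗ[R] N) (n : ℕ) :
    LocCoh.HasSk n R M ↔ LocCoh.HasSk n R N := by
  refine forall_congr' fun p => forall_congr' fun _ => ?_
  let e' : LocalizedModule p.primeCompl M ≃ₗ[Localization.AtPrime p] LocalizedModule p.primeCompl N :=
    IsLocalizedModule.mapEquiv p.primeCompl (LocalizedModule.mkLinearMap _ _)
      (LocalizedModule.mkLinearMap _ _) (Localization.AtPrime p) e
  rw [Module.supportDim_eq_of_equiv e', FlatLoc6.depth_congr' e']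

/-- `(S_n)` of a localization of a ring -/
theorem hasSk_self_localization_iff {A : Type u} [CommRing A] [IsNoetherianRing A] (S : Submonoid A)
    (n : ℕ) : LocCoh.HasSk n (Localization S) (Localization S) ↔
      ∀ (q : Ideal A) [q.IsPrime], Disjoint (S : Set A) (q : Set A) →
        min (n : ℕ∞) q.height ≤ LocCoh.depth (Localization.AtPrime q) (Localization.AtPrime q) := by
  rw [← hasSk_congr (LC.selfLoc S) n, Alg6.hasSk_localization_iff]
  refine forall_congr' fun q => forall_congr' fun _ => forall_congr' fun _ => ?_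
  rw [FlatLoc6.supportDim_self_atPrime, FlatLoc6.depth_self_atPrime, ← WithBot.coe_natCast,
    ← WithBot.coe_min, WithBot.coe_le_coe]

section Ring

variable {A B : Type u} [CommRing A] [CommRing B] [IsNoetherianRing A] [IsNoetherianRing B]
  [Algebra A B] [Algebra.Smooth A B]

omit [IsNoetherianRing A] in
/-- local rings of the fibres of a smooth map are regular -/
theorem regular_fibLocRing (q : Ideal B) [q.IsPrime] :
    IsRegularLocalRing (EGA4.FibLocRing A B q) := by
  set p := q.comap (algebraMap A B) with hp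
  obtain ⟨Q, hQ⟩ := FlatLoc6.exists_fiber_prime p q rfl
  have key : ∀ (q' : Ideal B) [q'.IsPrime],
      Q.asIdeal.comap Algebra.TensorProduct.includeRight = q' →
        IsRegularLocalRing (EGA4.FibLocRing A B q') := by
    intro q' _ h
    subst h
    obtain ⟨e⟩ := FlatLoc6.exists_fibLocEquiv p Q.asIdeal
    have : IsRegularRing (p.Fiber B) :=
      GeomReg.isRegularRing_of_smooth p.ResidueField (p.Fiber B)
    exact IsRegularLocalRing.of_ringEquiv (R := Localization.AtPrime Q.asIdeal) e
  exact key q hQ

omit [IsNoetherianRing A] in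
theorem fibDim_eq_fibDepth (q : Ideal B) [q.IsPrime] :
    FlatLoc6.fibDim A q B = ((FlatLoc6.fibDepth A q B : ℕ∞) : WithBot ℕ∞) := by
  have := regular_fibLocRing (A := A) q
  rw [FlatLoc6.fibDim_self, FlatLoc6.fibDepth_self]
  have := LC.gorenstein_of_isRegularLocalRing (R := EGA4.FibLocRing A B q)
  have hCM : LocCoh.IsCohenMacaulayLocalRing (EGA4.FibLocRing A B q) :=
    LC.isCohenMacaulayLocalRing_of_gorenstein
  exact (Module.supportDim_self_eq_ringKrullDim (R := EGA4.FibLocRing A B q)).symm.trans
    hCM.supportDim_eq_depth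

theorem isRegularLocalRing_iff (q : Ideal B) [q.IsPrime] :
    IsRegularLocalRing (Localization.AtPrime q) ↔
      IsRegularLocalRing (Localization.AtPrime (q.comap (algebraMap A B))) := by
  set p := q.comap (algebraMap A B) with hp
  have : q.LiesOver p := ⟨rfl⟩
  let _ := Localization.AtPrime.algebraOfLiesOver p q
  have := FlatLoc6.isLocalHom_atPrime p q
  have : IsNoetherianRing (Localization.AtPrime q) :=
    IsLocalization.isNoetherianRing q.primeCompl _ inferInstance
  have : IsNoetherianRing (Localization.AtPrime p) :=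
    IsLocalization.isNoetherianRing p.primeCompl _ inferInstance
  constructor
  · intro h
    exact RegLoc6.regular_under_of_flat (A := A) q p rfl h
  · intro h
    refine FlatLoc6.isRegularLocalRing_of_flat_fibre (A := Localization.AtPrime p) ?_
    have := regular_fibLocRing (A := A) q
    exact IsRegularLocalRing.of_ringEquiv (R := EGA4.FibLocRing A B q)
      (Ideal.quotEquivOfEq (FlatLoc6.map_maximalIdeal_eq (A := A) (B := B) p q).symm)

theorem hasRk_iff (n : ℕ) (q : Ideal B) [q.IsPrime] :
    LocCoh.HasRk n (Localization.AtPrime q) ↔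
      LocCoh.HasRk n (Localization.AtPrime (q.comap (algebraMap A B))) := by
  refine ⟨fun h => Groth.Agent.S2608.result n A B q h,
    fun h => Groth.Agent.S2609.result n A B (fun q' _ => ?_) q h⟩
  intro P _ _
  have := regular_fibLocRing (A := A) q'
  exact Groth.Agent.S0564.result _ P

theorem hasSk_iff (n : ℕ) (q : Ideal B) [q.IsPrime] :
    LocCoh.HasSk n (Localization.AtPrime q) (Localization.AtPrime q) ↔
      LocCoh.HasSk n (Localization.AtPrime (q.comap (algebraMap A B)))
        (Localization.AtPrime (q.comap (algebraMap A B))) := by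
  set p := q.comap (algebraMap A B) with hp
  show LocCoh.HasSk n (Localization q.primeCompl) (Localization q.primeCompl) ↔
    LocCoh.HasSk n (Localization p.primeCompl) (Localization p.primeCompl)
  rw [hasSk_self_localization_iff q.primeCompl n, hasSk_self_localization_iff p.primeCompl n]
  constructor
  · intro h p' _ hd
    have hle := (Alg6.disjoint_primeCompl_iff _ _).mp hd
    obtain ⟨P, _, hPq, hPp, h0, h0'⟩ := FlatLoc6.exists_fib_zero_le (A := A) q p' hle
    obtain ⟨h1, h2⟩ := FlatLoc6.formulas_self p' P hPp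
    have h3 := h P ((Alg6.disjoint_primeCompl_iff _ _).mpr hPq)
    rw [h0, add_zero, WithBot.coe_inj] at h2
    rwa [h2, h1, h0', add_zero] at h3
  · intro h q' _ hd
    have hle := (Alg6.disjoint_primeCompl_iff _ _).mp hd
    obtain ⟨h1, h2⟩ := FlatLoc6.formulas_self (q'.comap (algebraMap A B)) q' rfl
    have h3 := h (q'.comap (algebraMap A B))
      ((Alg6.disjoint_primeCompl_iff _ _).mpr (Ideal.comap_mono hle))
    rw [fibDim_eq_fibDepth q', ← WithBot.coe_add, WithBot.coe_inj] at h2
    rw [h2, h1]
    refine le_trans ?_ (add_le_add h3 le_rfl)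
    rw [← min_add_add_right]
    exact le_min ((min_le_left _ _).trans le_self_add) (min_le_right _ _)

theorem codepth_eq (q : Ideal B) [q.IsPrime] :
    ringKrullDim (Localization.AtPrime q) +
        ((LocCoh.depth (Localization.AtPrime (q.comap (algebraMap A B)))
          (Localization.AtPrime (q.comap (algebraMap A B))) : ℕ∞) : WithBot ℕ∞) =
      ringKrullDim (Localization.AtPrime (q.comap (algebraMap A B))) +
        ((LocCoh.depth (Localization.AtPrime q) (Localization.AtPrime q) : ℕ∞) : WithBot ℕ∞) := by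
  obtain ⟨h1, h2⟩ := FlatLoc6.formulas_self (q.comap (algebraMap A B)) q rfl
  rw [IsLocalization.AtPrime.ringKrullDim_eq_height q,
    IsLocalization.AtPrime.ringKrullDim_eq_height (q.comap (algebraMap A B)), h1, h2,
    fibDim_eq_fibDepth q, WithBot.coe_add]
  abel

end Ring

section Scheme

variable {X Y : Scheme.{u}} (f : X ⟶ Y)

/-- local rings at a smooth point, by a chart -/
theorem exists_ringEquiv [IsLocallyNoetherian Y] (x : X)
    (hx : ∃ U : X.Opens, x ∈ U ∧ Smooth (U.ι ≫ f)) :
    ∃ (A B : Type u) (_ : CommRing A) (_ : CommRing B) (_ : IsNoetherianRing A)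
      (_ : IsNoetherianRing B) (_ : Algebra A B) (_ : Algebra.Smooth A B) (q : Ideal B)
      (_ : q.IsPrime),
      Nonempty (Localization.AtPrime q ≃+* X.presheaf.stalk x) ∧
        Nonempty (Localization.AtPrime (q.comap (algebraMap A B)) ≃+* Y.presheaf.stalk (f.base x)) := by
  obtain ⟨U₀, hxU, hsm⟩ := hx
  let g := U₀.ι ≫ f
  let y : (U₀ : Scheme.{u}) := ⟨x, hxU⟩
  obtain ⟨U, hU, V, hV, hy, e, hf⟩ := Smooth.exists_isStandardSmooth g y
  let _ : Algebra Γ(Y, U) Γ(U₀, V) := (g.appLE U V e).hom.toAlgebra
  have : Algebra.IsStandardSmooth Γ(Y, U) Γ(U₀, V) := hf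
  have hA : IsNoetherianRing Γ(Y, U) := IsLocallyNoetherian.component_noetherian ⟨U, hU⟩
  have hB : IsNoetherianRing Γ(U₀, V) := Algebra.FiniteType.isNoetherianRing Γ(Y, U) _
  let q := (hV.primeIdealOf ⟨y, hy⟩).asIdeal
  have hp : q.comap (algebraMap Γ(Y, U) Γ(U₀, V)) = (hU.primeIdealOf ⟨g y, e hy⟩).asIdeal :=
    congr($(IsAffineOpen.comap_primeIdealOf_appLE U hU V hV e hy).1)
  let _ := Y.presheaf.algebra_section_stalk ⟨g y, e hy⟩
  have := hU.isLocalization_stalk ⟨g y, e hy⟩
  let _ := (U₀ : Scheme.{u}).presheaf.algebra_section_stalk ⟨y, hy⟩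
  have := hV.isLocalization_stalk ⟨y, hy⟩
  refine ⟨Γ(Y, U), Γ(U₀, V), inferInstance, inferInstance, hA, hB, inferInstance, inferInstance,
    q, inferInstance, ⟨?_⟩, ⟨?_⟩⟩
  · exact (IsLocalization.algEquiv q.primeCompl (Localization.AtPrime q)
      ((U₀ : Scheme.{u}).presheaf.stalk y)).toRingEquiv.trans
      (U₀.stalkIso y).commRingCatIsoToRingEquiv
  · have : IsLocalization.AtPrime (Y.presheaf.stalk (g y)) (q.comap (algebraMap Γ(Y, U) Γ(U₀, V))) := by
      rw [IsLocalization.AtPrime]
      convert hU.isLocalization_stalk ⟨g y, e hy⟩ using 2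
    exact (IsLocalization.algEquiv (q.comap (algebraMap Γ(Y, U) Γ(U₀, V))).primeCompl
      (Localization.AtPrime (q.comap (algebraMap Γ(Y, U) Γ(U₀, V))))
      (Y.presheaf.stalk (g y))).toRingEquiv

end Scheme

end Groth.Agent.Synt29.SmoothProps

namespace Groth.Agent.Synt29.SmoothProps

theorem hasRk_of_ringEquiv {R S : Type u} [CommRing R] [CommRing S] (e : R ≃+* S) (n : ℕ)
    (h : LocCoh.HasRk n R) : LocCoh.HasRk n S := by
  intro p _ hk
  let P : Ideal R := p.comap (e : R →+* S)
  have hP : Submonoid.map (e.toRingHom : R →* S) P.primeCompl = p.primeCompl := by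
    ext x
    constructor
    · rintro ⟨y, hy, rfl⟩
      exact hy
    · intro hx
      exact ⟨e.symm x, fun hm => hx (by simpa [P] using hm), e.apply_symm_apply x⟩
  let f : Localization.AtPrime P ≃+* Localization.AtPrime p :=
    IsLocalization.ringEquivOfRingEquiv (M := P.primeCompl) (T := p.primeCompl) (Localization.AtPrime P)
      (Localization.AtPrime p) e hP
  have hh : p.height = P.height := by
    have := ringKrullDim_eq_of_ringEquiv f
    rw [IsLocalization.AtPrime.ringKrullDim_eq_height P (Localization.AtPrime P),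
      IsLocalization.AtPrime.ringKrullDim_eq_height p (Localization.AtPrime p), WithBot.coe_inj] at this
    exact this.symm
  have := h P (hh ▸ hk)
  exact IsRegularLocalRing.of_ringEquiv f

theorem hasRk_congr {R S : Type u} [CommRing R] [CommRing S] (e : R ≃+* S) (n : ℕ) :
    LocCoh.HasRk n R ↔ LocCoh.HasRk n S :=
  ⟨hasRk_of_ringEquiv e n, hasRk_of_ringEquiv e.symm n⟩

theorem depth_congr_ring {R S : Type u} [CommRing R] [CommRing S] [IsLocalRing R] [IsLocalRing S]
    (e : R ≃+* S) : LocCoh.depth R R = LocCoh.depth S S :=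
  Alg6.depth_eq_of_semilinear e.toRingHom e.surjective e.toAddEquiv fun r x => e.map_mul r x

end Groth.Agent.Synt29.SmoothProps
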