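import Groth.Agent.Synt29.PointsReg
import Groth.Agent.H28.BlowVan
import Groth.Agent.H28.BlowExact
import Groth.Agent.H28.PushComp
import Groth.Agent.H28.BlowPush
import Groth.Agent.CurveEmbed.Conic
import Groth.Agent.S0844
import Groth.Agent.AGFLib.BorelImage
import Groth.Agent.QCoh.RpushAbGod
import Groth.Agent.SeesawX.PnFibre
import Groth.Agent.GrpSchLib.AntiAffine

/-!
# Blowing up finitely many closed points of projective space
-/

set_option autoImplicit false
set_option linter.style.haveILetI false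
set_option linter.unusedSectionVars false
set_option backward.isDefEq.respectTransparency false
set_option backward.isDefEq.respectTransparency.types false
set_option maxHeartbeats 1000000

universe u

open CategoryTheory CategoryTheory.Limits AlgebraicGeometry TopologicalSpace Opposite

noncomputable section

namespace Groth.Agent.Synt29.BlowPts

open Groth.Agent Groth.Agent.H23.PicMul Groth.Agent.H28

variable {k : Type u} [Field k] {n : ℕ}

theorem smooth_Pn : Smooth (CohB1.ProjSpace.toSpec n k) := CurveEmbed.smooth_toSpec n k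

theorem regular_Pn (x : CohB1.ProjSpace n k) : IsRegularLocalRing ((CohB1.ProjSpace n k).presheaf.stalk x) :=
  haveI := smooth_Pn (k := k) (n := n)
  GrpSchLib.isRegularLocalRing_stalk_of_smooth (CohB1.ProjSpace.toSpec n k) x

theorem isNoetherian_Pn : AlgebraicGeometry.IsNoetherian (CohB1.ProjSpace n k) := by
  haveI : IsProper (CohB1.ProjSpace.toSpec n k) := PnCoh.Chow.isProper_toSpec n k
  haveI := LocallyOfFiniteType.isLocallyNoetherian (CohB1.ProjSpace.toSpec n k)
  haveI := QuasiCompact.compactSpace_of_compactSpace (CohB1.ProjSpace.toSpec n k)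
  exact {}

variable (Zs : Set ↥(CohB1.ProjSpace n k)) (hfin : Zs.Finite)
  (hpt : ∀ x ∈ Zs, IsClosed ({x} : Set ↥(CohB1.ProjSpace n k))) (hZ : IsClosed Zs)

/-- The ideal of the reduced set. -/
abbrev J : (CohB1.ProjSpace n k).IdealSheafData := Scheme.IdealSheafData.vanishingIdeal ⟨Zs, hZ⟩

include hfin hpt in
theorem discrete : DiscreteTopology (J Zs hZ).subscheme := by
  let i := (J Zs hZ).subschemeι
  haveI : T1Space (J Zs hZ).subscheme := by
    refine ⟨fun z => ?_⟩
    have hz : i z ∈ Zs := by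
      have : i z ∈ Set.range i := ⟨z, rfl⟩
      rwa [Scheme.IdealSheafData.range_subschemeι, Scheme.IdealSheafData.coe_support_vanishingIdeal] at this
    have h := (hpt _ hz).preimage i.continuous
    have e : i ⁻¹' {i z} = ({z} : Set (J Zs hZ).subscheme) := by
      ext w
      exact ⟨fun h => i.isClosedEmbedding.injective h, fun h => congrArg i h⟩
    exact e ▸ h
  haveI : Finite (J Zs hZ).subscheme := by
    haveI : Finite (Set.range i) := by
      rw [Scheme.IdealSheafData.range_subschemeι, Scheme.IdealSheafData.coe_support_vanishingIdeal]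
      exact hfin
    exact Finite.of_injective (Set.rangeFactorization i)
      (fun a b h => i.isClosedEmbedding.injective ((Set.rangeFactorization_eq_rangeFactorization_iff a b).1 h))
  infer_instance

variable (hn : 1 ≤ n)

include hfin hpt hn in
theorem regClosed : Mor2.IsRegularClosedImmersion (J Zs hZ).subschemeι ∧
    FlatMod.IsFinLocFreeOfRank n (Omega.conormal (J Zs hZ).subschemeι) := by
  haveI := smooth_Pn (k := k) (n := n)
  haveI := SeesawX.PnProps.isIntegral_std (n := n) k
  haveI := discrete Zs hfin hpt hZ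
  exact PointsReg.regClosed (CohB1.ProjSpace.toSpec n k) (PointsReg.topologicalKrullDim_projSpace n k)
    (J Zs hZ).subschemeι

variable {X : Scheme.{u}} {π : X ⟶ CohB1.ProjSpace n k} (hπ : BlowUp.IsBlowUp π (J Zs hZ))

include hπ in
theorem geom : AlgebraicGeometry.IsNoetherian X ∧ IsProper π := by
  haveI := isNoetherian_Pn (k := k) (n := n)
  haveI := SeesawX.PnProps.isIntegral_std (n := n) k
  have h := H28.BlowReg.geom (J Zs hZ).subschemeι π (PointsReg.enough_projSpace n k)
    (by rwa [Scheme.IdealSheafData.ker_subschemeι])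
  exact ⟨h.1, h.2.1⟩

include hfin hpt hn hπ in
/-- The powers of the exceptional ideal are acyclic. -/
theorem van (m i : ℕ) (hi : 1 ≤ i) :
    RKoszul.RZ π (CohB1.tensorPow (ClSub.idealMod (BlowUp.exceptional π (J Zs hZ))) m) i := by
  haveI := isNoetherian_Pn (k := k) (n := n)
  haveI := SeesawX.PnProps.isIntegral_std (n := n) k
  obtain ⟨h1, h2⟩ := regClosed Zs hfin hpt hZ hn
  have hk : (J Zs hZ).subschemeι.ker = J Zs hZ := Scheme.IdealSheafData.ker_subschemeι _
  have := H28.BlowVan.van (PointsReg.enough_projSpace n k) (J Zs hZ).subschemeι h1 hn h2 π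
    (by rwa [hk]) m i hi
  rwa [hk] at this

include hfin hpt hn hπ in
theorem isIso_app (U : (CohB1.ProjSpace n k).Opens) : IsIso (π.app U) := by
  haveI := isNoetherian_Pn (k := k) (n := n)
  haveI := SeesawX.PnProps.isIntegral_std (n := n) k
  obtain ⟨hX, hprop⟩ := geom Zs hZ hπ
  haveI := hX; haveI := hprop
  rcases Lib.BlowUpInt.isEmpty_or_birational hπ with hE | ⟨hint, hgen, hst⟩
  · exfalso
    let η := genericPoint (CohB1.ProjSpace n k)
    have hη : η ∉ Zs := fun h => by
      haveI : Subsingleton ↥(CohB1.ProjSpace n k) := ⟨fun a b => by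
        have hu : closure ({η} : Set ↥(CohB1.ProjSpace n k)) = Set.univ := genericPoint_closure _
        rw [(hpt η h).closure_eq] at hu
        have ha : a ∈ ({η} : Set ↥(CohB1.ProjSpace n k)) := hu ▸ Set.mem_univ a
        have hb : b ∈ ({η} : Set ↥(CohB1.ProjSpace n k)) := hu ▸ Set.mem_univ b
        exact ha.trans hb.symm⟩
      haveI : Nonempty ↥(CohB1.ProjSpace n k) := ⟨η⟩
      have h0 := topologicalKrullDim_zero_of_discreteTopology ↥(CohB1.ProjSpace n k)
      rw [PointsReg.topologicalKrullDim_projSpace n k] at h0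
      have : n ≤ 0 := by exact_mod_cast h0
      omega
    haveI := BlowUpX.isIso_restrict hπ
    have hη' : η ∈ (J Zs hZ).support.compl := by
      show η ∉ ((J Zs hZ).support : Set _)
      rwa [Scheme.IdealSheafData.coe_support_vanishingIdeal]
    obtain ⟨w, -⟩ := (π ∣_ (J Zs hZ).support.compl).surjective ⟨η, hη'⟩
    exact hE.elim w.1
  haveI := hint; haveI := hst
  have hdom : π.base (genericPoint X) ⤳ genericPoint (CohB1.ProjSpace n k) := specializes_of_eq hgen
  haveI : IsIso ((CohB1.ProjSpace n k).presheaf.stalkSpecializes hdom) :=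
    ⟨(CohB1.ProjSpace n k).presheaf.stalkSpecializes (specializes_of_eq hgen.symm), by simp, by simp⟩
  have hsurj : Function.Surjective
      (CohIII.stalkToFunctionField π (genericPoint (CohB1.ProjSpace n k)) hdom) := fun x =>
    (ConcreteCategory.bijective_of_isIso
      ((CohB1.ProjSpace n k).presheaf.stalkSpecializes hdom ≫ π.stalkMap (genericPoint X))).2 x
  exact Lib.NormalPush.isIso_app (RefX.normal_of_regular regular_Pn) π hdom (fun x _ => hsurj x) U

/-- The line bundle `π^*O(c)`. -/
abbrev pO (π : X ⟶ CohB1.ProjSpace n k) (c : ℤ) : X.Modules :=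
  (Scheme.Modules.pullback π).obj (Twist.twistProjSpace n k c)

theorem isInvertible_twist (c : ℤ) : PicF.IsInvertible (Twist.twistProjSpace n k c) := by
  obtain ⟨a, ha⟩ := SeesawX.PnFibre.exists_iso_std (n := n) k
  exact isInvertible_of_iso
    ((Scheme.Modules.pullback a.inv).mapIso (ha c).some.symm ≪≫
      (Scheme.Modules.pullbackComp a.inv a.hom).app _ ≪≫
      (Scheme.Modules.pullbackCongr a.inv_hom_id).app _ ≪≫ (Scheme.Modules.pullbackId _).app _)
    (PicClLib.isInvertible_pullback a.inv (H28.KRRReg.isInvertible_twistOver c))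

theorem lf_twist (c : ℤ) : FlatMod.IsFinLocFree (Twist.twistProjSpace n k c) :=
  H23.PullPush.isFinLocFree_of_isInvertible (isInvertible_twist c)

theorem lf_pO (π : X ⟶ CohB1.ProjSpace n k) (c : ℤ) : FlatMod.IsFinLocFree (pO π c) :=
  KvbPull.lf_pull π (lf_twist c)

theorem cl_pO_mul (π : X ⟶ CohB1.ProjSpace n k) (a b : ℤ) :
    Nonempty (CohB1.tensorMod (pO π a) (pO π b) ≅ pO π (a + b)) := by
  refine cl_eq_iff.1 ?_
  let F := (pullHom π).comp (SeesawX.PnFibre.twistHom n k)
  rw [cl_tensor]
  exact (map_mul F (Multiplicative.ofAdd a) (Multiplicative.ofAdd b)).symm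

theorem pO_zero (π : X ⟶ CohB1.ProjSpace n k) : Nonempty (pO π 0 ≅ Coh.structureModule X) :=
  cl_eq_iff.1 ((map_one ((pullHom π).comp (SeesawX.PnFibre.twistHom n k))).trans one_def)

include hfin hpt hn hπ in
/-- The inverse images of the twists are acyclic. -/
theorem rz_pO (c : ℤ) (r : ℕ) : RKoszul.RZ π (pO π c) (r + 1) := by
  haveI := isNoetherian_Pn (k := k) (n := n)
  obtain ⟨hX, hprop⟩ := geom Zs hZ hπ
  haveI := hX; haveI := hprop
  haveI : HasInjectiveResolutions X.Modules := KFlatLib.hasInjectiveResolutions_modules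
  haveI := SpObjSS.enoughInjectives_of_hasInjectiveResolutions (C := X.Modules)
  obtain ⟨e₀⟩ := S0927.result π (CohB1.tensorPow (ClSub.idealMod (BlowUp.exceptional π (J Zs hZ))) 0) _
    (lf_twist c) (r + 1)
  obtain ⟨eu⟩ := H23.PicMul.unit (pO π c)
  have h := H28.BlowExact.rz_of_isZero_Rpush π r (IsZero.of_iso
    ((DCoh.tensorBi.obj (Twist.twistProjSpace n k c)).map_isZero
      (H28.BlowExact.isZero_Rpush_of_rz π r (van Zs hfin hpt hZ hn hπ 0 (r + 1) (by omega)))) e₀.symm)
  exact RKoszul.rz_of_iso π eu (r + 1) h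

include hfin hpt hn hπ in
/-- `H^p(X, π^*O(c)) = H^p(P^n, O(c))`. -/
theorem hh_pO (c : ℤ) (p : ℕ)
    (h : Subsingleton (Coh.HH (CohB1.ProjSpace n k) (Twist.twistProjSpace n k c) p)) :
    Subsingleton (Coh.HH X (pO π c) p) := by
  obtain ⟨hX, hprop⟩ := geom Zs hZ hπ
  haveI := hX; haveI := hprop
  haveI : IsProper (CohB1.ProjSpace.toSpec n k) := PnCoh.Chow.isProper_toSpec n k
  let t := CohB1.ProjSpace.toSpec n k
  obtain ⟨el⟩ := H28.PushComp.leray π t (rz_pO Zs hfin hpt hZ hn hπ c) p
  obtain ⟨ep⟩ := H28.BlowExact.push_pull π (isIso_app Zs hfin hpt hZ hn hπ) (lf_twist c)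
  have eq1 : (Scheme.Modules.pushforward π).obj (pO π c) ≅ Twist.twistProjSpace n k c := ep
  let e : (Coh.RpushAb (π ≫ t) p).obj (Coh.toAb (pO π c)) ≅
      (Coh.RpushAb t p).obj (Coh.toAb (Twist.twistProjSpace n k c)) :=
    el.symm ≪≫ (Coh.RpushAb t p).mapIso ((QCoh.toAbFunctor _).mapIso eq1)
  obtain ⟨a⟩ := QCoh.nonempty_HH_equiv_sections (π ≫ t) (QCoh.isQCoh_of_isFinLocFree (lf_pO π c)) p
  obtain ⟨b⟩ := QCoh.nonempty_HH_equiv_sections t (QCoh.isQCoh_of_isFinLocFree (lf_twist (n := n) (k := k) c)) p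
  haveI := h
  let s := (((sheafToPresheaf _ _).mapIso e).app (op ⊤)).addCommGroupIsoToAddEquiv
  exact ((a.trans s).trans b.symm).injective.subsingleton

include hfin hpt hn hπ in
theorem hh_vanish (c : ℤ) (q : ℕ) (h₀ : ¬ (q = 0 ∧ 0 ≤ c)) (hn' : ¬ (q = n ∧ c ≤ -((n : ℤ) + 1))) :
    Subsingleton (Coh.HH X (pO π c) q) :=
  hh_pO Zs hfin hpt hZ hn hπ c q (S0844.result k n c q h₀ hn')

include hfin hpt hn hπ in
theorem bijective_appTop [IsAlgClosed k] :
    Function.Bijective (π ≫ CohB1.ProjSpace.toSpec n k).appTop := by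
  haveI := SeesawX.PnProps.isIntegral_std (n := n) k
  haveI : IsProper (CohB1.ProjSpace.toSpec n k) := PnCoh.Chow.isProper_toSpec n k
  haveI := isIso_app Zs hfin hpt hZ hn hπ ⊤
  rw [Scheme.Hom.comp_appTop]
  exact (ConcreteCategory.bijective_of_isIso (π.app ⊤)).comp
    (AGFLib.BorelImage.bijective_appTop_of_isProper _)

end Groth.Agent.Synt29.BlowPts

end
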