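import Groth.Agent.Proj16.NormalExt
import Groth.Agent.NormCurve.Normal
import Groth.Agent.GrpSchLib.FieldDim

/-!
# Characterization of the normalization of an integral scheme
-/

set_option autoImplicit false
set_option linter.style.haveILetI false

open CategoryTheory CategoryTheory.Limits AlgebraicGeometry IsLocalRing

namespace Groth.Agent.Synt29

universe u

variable {X Y : Scheme.{u}}

/-- A point with isomorphic local ring over the generic point gives a rational point. -/
theorem exists_generic_lift [IrreducibleSpace Y] {P : Scheme.{u}} (q : P ⟶ Y) (p : P)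
    (hp : q p = genericPoint Y) [IsIso (q.stalkMap p)] :
    ∃ σ : Spec (Y.presheaf.stalk (genericPoint Y)) ⟶ P,
      σ ≫ q = Y.fromSpecStalk (genericPoint Y) := by
  have key : ∀ y : Y, q p = y →
      ∃ σ : Spec (Y.presheaf.stalk y) ⟶ P, σ ≫ q = Y.fromSpecStalk y := by
    rintro y rfl
    refine ⟨Spec.map (inv (q.stalkMap p)) ≫ P.fromSpecStalk p, ?_⟩
    rw [Category.assoc, ← Scheme.SpecMap_stalkMap_fromSpecStalk, ← Spec.map_comp_assoc,
      IsIso.hom_inv_id, Spec.map_id, Category.id_comp]
  exact key _ hp

theorem isReduced_of_isNormalScheme (hY : Pi1.IsNormalScheme Y) : IsReduced Y := by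
  haveI : ∀ y : Y, _root_.IsReduced (Y.presheaf.stalk y) := fun y => by
    haveI := (hY y).1
    infer_instance
  exact isReduced_of_isReduced_stalk Y

/-- An integral morphism to a normal integral scheme with isomorphic local ring at a point over the
generic point is an isomorphism. -/
theorem isIso_of_isIntegralHom_of_stalk {P : Scheme.{u}} [IsIntegral P] [IsIntegral Y]
    (hN : Pi1.IsNormalScheme Y) (q : P ⟶ Y) [IsIntegralHom q] (p : P) (hp : q p = genericPoint Y)
    [IsIso (q.stalkMap p)] : IsIso q := by
  obtain ⟨σ, hσ⟩ := exists_generic_lift q p hp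
  exact Proj16.isIso_of_isIntegralHom hN q σ hσ

theorem isNormalScheme_of_iso {P : Scheme.{u}} (e : P ≅ Y) (hY : Pi1.IsNormalScheme Y) :
    Pi1.IsNormalScheme P := fun x => by
  obtain ⟨h1, h2⟩ := hY (e.hom x)
  let ψ := (asIso (e.hom.stalkMap x)).commRingCatIsoToRingEquiv
  haveI : IsDomain (Y.presheaf.stalk (e.hom x)) := h1
  exact ⟨ψ.symm.toMulEquiv.isDomain, IsIntegrallyClosed.of_equiv ψ⟩

variable (X) [IsIntegral X]
  [QuasiCompact (X.fromSpecStalk (genericPoint X))] [QuasiSeparated (X.fromSpecStalk (genericPoint X))]

theorem isIntegralHom_normalizationι : IsIntegralHom (Curv2.normalizationι X) :=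
  inferInstanceAs (IsIntegralHom (X.fromSpecStalk (genericPoint X)).fromNormalization)

theorem isIntegral_normalization : IsIntegral (Curv2.normalization X) :=
  inferInstanceAs (IsIntegral (X.fromSpecStalk (genericPoint X)).normalization)

/-- The normalization has a point over the generic point with the same local ring, and it is the only
point over the generic point. -/
theorem normalization_generic :
    haveI := isIntegral_normalization X
    Curv2.normalizationι X (genericPoint (Curv2.normalization X)) = genericPoint X ∧
      IsIso ((Curv2.normalizationι X).stalkMap (genericPoint (Curv2.normalization X))) ∧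
      (Curv2.normalizationι X).base ⁻¹' {genericPoint X} = {genericPoint (Curv2.normalization X)} := by
  haveI := isIntegral_normalization X
  haveI := isIntegralHom_normalizationι X
  let s := X.fromSpecStalk (genericPoint X)
  let t : Spec (X.presheaf.stalk (genericPoint X)) ⟶ Curv2.normalization X := s.toNormalization
  have hts : t ≫ Curv2.normalizationι X = s := s.toNormalization_fromNormalization
  let pt : ↥(Spec (X.presheaf.stalk (genericPoint X))) := closedPoint (X.presheaf.stalk (genericPoint X))
  have hall : ∀ z : Spec (X.presheaf.stalk (genericPoint X)), z = pt := fun z => by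
    haveI : Unique (PrimeSpectrum (X.presheaf.stalk (genericPoint X))) :=
      inferInstanceAs (Unique (PrimeSpectrum X.functionField))
    exact Subsingleton.elim (α := PrimeSpectrum (X.presheaf.stalk (genericPoint X))) z pt
  have hgen : t pt = genericPoint (Curv2.normalization X) := by
    haveI : IsDominant t := inferInstanceAs (IsDominant s.toNormalization)
    have hrange : Set.range t ⊆ {t pt} := by
      rintro _ ⟨z, rfl⟩
      rw [hall z]; rfl
    have h1 : (Set.univ : Set (Curv2.normalization X)) ⊆ closure {t pt} :=
      fun z _ => closure_mono hrange (t.denseRange z)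
    exact (IsGenericPoint.eq (genericPoint_spec _)
      (isGenericPoint_def.mpr (Set.univ_subset_iff.1 h1))).symm
  have hν : Curv2.normalizationι X (t pt) = genericPoint X := by
    rw [← Scheme.Hom.comp_apply, hts]
    exact X.fromSpecStalk_closedPoint
  have hiso : IsIso ((Curv2.normalizationι X).stalkMap (t pt)) := by
    haveI : IsIso (s.stalkMap pt) := by
      rw [ConcreteCategory.isIso_iff_bijective]
      refine ⟨?_, s.stalkMap_surjective pt⟩
      have hf : IsField (X.presheaf.stalk (s pt)) := by
        rw [show s pt = genericPoint X from X.fromSpecStalk_closedPoint]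
        exact Field.toIsField X.functionField
      letI := hf.toField
      haveI : Nontrivial ((Spec (X.presheaf.stalk (genericPoint X))).presheaf.stalk pt) :=
        IsLocalRing.toNontrivial
      exact RingHom.injective (s.stalkMap pt).hom
    haveI : IsIso ((t ≫ Curv2.normalizationι X).stalkMap pt) := by
      have key : ∀ (g g' : Spec (X.presheaf.stalk (genericPoint X)) ⟶ X), g = g' →
          IsIso (g'.stalkMap pt) → IsIso (g.stalkMap pt) := by rintro g g' rfl h; exact h
      exact key _ _ hts inferInstance
    rw [Scheme.Hom.stalkMap_comp] at this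
    have hb := (ConcreteCategory.isIso_iff_bijective _).1 this
    change Function.Bijective (⇑(t.stalkMap pt) ∘ ⇑((Curv2.normalizationι X).stalkMap (t pt))) at hb
    have hinj : Function.Injective (t.stalkMap pt) := by
      have hf : IsField ((Curv2.normalization X).presheaf.stalk (t pt)) := by
        rw [hgen]; exact Field.toIsField (Curv2.normalization X).functionField
      letI := hf.toField
      haveI : Nontrivial ((Spec (X.presheaf.stalk (genericPoint X))).presheaf.stalk pt) :=
        IsLocalRing.toNontrivial
      exact RingHom.injective (t.stalkMap pt).hom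
    rw [ConcreteCategory.isIso_iff_bijective]
    exact ⟨hb.injective.of_comp, Function.Surjective.of_comp_left hb.surjective hinj⟩
  rw [hgen] at hν hiso
  refine ⟨hν, hiso, Set.Subset.antisymm (fun y hy => ?_) (Set.singleton_subset_iff.2 hν)⟩
  exact (GrpSchLib.eq_of_specializes_of_isIntegralHom (Curv2.normalizationι X)
    (genericPoint_specializes y) (hν.trans hy.symm)).symm

variable {X}

/-- **Characterization of the normalization.** -/
theorem exists_iso_normalization (f : Y ⟶ X) (hY : Pi1.IsNormalScheme Y) [IsIntegralHom f]
    [IrreducibleSpace Y] (hgen : f (genericPoint Y) = genericPoint X)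
    [IsIso (f.stalkMap (genericPoint Y))] :
    ∃ e : Y ≅ Curv2.normalization X, e.hom ≫ Curv2.normalizationι X = f := by
  haveI := isReduced_of_isNormalScheme hY
  haveI : IsIntegral Y := isIntegral_of_irreducibleSpace_of_isReduced Y
  haveI := isIntegral_normalization X
  haveI := isIntegralHom_normalizationι X
  let s := X.fromSpecStalk (genericPoint X)
  let θ : X.presheaf.stalk (genericPoint X) ⟶ Y.presheaf.stalk (genericPoint Y) :=
    X.presheaf.stalkSpecializes (specializes_of_eq hgen) ≫ f.stalkMap (genericPoint Y)
  haveI : IsIso (X.presheaf.stalkSpecializes (specializes_of_eq hgen)) :=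
    (TopCat.Presheaf.stalkCongr X.presheaf (Inseparable.of_eq hgen.symm)).isIso_hom
  have hθ : Spec.map θ ≫ s = Y.fromSpecStalk (genericPoint Y) ≫ f := by
    rw [Spec.map_comp, Category.assoc, Scheme.SpecMap_stalkSpecializes_fromSpecStalk,
      Scheme.SpecMap_stalkMap_fromSpecStalk]
  have H : s = (Spec.map (inv θ) ≫ Y.fromSpecStalk (genericPoint Y)) ≫ f := by
    rw [Category.assoc, ← hθ, ← Spec.map_comp_assoc, IsIso.hom_inv_id, Spec.map_id, Category.id_comp]
  let d : Curv2.normalization X ⟶ Y := s.normalizationDesc _ f H
  have hd : d ≫ f = Curv2.normalizationι X := s.normalizationDesc_comp _ f H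
  haveI : IsIntegralHom d := inferInstanceAs (IsIntegralHom (s.normalizationDesc _ f H))
  let t : Spec (X.presheaf.stalk (genericPoint X)) ⟶ Curv2.normalization X := s.toNormalization
  have htd : t ≫ d = Spec.map (inv θ) ≫ Y.fromSpecStalk (genericPoint Y) :=
    s.toNormalization_normalizationDesc _ f H
  have : IsIso d := Proj16.isIso_of_isIntegralHom hY d (Spec.map θ ≫ t) (by
    rw [Category.assoc, htd, ← Spec.map_comp_assoc, IsIso.inv_hom_id, Spec.map_id, Category.id_comp])
  exact ⟨(asIso d).symm, by rw [Iso.symm_hom, asIso_inv, IsIso.inv_comp_eq, hd]⟩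

/-- Restriction of the normalization over a normal open subset is an isomorphism. -/
theorem isIso_normalizationι_restrict (V : X.Opens) (hne : (V : Set X).Nonempty)
    (hV : ∀ x ∈ V, IsIntegrallyClosed (X.presheaf.stalk x)) :
    IsIso (Curv2.normalizationι X ∣_ V) := by
  haveI := isIntegral_normalization X
  haveI := isIntegralHom_normalizationι X
  obtain ⟨hν, hiso, -⟩ := normalization_generic X
  haveI : Nonempty V := hne.to_subtype
  have hgV : genericPoint X ∈ V :=
    ((genericPoint_spec X).mem_open_set_iff V.2).2 (by simpa using hne)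
  have hpV : genericPoint (Curv2.normalization X) ∈ Curv2.normalizationι X ⁻¹ᵁ V := by
    show Curv2.normalizationι X _ ∈ V
    rw [hν]; exact hgV
  haveI : Nonempty ↥((Curv2.normalizationι X ⁻¹ᵁ V : (Curv2.normalization X).Opens).toScheme) :=
    ⟨⟨_, hpV⟩⟩
  haveI : IsIntegral (V : Scheme.{u}) := isIntegral_of_isOpenImmersion V.ι
  haveI : IsIntegral (Curv2.normalizationι X ⁻¹ᵁ V : (Curv2.normalization X).Opens).toScheme :=
    isIntegral_of_isOpenImmersion (Curv2.normalizationι X ⁻¹ᵁ V).ι
  have hN : Pi1.IsNormalScheme (V : Scheme.{u}) := by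
    intro x
    let e := (V.stalkIso x).commRingCatIsoToRingEquiv
    refine ⟨e.toMulEquiv.isDomain, ?_⟩
    haveI := hV x.1 x.2
    exact IsIntegrallyClosed.of_equiv e.symm
  haveI : IsIntegralHom (Curv2.normalizationι X ∣_ V) := inferInstance
  let p : ↥(Curv2.normalizationι X ⁻¹ᵁ V).toScheme := ⟨_, hpV⟩
  haveI : IsIso ((Curv2.normalizationι X ∣_ V).stalkMap p) :=
    ((MorphismProperty.isomorphisms CommRingCat).arrow_mk_iso_iff
      (morphismRestrictStalkMap (Curv2.normalizationι X) V p)).2 hiso
  refine isIso_of_isIntegralHom_of_stalk hN _ p ?_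
  apply V.ι.isOpenEmbedding.injective
  rw [genericPoint_eq_of_isOpenImmersion V.ι]
  exact (morphismRestrict_base_coe _ V p).trans hν

end Groth.Agent.Synt29
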