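import Mathlib
import Groth.Agent.S18939
import Groth.Agent.Synt29.KoszulLocal
import Groth.Agent.Synt29.LocalRelGCI
import Groth.Agent.Synt29.RelReg

/-!
# The conormal module of a syntomic algebra
-/

universe u v w

open TensorProduct Algebra

set_option linter.style.haveILetI false
set_option backward.isDefEq.respectTransparency.types false

namespace Groth.Agent.Synt29

variable {R T : Type u} [CommRing R] [CommRing T] [Algebra R T]

theorem projective_cotangent_of_retract {ι : Type v} {ι' : Type w} (P : Generators R T ι) (P' : Generators R T ι')
    [Module.Projective T P'.toExtension.Cotangent] : Module.Projective T P.toExtension.Cotangent := by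
  let f := (Generators.defaultHom P P').toExtensionHom
  let f' := (Generators.defaultHom P' P).toExtensionHom
  let h := (f'.comp f).sub (Extension.Hom.id P.toExtension)
  let α : P.toExtension.Cotangent →ₗ[T] P.toExtension.CotangentSpace × P'.toExtension.Cotangent :=
    LinearMap.prod P.toExtension.cotangentComplex (Extension.Cotangent.map f)
  let β : P.toExtension.CotangentSpace × P'.toExtension.Cotangent →ₗ[T] P.toExtension.Cotangent :=
    LinearMap.coprod (-h) (Extension.Cotangent.map f')
  refine Module.Projective.of_split α β (LinearMap.ext fun x => ?_)
  have hx := LinearMap.congr_fun (Extension.Cotangent.map_sub_map (f'.comp f) (Extension.Hom.id P.toExtension)) x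
  show -(h (P.toExtension.cotangentComplex x)) + Extension.Cotangent.map f' (Extension.Cotangent.map f x) = x
  rw [LinearMap.sub_apply, Extension.Cotangent.map_id, Extension.Cotangent.map_comp] at hx
  simp only [LinearMap.coe_comp, LinearMap.coe_restrictScalars, Function.comp_apply, LinearMap.id_coe, id_eq] at hx
  rw [← hx]
  abel

theorem projective_cotangent_of_ker (P : Extension R T)
    [Module.Projective (P.Ring ⧸ P.ker) P.ker.Cotangent] : Module.Projective T P.Cotangent := by
  let σ : (P.Ring ⧸ P.ker) ≃+* T := RingHom.quotientKerEquivOfSurjective P.algebraMap_surjective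
  haveI := RingHomInvPair.of_ringEquiv σ
  haveI := RingHomInvPair.of_ringEquiv_symm σ
  refine Module.Projective.of_equiv (M := P.ker.Cotangent) (R := P.Ring ⧸ P.ker) (σ := (σ : P.Ring ⧸ P.ker →+* T))
    { toFun := fun x => Extension.Cotangent.of x
      map_add' := fun x y => rfl
      map_smul' := fun r x => ?_
      invFun := fun x => x.val
      left_inv := fun _ => rfl
      right_inv := fun _ => rfl }
  obtain ⟨r, rfl⟩ := Ideal.Quotient.mk_surjective r
  show Extension.Cotangent.of ((Ideal.Quotient.mk P.ker r) • x) = (algebraMap P.Ring T r) • Extension.Cotangent.of x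
  rw [← Ideal.Quotient.algebraMap_eq, algebraMap_smul, algebraMap_smul]
  exact Extension.Cotangent.ext (Extension.Cotangent.val_smul' r (Extension.Cotangent.of x)).symm

/-- A relative global complete intersection has a presentation with projective conormal module. -/
theorem exists_generators_projective_of_isStd (h : IsStd R T) :
    ∃ (N : ℕ) (P : Generators R T (Fin N)), Module.Projective T P.toExtension.Cotangent := by
  obtain ⟨N, M, F, hF, ⟨e⟩⟩ := h
  let P : Generators R T (Fin N) := (Generators.naive (I := Ideal.span (Set.range F))).ofAlgEquiv e
  refine ⟨N, P, ?_⟩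
  have hker : P.toExtension.ker = Ideal.span (Set.range F) := by
    refine (Generators.ker_eq_ker_aeval_val (P := P)).trans ?_
    have hv : MvPolynomial.aeval P.val = e.toAlgHom.comp (Ideal.Quotient.mkₐ R (Ideal.span (Set.range F))) :=
      MvPolynomial.algHom_ext fun i => by simp [P, Generators.ofAlgEquiv, Generators.naive]
    ext x
    rw [RingHom.mem_ker, hv]
    show e (Ideal.Quotient.mk _ x) = 0 ↔ _
    rw [map_eq_zero_iff _ e.injective, Ideal.Quotient.eq_zero_iff_mem]
  have key : ∀ J : Ideal (MvPolynomial (Fin N) R), J = Ideal.span (Set.range F) →
      Module.Projective (MvPolynomial (Fin N) R ⧸ J) J.Cotangent := by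
    rintro J rfl
    by_cases htop : Ideal.span (Set.range F) = ⊤
    · haveI : Subsingleton (MvPolynomial (Fin N) R ⧸ Ideal.span (Set.range F)) :=
        Ideal.Quotient.subsingleton_iff.2 htop
      haveI : Subsingleton (Ideal.span (Set.range F)).Cotangent := Module.subsingleton (MvPolynomial (Fin N) R ⧸ Ideal.span (Set.range F)) _
      exact Module.Projective.of_free
    obtain ⟨b, -⟩ := S18939.result htop M (fun i => ⟨F i, Ideal.subset_span (Set.mem_range_self i)⟩)
      (isKoszulRegularSeq_of_local _ fun q _ hmem _ =>
        weaklyRegular_relGCI hF q fun i => hmem _ (List.mem_ofFn.2 ⟨i, rfl⟩)) rfl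
    exact Module.Projective.of_basis b
  haveI : Module.Projective (P.toExtension.Ring ⧸ P.toExtension.ker) P.toExtension.ker.Cotangent := key _ hker
  exact projective_cotangent_of_ker P.toExtension

theorem projective_cotangent_away {ι : Type v} (P : Generators R T ι) (h : T) (U : Type u) [CommRing U]
    [Algebra T U] [Algebra R U] [IsScalarTower R T U] [IsLocalization.Away h U]
    [Module.Projective U ((Generators.localizationAway U h).comp P).toExtension.Cotangent] :
    Module.Projective U (U ⊗[T] P.toExtension.Cotangent) := by
  obtain ⟨x, hx⟩ := Generators.Cotangent.surjective_map_ofComp (Generators.localizationAway U h) P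
    (Generators.cMulXSubOneCotangent U h)
  let e := Generators.cotangentCompLocalizationAwayEquiv h P hx
  exact Module.Projective.of_split (e.symm.toLinearMap ∘ₗ LinearMap.inl U _ _) (LinearMap.fst U _ _ ∘ₗ e.toLinearMap)
    (LinearMap.ext fun y => by simp)

theorem finite_cotangent {ι : Type v} (P : Generators R T ι) [Finite ι] [Algebra.FinitePresentation R T] :
    Module.Finite T P.toExtension.Cotangent :=
  Algebra.Extension.Cotangent.finite P.fg_ker_of_finitePresentation

/-- The conormal module of any finite presentation of a syntomic algebra is projective. -/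
theorem projective_cotangent_of_isSyntomic {ι : Type v} [Finite ι] (P : Generators R T ι) (hT : Synt.IsSyntomic R T) :
    Module.Projective T P.toExtension.Cotangent := by
  haveI := hT.1
  haveI := hT.2.1
  let C := P.toExtension.Cotangent
  haveI : Module.Finite T C := finite_cotangent P
  let s : Set T := {h | IsStd R (Localization.Away h)}
  have hs : Ideal.span s = ⊤ := by
    by_contra hne
    obtain ⟨m, hm, hle⟩ := Ideal.exists_le_maximal _ hne
    obtain ⟨g, hg, hstd⟩ := exists_isStd_away ⟨m, hm.isPrime⟩ _ rfl (hT.2.2 _)
    exact hg (hle (Ideal.subset_span hstd))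
  have hloc : ∀ h : s, Module.Projective (Localization.Away h.1) (Localization.Away h.1 ⊗[T] C) := fun h => by
    obtain ⟨N, P', hP'⟩ := exists_generators_projective_of_isStd h.2
    haveI := projective_cotangent_of_retract ((Generators.localizationAway (Localization.Away h.1) h.1).comp P) P'
    exact projective_cotangent_away P h.1 (Localization.Away h.1)
  haveI : Module.FinitePresentation T C :=
    Module.FinitePresentation.of_localizationSpan' s hs (Rₚ := fun h : s => Localization.Away h.1)
      (fun h => TensorProduct.mk T (Localization.Away h.1) C 1)
      (fun h => haveI := hloc h; Module.finitePresentation_of_projective _ _)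
  haveI : Module.Flat T C := by
    refine Module.flat_of_isLocalized_span T C s hs (fun h : s => Localization.Away h.1 ⊗[T] C)
      (fun h => TensorProduct.mk T (Localization.Away h.1) C 1) fun h => ?_
    haveI := hloc h
    haveI : Module.Flat T (Localization.Away h.1) := IsLocalization.flat _ (Submonoid.powers h.1)
    exact Module.Flat.trans T (Localization.Away h.1) _
  exact Module.Flat.projective_of_finitePresentation

end Groth.Agent.Synt29
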