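import Mathlib
import Groth.Agent.Synt29.ConormalProj
import Groth.Agent.LC.Liaison

set_option autoImplicit false
set_option backward.isDefEq.respectTransparency.types false
universe u v w
open Algebra

namespace Groth.Agent.Synt29

/-- If the conormal module is projective and the localizations at the associated primes of `A` have vanishing
`H¹(L)`, then `H¹(L_{A/R}) = 0`. -/
theorem subsingleton_h1Cotangent_of_associatedPrimes {R : Type u} {A : Type v} [CommRing R] [CommRing A]
    [Algebra R A] [IsNoetherianRing A] {ι : Type w} (P : Generators R A ι)
    [Module.Projective A P.toExtension.Cotangent]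
    (h : ∀ (p : Ideal A) (_ : p.IsPrime), p ∈ associatedPrimes A A →
      Subsingleton (Algebra.H1Cotangent R (Localization.AtPrime p))) :
    Subsingleton (Algebra.H1Cotangent R A) := by
  have key : Subsingleton P.toExtension.H1Cotangent := by
    refine subsingleton_of_forall_eq 0 fun x => ?_
    by_contra hx
    have hx1 : x.1 ≠ 0 := fun e => hx (Subtype.ext e)
    obtain ⟨g, hg⟩ := Module.projective_def.1 (inferInstance : Module.Projective A P.toExtension.Cotangent)
    have hgx : g x.1 ≠ 0 := fun e => hx1 (by rw [← hg x.1, e, map_zero])
    obtain ⟨c, hc⟩ := Finsupp.ne_iff.1 hgx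
    obtain ⟨p, hp, hle⟩ := exists_le_isAssociatedPrime_of_isNoetherianRing (R := A) (g x.1 c) hc
    haveI := hp.isPrime
    haveI := h p hp.isPrime hp
    obtain ⟨s, hs⟩ := (IsLocalizedModule.eq_zero_iff p.primeCompl
      (Algebra.H1Cotangent.map R R A (Localization.AtPrime p))).1 (Subsingleton.elim
        (Algebra.H1Cotangent.map R R A (Localization.AtPrime p) (P.equivH1Cotangent x)) 0)
    have hsx : (s : A) • x = 0 := by
      apply P.equivH1Cotangent.injective
      rw [map_smul, map_zero]
      exact hs
    apply s.2
    apply hle
    rw [Submodule.mem_colon_singleton, Submodule.mem_bot]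
    have := congrArg (fun z : P.toExtension.H1Cotangent => g z.1 c) hsx
    simpa using this
  exact P.equivH1Cotangent.symm.toEquiv.subsingleton

end Groth.Agent.Synt29
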