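import Mathlib

/-! A criterion for two complexes concentrated in degrees `-1` and `0` to be quasi-isomorphic. -/

set_option autoImplicit false

universe v u

open CategoryTheory CategoryTheory.Limits HomologicalComplex

namespace Groth.Agent.Synt29.DoubleQI

variable {C : Type u} [Category.{v} C] [Abelian C] {P Q P' Q' T : C} (φ : P ⟶ Q) (φ' : P' ⟶ Q')
  (a : P ⟶ P') (b : Q ⟶ Q') (comm : a ≫ φ' = φ ≫ b) (q : P' ⟶ T) (ε : Q' ⟶ T)

include comm in
theorem exists_quasiIso (hq : φ' ≫ ε = q) (wa : a ≫ q = 0) (hS : (ShortComplex.mk a q wa).ShortExact)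
    (wb : b ≫ ε = 0) (hb : (ShortComplex.mk b ε wb).Exact) [Mono b] :
    ∃ ψ : double φ (show (ComplexShape.up ℤ).Rel (-1 : ℤ) 0 from neg_add_cancel (1 : ℤ)) ⟶
      double φ' (show (ComplexShape.up ℤ).Rel (-1 : ℤ) 0 from neg_add_cancel (1 : ℤ)), QuasiIso ψ := by
  have h01 : (-1 : ℤ) ≠ 0 := by omega
  have hr : (ComplexShape.up ℤ).Rel (-1 : ℤ) 0 := neg_add_cancel (1 : ℤ)
  let K := double φ hr
  let L := double φ' hr
  let e₀ := doubleXIso₀ φ hr
  let e₁ := doubleXIso₁ φ hr h01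
  let e₀' := doubleXIso₀ φ' hr
  let e₁' := doubleXIso₁ φ' hr h01
  let ψ : K ⟶ L := mkHomFromDouble hr h01 (a ≫ e₀'.inv) (b ≫ e₁'.inv)
    (by
      show (a ≫ e₀'.inv) ≫ (double φ' hr).d (-1) 0 = φ ≫ b ≫ e₁'.inv
      rw [double_d φ' hr h01, Category.assoc, Iso.inv_hom_id_assoc, ← Category.assoc, comm, Category.assoc])
    (fun k hk => (isZero_double_X _ _ k (by simp at hk; omega) (by simp at hk; omega)).eq_of_tgt _ _)
  have hψ₀ : ψ.f (-1) = e₀.hom ≫ a ≫ e₀'.inv := mkHomFromDouble_f₀ ..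
  have hψ₁ : ψ.f 0 = e₁.hom ≫ b ≫ e₁'.inv := mkHomFromDouble_f₁ ..
  haveI : Mono a := hS.mono_f
  haveI : Epi q := hS.epi_g
  have hd : K.d (-1) 0 = e₀.hom ≫ φ ≫ e₁.inv := double_d φ hr h01
  have hd' : L.d (-1) 0 = e₀'.hom ≫ φ' ≫ e₁'.inv := double_d φ' hr h01
  have hz : ∀ k : ℤ, k ≠ -1 → k ≠ 0 → IsZero (K.X k) ∧ IsZero (L.X k) := fun k h h' =>
    ⟨isZero_double_X _ _ k h h', isZero_double_X _ _ k h h'⟩
  refine ⟨ψ, ⟨fun k => ?_⟩⟩
  rw [quasiIsoAt_iff_isIso_homologyMap]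
  by_cases h : k = -1
  · subst h
    have : Mono (homologyMap ψ (-1)) := by
      rw [mono_homologyMap_iff_up_to_refinements ψ (-2) (-1) 0 (by simp) (by simp)]
      intro A x _ y hy
      refine ⟨A, 𝟙 A, inferInstance, 0, ?_⟩
      rw [(hz (-2) (by omega) (by omega)).2.eq_of_tgt y 0, zero_comp, hψ₀] at hy
      rw [zero_comp, Category.id_comp, ← cancel_mono (e₀.hom ≫ a ≫ e₀'.inv), zero_comp]
      exact hy
    have : Epi (homologyMap ψ (-1)) := by
      rw [epi_homologyMap_iff_up_to_refinements ψ (-2) (-1) 0 (by simp) (by simp)]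
      intro A y hy
      rw [hd', ← Category.assoc, ← Category.assoc, Preadditive.IsIso.comp_right_eq_zero] at hy
      have h1 : (y ≫ e₀'.hom) ≫ q = 0 := by rw [← hq, ← Category.assoc, hy, zero_comp]
      obtain ⟨x, hx⟩ : ∃ x : A ⟶ P, x ≫ a = y ≫ e₀'.hom := ⟨_, hS.exact.lift_f (y ≫ e₀'.hom) h1⟩
      have h2 : x ≫ φ = 0 := by
        rw [← cancel_mono b, Category.assoc, ← comm, reassoc_of% hx, zero_comp]
        simpa using hy
      refine ⟨A, 𝟙 A, inferInstance, x ≫ e₀.inv, ?_, 0, ?_⟩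
      · rw [hd, Category.assoc, Iso.inv_hom_id_assoc, reassoc_of% h2, zero_comp]
      · rw [zero_comp, add_zero, Category.id_comp, hψ₀, Category.assoc, Iso.inv_hom_id_assoc,
          reassoc_of% hx, Iso.hom_inv_id, Category.comp_id]
    exact isIso_of_mono_of_epi _
  by_cases h' : k = 0
  · subst h'
    have : Mono (homologyMap ψ 0) := by
      rw [mono_homologyMap_iff_up_to_refinements ψ (-1) 0 1 (by simp) (by simp)]
      intro A x _ y hy
      rw [hψ₁, hd', ← Category.assoc, ← Category.assoc, ← Category.assoc, ← Category.assoc, cancel_mono] at hy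
      have h1 : (y ≫ e₀'.hom) ≫ q = 0 := by
        rw [← hq, ← Category.assoc, ← hy, Category.assoc, wb, comp_zero]
      obtain ⟨z, hz'⟩ : ∃ z : A ⟶ P, z ≫ a = y ≫ e₀'.hom := ⟨_, hS.exact.lift_f (y ≫ e₀'.hom) h1⟩
      refine ⟨A, 𝟙 A, inferInstance, z ≫ e₀.inv, ?_⟩
      rw [Category.id_comp, hd, Category.assoc, Iso.inv_hom_id_assoc, ← cancel_mono e₁.hom, ← cancel_mono b, hy,
        ← hz']
      simp [comm]
    have : Epi (homologyMap ψ 0) := by
      rw [epi_homologyMap_iff_up_to_refinements ψ (-1) 0 1 (by simp) (by simp)]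
      intro A y _
      obtain ⟨A', π, hπ, z, hz'⟩ := surjective_up_to_refinements_of_epi q (y ≫ e₁'.hom ≫ ε)
      obtain ⟨v, hv⟩ : ∃ v : A' ⟶ Q, v ≫ b = π ≫ y ≫ e₁'.hom - z ≫ φ' := by
        refine ⟨_, hb.lift_f (π ≫ y ≫ e₁'.hom - z ≫ φ') ?_⟩
        simp [hq, ← hz']
      refine ⟨A', π, hπ, v ≫ e₁.inv, (hz 1 (by omega) (by omega)).1.eq_of_tgt _ _, z ≫ e₀'.inv, ?_⟩
      rw [hψ₁, hd', Category.assoc, Iso.inv_hom_id_assoc, Category.assoc, Iso.inv_hom_id_assoc, reassoc_of% hv,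
        Preadditive.sub_comp]
      simp
    exact isIso_of_mono_of_epi _
  · rw [← quasiIsoAt_iff_isIso_homologyMap, quasiIsoAt_iff_exactAt _ _ (ExactAt.of_isZero (hz k h h').1)]
    exact ExactAt.of_isZero (hz k h h').2

end Groth.Agent.Synt29.DoubleQI
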