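import Groth.Agent.Synt29.CommonFact
import Groth.Agent.Synt29.DoubleQI
import Groth.Agent.PPSheaf.OmegaComp
import Groth.Agent.S5016
import Groth.Agent.S1488
import Groth.Agent.S5018
import Groth.Agent.QCoh.LocFree
import Groth.Prelude.Def_DCoh2

/-! Two-term cotangent complexes along a smooth morphism. -/

set_option autoImplicit false

universe u

attribute [local instance] HasDerivedCategory.standard

open CategoryTheory CategoryTheory.Limits AlgebraicGeometry TopologicalSpace Opposite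

namespace Groth.Agent.Synt29.CotangentQI

open OmegaStalk ConormalStalk ConormalExact

/-- pullbacks of sections along a composite -/
theorem pullbackComp_inv_pullSect {X Y Z : Scheme.{u}} (f : X ⟶ Y) (g : Y ⟶ Z) (M : Z.Modules) (U : Z.Opens)
    (m : Γ(M, U)) :
    ((Scheme.Modules.pullbackComp f g).inv.app M).app ((f ≫ g) ⁻¹ᵁ U) (OmegaSh.pullSect (f ≫ g) M U m) =
      OmegaSh.pullSect f ((Scheme.Modules.pullback g).obj M) (g ⁻¹ᵁ U) (OmegaSh.pullSect g M U m) := by
  have h := unit_conjugateEquiv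
    ((Scheme.Modules.pullbackPushforwardAdjunction g).comp (Scheme.Modules.pullbackPushforwardAdjunction f))
    (Scheme.Modules.pullbackPushforwardAdjunction (f ≫ g)) (Scheme.Modules.pullbackComp f g).inv M
  rw [Scheme.Modules.conjugateEquiv_pullbackComp_inv] at h
  exact (congr($(congrArg (fun k => Scheme.Modules.Hom.app k U) h) m)).symm

/-- naturality of pulled back sections -/
theorem pullback_map_pullSect {X Y : Scheme.{u}} (f : X ⟶ Y) {M N : Y.Modules} (a : M ⟶ N) (U : Y.Opens)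
    (m : Γ(M, U)) :
    ((Scheme.Modules.pullback f).map a).app (f ⁻¹ᵁ U) (OmegaSh.pullSect f M U m) =
      OmegaSh.pullSect f N U (a.app U m) :=
  (congr($(congrArg (fun k => Scheme.Modules.Hom.app k U)
    ((Scheme.Modules.pullbackPushforwardAdjunction f).unit.naturality a)) m)).symm

/-- maps out of a conormal sheaf are determined by classes -/
theorem hom_ext_conormal {Z X : Scheme.{u}} (i : Z ⟶ X) [IsImmersion i] [QuasiCompact i] {N : Z.Modules}
    (α β : Omega.conormal i ⟶ N)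
    (h : ∀ (U : X.Opens) (s : Γ(ClSub.idealMod i.ker, U)),
      α.app (i ⁻¹ᵁ U) (OmegaSh.conormalSect i U s) = β.app (i ⁻¹ᵁ U) (OmegaSh.conormalSect i U s)) : α = β := by
  refine ConormalExact.hom_ext_stalk α β fun x z => ?_
  obtain ⟨U, hx, k, rfl⟩ := exists_conormalSect i x z
  exact (DerSch.stalkFunctor_map_germ x α _ hx _).trans
    ((congrArg _ (h U k)).trans (DerSch.stalkFunctor_map_germ x β _ hx _).symm)

/-- a short exact sequence with locally free cokernel stays exact on the left after pullback -/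
theorem mono_pullback_map {X W : Scheme.{u}} (j : X ⟶ W) {A B C : W.Modules} (c : A ⟶ B) (ε : B ⟶ C)
    (w : c ≫ ε = 0) (hS : (ShortComplex.mk c ε w).ShortExact) (hC : FlatMod.IsFinLocFree C) :
    Mono ((Scheme.Modules.pullback j).map c) := by
  rw [mono_iff_stalk]
  intro x
  let F := DerSch.stalkFunctor W (j x)
  let E := ModuleCat.extendScalars.{u, u, u} (j.stalkMap x).hom
  haveI : Module.Free (W.presheaf.stalk (j x)) ((F.obj C) : Type u) := QCoh.free_stalk_of_isFinLocFree hC (j x)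
  haveI : Projective ((ShortComplex.mk c ε w).map F).X₃ := ModuleCat.projective_of_categoryTheory_projective (F.obj C)
  let sp := ((hS.map_of_exact F).splittingOfProjective).map E
  haveI : Mono (E.map (F.map c)) := (SplitMono.mk sp.r sp.f_r).mono
  have h := (KFlatLib.stalkPullbackIso j x).hom.naturality c
  have hE : Function.Injective (E.map (F.map c)) := (ModuleCat.mono_iff_injective _).1 this
  intro z z' hz
  refine (ConcreteCategory.bijective_of_isIso ((KFlatLib.stalkPullbackIso j x).app A).hom).1 (hE ?_)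
  exact (congr($h z)).symm.trans ((congrArg ((KFlatLib.stalkPullbackIso j x).app B).hom hz).trans (congr($h z')))

theorem nonempty_iso {X W V Y : Scheme.{u}} (g : V ⟶ Y) (p : W ⟶ V) [Smooth p] (q : W ⟶ Y) (hq : p ≫ g = q)
    (j : X ⟶ W) [IsClosedImmersion j] (i : X ⟶ V) [IsClosedImmersion i] (hj : j ≫ p = i)
    (Ω : V.Modules) (d : OmegaSh.Der g Ω) (hd : OmegaSh.IsUniversal d)
    (φ : Omega.conormal i ⟶ (Scheme.Modules.pullback i).obj Ω) (hφ : OmegaSh.IsConormalDiff i d φ)
    (ΩW : W.Modules) (dW : OmegaSh.Der q ΩW) (hdW : OmegaSh.IsUniversal dW)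
    (φW : Omega.conormal j ⟶ (Scheme.Modules.pullback j).obj ΩW) (hφW : OmegaSh.IsConormalDiff j dW φW)
    :
    Nonempty (DCoh.toD X (HomologicalComplex.double φ (show (ComplexShape.up ℤ).Rel (-1 : ℤ) 0 from neg_add_cancel (1 : ℤ))) ≅
      DCoh.toD X (HomologicalComplex.double φW (show (ComplexShape.up ℤ).Rel (-1 : ℤ) 0 from neg_add_cancel (1 : ℤ)))) := by
  subst hq hj
  obtain ⟨Ωp, dp, hdp⟩ := OmegaExists.exists_isUniversal p
  obtain ⟨c, hc, -⟩ := S9370.result g (p ≫ g) p (𝟙 Y) (Category.comp_id _) Ω d hd ΩW dW hdW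
  obtain ⟨c₂, hc₂, -⟩ := S9370.result (p ≫ g) p (𝟙 W) g (Category.id_comp _).symm ΩW dW hdW Ωp dp hdp
  obtain ⟨hepi, himg⟩ := PPSheaf.exact_differentials_comp p g hd hdW hdp hc hc₂
  let ε : ΩW ⟶ Ωp := (Scheme.Modules.pullbackId W).inv.app ΩW ≫ c₂
  have hε : ∀ (U : W.Opens) (s : Γ(W, U)), ε.app U (dW.app U s) = dp.app U s := fun U s => by
    show c₂.app U (((Scheme.Modules.pullbackId W).inv.app ΩW).app U (dW.app U s)) = _
    rw [PPSheaf.pullbackId_inv_app]
    exact hc₂ U s
  haveI : Epi ε := epi_comp _ _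
  have wc : c ≫ ε = 0 := by
    refine ((Scheme.Modules.pullbackPushforwardAdjunction p).homEquiv _ _).injective ?_
    rw [Adjunction.homEquiv_unit, Adjunction.homEquiv_unit]
    refine PPSheaf.hom_ext_universal hd fun U s => ?_
    show ε.app (p ⁻¹ᵁ U) (c.app (p ⁻¹ᵁ U) (OmegaSh.pullSect p Ω U (d.app U s))) = _
    rw [hc U s, hε]
    exact (dp.d_app s).trans rfl
  have hex : (ShortComplex.mk c ε wc).Exact := (ShortComplex.exact_iff_image_eq_kernel _).2 himg
  have hexj := hex.map_of_epi_of_preservesCokernel (Scheme.Modules.pullback j) inferInstance inferInstance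
  -- the two maps
  obtain ⟨ψ, hψ, -⟩ := S9371.result j (j ≫ p) p (𝟙 X) (Category.id_comp _)
  let a : Omega.conormal (j ≫ p) ⟶ Omega.conormal j :=
    ((Scheme.Modules.pullbackId X).app (Omega.conormal (j ≫ p))).inv ≫ ψ
  let b : (Scheme.Modules.pullback (j ≫ p)).obj Ω ⟶ (Scheme.Modules.pullback j).obj ΩW :=
    (Scheme.Modules.pullbackComp j p).inv.app Ω ≫ (Scheme.Modules.pullback j).map c
  have hpfs : MoreMor.IsFormallySmoothHom p := ((S1488.result p).1 inferInstance).2
  haveI : Mono c := S5016.result g (p ≫ g) p rfl hpfs Ω d hd ΩW dW hdW c hc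
  haveI : Mono ((Scheme.Modules.pullback j).map c) :=
    mono_pullback_map j c ε wc ⟨hex⟩ (S5018.result p hpfs Ωp dp hdp)
  haveI : Mono b := mono_comp _ _
  let φp : Omega.conormal j ⟶ (Scheme.Modules.pullback j).obj Ωp := φW ≫ (Scheme.Modules.pullback j).map ε
  have hφp : OmegaSh.IsConormalDiff j dp φp := fun U s => by
    show ((Scheme.Modules.pullback j).map ε).app (j ⁻¹ᵁ U) (φW.app (j ⁻¹ᵁ U) (OmegaSh.conormalSect j U s)) = _
    rw [hφW U s]
    exact (pullback_map_pullSect j ε U _).trans (congrArg _ (hε U _))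
  obtain ⟨w, hS⟩ := S9711.result p j (j ≫ p) rfl Ωp dp hdp ψ hψ φp hφp
  have wa : a ≫ φp = 0 := by rw [Category.assoc, w, comp_zero]
  have hS' : (ShortComplex.mk a φp wa).ShortExact :=
    ShortComplex.shortExact_of_iso
      (ShortComplex.isoMk (S₁ := ShortComplex.mk ψ φp w) (S₂ := ShortComplex.mk a φp wa)
        ((Scheme.Modules.pullbackId X).app (Omega.conormal (j ≫ p))) (Iso.refl _) (Iso.refl _)
        (by simp [a]) (by simp)) hS
  have hval : ∀ (U : V.Opens) (m : Γ(Ω, U)), b.app ((j ≫ p) ⁻¹ᵁ U) (OmegaSh.pullSect (j ≫ p) Ω U m) =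
      OmegaSh.pullSect j ΩW (p ⁻¹ᵁ U) (c.app (p ⁻¹ᵁ U) (OmegaSh.pullSect p Ω U m)) := fun U m => by
    show ((Scheme.Modules.pullback j).map c).app _
      (((Scheme.Modules.pullbackComp j p).inv.app Ω).app _ (OmegaSh.pullSect (j ≫ p) Ω U m)) = _
    rw [pullbackComp_inv_pullSect]
    exact pullback_map_pullSect j c (p ⁻¹ᵁ U) _
  have comm : a ≫ φW = φ ≫ b := by
    refine hom_ext_conormal (j ≫ p) _ _ fun U s => ?_
    show φW.app ((j ≫ p) ⁻¹ᵁ U) (ψ.app ((j ≫ p) ⁻¹ᵁ U)
        (((Scheme.Modules.pullbackId X).inv.app (Omega.conormal (j ≫ p))).app ((j ≫ p) ⁻¹ᵁ U)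
          (OmegaSh.conormalSect (j ≫ p) U s))) =
      b.app ((j ≫ p) ⁻¹ᵁ U) (φ.app ((j ≫ p) ⁻¹ᵁ U) (OmegaSh.conormalSect (j ≫ p) U s))
    rw [PPSheaf.pullbackId_inv_app, hφ U s, hval, hc]
    obtain ⟨s', hs'⟩ := OmegaUniv.exists_idealSect_of_app_eq_zero j (p ⁻¹ᵁ U)
      (p.app U (OmegaSh.idealSect (j ≫ p).ker U s)) (OmegaUniv.app_idealSect (j ≫ p) U s)
    have h1 := hψ.2 U s s' hs' ((j ≫ p) ⁻¹ᵁ U) le_rfl le_rfl
    have h2 : ∀ {N : X.Modules} {A : X.Opens} (h : A ≤ A) (t : Γ(N, A)),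
        N.presheaf.map (homOfLE h).op t = t := fun {N A} h t =>
      congr($((congrArg N.presheaf.map (Subsingleton.elim _ (𝟙 _))).trans (N.presheaf.map_id _)) t)
    refine (congrArg _ (((h2 le_rfl _).symm.trans h1).trans (h2 le_rfl _))).trans ((hφW _ s').trans ?_)
    rw [hs']
  have wb : b ≫ (Scheme.Modules.pullback j).map ε = 0 := by
    rw [Category.assoc, ← Functor.map_comp, wc, Functor.map_zero, comp_zero]
  have hb : (ShortComplex.mk b ((Scheme.Modules.pullback j).map ε) wb).Exact :=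
    (ShortComplex.exact_iff_of_iso (ShortComplex.isoMk (S₁ := ShortComplex.mk b _ wb)
      (S₂ := (ShortComplex.mk c ε wc).map (Scheme.Modules.pullback j))
      ((Scheme.Modules.pullbackComp j p).symm.app Ω) (Iso.refl _) (Iso.refl _) (Category.comp_id b).symm
      ((Category.id_comp _).trans (Category.comp_id _).symm))).2 hexj
  obtain ⟨m, hm⟩ := DoubleQI.exists_quasiIso φ φW a b comm φp _ rfl wa hS' wb hb
  haveI : IsIso (DerivedCategory.Q.map m) := (DerivedCategory.isIso_Q_map_iff_quasiIso (C := X.Modules) m).2 hm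
  exact ⟨asIso (DerivedCategory.Q.map m)⟩

end Groth.Agent.Synt29.CotangentQI
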