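import Mathlib
import Groth.Agent.Synt29.Mor

/-!
# Syntomic morphisms through their fibres
-/

universe u

open AlgebraicGeometry CategoryTheory CategoryTheory.Limits TensorProduct

set_option linter.style.haveILetI false
set_option backward.isDefEq.respectTransparency.types false

namespace Groth.Agent.Synt29

theorem isLCIOver_of_isSyntomic {k F : Type u} [Field k] [CommRing F] [Algebra k F]
    (h : Synt.IsSyntomic k F) : Synt.IsLCIOver k F := by
  let q : PrimeSpectrum k := ⟨⊥, Ideal.isPrime_bot⟩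
  haveI : q.asIdeal.IsMaximal := Ideal.bot_isMaximal
  have hσ : Function.Bijective (algebraMap k q.asIdeal.ResidueField) := by
    have h1 : Function.Bijective (Ideal.Quotient.mk q.asIdeal) := by
      refine ⟨?_, Ideal.Quotient.mk_surjective⟩
      rw [RingHom.injective_iff_ker_eq_bot, Ideal.mk_ker]
    have h2 := (Ideal.bijective_algebraMap_quotient_residueField q.asIdeal).comp h1
    exact h2
  let σ : k ≃ₐ[k] q.asIdeal.ResidueField := AlgEquiv.ofBijective (Algebra.ofId k q.asIdeal.ResidueField) hσ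
  let e : F ≃ₐ[k] q.asIdeal.Fiber F :=
    (Algebra.TensorProduct.lid k F).symm.trans (Algebra.TensorProduct.congr σ AlgEquiv.refl)
  refine isLCIOver_of_equiv σ.toRingEquiv.symm e.toRingEquiv.symm (fun b => ?_) (h.2.2 q)
  apply e.injective
  refine (e.toRingEquiv.apply_symm_apply _).trans ?_
  refine Eq.trans ?_ (e.commutes _).symm
  show b ⊗ₜ[k] (1 : F) = algebraMap k q.asIdeal.ResidueField (σ.symm b) ⊗ₜ[k] (1 : F)
  rw [AlgEquiv.commutes' σ (σ.symm b) |>.symm]
  exact congrArg (· ⊗ₜ[k] (1 : F)) (σ.apply_symm_apply b).symm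

theorem isSyntomicMor_of_fibres {X S : Scheme.{u}} (f : X ⟶ S) [Flat f] [LocallyOfFinitePresentation f]
    (hfib : ∀ s : S, Synt.IsSyntomicMor (f.fiberToSpecResidueField s)) : Synt.IsSyntomicMor f := by
  have := hasRingHomProperty_isSyntomicMor.{u}
  let P : MorphismProperty Scheme.{u} := fun {X Y : Scheme.{u}} (f : X ⟶ Y) => Synt.IsSyntomicMor f
  rw [isSyntomicMor_iff_appLE]
  intro U V e
  let φ := f.appLE V.1 U.1 e
  letI := φ.hom.toAlgebra
  have h1 : φ.hom.Flat := HasRingHomProperty.appLE (P := @Flat) f inferInstance V U e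
  have h2 : φ.hom.FinitePresentation :=
    HasRingHomProperty.appLE (P := @LocallyOfFinitePresentation) f inferInstance V U e
  refine ⟨h1, h2, fun p => isLCIOver_of_isSyntomic ?_⟩
  refine isSyntomic_iff_isSyntomicMor.1 ?_
  let g : Spec (CommRingCat.of Γ(X, U.1)) ⟶ Spec (CommRingCat.of Γ(S, V.1)) :=
    Spec.map (CommRingCat.ofHom (algebraMap Γ(S, V.1) Γ(X, U.1)))
  suffices hg : P (g.fiberToSpecResidueField p) from
    (P.arrow_mk_iso_iff (Spec.fiberToSpecResidueFieldIso Γ(S, V.1) Γ(X, U.1) p)).1 hg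
  let y : Spec (CommRingCat.of Γ(S, V.1)) := p
  let iV : Spec (CommRingCat.of Γ(S, V.1)) ⟶ S := V.2.fromSpec
  let iU : Spec (CommRingCat.of Γ(X, U.1)) ⟶ X := U.2.fromSpec
  have hsq : g ≫ iV = iU ≫ f := IsAffineOpen.SpecMap_appLE_fromSpec f V.2 U.2 e
  let r := Spec.map (iV.residueFieldMap y)
  haveI : IsOpenImmersion iV := inferInstanceAs (IsOpenImmersion V.2.fromSpec)
  haveI : IsOpenImmersion iU := inferInstanceAs (IsOpenImmersion U.2.fromSpec)
  haveI : IsIso (iV.residueFieldMap y) := inferInstance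
  let m : g.fiber y ⟶ f.fiber (iV y) :=
    pullback.map g ((Spec (CommRingCat.of Γ(S, V.1))).fromSpecResidueField y) f (S.fromSpecResidueField (iV y))
      iU r iV hsq (Scheme.Hom.SpecMap_residueFieldMap_fromSpecResidueField iV y).symm
  haveI : IsOpenImmersion r := inferInstance
  haveI : IsOpenImmersion m := Scheme.pullback_map_isOpenImmersion _ _ _ _ _ _ _ _ _
  have hm : m ≫ f.fiberToSpecResidueField (iV y) = g.fiberToSpecResidueField y ≫ r := pullback.lift_snd _ _ _
  have h3 : P (m ≫ f.fiberToSpecResidueField (iV y)) := IsZariskiLocalAtSource.comp (hfib (iV y)) m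
  rw [hm] at h3
  exact (P.cancel_right_of_respectsIso _ r).1 h3

end Groth.Agent.Synt29
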