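import Mathlib
import Groth.Agent.Synt29.CIPoints
import Groth.Agent.Synt29.Fibres

/-!
# Syntomic schemes over a field
-/

universe u

open AlgebraicGeometry CategoryTheory TensorProduct

set_option linter.style.haveILetI false
set_option backward.isDefEq.respectTransparency.types false

namespace Groth.Agent.Synt29

theorem isSyntomic_of_isLCIOver {k F : Type u} [Field k] [CommRing F] [Algebra k F]
    (h : Synt.IsLCIOver k F) : Synt.IsSyntomic k F := by
  haveI := h.1
  refine ⟨inferInstance, Algebra.FinitePresentation.of_finiteType.1 h.1, fun q => ?_⟩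
  have hq : q.asIdeal = ⊥ := Ideal.eq_bot_or_top q.asIdeal |>.resolve_right q.2.ne_top
  haveI : q.asIdeal.IsMaximal := hq ▸ Ideal.bot_isMaximal
  have hσ : Function.Bijective (algebraMap k q.asIdeal.ResidueField) := by
    have h1 : Function.Bijective (Ideal.Quotient.mk q.asIdeal) := by
      refine ⟨?_, Ideal.Quotient.mk_surjective⟩
      rw [RingHom.injective_iff_ker_eq_bot, Ideal.mk_ker, hq]
    exact (Ideal.bijective_algebraMap_quotient_residueField q.asIdeal).comp h1
  let σ : k ≃ₐ[k] q.asIdeal.ResidueField := AlgEquiv.ofBijective (Algebra.ofId k q.asIdeal.ResidueField) hσ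
  let e : F ≃ₐ[k] q.asIdeal.Fiber F :=
    (Algebra.TensorProduct.lid k F).symm.trans (Algebra.TensorProduct.congr σ AlgEquiv.refl)
  refine isLCIOver_of_equiv σ.toRingEquiv e.toRingEquiv (fun b => ?_) h
  refine (e.commutes b).trans ?_
  show algebraMap k q.asIdeal.ResidueField b ⊗ₜ[k] (1 : F) = σ b ⊗ₜ[k] (1 : F)
  rfl

theorem isLCIOver_iff_isSyntomic {k F : Type u} [Field k] [CommRing F] [Algebra k F] :
    Synt.IsLCIOver k F ↔ Synt.IsSyntomic k F :=
  ⟨isSyntomic_of_isLCIOver, isLCIOver_of_isSyntomic⟩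

variable (k : Type u) [Field k] {X : Scheme.{u}} (p : X ⟶ Spec (CommRingCat.of k))

/-- The structure map on the sections over an open. -/
noncomputable def secHom (U : X.Opens) : k →+* Γ(X, U) :=
  ((Scheme.ΓSpecIso (CommRingCat.of k)).inv ≫ p.appLE ⊤ U le_top).hom

/-- The structure map on a stalk. -/
noncomputable def stalkHom (x : X) : k →+* X.presheaf.stalk x :=
  ((Scheme.ΓSpecIso (CommRingCat.of k)).inv ≫ p.appLE ⊤ ⊤ le_top ≫ X.presheaf.germ ⊤ x trivial).hom

theorem stalkHom_eq (U : X.Opens) (x : X) (hx : x ∈ U) :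
    stalkHom k p x = (X.presheaf.germ U x hx).hom.comp (secHom k p U) := by
  show _ = ((Scheme.ΓSpecIso (CommRingCat.of k)).inv ≫ p.appLE ⊤ U le_top ≫ X.presheaf.germ U x hx).hom
  unfold stalkHom
  congr 2
  rw [← X.presheaf.germ_res (homOfLE (le_top : U ≤ ⊤)) x hx, ← Category.assoc]
  simp only [Scheme.Hom.appLE_map]

theorem secHom_syntomic_iff (U : X.Opens) :
    RingHomIsSyntomic (p.appLE ⊤ U le_top).hom ↔ RingHomIsSyntomic (secHom k p U) :=
  (RingHom.RespectsIso.cancel_left_isIso syntomic_propertyIsLocal.respectsIso _ _).symm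

theorem finiteType_secHom [LocallyOfFiniteType p] (U : X.affineOpens) : (secHom k p U.1).FiniteType :=
  RingHom.FiniteType.comp (HasRingHomProperty.appLE (P := @LocallyOfFiniteType) p inferInstance
    ⟨⊤, isAffineOpen_top _⟩ U le_top)
    (RingHom.FiniteType.of_surjective _ (ConcreteCategory.bijective_of_isIso (Scheme.ΓSpecIso (CommRingCat.of k)).inv).2)

theorem isCIOver_stalk_iff (U : X.affineOpens) (x : X) (hx : x ∈ U.1) :
    letI := (stalkHom k p x).toAlgebra
    letI := (secHom k p U.1).toAlgebra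
    Synt.IsCIOver k (X.presheaf.stalk x) ↔ Synt.IsCIOver k (Localization.AtPrime (U.2.primeIdealOf ⟨x, hx⟩).asIdeal) := by
  letI := (stalkHom k p x).toAlgebra
  letI := (secHom k p U.1).toAlgebra
  letI : Algebra Γ(X, U.1) (X.presheaf.stalk x) := (X.presheaf.germ U.1 x hx).hom.toAlgebra
  haveI : IsScalarTower k Γ(X, U.1) (X.presheaf.stalk x) :=
    IsScalarTower.of_algebraMap_eq fun a => RingHom.congr_fun (stalkHom_eq k p U.1 x hx) a
  haveI : IsLocalization.AtPrime (X.presheaf.stalk x) (U.2.primeIdealOf ⟨x, hx⟩).asIdeal :=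
    U.2.isLocalization_stalk ⟨x, hx⟩
  let e : X.presheaf.stalk x ≃ₐ[k] Localization.AtPrime (U.2.primeIdealOf ⟨x, hx⟩).asIdeal :=
    (IsLocalization.algEquiv (U.2.primeIdealOf ⟨x, hx⟩).asIdeal.primeCompl _ _).restrictScalars k
  exact ⟨isCIOver_of_algEquiv e, isCIOver_of_algEquiv e.symm⟩

theorem isLCIOver_iff_forall_stalk [LocallyOfFiniteType p] (U : X.affineOpens) :
    (letI := (secHom k p U.1).toAlgebra
    Synt.IsLCIOver k Γ(X, U.1)) ↔
      ∀ x ∈ U.1, letI := (stalkHom k p x).toAlgebra; Synt.IsCIOver k (X.presheaf.stalk x) := by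
  letI := (secHom k p U.1).toAlgebra
  haveI : Algebra.FiniteType k Γ(X, U.1) := finiteType_secHom k p U
  refine ⟨fun h x hx => (isCIOver_stalk_iff k p U x hx).2 (isCIOver_atPrime_of_isLCIOver h _), fun h => ?_⟩
  refine isLCIOver_iff_forall_maximal.2 fun m => ?_
  let P : PrimeSpectrum Γ(X, U.1) := m.toPrimeSpectrum
  have hP : U.2.fromSpec P ∈ U.1 := by
    rw [← SetLike.mem_coe, ← U.2.range_fromSpec]; exact ⟨P, rfl⟩
  have hPU : U.2.primeIdealOf ⟨U.2.fromSpec P, hP⟩ = P :=
    U.2.fromSpec.isOpenEmbedding.injective (U.2.fromSpec_primeIdealOf ⟨_, hP⟩)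
  have h1 := (isCIOver_stalk_iff k p U _ hP).1 (h _ hP)
  have key : ∀ Q : PrimeSpectrum Γ(X, U.1), Q = P → Synt.IsCIOver k (Localization.AtPrime Q.asIdeal) →
      Synt.IsCIOver k (Localization.AtPrime m.asIdeal) := by
    rintro Q rfl hQ; exact hQ
  exact key _ hPU h1

theorem isSyntomicMor_of_lci
    (h : ∀ x : X, ∃ U : X.affineOpens, x ∈ U.1 ∧ (letI := (secHom k p U.1).toAlgebra; Synt.IsLCIOver k Γ(X, U.1))) :
    Synt.IsSyntomicMor p := fun x => by
  obtain ⟨U, hx, hU⟩ := h x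
  refine ⟨U, ⟨⊤, isAffineOpen_top _⟩, le_top, hx, ?_⟩
  letI := (secHom k p U.1).toAlgebra
  exact (secHom_syntomic_iff k p U.1).2 (isSyntomic_of_isLCIOver hU)

theorem isLCIOver_of_isSyntomicMor (h : Synt.IsSyntomicMor p) (U : X.affineOpens) :
    letI := (secHom k p U.1).toAlgebra; Synt.IsLCIOver k Γ(X, U.1) := by
  letI := (secHom k p U.1).toAlgebra
  exact isLCIOver_of_isSyntomic
    ((secHom_syntomic_iff k p U.1).1 ((isSyntomicMor_iff_appLE p).1 h U ⟨⊤, isAffineOpen_top _⟩ le_top))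

theorem exists_isGlobalCI_nhd (U : X.affineOpens) (x : X) (hx : x ∈ U.1)
    (hU : letI := (secHom k p U.1).toAlgebra; Synt.IsLCIOver k Γ(X, U.1)) :
    ∃ W : X.affineOpens, x ∈ W.1 ∧ (letI := (secHom k p W.1).toAlgebra; Synt.IsGlobalCI k Γ(X, W.1)) := by
  letI := (secHom k p U.1).toAlgebra
  obtain ⟨g, hg, hCI⟩ := hU.2 (U.2.primeIdealOf ⟨x, hx⟩)
  refine ⟨⟨X.basicOpen g, U.2.basicOpen g⟩, ?_, ?_⟩
  · rw [Scheme.mem_basicOpen _ g x hx]
    haveI := U.2.isLocalization_stalk ⟨x, hx⟩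
    letI : Algebra Γ(X, U.1) (X.presheaf.stalk x) := (X.presheaf.germ U.1 x hx).hom.toAlgebra
    exact IsLocalization.map_units (X.presheaf.stalk x) (⟨g, hg⟩ : (U.2.primeIdealOf ⟨x, hx⟩).asIdeal.primeCompl)
  · letI := (secHom k p (X.basicOpen g)).toAlgebra
    haveI := U.2.isLocalization_basicOpen g
    haveI : IsScalarTower k Γ(X, U.1) Γ(X, X.basicOpen g) := IsScalarTower.of_algebraMap_eq fun a => by
      show secHom k p (X.basicOpen g) a = X.presheaf.map (homOfLE (X.basicOpen_le g)).op (secHom k p U.1 a)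
      show _ = ((Scheme.ΓSpecIso (CommRingCat.of k)).inv ≫ (p.appLE ⊤ U.1 le_top ≫ _)).hom a
      rw [Scheme.Hom.appLE_map]
      rfl
    let e := (IsLocalization.algEquiv (Submonoid.powers g) (Localization.Away g) Γ(X, X.basicOpen g)).restrictScalars k
    exact isGlobalCI_of_equiv (RingEquiv.refl k) e.toRingEquiv (fun a => e.commutes a) hCI

end Groth.Agent.Synt29
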