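import Mathlib
import Groth.Agent.Synt29.Descent
import Groth.Agent.FibDim.Basic
import Groth.Prelude.Def_Flat

/-!
# The fibres of a relative global complete intersection are equidimensional
-/

universe u

open TensorProduct Order Topology AlgebraicGeometry CategoryTheory

set_option linter.style.haveILetI false
set_option backward.isDefEq.respectTransparency.types false

namespace Groth.Agent.Synt29

variable {n c : ℕ}

theorem sub_le_coheight_of_isMin {k : Type u} [Field k] (G : Fin c → MvPolynomial (Fin n) k)
    (Q : PrimeSpectrum (Synt.RelGCIRing k n c G)) (hQ : IsMin Q) : ((n - c : ℕ) : ℕ∞) ≤ coheight Q := by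
  let π := Ideal.Quotient.mk (Ideal.span (Set.range G))
  let P : PrimeSpectrum (MvPolynomial (Fin n) k) := PrimeSpectrum.comap π Q
  have hsurj : Function.Surjective π := Ideal.Quotient.mk_surjective
  have hle : Ideal.span (Set.range G) ≤ P.asIdeal := fun x hx => by
    show π x ∈ Q.asIdeal
    rw [Ideal.Quotient.eq_zero_iff_mem.2 hx]
    exact zero_mem _
  have hmin : P.asIdeal ∈ (Ideal.span (Set.range G)).minimalPrimes := by
    refine ⟨⟨P.2, hle⟩, fun p hp hpP => ?_⟩
    haveI := hp.1
    have hk : RingHom.ker π ≤ p := by rw [Ideal.mk_ker]; exact hp.2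
    haveI : (p.map π).IsPrime := Ideal.map_isPrime_of_surjective hsurj hk
    have h1 : (⟨p.map π, inferInstance⟩ : PrimeSpectrum _) ≤ Q := by
      show p.map π ≤ Q.asIdeal
      exact Ideal.map_le_iff_le_comap.2 hpP
    have h2 : Q.asIdeal ≤ p.map π := hQ h1
    intro x hx
    have h4 : π x ∈ p.map π := h2 hx
    obtain ⟨y, hy, hyx⟩ := (Ideal.mem_map_iff_of_surjective π hsurj).1 h4
    have h3 : y - x ∈ p := hk (by rw [RingHom.mem_ker, map_sub, hyx, sub_self])
    simpa using p.sub_mem hy h3
  have hht : height P ≤ (c : ℕ∞) := by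
    have := Ideal.height_le_card_of_mem_minimalPrimes_span (s := Set.range G) (Set.finite_range G) hmin
    rw [show P.asIdeal.height = height P from PrimeSpectrum.height_eq_orderHeight P] at this
    refine this.trans ?_
    rw [← Set.image_univ, Nat.cast_le]
    exact (Set.ncard_image_le Set.finite_univ).trans (by simp)
  have hsum : height P + coheight P = n := by
    refine VarDim.height_add_coheight_eq k n (MvPolynomial (Fin n) k) ?_ P
    rw [MvPolynomial.ringKrullDim_of_isNoetherianRing, ringKrullDim_eq_zero_of_field, zero_add]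
    simp
  have hco : coheight P ≤ coheight Q := by
    refine Order.coheight_le fun l hl => ?_
    have hle' : ∀ i, Ideal.span (Set.range G) ≤ (l i).asIdeal := fun i => hle.trans (by
      exact (show P ≤ l i from le_of_eq_of_le hl.symm (l.monotone (Fin.zero_le i))))
    let f : Fin (l.length + 1) → PrimeSpectrum (Synt.RelGCIRing k n c G) := fun i =>
      ⟨(l i).asIdeal.map π, Ideal.map_isPrime_of_surjective hsurj (by rw [Ideal.mk_ker]; exact hle' i)⟩
    have hf : ∀ i, PrimeSpectrum.comap π (f i) = l i := fun i => PrimeSpectrum.ext (by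
      show ((l i).asIdeal.map π).comap π = _
      rw [Ideal.comap_map_of_surjective π hsurj, ← RingHom.ker_eq_comap_bot, Ideal.mk_ker,
        sup_eq_left.2 (hle' i)])
    let l' : LTSeries (PrimeSpectrum (Synt.RelGCIRing k n c G)) := ⟨l.length, f, fun i => by
      have h := l.strictMono i.castSucc_lt_succ
      refine lt_of_le_not_ge (Ideal.map_mono (show (l i.castSucc).asIdeal ≤ (l i.succ).asIdeal from h.le)) ?_
      intro hge
      have h2 := Ideal.comap_mono (f := π) (show (f i.succ).asIdeal ≤ (f i.castSucc).asIdeal from hge)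
      refine h.not_ge ?_
      rw [← hf i.succ, ← hf i.castSucc]
      exact h2⟩
    have hhead : Q ≤ l'.head := by
      have h2 : P ≤ PrimeSpectrum.comap π l'.head := by
        rw [show l'.head = f 0 from rfl, hf]
        exact le_of_eq hl.symm
      intro x hx
      obtain ⟨x, rfl⟩ := hsurj x
      exact h2 hx
    exact (Order.length_le_coheight hhead)
  generalize height P = a, coheight P = b, coheight Q = e at hht hsum hco
  cases e with
  | top => exact le_top
  | coe e =>
    cases a with
    | top => simp at hht
    | coe a =>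
      cases b with
      | top => simp at hco
      | coe b =>
        norm_cast at hht hsum hco ⊢
        omega

/-- The dimension of the closure of a point in a set homeomorphic to a spectrum. -/
theorem topologicalKrullDim_closure_inter {X : Type u} [TopologicalSpace X] {S : Set X} {F : Type u} [CommRing F]
    (h : ↥S ≃ₜ PrimeSpectrum F) (a : ↥S) :
    topologicalKrullDim ↥(closure {a.1} ∩ S) = ((coheight (h a) : ℕ∞) : WithBot ℕ∞) := by
  let π := Ideal.Quotient.mk (h a).asIdeal
  let j : PrimeSpectrum (F ⧸ (h a).asIdeal) → X := fun R => (h.symm (PrimeSpectrum.comap π R)).1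
  have hj : IsEmbedding j := IsEmbedding.subtypeVal.comp (h.symm.isEmbedding.comp
    (PrimeSpectrum.isClosedEmbedding_comap_of_surjective _ _ Ideal.Quotient.mk_surjective).isEmbedding)
  have himg : Set.range j = closure {a.1} ∩ S := by
    have h1 : Set.range (fun R => h.symm (PrimeSpectrum.comap π R)) = closure {a} := by
      rw [Set.range_comp' (f := PrimeSpectrum.comap π) (g := h.symm),
        _root_.range_comap_of_surjective _ _ Ideal.Quotient.mk_surjective, Ideal.mk_ker,
        ← PrimeSpectrum.closure_singleton, h.symm.image_closure, Set.image_singleton,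
        Homeomorph.symm_apply_apply]
    rw [Set.range_comp' (f := fun R => h.symm (PrimeSpectrum.comap π R)) (g := Subtype.val), h1,
      IsInducing.subtypeVal.closure_eq_preimage_closure_image, Set.image_singleton,
      Subtype.image_preimage_coe, Set.inter_comm]
  rw [VarDim.coheight_eq_ringKrullDim_quotient, ← PrimeSpectrum.topologicalKrullDim_eq_ringKrullDim (F ⧸ (h a).asIdeal),
    ((hj.toHomeomorph).trans (Homeomorph.setCongr himg)).isHomeomorph.topologicalKrullDim_eq]

theorem fibreDimAt_relGCI {R : Type u} [CommRing R] {F : Fin c → MvPolynomial (Fin n) R}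
    (hF : Synt.IsRelGCI R n c F) (x : ↑(Spec (CommRingCat.of (Synt.RelGCIRing R n c F)))) :
    FlatMor.fibreDimAt (Spec.map (CommRingCat.ofHom (algebraMap R (Synt.RelGCIRing R n c F)))) x =
      ((n - c : ℕ) : WithBot ℕ∞) := by
  let f := Spec.map (CommRingCat.ofHom (algebraMap R (Synt.RelGCIRing R n c F)))
  haveI : LocallyOfFiniteType f := by
    rw [HasRingHomProperty.Spec_iff (P := @LocallyOfFiniteType)]
    exact RingHom.finiteType_algebraMap.2
      (Algebra.FiniteType.of_surjective (Ideal.Quotient.mkₐ R _) Ideal.Quotient.mk_surjective)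
  obtain ⟨z, -, -, hmax, hz⟩ := FibDim.exists_fibMax_generization f x
  rw [hz]
  let z' : PrimeSpectrum (Synt.RelGCIRing R n c F) := z
  let y : PrimeSpectrum R := PrimeSpectrum.comap (algebraMap R (Synt.RelGCIRing R n c F)) z'
  let a : ↥(FibDim.fib (B := Synt.RelGCIRing R n c F) y) := ⟨z', rfl⟩
  let h : ↥(FibDim.fib (B := Synt.RelGCIRing R n c F) y) ≃ₜ PrimeSpectrum (y.asIdeal.Fiber (Synt.RelGCIRing R n c F)) :=
    PrimeSpectrum.preimageHomeomorphFiber R (Synt.RelGCIRing R n c F) y
  let k := y.asIdeal.ResidueField
  let e := (baseChangeEquiv R F k).toRingEquiv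
  have hn : Nontrivial (y.asIdeal.Fiber (Synt.RelGCIRing R n c F)) :=
    PrimeSpectrum.nonempty_iff_nontrivial.1 ⟨h a⟩
  obtain ⟨hcn, hdim⟩ := hF y hn
  have hclo : topologicalKrullDim ↥(closure {a.1} ∩ FibDim.fib (B := Synt.RelGCIRing R n c F) y) =
      ((FibDim.rd f z : ℕ∞) : WithBot ℕ∞) := FibDim.dim_closure_inter_fibre f z
  rw [topologicalKrullDim_closure_inter (F := y.asIdeal.Fiber (Synt.RelGCIRing R n c F)) (S := FibDim.fib (B := Synt.RelGCIRing R n c F) y) h a] at hclo
  rw [← hclo]
  refine le_antisymm ?_ ?_
  · refine le_trans ?_ hdim.le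
    exact le_trans (WithBot.coe_le_coe.2 le_add_self) (VarDim.height_add_coheight_le _)
  · have hQmin : IsMin (h a) := by
      intro Q' hQ'
      have h1 : h.symm Q' ⤳ a := by
        have := ((PrimeSpectrum.le_iff_specializes _ _).1 hQ').map h.symm.continuous
        rwa [Homeomorph.symm_apply_apply] at this
      have h2 : (h.symm Q').1 = a.1 := hmax (h.symm Q').1
        (IsInducing.subtypeVal.specializes_iff.2 h1) ((h.symm Q').2)
      rw [show Q' = h a by rw [← Subtype.ext h2 (a1 := h.symm Q') (a2 := a), Homeomorph.apply_symm_apply]]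
    let o : PrimeSpectrum (y.asIdeal.Fiber (Synt.RelGCIRing R n c F)) ≃o
        PrimeSpectrum (Synt.RelGCIRing k n c (mapPoly R F k)) := PrimeSpectrum.comapEquiv e.symm |>.symm
    refine WithBot.coe_le_coe.2 (le_trans ?_ (coheight_orderIso o (h a)).le)
    refine sub_le_coheight_of_isMin _ _ ?_
    intro Q' hQ'
    have := hQmin (show o.symm Q' ≤ h a by rw [OrderIso.symm_apply_le]; exact hQ')
    rwa [OrderIso.le_symm_apply] at this

end Groth.Agent.Synt29
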