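import Mathlib
import Groth.Agent.Synt29.LocalRelGCI
import Groth.Agent.Synt29.Mor
import Groth.Agent.Synt29.RelFibre

/-!
# Syntomic morphisms are locally standard syntomic
-/

universe u

open AlgebraicGeometry CategoryTheory Topology

set_option linter.style.haveILetI false

namespace Groth.Agent.Synt29

section fibreDim

variable {X Y X' Y' : Scheme.{u}} (f : X ⟶ Y) (g : X' ⟶ Y') (j : X' ⟶ X) (i : Y' ⟶ Y)

theorem rd_comp_openImmersion [LocallyOfFiniteType f] [LocallyOfFiniteType g] [IsOpenImmersion j]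
    [IsOpenImmersion i] (h : j ≫ f = g ≫ i) (z : X') : FibDim.rd f (j z) = FibDim.rd g z := by
  have hc : ∀ a, f (j a) = i (g a) := fun a => congrArg (fun φ : X' ⟶ Y => φ a) h
  have himg : j '' (closure {z} ∩ g ⁻¹' {g z}) = (Set.range j ∩ closure {j z}) ∩ f ⁻¹' {f (j z)} := by
    ext w
    constructor
    · rintro ⟨a, ⟨ha1, ha2⟩, rfl⟩
      refine ⟨⟨⟨a, rfl⟩, specializes_iff_mem_closure.1 ?_⟩, ?_⟩
      · exact (specializes_iff_mem_closure.2 ha1).map j.continuous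
      · show f (j a) = f (j z)
        rw [hc, hc, show g a = g z from ha2]
    · rintro ⟨⟨⟨a, rfl⟩, h1⟩, h2⟩
      refine ⟨a, ⟨specializes_iff_mem_closure.1 ?_, ?_⟩, rfl⟩
      · exact j.isOpenEmbedding.isInducing.specializes_iff.1 (specializes_iff_mem_closure.2 h1)
      · exact i.isOpenEmbedding.injective (by rw [← hc, ← hc]; exact h2)
  have h1 := FibDim.dim_closure_inter g z
  rw [((j.isOpenEmbedding.isEmbedding.homeomorphImage (closure {z} ∩ g ⁻¹' {g z})).trans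
      (Homeomorph.setCongr himg)).isHomeomorph.topologicalKrullDim_eq,
    FibDim.dim_inter_eq_iSup f _ j.isOpenEmbedding.isOpen_range isClosed_closure] at h1
  have h2 : (⨆ w : ↥(Set.range j ∩ closure {j z} ∩ f ⁻¹' {f (j z)}), ((FibDim.rd f w.1 : ℕ∞) : WithBot ℕ∞)) =
      ((FibDim.rd f (j z) : ℕ∞) : WithBot ℕ∞) := by
    refine le_antisymm (iSup_le fun w => ?_) (le_iSup_of_le ⟨j z, ⟨⟨z, rfl⟩, subset_closure rfl⟩, rfl⟩ le_rfl)
    exact_mod_cast FibDim.rd_le_of_specializes f (specializes_iff_mem_closure.2 w.2.1.2) w.2.2.symm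
  rw [h2] at h1
  exact_mod_cast h1

theorem fibreDimAt_comp_openImmersion [LocallyOfFiniteType f] [LocallyOfFiniteType g] [IsOpenImmersion j]
    [IsOpenImmersion i] (h : j ≫ f = g ≫ i) (x : X') :
    FlatMor.fibreDimAt f (j x) = FlatMor.fibreDimAt g x := by
  have hc : ∀ a, f (j a) = i (g a) := fun a => congrArg (fun φ : X' ⟶ Y => φ a) h
  refine le_antisymm ?_ ?_
  · obtain ⟨w, hwx, hfw, he, -⟩ := FibDim.exists_fibreDimAt_eq f (j x)
    obtain ⟨a, rfl⟩ : w ∈ Set.range j := hwx.mem_open j.isOpenEmbedding.isOpen_range ⟨x, rfl⟩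
    rw [he, rd_comp_openImmersion f g j i h]
    exact FibDim.rd_le_fibreDimAt g (j.isOpenEmbedding.isInducing.specializes_iff.1 hwx)
      (i.isOpenEmbedding.injective (by rw [← hc, ← hc]; exact hfw))
  · obtain ⟨a, hax, hga, he, -⟩ := FibDim.exists_fibreDimAt_eq g x
    rw [he, ← rd_comp_openImmersion f g j i h]
    exact FibDim.rd_le_fibreDimAt f (hax.map j.continuous) (by rw [hc, hc, hga])

end fibreDim

variable {X S : Scheme.{u}} (f : X ⟶ S)

theorem isoSpec_hom_SpecMap_appLE {U : X.Opens} (hU : IsAffineOpen U) {V : S.Opens} (hV : IsAffineOpen V)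
    (e : U ≤ f ⁻¹ᵁ V) : hU.isoSpec.hom ≫ Spec.map (f.appLE V U e) = f.resLE V U e ≫ hV.isoSpec.hom := by
  rw [← cancel_mono hV.fromSpec, Category.assoc, Category.assoc, IsAffineOpen.SpecMap_appLE_fromSpec f hV hU e,
    hV.isoSpec_hom_fromSpec, hU.isoSpec_hom_fromSpec_assoc, Scheme.Hom.resLE_comp_ι]

theorem exists_standard (x : X) (V : S.affineOpens) (hV : f x ∈ V.1) (h : Synt.IsSyntomicAt f x) :
    ∃ (U : X.affineOpens) (e : U.1 ≤ f ⁻¹ᵁ V.1), x ∈ U.1 ∧
      Synt.IsStandardSyntomic (f.resLE V.1 U.1 e) := by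
  obtain ⟨U₂, V₂, e₂, hx₂, h₂⟩ := h
  obtain ⟨_, ⟨W, hW, rfl⟩, hxW, hWV⟩ :=
    X.isBasis_affineOpens.exists_subset_of_mem_open (show x ∈ (f ⁻¹ᵁ V.1 : Set X) from hV) (f ⁻¹ᵁ V.1).isOpen
  obtain ⟨r, s, hxs, e₁, h₁⟩ := exists_basicOpen_le_appLE_of_appLE_of_isAffine (f := f) syntomic_targetAway
    syntomic_localizationAwayPreserves x V V₂ ⟨W, hW⟩ U₂ hxW hx₂ e₂ h₂ hV
  have hU1 : IsAffineOpen (X.basicOpen s) := hW.basicOpen s
  have e' : X.basicOpen s ≤ f ⁻¹ᵁ V.1 := (X.basicOpen_le s).trans hWV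
  let φ := f.appLE V.1 (X.basicOpen s) e'
  have hA : RingHomIsSyntomic φ.hom := by
    haveI := V.2.isLocalization_basicOpen r
    have hcomp : φ.hom = (f.appLE (S.basicOpen r) (X.basicOpen s) e₁).hom.comp
        (algebraMap Γ(S, V.1) Γ(S, S.basicOpen r)) := by
      rw [show φ = S.presheaf.map (homOfLE (S.basicOpen_le r)).op ≫ f.appLE (S.basicOpen r) (X.basicOpen s) e₁ from
        (Scheme.Hom.map_appLE f _ _).symm]
      rfl
    rw [hcomp]
    exact syntomic_sourceAway _ r _ h₁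
  letI : Algebra Γ(S, V.1) Γ(X, X.basicOpen s) := φ.hom.toAlgebra
  have hsyn : Synt.IsSyntomic Γ(S, V.1) Γ(X, X.basicOpen s) := hA
  haveI := hsyn.1
  haveI := hsyn.2.1
  let q : PrimeSpectrum Γ(X, X.basicOpen s) := hU1.primeIdealOf ⟨x, hxs⟩
  obtain ⟨g, hg, N, M, F, hF, ⟨eF⟩⟩ := exists_isStd_away (R := Γ(S, V.1)) q _ rfl (hsyn.2.2 _)
  let U : X.Opens := X.basicOpen g
  have hU : IsAffineOpen U := hU1.basicOpen g
  have hxU : x ∈ U := by
    show x ∈ X.basicOpen g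
    have hq : q ∈ hU1.fromSpec ⁻¹ᵁ X.basicOpen g := by
      rw [hU1.fromSpec_preimage_basicOpen]
      exact hg
    have hx' : hU1.fromSpec q = x := hU1.fromSpec_primeIdealOf ⟨x, hxs⟩
    exact hx' ▸ (show hU1.fromSpec q ∈ X.basicOpen g from hq)
  have e : U ≤ f ⁻¹ᵁ V.1 := (X.basicOpen_le g).trans e'
  haveI := hU1.isLocalization_basicOpen g
  letI : Algebra Γ(S, V.1) Γ(X, U) := (f.appLE V.1 U e).hom.toAlgebra
  haveI : IsScalarTower Γ(S, V.1) Γ(X, X.basicOpen s) Γ(X, U) := IsScalarTower.of_algebraMap_eq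
    (R := Γ(S, V.1)) (S := Γ(X, X.basicOpen s)) (A := Γ(X, U)) fun a => by
      show (f.appLE V.1 U e).hom a = (φ ≫ X.presheaf.map (homOfLE (X.basicOpen_le g)).op).hom a
      rw [Scheme.Hom.appLE_map]
  let eU : Localization.Away g ≃ₐ[Γ(S, V.1)] Γ(X, U) :=
    (IsLocalization.algEquiv (Submonoid.powers g) (Localization.Away g) Γ(X, U)).restrictScalars _
  let eA : Synt.RelGCIRing Γ(S, V.1) N M F ≃ₐ[Γ(S, V.1)] Γ(X, U) := eF.trans eU
  refine ⟨⟨U, hU⟩, e, hxU, Γ(S, V.1), inferInstance, N, M, F, hF,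
    hU.isoSpec ≪≫ Scheme.Spec.mapIso eA.toRingEquiv.toCommRingCatIso.op, V.2.isoSpec, ?_⟩
  show (hU.isoSpec.hom ≫ Spec.map eA.toRingEquiv.toCommRingCatIso.hom) ≫ Spec.map _ = _
  rw [Category.assoc, ← Spec.map_comp, ← isoSpec_hom_SpecMap_appLE f hU V.2 e]
  congr 2
  ext a
  exact eA.commutes a

theorem isSyntomicAt_of_standard (x : X) (V : S.affineOpens) (U : X.affineOpens) (e : U.1 ≤ f ⁻¹ᵁ V.1)
    (hx : x ∈ U.1) (h : Synt.IsStandardSyntomic (f.resLE V.1 U.1 e)) : Synt.IsSyntomicAt f x := by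
  obtain ⟨R, _, N, M, F, hF, e₁, e₂, he⟩ := h
  refine ⟨U, V, e, hx, ?_⟩
  letI : Algebra Γ(S, V.1) Γ(X, U.1) := (f.appLE V.1 U.1 e).hom.toAlgebra
  let P : MorphismProperty Scheme.{u} := fun {X Y : Scheme.{u}} (f : X ⟶ Y) => Synt.IsSyntomicMor f
  haveI : HasRingHomProperty P RingHomIsSyntomic := hasRingHomProperty_isSyntomicMor
  have h1 : P (Spec.map (CommRingCat.ofHom (algebraMap R (Synt.RelGCIRing R N M F)))) :=
    isSyntomic_iff_isSyntomicMor.2 (isSyntomic_relGCIRing hF)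
  have h2 : P (f.resLE V.1 U.1 e ≫ e₂.hom) := by
    rw [← he]; exact (MorphismProperty.cancel_left_of_respectsIso P _ _).2 h1
  rw [MorphismProperty.cancel_right_of_respectsIso P] at h2
  have h3 : P (Spec.map (f.appLE V.1 U.1 e)) := by
    rw [← MorphismProperty.cancel_left_of_respectsIso P U.2.isoSpec.hom, isoSpec_hom_SpecMap_appLE f U.2 V.2 e,
      MorphismProperty.cancel_right_of_respectsIso P]
    exact h2
  exact isSyntomic_iff_isSyntomicMor.1 h3

theorem fibreDimAt_of_standard [LocallyOfFiniteType f] (V : S.affineOpens) (U : X.affineOpens) (e : U.1 ≤ f ⁻¹ᵁ V.1)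
    (h : Synt.IsStandardSyntomic (f.resLE V.1 U.1 e)) :
    ∃ d : WithBot ℕ∞, ∀ y ∈ U.1, FlatMor.fibreDimAt f y = d := by
  obtain ⟨R, _, N, M, F, hF, e₁, e₂, he⟩ := h
  let g := Spec.map (CommRingCat.ofHom (algebraMap R (Synt.RelGCIRing R N M F)))
  haveI : LocallyOfFiniteType g := by
    show LocallyOfFiniteType (Spec.map _)
    rw [HasRingHomProperty.Spec_iff (P := @LocallyOfFiniteType)]
    exact RingHom.finiteType_algebraMap.2
      (Algebra.FiniteType.of_surjective (Ideal.Quotient.mkₐ R _) Ideal.Quotient.mk_surjective)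
  refine ⟨((N - M : ℕ) : WithBot ℕ∞), fun y hy => ?_⟩
  let j := e₁.inv ≫ U.1.ι
  let i := e₂.inv ≫ V.1.ι
  have hsq : j ≫ f = g ≫ i := by
    have : e₁.inv ≫ f.resLE V.1 U.1 e = g ≫ e₂.inv := by
      rw [Iso.inv_comp_eq, ← Category.assoc, Iso.eq_comp_inv]
      exact he.symm
    show (e₁.inv ≫ U.1.ι) ≫ f = g ≫ e₂.inv ≫ V.1.ι
    rw [Category.assoc, ← Scheme.Hom.resLE_comp_ι f e, ← Category.assoc, this, Category.assoc]
  let y' : U.1.toScheme := ⟨y, hy⟩
  have hy' : j (e₁.hom y') = y := by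
    show U.1.ι (e₁.inv (e₁.hom y')) = y
    rw [← Scheme.Hom.comp_apply, ← Scheme.Hom.comp_apply, Iso.hom_inv_id_assoc]
    rfl
  rw [← hy', fibreDimAt_comp_openImmersion f g j i hsq]
  exact fibreDimAt_relGCI hF _

theorem locallyOfFiniteType_of_isSyntomicMor (hf : Synt.IsSyntomicMor f) : LocallyOfFiniteType f := by
  rw [HasRingHomProperty.iff_appLE (P := @LocallyOfFiniteType)]
  intro V U e
  have := (isSyntomicMor_iff_appLE f).1 hf U V e
  haveI := @Algebra.FiniteType.of_finitePresentation _ _ _ _ (f.appLE V.1 U.1 e).hom.toAlgebra this.2.1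
  exact this

theorem isLocallyConstant_fibreDimAt (hf : Synt.IsSyntomicMor f) :
    IsLocallyConstant (fun x : ↑X => FlatMor.fibreDimAt f x) := by
  haveI := locallyOfFiniteType_of_isSyntomicMor f hf
  rw [IsLocallyConstant.iff_exists_open]
  intro x
  obtain ⟨_, ⟨V, hV, rfl⟩, hxV, -⟩ :=
    S.isBasis_affineOpens.exists_subset_of_mem_open (Set.mem_univ (f x)) isOpen_univ
  obtain ⟨U, e, hxU, hstd⟩ := exists_standard f x ⟨V, hV⟩ hxV (hf x)
  obtain ⟨d, hd⟩ := fibreDimAt_of_standard f ⟨V, hV⟩ U e hstd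
  exact ⟨U.1, U.1.isOpen, hxU, fun y hy => (hd y hy).trans (hd x hxU).symm⟩

end Groth.Agent.Synt29
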