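import Groth.Agent.Synt29.K3Ext
import Groth.Agent.HodgeSym.HomPair
import Groth.Agent.Lib.PnDualSheafHom
import Groth.Agent.H9Misc.RelExtTensor
import Groth.Agent.SheafHomY.Dual
import Groth.Agent.Lib.CurveOnSurf
import Groth.Agent.GenusOneSS.Free
import Groth.Agent.CurveCohLib.Skyscraper
import Groth.Agent.AmpleVan.Vanish
import Groth.Agent.RefX.Lift
import Groth.Agent.RefX.QCoh
import Groth.Agent.Synt29.PnEuler

/-!
Sheaves of homomorphisms out of a locally free module on a surface with trivial canonical module.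
-/

set_option autoImplicit false
set_option linter.style.haveILetI false
set_option linter.unusedSectionVars false
set_option backward.isDefEq.respectTransparency false
set_option backward.isDefEq.respectTransparency.types false
set_option maxHeartbeats 800000

universe u

open CategoryTheory CategoryTheory.Limits AlgebraicGeometry TopologicalSpace
open Groth.Agent Groth.Agent.H23.PicMul
open scoped Groth.Agent.H23.PicMul

noncomputable section

namespace Groth.Agent.Synt29.LMHom

attribute [local instance] H23.PicMul.clMonoid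

section Iso

variable {X : Scheme.{u}}

/-- The two sheaves of homomorphisms agree. -/
theorem nonempty_hom_iso_homSh {E : X.Modules} (hE : CohB1.IsFP E) (G : X.Modules) :
    Nonempty ((SheafHomX.hom E).obj G ≅ RefHull.homSh E G) := by
  haveI : IsIso (HodgeSym.fromHullK E G) := ZClosLib.isIso_of_stalkMap_bijective _ fun x => by
    show Function.Bijective (Algz.stalkMapₗ (HodgeSym.fromHullK E G) x)
    refine ⟨fun a b hab => (RefX.evalStalk_bijective (G := G) hE x).1 ?_, fun d => ⟨Algz.stalkMapₗ (HodgeSym.toHullK E G) x d, ?_⟩⟩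
    · exact (HodgeSym.pairK_fromHullK E G x a).symm.trans ((congrArg _ hab).trans (HodgeSym.pairK_fromHullK E G x b))
    · rw [← HodgeSym.stalk_comp, HodgeSym.toHullK_fromHullK]
      exact congr($((DerSch.stalkFunctor X x).map_id _) d)
  exact ⟨(asIso (HodgeSym.fromHullK E G)).symm⟩

/-- `Hom(E, G) ≅ E^∨ ⊗ G`. -/
theorem nonempty_tensor_dual {E : X.Modules} (hE : FlatMod.IsFinLocFree E) (G : X.Modules) :
    Nonempty ((SheafHomX.hom E).obj G ≅ CohB1.tensorMod (RefHull.dual E) G) := by
  obtain ⟨a⟩ := nonempty_hom_iso_homSh (QCoh.isFP_of_isFinLocFree hE) (Coh.structureModule X)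
  refine cl_eq_iff.1 ?_
  rw [cl_tensor, mul_comm, ← show PicF.cl (SheafHomY.dual E) = PicF.cl (RefHull.dual E) from cl_eq_iff.2 ⟨a⟩,
    ← cl_tensor]
  exact cl_eq_iff.2 ⟨((SheafHomY.thetaIso hE).app G).symm⟩

/-- The class of the sheaf of homomorphisms from an invertible module to the structure module. -/
theorem cl_hom_unit {L : X.Modules} (hL : PicF.IsInvertible L) :
    PicF.cl ((SheafHomX.hom L).obj (Coh.structureModule X)) * PicF.cl L = 1 := by
  haveI := CurveOnSurf.isEquivalence_tensor hL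
  haveI : DCoh.HasSheafHom L := Functor.isLeftAdjoint_of_isEquivalence
  let σ : DCoh.sheafHom L ≅ SheafHomX.hom L :=
    ((Adjunction.ofIsLeftAdjoint (DCoh.tensorBi.obj L)).ofNatIsoLeft
      ((KFlatLib.tensorBiFlipIso X).app L).symm).rightAdjointUniq (SheafHomX.adj L)
  rw [← cl_eq_iff.2 ⟨σ.app (Coh.structureModule X)⟩]
  exact (CurveOnSurf.dual_of_sheafHom hL).2

/-- `Hom(E, I) ≅ Hom(E ⊗ L, O)` for an inverse `I` of `L`. -/
theorem nonempty_hom_inverse {E I L : X.Modules} (hL : PicF.IsInvertible L) (h : PicF.cl I * PicF.cl L = 1) :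
    Nonempty ((SheafHomX.hom E).obj I ≅ (SheafHomX.hom (CohB1.tensorMod E L)).obj (Coh.structureModule X)) := by
  obtain ⟨a⟩ := cl_eq_iff.1 (show PicF.cl I = PicF.cl ((SheafHomX.hom L).obj (Coh.structureModule X)) from
    (isUnit_cl hL).mul_left_injective (h.trans (cl_hom_unit hL).symm))
  exact ⟨(SheafHomX.hom E).mapIso a ≪≫ ((H9Misc.RelExtTensor.homTensorIso E L).app (Coh.structureModule X)).symm⟩

theorem shortExact_hom' {E : X.Modules} (hE : FlatMod.IsFinLocFree E) {A B C : X.Modules} (f : A ⟶ B) (g : B ⟶ C)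
    (w : f ≫ g = 0) (hS : (ShortComplex.mk f g w).ShortExact) :
    ∃ w', (ShortComplex.mk ((SheafHomX.hom E).map f) ((SheafHomX.hom E).map g) w').ShortExact :=
  ⟨_, PnDual.shortExact_hom hE hS⟩

theorem isCoh_hom [IsLocallyNoetherian X] {E G : X.Modules} (hE : FlatMod.IsFinLocFree E) (hG : Coh.IsCoh G) :
    Coh.IsCoh ((SheafHomX.hom E).obj G) := by
  obtain ⟨e⟩ := nonempty_hom_iso_homSh (QCoh.isFP_of_isFinLocFree hE) G
  exact RefX.isCoh_of_iso e.symm (RefX.isCoh_homSh (CurveDeg.isCoh_of_isFinLocFree hE) hG)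

/-- Stalks of the sheaf of homomorphisms out of a module free of rank `e`. -/
theorem nonempty_stalk_equiv {F : X.Modules} {e : ℕ} (hF : FlatMod.IsFinLocFreeOfRank e F) (G : X.Modules) (x : X) :
    Nonempty ((RefHull.homSh F G).presheaf.stalk x ≃ₗ[X.presheaf.stalk x] (Fin e → G.presheaf.stalk x)) := by
  have hlf := H28.KvbModel.lf_of_rank hF
  haveI := QCoh.free_stalk_of_isFinLocFree hlf x
  haveI : Module.Finite (X.presheaf.stalk x) (F.presheaf.stalk x) :=
    QCoh.finite_stalk_of_isFT (QCoh.isQCoh_of_isFinLocFree hlf) (QCoh.isFT_of_isFP (QCoh.isFP_of_isFinLocFree hlf)) x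
  let b := Module.finBasisOfFinrankEq (X.presheaf.stalk x) (F.presheaf.stalk x) (TwistSum.finrank_stalk_of_rank hF x)
  exact ⟨(LinearEquiv.ofBijective (RefHull.evalStalk F G x)
    (RefX.evalStalk_bijective (QCoh.isFP_of_isFinLocFree hlf) x)).trans (b.constr (X.presheaf.stalk x)).symm⟩

end Iso

variable {k : Type u} [Field k] {X : Scheme.{u}} [X.Over (Spec (CommRingCat.of k))]
  [IsProper (X ↘ Spec (CommRingCat.of k))] [IsIntegral X]

include k in
/-- The Euler characteristic of a short exact sequence after `Hom(E, -)`. -/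
theorem euler_hom_add {E : X.Modules} (hE : FlatMod.IsFinLocFree E) {S : ShortComplex X.Modules} (hS : S.ShortExact)
    (h₁ : Coh.IsCoh S.X₁) (h₂ : Coh.IsCoh S.X₂) (h₃ : Coh.IsCoh S.X₃) :
    Curv2.euler k X ((SheafHomX.hom E).obj S.X₂) =
      Curv2.euler k X ((SheafHomX.hom E).obj S.X₁) + Curv2.euler k X ((SheafHomX.hom E).obj S.X₃) := by
  haveI : IsNoetherian X := CurveCohLib.isNoetherian_of_proper (k := k)
  exact CurveCohLib.euler_additive (k := k) (S := S.map (SheafHomX.hom E)) (PnDual.shortExact_hom hE hS)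
    (isCoh_hom hE h₁) (isCoh_hom hE h₂) (isCoh_hom hE h₃)

include k in
theorem euler_hom_free {E : X.Modules} (hE : FlatMod.IsFinLocFree E) (n : ℕ) :
    Curv2.euler k X ((SheafHomX.hom E).obj (FlatMod.freeMod X n)) =
      n * Curv2.euler k X ((SheafHomX.hom E).obj (Coh.structureModule X)) := by
  haveI : IsNoetherian X := CurveCohLib.isNoetherian_of_proper (k := k)
  have hc : ∀ m, Coh.IsCoh (FlatMod.freeMod X m) := fun m =>
    CurveDeg.isCoh_of_isFinLocFree (GenusOneSS.isFinLocFree_freeMod m)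
  induction n with
  | zero =>
    haveI : (SheafHomX.hom E).Additive := SheafHomX.additive_hom E
    have hz : IsZero ((SheafHomX.hom E).obj (FlatMod.freeMod X 0)) :=
      Functor.map_isZero _ KFlatLib.isZero_freeMod_zero
    have h := (HilbPoly.additive_euler k).zero_of_isZero hz
    rw [h]
    simp
  | succ n ih =>
    rw [euler_hom_add hE (GenusOneSS.shortExact_last (X := X) n) QCoh.isCoh_structureModule' (hc (n + 1)) (hc n), ih]
    push_cast
    ring

include k in
/-- Rank times length for a module with finite support. -/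
theorem euler_hom_finite {F : X.Modules} {e : ℕ} (hF : FlatMod.IsFinLocFreeOfRank e F) {T : X.Modules}
    (hT : Coh.IsCoh T) (hfin : ∀ x ∈ CohB1.support T, IsClosed ({x} : Set X)) :
    Curv2.euler k X ((SheafHomX.hom F).obj T) = e * Curv2.euler k X T := by
  classical
  haveI : IsNoetherian X := CurveCohLib.isNoetherian_of_proper (k := k)
  have hlf := H28.KvbModel.lf_of_rank hF
  obtain ⟨ι⟩ := nonempty_hom_iso_homSh (QCoh.isFP_of_isFinLocFree hlf) T
  rw [(HilbPoly.additive_euler k).iso _ _ ⟨ι⟩]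
  have hHc := RefX.isCoh_homSh (CurveDeg.isCoh_of_isFinLocFree hlf) hT
  have hcl := QCoh.isClosed_support_of_isFT hT.1 hT.2
  let S := (CurveCohLib.finite_of_closedPoints hcl hfin).toFinset
  have hS : CohB1.support T ⊆ S := fun x hx => (Set.Finite.coe_toFinset _).symm ▸ hx
  have hsub : CohB1.support (RefHull.homSh F T) ⊆ CohB1.support T := fun x hx hx' => hx (by
    haveI : Subsingleton (T.presheaf.stalk x) := hx'
    obtain ⟨φ⟩ := nonempty_stalk_equiv hF T x
    exact φ.toEquiv.subsingleton)
  obtain ⟨hT1, -⟩ := CurveCohLib.euler_eq_sum_stalks (k := k) hT hfin S hS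
  obtain ⟨hH1, -⟩ := CurveCohLib.euler_eq_sum_stalks (k := k) hHc (fun x hx => hfin x (hsub hx)) S (hsub.trans hS)
  rw [hH1, hT1, Finset.mul_sum]
  refine Finset.sum_congr rfl fun x _ => ?_
  letI := CurveCohLib.stalkModuleK k T x
  letI := CurveCohLib.stalkModuleK k (RefHull.homSh F T) x
  obtain ⟨φ⟩ := nonempty_stalk_equiv hF T x
  haveI : Module.Finite k (T.presheaf.stalk x) :=
    (CurveCohLib.euler_eq_sum_stalks (k := k) hT hfin S hS).2 x ‹_›
  let ψ : (RefHull.homSh F T).presheaf.stalk x ≃ₗ[k] (Fin e → T.presheaf.stalk x) :=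
    { φ.toAddEquiv with map_smul' := fun a m => φ.map_smul (Curv2.stalkMap k X x a) m }
  rw [ψ.finrank_eq, Module.finrank_pi_fintype]
  simp

variable [IsAlgClosed k] [Smooth (X ↘ Spec (CommRingCat.of k))] (hdim : topologicalKrullDim X = 2)
  {L : X.Modules} (hL : CohB1.IsAmple L)
  (hK : Canon.IsTopDiff (X ↘ Spec (CommRingCat.of k)) 2 (Coh.structureModule X))

include hdim hL hK in
/-- Serre duality. -/
theorem finrank_hh_hom_unit {F : X.Modules} (hF : FlatMod.IsFinLocFree F) {p : ℕ} (hp : p ≤ 2) :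
    Module.finrank k (Coh.HH X ((SheafHomX.hom F).obj (Coh.structureModule X)) p) =
      Module.finrank k (Coh.HH X F (2 - p)) := by
  haveI : IsNoetherian X := CurveCohLib.isNoetherian_of_proper (k := k)
  haveI := CurveFin.smoothOfRelativeDimension_of_dim (f := X ↘ Spec (CommRingCat.of k)) (d := 2) hdim
  haveI : HasExt.{u} X.Modules := IsGrothendieckAbelian.hasExt _
  have hFc : Coh.IsCoh F := CurveDeg.isCoh_of_isFinLocFree hF
  obtain ⟨r, ι, hι, hfac⟩ := AmpleEmbed.exists_closedImmersion (X ↘ Spec (CommRingCat.of k)) hL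
  haveI := hι
  obtain ⟨e₁⟩ := S19675.result k 2 r X ι hfac _ hK F hFc p hp
  obtain ⟨e₂⟩ := PnDual.nonempty_ext_linearEquiv_HH (A := k) hF (Coh.structureModule X) p
  rw [← e₂.finrank_eq, e₁.finrank_eq]
  exact Subspace.dual_finrank_eq

include k hdim hL in
theorem euler_three {M : X.Modules} (hM : Coh.IsQCoh M) :
    Curv2.euler k X M = (Module.finrank k (Coh.HH X M 0) : ℤ) - Module.finrank k (Coh.HH X M 1) +
      Module.finrank k (Coh.HH X M 2) := by
  haveI : IsNoetherian X := CurveCohLib.isNoetherian_of_proper (k := k)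
  haveI : X.IsSeparated := AmpleX.isSeparated_of_isAmple hL
  rw [CurveCohLib.euler_eq_sum (k := k) (N := 3) fun i hi =>
    Snapper.subsingleton_HH_of_dim_le (d := 2) hdim.le hM (by omega)]
  simp [Finset.sum_range_succ]
  ring

include hdim hL hK in
theorem euler_hom_unit {F : X.Modules} (hF : FlatMod.IsFinLocFree F) :
    Curv2.euler k X ((SheafHomX.hom F).obj (Coh.structureModule X)) = Curv2.euler k X F := by
  haveI : IsNoetherian X := CurveCohLib.isNoetherian_of_proper (k := k)
  rw [euler_three hdim hL (isCoh_hom hF QCoh.isCoh_structureModule').1,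
    euler_three hdim hL (CurveDeg.isCoh_of_isFinLocFree hF).1,
    finrank_hh_hom_unit hdim hL hK hF (p := 0) (by norm_num), finrank_hh_hom_unit hdim hL hK hF (p := 1) (by norm_num),
    finrank_hh_hom_unit hdim hL hK hF (p := 2) le_rfl]
  ring

include hdim hK in
theorem euler_hom_inverse {F I : X.Modules} (hF : FlatMod.IsFinLocFree F) (hLa : CohB1.IsAmple L)
    (hIL : PicF.cl I * PicF.cl L = 1) :
    Curv2.euler k X ((SheafHomX.hom F).obj I) = Curv2.euler k X (CohB1.tensorMod F L) := by
  haveI : IsNoetherian X := CurveCohLib.isNoetherian_of_proper (k := k)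
  obtain ⟨e⟩ := nonempty_hom_inverse (E := F) hLa.1 hIL
  rw [(HilbPoly.additive_euler k).iso _ _ ⟨e⟩]
  exact euler_hom_unit hdim hLa hK
    (PnEuler.isFinLocFree_tensorMod hF (H23.PullPush.isFinLocFree_of_isInvertible hLa.1))

end Groth.Agent.Synt29.LMHom

end
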