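import Mathlib

/-!
Every class in `Ext¹` is the class of an extension.
-/

universe w v u

open CategoryTheory CategoryTheory.Limits

namespace Groth.Agent.Synt29.ExtReal

variable {C : Type u} [Category.{v} C] [Abelian C] [EnoughInjectives C] [HasExt.{w} C]

theorem exists_shortExact_extClass_eq {A B : C} (e : Abelian.Ext A B 1) :
    ∃ (F : C) (i : B ⟶ F) (p : F ⟶ A) (hip : i ≫ p = 0) (hS : (ShortComplex.mk i p hip).ShortExact),
      hS.extClass = e := by
  let S : ShortComplex C := ShortComplex.mk (Injective.ι B) (cokernel.π (Injective.ι B)) (cokernel.condition _)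
  have hS : S.ShortExact :=
    { exact := ShortComplex.exact_cokernel (Injective.ι B)
      mono_f := inferInstanceAs (Mono (Injective.ι B))
      epi_g := inferInstanceAs (Epi (cokernel.π (Injective.ι B))) }
  have : Injective S.X₂ := inferInstanceAs (Injective (Injective.under B))
  obtain ⟨x, hx⟩ := Abelian.Ext.covariant_sequence_exact₁ (X := A) hS (x₁ := e)
    (Abelian.Ext.eq_zero_of_injective _) (n₀ := 0) rfl
  obtain ⟨φ, rfl⟩ := Abelian.Ext.addEquiv₀.symm.surjective x
  have : Epi S.g := hS.epi_g
  let i : B ⟶ pullback S.g φ := pullback.lift S.f 0 (by rw [S.zero, zero_comp])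
  have hip : i ≫ pullback.snd S.g φ = 0 := pullback.lift_snd _ _ _
  have hi : i ≫ pullback.fst S.g φ = S.f := pullback.lift_fst _ _ _
  have : Mono S.f := hS.mono_f
  have hmono : Mono i := mono_of_mono_fac hi
  let T : ShortComplex C := ShortComplex.mk i (pullback.snd S.g φ) hip
  have hT : T.ShortExact := by
    refine { exact := ShortComplex.exact_of_f_is_kernel T (KernelFork.IsLimit.ofι' _ hip fun {Z} z hz => ?_)
             mono_f := hmono
             epi_g := inferInstanceAs (Epi (pullback.snd S.g φ)) }
    have hz' : (z ≫ pullback.fst S.g φ) ≫ S.g = 0 := by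
      rw [Category.assoc, pullback.condition, ← Category.assoc, hz, zero_comp]
    refine ⟨hS.fIsKernel.lift (KernelFork.ofι _ hz'), ?_⟩
    have hfac : hS.fIsKernel.lift (KernelFork.ofι _ hz') ≫ S.f = z ≫ pullback.fst S.g φ :=
      Fork.IsLimit.lift_ι hS.fIsKernel
    apply pullback.hom_ext
    · rw [Category.assoc, hi]; exact hfac
    · rw [Category.assoc, hip, comp_zero, hz]
  refine ⟨_, i, _, hip, hT, ?_⟩
  let f : T ⟶ S :=
    { τ₁ := 𝟙 B
      τ₂ := pullback.fst S.g φ
      τ₃ := φ
      comm₁₂ := (Category.id_comp _).trans hi.symm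
      comm₂₃ := pullback.condition }
  have h := ShortComplex.ShortExact.extClass_naturality hT hS f
  rw [show f.τ₁ = 𝟙 B from rfl, Abelian.Ext.comp_mk₀_id] at h
  rw [h, ← hx]
  rfl

end Groth.Agent.Synt29.ExtReal
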