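import Groth.Agent.AffDefLib.Basic
import Groth.Agent.GrpSchLib.ThickIso
import Groth.Agent.MorLib.Thick.Affine
import Mathlib

/-!
Flat deformations of smooth affine schemes over Artinian rings are trivial.
-/

set_option autoImplicit false

universe u

open CategoryTheory AlgebraicGeometry Limits

namespace Groth.Agent.Synt29.TrivDef

/-- A morphism to an affine scheme over `Spec A`, in coordinates. -/
theorem eq_isoSpec_hom_comp {X : Scheme.{u}} [IsAffine X] {A : CommRingCat.{u}} (f : X ⟶ Spec A) :
    f = X.isoSpec.hom ≫ Spec.map ((Scheme.ΓSpecIso A).inv ≫ f.appTop) := by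
  rw [Spec.map_comp, ← Category.assoc, Scheme.isoSpec_hom_naturality, Category.assoc]
  simp [Scheme.isoSpec, Scheme.toSpecΓ_naturality_assoc]

/-- Infinitesimal lifting for a smooth ring map, with a nilpotent kernel. -/
theorem exists_section {K B C : Type u} [CommRing K] [CommRing B] [CommRing C] (a : K →+* B)
    (ha : a.Smooth) (c : K →+* C) (π : C →+* B) (hπ : Function.Surjective π)
    (hn : IsNilpotent (RingHom.ker π)) (h : π.comp c = a) :
    ∃ s : B →+* C, (∀ b, π (s b) = b) ∧ s.comp a = c := by
  algebraize [a, c]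
  have : Algebra.Smooth K B := ha
  let π' : C →ₐ[K] B := { π with commutes' := fun x => RingHom.congr_fun h x }
  let s := Algebra.FormallySmooth.liftOfSurjective (AlgHom.id K B) π' hπ hn
  exact ⟨s.toRingHom, fun b => Algebra.FormallySmooth.liftOfSurjective_apply _ π' hπ hn b,
    RingHom.ext s.commutes⟩

variable {k : Type u} [Field k] {X : Scheme.{u}} {hX : X ⟶ Spec (CommRingCat.of k)} [IsAffine X]
  {A : Type u} [CommRing A] [IsLocalRing A] [IsArtinianRing A] [Algebra k A] {e : A →ₐ[k] k}
  {X' : Scheme.{u}} {g : X' ⟶ Spec (CommRingCat.of A)} {i : X ⟶ X'}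

theorem surjective_e (e : A →ₐ[k] k) : Function.Surjective e.toRingHom :=
  fun c => ⟨algebraMap k A c, e.commutes c⟩

theorem isNilpotent_ker (e : A →ₐ[k] k) : IsNilpotent (RingHom.ker e.toRingHom) := by
  have : (RingHom.ker e.toRingHom).IsMaximal := RingHom.ker_isMaximal_of_surjective _ (surjective_e e)
  rw [IsLocalRing.eq_maximalIdeal this, ← IsLocalRing.jacobson_eq_maximalIdeal ⊥ bot_ne_top,
    IsArtinianRing.jacobson_eq_radical]
  exact IsArtinianRing.isNilpotent_nilradical (R := A)

theorem surjective_SpecMap (e : A →ₐ[k] k) : Surjective (Spec.map (CommRingCat.ofHom e.toRingHom)) := by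
  refine ⟨fun p => ⟨IsLocalRing.closedPoint k, PrimeSpectrum.ext ?_⟩⟩
  have : (RingHom.ker e.toRingHom).IsMaximal := RingHom.ker_isMaximal_of_surjective _ (surjective_e e)
  show (IsLocalRing.maximalIdeal k).comap e.toRingHom = p.asIdeal
  rw [IsLocalRing.maximalIdeal_eq_bot, ← RingHom.ker_eq_comap_bot, IsLocalRing.eq_maximalIdeal this]
  exact (IsLocalRing.eq_maximalIdeal (@IsArtinianRing.isMaximal_of_isPrime A _ p.asIdeal p.isPrime _)).symm

variable (hsq : IsPullback i hX g (Spec.map (CommRingCat.ofHom e.toRingHom)))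

include hsq

theorem isAffine_total : IsAffine X' := by
  have : IsClosedImmersion (Spec.map (CommRingCat.ofHom e.toRingHom)) :=
    IsClosedImmersion.spec_of_surjective _ (surjective_e e)
  have := surjective_SpecMap e
  have : IsClosedImmersion i := MorphismProperty.of_isPullback (P := @IsClosedImmersion) hsq.flip inferInstance
  have : Surjective i := MorphismProperty.of_isPullback (P := @Surjective) hsq.flip inferInstance
  exact Groth.Agent.MorLib.Thick.isAffine_of_thickening i i.surjective

/-- A retraction onto the central fibre trivialises a flat deformation. -/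
theorem isIso_lift [Flat g] (r : X' ⟶ X) (hr : i ≫ r = 𝟙 X)
    (hw : r ≫ hX = g ≫ Spec.map (CommRingCat.ofHom (algebraMap k A))) :
    IsIso (pullback.lift r g hw) := by
  set I := RingHom.ker e.toRingHom
  let ε : A ⧸ I ≃+* k := RingHom.quotientKerEquivOfSurjective (surjective_e e)
  let sA := Spec.map (CommRingCat.ofHom (algebraMap k A))
  have hfac : CommRingCat.ofHom (Ideal.Quotient.mk I) ≫ ε.toCommRingCatIso.hom = CommRingCat.ofHom e.toRingHom := by
    ext a; rfl
  have hsec : Spec.map (CommRingCat.ofHom e.toRingHom) ≫ sA = 𝟙 _ := by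
    rw [← Spec.map_comp, ← Spec.map_id]
    congr 1
    ext c
    exact e.commutes c
  let i' : X ⟶ pullback hX sA := pullback.lift (𝟙 X) (hX ≫ Spec.map (CommRingCat.ofHom e.toRingHom))
    (by rw [Category.id_comp, Category.assoc, hsec, Category.comp_id])
  have hP : IsPullback i' hX (pullback.snd hX sA) (Spec.map (CommRingCat.ofHom e.toRingHom)) := by
    have s0 : IsPullback hX (i' ≫ pullback.fst hX sA) (Spec.map (CommRingCat.ofHom e.toRingHom) ≫ sA) hX := by
      rw [show i' ≫ pullback.fst hX sA = 𝟙 X from pullback.lift_fst _ _ _, hsec]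
      exact IsPullback.of_vert_isIso ⟨by simp⟩
    exact (IsPullback.of_bot s0 (pullback.lift_snd _ _ _).symm (IsPullback.of_hasPullback hX sA).flip).flip
  have h1 : IsPullback i (hX ≫ Spec.map ε.toCommRingCatIso.hom) g (Spec.map (CommRingCat.ofHom (Ideal.Quotient.mk I))) := by
    refine hsq.of_iso (Iso.refl _) (Iso.refl _) (asIso (Spec.map ε.toCommRingCatIso.hom)) (Iso.refl _)
      (by simp) (by simp) (by simp) ?_
    simp only [Iso.refl_hom, Category.comp_id, asIso_hom, ← Spec.map_comp, hfac]
  have h2 : IsPullback i' (hX ≫ Spec.map ε.toCommRingCatIso.hom) (pullback.snd hX sA)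
      (Spec.map (CommRingCat.ofHom (Ideal.Quotient.mk I))) := by
    refine hP.of_iso (Iso.refl _) (Iso.refl _) (asIso (Spec.map ε.toCommRingCatIso.hom)) (Iso.refl _)
      (by simp) (by simp) (by simp) ?_
    simp only [Iso.refl_hom, Category.comp_id, asIso_hom, ← Spec.map_comp, hfac]
  refine Groth.Agent.GrpSchLib.ThickIso.isIso_of_thickening I (isNilpotent_ker e) g (pullback.snd hX sA) i i' _ h1 h2
    (pullback.lift r g hw) (pullback.lift_snd _ _ _) ?_
  apply pullback.hom_ext
  · rw [Category.assoc, pullback.lift_fst, hr, pullback.lift_fst]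
  · rw [Category.assoc, pullback.lift_snd, pullback.lift_snd, hsq.w]

omit hsq in
/-- `k → Γ(X, ⊤)` and `A → Γ(X', ⊤)`. -/
noncomputable def struct {R : CommRingCat.{u}} {Y : Scheme.{u}} (f : Y ⟶ Spec R) : R →+* Γ(Y, ⊤) :=
  ((Scheme.ΓSpecIso R).inv ≫ f.appTop).hom

/-- The rings of a deformation over an affine base. -/
theorem ring_data [IsAffine X'] :
    Function.Surjective i.appTop.hom ∧
      RingHom.ker i.appTop.hom = (RingHom.ker e.toRingHom).map (struct g) ∧
      i.appTop.hom.comp (struct g) = (struct hX).comp e.toRingHom := by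
  refine Groth.Agent.AffDefLib.ker_of_isPullback_Spec _ _ _ _ (surjective_e e) ?_
  refine hsq.of_iso X.isoSpec X'.isoSpec (Iso.refl _) (Iso.refl _) ?_ ?_ ?_ ?_
  · exact (Scheme.isoSpec_hom_naturality i).symm
  · rw [Iso.refl_hom, Category.comp_id]
    exact eq_isoSpec_hom_comp hX
  · rw [Iso.refl_hom, Category.comp_id]
    exact eq_isoSpec_hom_comp g
  · simp

/-- A lifting of the coordinate ring gives a retraction onto the central fibre. -/
theorem retraction [IsAffine X'] (s : Γ(X, ⊤) →+* Γ(X', ⊤)) (hs : ∀ b, i.appTop.hom (s b) = b)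
    (hsk : s.comp (struct hX) = (struct g).comp (algebraMap k A)) :
    i ≫ (X'.isoSpec.hom ≫ Spec.map (CommRingCat.ofHom s) ≫ X.isoSpec.inv) = 𝟙 X ∧
      (X'.isoSpec.hom ≫ Spec.map (CommRingCat.ofHom s) ≫ X.isoSpec.inv) ≫ hX =
        g ≫ Spec.map (CommRingCat.ofHom (algebraMap k A)) := by
  constructor
  · rw [← Category.assoc, ← Scheme.isoSpec_hom_naturality, Category.assoc, ← Category.assoc (Spec.map _),
      ← Spec.map_comp, show CommRingCat.ofHom s ≫ i.appTop = 𝟙 _ from CommRingCat.hom_ext (RingHom.ext hs),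
      Spec.map_id]
    erw [Category.id_comp]
    exact X.isoSpec.hom_inv_id
  · rw [Category.assoc, Category.assoc]
    conv_lhs => rw [eq_isoSpec_hom_comp hX, Iso.inv_hom_id_assoc, ← Spec.map_comp]
    conv_rhs => rw [eq_isoSpec_hom_comp g, Category.assoc, ← Spec.map_comp]
    congr 2
    exact CommRingCat.hom_ext hsk

omit hsq in
theorem smooth_struct [Smooth hX] : RingHom.Smooth (struct hX) := by
  have h : Smooth (Spec.map ((Scheme.ΓSpecIso (CommRingCat.of k)).inv ≫ hX.appTop)) := by
    have h0 : X.isoSpec.inv ≫ hX = Spec.map ((Scheme.ΓSpecIso (CommRingCat.of k)).inv ≫ hX.appTop) := by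
      rw [Iso.inv_comp_eq]
      exact eq_isoSpec_hom_comp hX
    rw [← h0]
    infer_instance
  exact (HasRingHomProperty.Spec_iff (P := @Smooth)).1 h

include hsq in
/-- The kernel of restriction to the central fibre is nilpotent. -/
theorem isNilpotent_ker_appTop [IsAffine X'] : IsNilpotent (RingHom.ker i.appTop.hom) := by
  obtain ⟨n, hn⟩ := isNilpotent_ker e
  refine ⟨n, ?_⟩
  rw [(ring_data hsq).2.1, ← Ideal.map_pow, hn]
  exact Ideal.map_bot

include hsq in
/-- A section of rings exists. -/
theorem exists_section_appTop [IsAffine X'] [Smooth hX] : ∃ s : Γ(X, ⊤) →+* Γ(X', ⊤),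
    (∀ b, i.appTop.hom (s b) = b) ∧ s.comp (struct hX) = (struct g).comp (algebraMap k A) := by
  refine exists_section _ smooth_struct _ _ (ring_data hsq).1 (isNilpotent_ker_appTop hsq) ?_
  rw [← RingHom.comp_assoc, (ring_data hsq).2.2, RingHom.comp_assoc]
  ext x
  exact congrArg (struct hX) (e.commutes x)

end Groth.Agent.Synt29.TrivDef
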