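import Groth.Prelude.Def_Omega3
import Groth.Agent.KFlatLib.Scheme.Pullback
import Groth.Agent.KFlatLib.Scheme.Exact
import Mathlib

/-!
The stalks of a sheaf of differentials are the Kähler differentials of the stalk maps.
-/

set_option autoImplicit false

universe u

open CategoryTheory CategoryTheory.Limits AlgebraicGeometry TopologicalSpace Opposite
open scoped ZeroObject

namespace Groth.Agent.Synt29.OmegaStalk

open Groth.Agent.KFlatLib

variable {X Y : Scheme.{u}} {f : X ⟶ Y}

/-- the stalk of a module -/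
noncomputable abbrev St (F : X.Modules) (x : X) : ModuleCat.{u} (X.presheaf.stalk x) :=
  (DerSch.stalkFunctor X x).obj F

/-- germs -/
noncomputable abbrev gm (F : X.Modules) {U : X.Opens} {x : X} (hx : x ∈ U) :
    Γ(F, U) →+ St F x :=
  (F.presheaf.germ U x hx).hom

lemma gm_smul (F : X.Modules) {U : X.Opens} {x : X} (hx : x ∈ U) (r : Γ(X, U)) (s : Γ(F, U)) :
    gm F hx (r • s) = X.presheaf.germ U x hx r • gm F hx s :=
  PresheafOfModules.germ_smul (R := X.presheaf)
    (show PresheafOfModules (X.presheaf ⋙ forget₂ CommRingCat RingCat) from F.val) x U hx r s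

lemma gm_res (F : X.Modules) {U V : X.Opens} (i : V ⟶ U) {x : X} (hx : x ∈ V) (s : Γ(F, U)) :
    gm F hx (F.presheaf.map i.op s) = gm F (i.le hx) s :=
  TopCat.Presheaf.germ_res_apply F.presheaf i x hx s

lemma gm_surjective (F : X.Modules) {x : X} (m : St F x) :
    ∃ (U : X.Opens) (hx : x ∈ U) (s : Γ(F, U)), gm F hx s = m := by
  obtain ⟨U, hx, s, h⟩ := TopCat.Presheaf.exists_germ_eq (C := AddCommGrpCat.{u}) F.presheaf (x := x) m
  exact ⟨U, hx, s, h⟩

lemma st_hom_ext {F : X.Modules} {x : X} {N : ModuleCat.{u} (X.presheaf.stalk x)}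
    {φ ψ : St F x ⟶ N}
    (h : ∀ (U : X.Opens) (hx : x ∈ U) (s : Γ(F, U)), φ (gm F hx s) = ψ (gm F hx s)) : φ = ψ := by
  ext m
  obtain ⟨U, hx, s, rfl⟩ := gm_surjective F m
  exact h U hx s

lemma app_res (F : X.Modules) (D : OmegaSh.Der f F) {U V : X.Opens} (i : V ⟶ U) (b : Γ(X, U)) :
    D.app V (X.presheaf.map i.op b) = F.presheaf.map i.op (D.app U b) :=
  D.d_map i.op b

lemma app_mul (F : X.Modules) (D : OmegaSh.Der f F) (U : X.Opens) (a b : Γ(X, U)) :
    D.app U (a * b) = a • D.app U b + b • D.app U a :=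
  D.d_mul (X := op U) a b

lemma app_base (F : X.Modules) (D : OmegaSh.Der f F) (V : Y.Opens) (c : Γ(Y, V)) :
    D.app (f ⁻¹ᵁ V) (f.app V c) = 0 :=
  D.d_app c

/-- A derivation on germs. -/
noncomputable def stalkDFun {F : X.Modules} (D : OmegaSh.Der f F) (x : X)
    (b : X.presheaf.stalk x) : St F x :=
  gm F (X.presheaf.exists_germ_eq (x := x) b).choose_spec.choose
    (D.app _ (X.presheaf.exists_germ_eq (x := x) b).choose_spec.choose_spec.choose)

lemma stalkDFun_germ {F : X.Modules} (D : OmegaSh.Der f F) {x : X} (U : X.Opens) (hx : x ∈ U)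
    (s : Γ(X, U)) :
    stalkDFun D x (X.presheaf.germ U x hx s) = gm F hx (D.app U s) := by
  set h := X.presheaf.exists_germ_eq (x := x) (X.presheaf.germ U x hx s)
  obtain ⟨W, hxW, i, j, e⟩ := X.presheaf.germ_eq x h.choose_spec.choose hx
    h.choose_spec.choose_spec.choose s h.choose_spec.choose_spec.choose_spec
  show gm F h.choose_spec.choose (D.app _ h.choose_spec.choose_spec.choose) = _
  rw [← gm_res F i hxW, ← gm_res F j hxW, ← app_res, ← app_res]
  exact congrArg (fun t => gm F hxW (D.app W t)) e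

/-- two germs on a common neighbourhood -/
lemma exists_germ_pair (x : X) (a b : X.presheaf.stalk x) :
    ∃ (U : X.Opens) (hx : x ∈ U) (s t : Γ(X, U)),
      X.presheaf.germ U x hx s = a ∧ X.presheaf.germ U x hx t = b := by
  obtain ⟨U, hU, s, rfl⟩ := X.presheaf.exists_germ_eq (x := x) a
  obtain ⟨V, hV, t, rfl⟩ := X.presheaf.exists_germ_eq (x := x) b
  exact ⟨U ⊓ V, ⟨hU, hV⟩, X.presheaf.map (homOfLE inf_le_left).op s,
    X.presheaf.map (homOfLE inf_le_right).op t, X.presheaf.germ_res_apply _ x _ s,
    X.presheaf.germ_res_apply _ x _ t⟩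

/-- The derivation induced on stalks. -/
noncomputable def stalkD {F : X.Modules} (D : OmegaSh.Der f F) (x : X) :
    (St F x).Derivation (f.stalkMap x) :=
  ModuleCat.Derivation.mk (stalkDFun D x)
    (fun a b => by
      obtain ⟨U, hx, s, t, rfl, rfl⟩ := exists_germ_pair x a b
      rw [← map_add, stalkDFun_germ, stalkDFun_germ, stalkDFun_germ, map_add, map_add])
    (fun a b => by
      obtain ⟨U, hx, s, t, rfl, rfl⟩ := exists_germ_pair x a b
      rw [← map_mul, stalkDFun_germ, stalkDFun_germ, stalkDFun_germ, app_mul, map_add, gm_smul,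
        gm_smul])
    (fun a => by
      obtain ⟨V, hV, c, rfl⟩ := Y.presheaf.exists_germ_eq (x := f x) a
      refine (congrArg (stalkDFun D x) (Scheme.Hom.germ_stalkMap_apply f V x hV c)).trans ?_
      exact (stalkDFun_germ D (f ⁻¹ᵁ V) hV _).trans ((congrArg _ (app_base F D V c)).trans (map_zero _)))

lemma stalkD_germ {F : X.Modules} (D : OmegaSh.Der f F) {x : X} (U : X.Opens) (hx : x ∈ U)
    (s : Γ(X, U)) :
    (stalkD D x).d (X.presheaf.germ U x hx s) = gm F hx (D.app U s) :=
  stalkDFun_germ D U hx s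

/-- The skyscraper derivation attached to a derivation of the stalk. -/
noncomputable def skyDer (x : X) {N : ModuleCat.{u} (X.presheaf.stalk x)}
    (δ : N.Derivation (f.stalkMap x)) : OmegaSh.Der f ((sky x).obj N) where
  d {U} :=
    { toFun := fun s h => δ.d (X.presheaf.germ U.unop x h.down s)
      map_zero' := funext fun h => by
        show δ.d (X.presheaf.germ U.unop x h.down 0) = 0
        rw [map_zero]
        have := δ.d_add 0 0
        rw [add_zero] at this
        exact left_eq_add.mp this
      map_add' := fun s t => funext fun h => by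
        show δ.d (X.presheaf.germ U.unop x h.down (s + t)) =
          δ.d (X.presheaf.germ U.unop x h.down s) + δ.d (X.presheaf.germ U.unop x h.down t)
        rw [map_add, δ.d_add] }
  d_mul {U} a b := funext fun h => by
    show δ.d (X.presheaf.germ U.unop x h.down (a * b)) =
      X.presheaf.germ U.unop x h.down a • δ.d (X.presheaf.germ U.unop x h.down b) +
        X.presheaf.germ U.unop x h.down b • δ.d (X.presheaf.germ U.unop x h.down a)
    rw [map_mul, δ.d_mul]
  d_map {U V} i s := funext fun h => by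
    show δ.d (X.presheaf.germ V.unop x h.down (X.presheaf.map i s)) =
      δ.d (X.presheaf.germ U.unop x (i.unop.le h.down) s)
    exact congrArg δ.d (X.presheaf.germ_res_apply i.unop x h.down s)
  d_app {V} c := funext fun h => by
    show δ.d (X.presheaf.germ (f ⁻¹ᵁ V.unop) x h.down (f.app V.unop c)) = (0 : N)
    rw [← Scheme.Hom.germ_stalkMap_apply f V.unop x h.down c]
    exact δ.d_map _

/-- the universal property of the stalk derivation: existence -/
lemma exists_stalk_desc {Ω : X.Modules} {d : OmegaSh.Der f Ω} (hd : OmegaSh.IsUniversal d) (x : X)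
    {N : ModuleCat.{u} (X.presheaf.stalk x)} (δ : N.Derivation (f.stalkMap x)) :
    ∃ φ : St Ω x ⟶ N, ∀ b, φ ((stalkD d x).d b) = δ.d b := by
  obtain ⟨α, hα, -⟩ := hd _ (skyDer x δ)
  refine ⟨((skyAdj x).homEquiv Ω N).symm α, fun b => ?_⟩
  obtain ⟨U, hx, s, rfl⟩ := X.presheaf.exists_germ_eq (x := x) b
  rw [stalkD_germ]
  have h1 : α.app U (d.app U s) = fun h : PLift (x ∈ U) => δ.d (X.presheaf.germ U x h.down s) :=
    PresheafOfModules.Derivation.congr_d hα s
  rw [skyAdj, Adjunction.mkOfHomEquiv_homEquiv]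
  exact (ofSkyP_germ x α.val U hx (d.app U s)).trans (congrFun h1 ⟨hx⟩)

/-- the universal property of the stalk derivation: uniqueness -/
lemma stalk_hom_ext {Ω : X.Modules} {d : OmegaSh.Der f Ω} (hd : OmegaSh.IsUniversal d) {x : X}
    {N : ModuleCat.{u} (X.presheaf.stalk x)} {φ ψ : St Ω x ⟶ N}
    (h : ∀ b, φ ((stalkD d x).d b) = ψ ((stalkD d x).d b)) : φ = ψ := by
  apply ((skyAdj x).homEquiv Ω N).injective
  refine (hd ((sky x).obj N) (d.postcomp ((skyAdj x).homEquiv Ω N φ).val)).unique rfl ?_
  refine PresheafOfModules.Derivation.ext ?_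
  funext U
  refine AddMonoidHom.ext fun s => funext fun hU => ?_
  have := (h (X.presheaf.germ U.unop x hU.down s)).symm
  rw [stalkD_germ] at this
  exact this

/-- The Kähler differentials of the stalk map, to the stalk of the sheaf of differentials. -/
noncomputable def toStalk {Ω : X.Modules} (d : OmegaSh.Der f Ω) (x : X) :
    CommRingCat.KaehlerDifferential (f.stalkMap x) ⟶ St Ω x :=
  (stalkD d x).desc

lemma toStalk_d {Ω : X.Modules} (d : OmegaSh.Der f Ω) (x : X) (b : X.presheaf.stalk x) :
    toStalk d x (CommRingCat.KaehlerDifferential.d b) = (stalkD d x).d b :=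
  ModuleCat.Derivation.desc_d _ b

theorem isIso_toStalk {Ω : X.Modules} {d : OmegaSh.Der f Ω} (hd : OmegaSh.IsUniversal d) (x : X) :
    IsIso (toStalk d x) := by
  obtain ⟨φ, hφ⟩ := exists_stalk_desc hd x (CommRingCat.KaehlerDifferential.D (f.stalkMap x))
  refine ⟨φ, ?_, ?_⟩
  · refine CommRingCat.KaehlerDifferential.ext fun b => ?_
    rw [ModuleCat.comp_apply, toStalk_d, hφ, ModuleCat.id_apply]
  · refine stalk_hom_ext hd fun b => ?_
    rw [ModuleCat.comp_apply, hφ, toStalk_d, ModuleCat.id_apply]

section Pullback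

variable {X' : Scheme.{u}} (h : X' ⟶ X)

/-- The stalk of a pullback, on pulled back sections. -/
lemma stalkPullbackIso_gm (M : X.Modules) (x : X') {U : X.Opens} (hU : x ∈ h ⁻¹ᵁ U) (s : Γ(M, U)) :
    (stalkPullbackIso h x).hom.app M (gm _ hU (OmegaSh.pullSect h M U s)) =
      ((ModuleCat.extendRestrictScalarsAdj (h.stalkMap x).hom).unit.app (St M (h.base x))).hom
        (gm M (show h.base x ∈ U from hU) s) := by
  let adj1 := (Scheme.Modules.pullbackPushforwardAdjunction h).comp (skyAdj x)
  let adj2 := ((skyAdj (h.base x)).comp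
    (ModuleCat.extendRestrictScalarsAdj (h.stalkMap x).hom)).ofNatIsoRight
      (skyPushforwardIso h x).symm
  have e := Adjunction.unit_leftAdjointUniq_hom_app adj1 adj2 M
  exact congr(((($e).app U) s : PLift (x ∈ h ⁻¹ᵁ U) → _) ⟨hU⟩)

end Pullback

/-- isomorphy is detected on stalks -/
lemma mono_iff_stalk {M N : X.Modules} (c : M ⟶ N) :
    Mono c ↔ ∀ x, Function.Injective ((DerSch.stalkFunctor X x).map c) := by
  constructor
  · intro _ x
    exact (ModuleCat.mono_iff_injective _).mp inferInstance
  · intro h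
    let S := ShortComplex.mk (0 : (0 : X.Modules) ⟶ M) c zero_comp
    have hS : S.Exact := by
      rw [exact_iff_stalk]
      intro x
      have : Mono ((S.map (DerSch.stalkFunctor X x)).g) := (ModuleCat.mono_iff_injective _).mpr (h x)
      exact (ShortComplex.exact_iff_mono _ ((DerSch.stalkFunctor X x).map_zero _ _)).mpr this
    exact (S.exact_iff_mono rfl).mp hS

lemma epi_iff_stalk {M N : X.Modules} (c : M ⟶ N) :
    Epi c ↔ ∀ x, Function.Surjective ((DerSch.stalkFunctor X x).map c) := by
  constructor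
  · intro _ x
    exact (ModuleCat.epi_iff_surjective _).mp inferInstance
  · intro h
    let S := ShortComplex.mk c (0 : N ⟶ (0 : X.Modules)) comp_zero
    have hS : S.Exact := by
      rw [exact_iff_stalk]
      intro x
      have : Epi ((S.map (DerSch.stalkFunctor X x)).f) := (ModuleCat.epi_iff_surjective _).mpr (h x)
      exact (ShortComplex.exact_iff_epi _ ((DerSch.stalkFunctor X x).map_zero _ _)).mpr this
    exact (S.exact_iff_epi rfl).mp hS

end Groth.Agent.Synt29.OmegaStalk
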