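import Mathlib
import Groth.Agent.S9147
import Groth.Agent.Synt29.RelReg
import Groth.Agent.Synt29.KoszulLocal
import Groth.Agent.Synt29.FlatLCI
import Groth.Agent.Synt29.SyntomicAt

/-!
# Syntomic algebras compose
-/

set_option autoImplicit false
set_option linter.style.haveILetI false
set_option backward.isDefEq.respectTransparency.types false

universe u

open RingTheory.Sequence

namespace Groth.Agent.Synt29

/-- Weak regularity at a prime transfers to the quotient of the localisation by the kernel of a surjection. -/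
theorem isWeaklyRegular_quotient_of_surjective {B C : Type u} [CommRing B] [CommRing C] (Φ : B →+* C)
    (hΦ : Function.Surjective Φ) (q : Ideal B) [q.IsPrime] (Q : Ideal C) [Q.IsPrime] (hQ : q = Q.comap Φ)
    (J : Ideal (Localization.AtPrime q)) (hJ : J = (RingHom.ker Φ).map (algebraMap B (Localization.AtPrime q)))
    (l : List B) (h : IsWeaklyRegular (Localization.AtPrime Q) ((l.map Φ).map (algebraMap C (Localization.AtPrime Q)))) :
    IsWeaklyRegular (Localization.AtPrime q ⧸ J) (l.map (algebraMap B (Localization.AtPrime q))) := by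
  let ψ : Localization.AtPrime q →+* Localization.AtPrime Q := Localization.localRingHom q Q Φ hQ
  have hψ : Function.Surjective ψ := fun y => by
    obtain ⟨c, s, rfl⟩ := IsLocalization.exists_mk'_eq Q.primeCompl y
    obtain ⟨b, rfl⟩ := hΦ c
    obtain ⟨t, ht⟩ := hΦ s.1
    have htq : t ∈ q.primeCompl := fun hm => s.2 (ht ▸ (hQ ▸ hm : t ∈ Q.comap Φ))
    refine ⟨IsLocalization.mk' _ b ⟨t, htq⟩, ?_⟩
    rw [Localization.localRingHom_mk']
    exact congrArg (IsLocalization.mk' _ (Φ b)) (Subtype.ext ht)
  have hker : RingHom.ker ψ = J := by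
    subst hJ
    refine le_antisymm (fun x hx => ?_) (Ideal.map_le_iff_le_comap.2 fun b hb => ?_)
    · obtain ⟨a, s, rfl⟩ := IsLocalization.exists_mk'_eq q.primeCompl x
      rw [RingHom.mem_ker, Localization.localRingHom_mk', IsLocalization.mk'_eq_zero_iff] at hx
      obtain ⟨t, ht⟩ := hx
      obtain ⟨t', ht'⟩ := hΦ t.1
      have htq : t' ∈ q.primeCompl := fun hm => t.2 (ht' ▸ (hQ ▸ hm : t' ∈ Q.comap Φ))
      rw [IsLocalization.mk'_mem_iff,
        ← Ideal.unit_mul_mem_iff_mem _ (IsLocalization.map_units (Localization.AtPrime q) ⟨t', htq⟩), ← map_mul]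
      refine Ideal.mem_map_of_mem _ ?_
      rw [RingHom.mem_ker, map_mul, ht']
      exact ht
    · rw [Ideal.mem_comap, RingHom.mem_ker, Localization.localRingHom_to_map, (RingHom.mem_ker).1 hb, map_zero]
  let e : (Localization.AtPrime q ⧸ J) ≃+* Localization.AtPrime Q :=
    (Ideal.quotEquivOfEq hker.symm).trans (RingHom.quotientKerEquivOfSurjective hψ)
  refine (e.toAddEquiv.isWeaklyRegular_congr ?_).2 h
  rw [List.map_map, List.forall₂_map_left_iff, List.forall₂_map_right_iff, List.forall₂_same]
  intro b _ x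
  obtain ⟨x, rfl⟩ := Ideal.Quotient.mk_surjective x
  show ψ (algebraMap B (Localization.AtPrime q) b * x) = algebraMap C (Localization.AtPrime Q) (Φ b) * ψ x
  rw [map_mul, Localization.localRingHom_to_map]

/-- Weak regularity at a prime transfers along an isomorphism of rings. -/
theorem isWeaklyRegular_atPrime_equiv {A B : Type u} [CommRing A] [CommRing B] (e : A ≃+* B) (P : Ideal A) [P.IsPrime]
    (q : Ideal B) [q.IsPrime] (hP : P = q.comap e.toRingHom) (l : List B)
    (h : IsWeaklyRegular (Localization.AtPrime q) (l.map (algebraMap B (Localization.AtPrime q)))) :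
    IsWeaklyRegular (Localization.AtPrime P) ((l.map e.symm).map (algebraMap A (Localization.AtPrime P))) := by
  have h0 : (⊥ : Ideal (Localization.AtPrime P)) =
      (RingHom.ker e.toRingHom).map (algebraMap A (Localization.AtPrime P)) := by
    rw [(RingHom.injective_iff_ker_eq_bot e.toRingHom).1 e.injective, Ideal.map_bot]
  have h1 : IsWeaklyRegular (Localization.AtPrime q)
      (((l.map e.symm).map e.toRingHom).map (algebraMap B (Localization.AtPrime q))) := by
    have : (l.map e.symm).map e.toRingHom = l := by simp [List.map_map, Function.comp_def]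
    rwa [this]
  have h2 := isWeaklyRegular_quotient_of_surjective e.toRingHom e.surjective P q hP ⊥ h0 _ h1
  exact ((RingEquiv.quotientBot _).toAddEquiv.isWeaklyRegular_congr (List.forall₂_same.2 fun r _ x => by
    obtain ⟨x, rfl⟩ := Ideal.Quotient.mk_surjective x
    rfl)).1 h2

/-- A list which is weakly regular at every point of its zero locus generates a Koszul regular ideal. -/
theorem isKoszulRegularIdeal_of_local {A : Type u} [CommRing A] (l : List A) (I : Ideal A) (hI : I = Ideal.ofList l)
    (h : ∀ (q : Ideal A) [q.IsPrime], (∀ f ∈ l, f ∈ q) →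
      IsWeaklyRegular (Localization.AtPrime q) (l.map (algebraMap A (Localization.AtPrime q)))) :
    LCI.IsKoszulRegularIdeal I := by
  intro p _
  refine ⟨1, fun hm => p.isPrime.ne_top ((Ideal.eq_top_iff_one _).2 hm), l.map (algebraMap A (Localization.Away (1 : A))), ?_, ?_⟩
  · refine isKoszulRegularSeq_of_local _ fun P hP hmem _ => ?_
    let P0 := P.comap (algebraMap A (Localization.Away (1 : A)))
    have hw := h P0 fun f hf => hmem _ (List.mem_map.2 ⟨f, hf, rfl⟩)
    haveI : IsLocalization P0.primeCompl (Localization.AtPrime P) :=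
      IsLocalization.isLocalization_isLocalization_atPrime_isLocalization (Submonoid.powers (1 : A)) (Localization.AtPrime P) P
    let e := (IsLocalization.algEquiv P0.primeCompl (Localization.AtPrime P0) (Localization.AtPrime P)).toLinearEquiv
    rw [isWeaklyRegular_map_algebraMap_iff, isWeaklyRegular_map_algebraMap_iff, ← e.isWeaklyRegular_congr]
    exact (isWeaklyRegular_map_algebraMap_iff (Localization.AtPrime P0) (Localization.AtPrime P0) _).1 hw
  · show _ = Ideal.ofList _
    rw [hI, Ideal.map_ofList]

/-- Weak regularity of an appended list, for a flat algebra modulo the first part. -/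
theorem isWeaklyRegular_append_of_surjective {B B' C : Type u} [CommRing B] [CommRing B'] [CommRing C] [Algebra B B']
    [Module.Flat B B'] (Φ : B' →+* C) (hΦ : Function.Surjective Φ) (L1 : List B) (L2 : List B')
    (hker : RingHom.ker Φ = Ideal.ofList (L1.map (algebraMap B B'))) (q : Ideal B') [q.IsPrime]
    (hq : ∀ f ∈ L1.map (algebraMap B B'), f ∈ q)
    (h1 : ∀ (p : Ideal B) [p.IsPrime], p = q.comap (algebraMap B B') →
      IsWeaklyRegular (Localization.AtPrime p) (L1.map (algebraMap B (Localization.AtPrime p))))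
    (h2 : ∀ (Q : Ideal C) [Q.IsPrime], Q = q.map Φ →
      IsWeaklyRegular (Localization.AtPrime Q) ((L2.map Φ).map (algebraMap C (Localization.AtPrime Q)))) :
    IsWeaklyRegular (Localization.AtPrime q)
      ((L1.map (algebraMap B B') ++ L2).map (algebraMap B' (Localization.AtPrime q))) := by
  let Bq := Localization.AtPrime q
  rw [List.map_append, isWeaklyRegular_append_iff]
  constructor
  · let p : Ideal B := q.comap (algebraMap B B')
    have hw := h1 p rfl
    let Bp := Localization.AtPrime p
    let κ : Bp →+* Bq := Localization.localRingHom p q (algebraMap B B') rfl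
    letI : Algebra Bp Bq := κ.toAlgebra
    haveI : IsScalarTower B Bp Bq := .of_algebraMap_eq fun x => by
      show _ = κ (algebraMap B Bp x)
      rw [Localization.localRingHom_to_map, ← IsScalarTower.algebraMap_apply]
    haveI : Module.Flat B' Bq := IsLocalization.flat _ q.primeCompl
    haveI : Module.Flat B Bq := Module.Flat.trans B B' Bq
    haveI : Module.Flat Bp Bq :=
      (Module.flat_iff_of_isLocalization (S := Bp) (p := p.primeCompl) (M := Bq)).2 inferInstance
    have h3 := hw.of_flat (S := Bq)
    rw [List.map_map] at h3 ⊢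
    have hfun : (⇑(algebraMap B' Bq) ∘ ⇑(algebraMap B B')) = (⇑(algebraMap Bp Bq) ∘ ⇑(algebraMap B Bp)) := by
      funext x
      show algebraMap B' Bq (algebraMap B B' x) = algebraMap Bp Bq (algebraMap B Bp x)
      rw [← IsScalarTower.algebraMap_apply, ← IsScalarTower.algebraMap_apply]
    rw [hfun]
    exact h3
  · have hle : RingHom.ker Φ ≤ q := by
      rw [hker, Ideal.ofList, Ideal.span_le]
      exact hq
    haveI : (q.map Φ).IsPrime := Ideal.map_isPrime_of_surjective hΦ hle
    have hQ : q = (q.map Φ).comap Φ :=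
      ((Ideal.comap_map_of_surjective Φ hΦ q).trans
        (sup_eq_left.2 ((RingHom.ker_eq_comap_bot _).ge.trans hle))).symm
    refine isWeaklyRegular_quotient_of_surjective Φ hΦ q (q.map Φ) hQ _ ?_ _ (h2 _ rfl)
    rw [smul_eq_mul, Ideal.mul_top, hker, Ideal.map_ofList]

theorem ker_comp_eq_ofList {B' C D : Type u} [CommRing B'] [CommRing C] [CommRing D] (Φ : B' →+* C)
    (hΦ : Function.Surjective Φ) (μ : C →+* D) (L1 L2 : List B') (hker : RingHom.ker Φ = Ideal.ofList L1)
    (hμ : RingHom.ker μ = Ideal.ofList (L2.map Φ)) : RingHom.ker (μ.comp Φ) = Ideal.ofList (L1 ++ L2) := by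
  rw [← RingHom.comap_ker, hμ, ← Ideal.map_ofList, Ideal.comap_map_of_surjective Φ hΦ, ← RingHom.ker_eq_comap_bot,
    hker, Ideal.ofList_append, sup_comm]

/-- A presentation with kernel generated by a list weakly regular at its points gives a local complete intersection. -/
theorem isLCI_of_local {R T B' : Type u} [CommRing R] [CommRing T] [CommRing B'] [Algebra R T] [Algebra R B'] {N : ℕ}
    (ε : MvPolynomial (Fin N) R ≃ₐ[R] B') (π : B' →ₐ[R] T) (hπ : Function.Surjective π) (L : List B')
    (hker : RingHom.ker π.toRingHom = Ideal.ofList L)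
    (h : ∀ (q : Ideal B') [q.IsPrime], (∀ f ∈ L, f ∈ q) →
      IsWeaklyRegular (Localization.AtPrime q) (L.map (algebraMap B' (Localization.AtPrime q)))) :
    LCI.IsLCI R T := by
  let f : MvPolynomial (Fin N) R →ₐ[R] T := π.comp ε.toAlgHom
  have hf : Function.Surjective f := hπ.comp ε.surjective
  refine ⟨Algebra.FiniteType.of_surjective f hf, N, f, hf,
    isKoszulRegularIdeal_of_local (L.map ε.toRingEquiv.symm) _ ?_ fun P _ hP => ?_⟩
  · show RingHom.ker (π.toRingHom.comp ε.toRingEquiv.toRingHom) = _
    rw [← RingHom.comap_ker, hker]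
    refine ((Ideal.map_symm ε.toRingEquiv).symm.trans ?_)
    exact Ideal.map_ofList ε.toRingEquiv.symm.toRingHom L
  · let q : Ideal B' := P.comap ε.toRingEquiv.symm.toRingHom
    haveI : q.IsPrime := Ideal.comap_isPrime _ _
    refine isWeaklyRegular_atPrime_equiv ε.toRingEquiv P q ?_ L ?_
    · ext x
      show x ∈ P ↔ ε.symm (ε x) ∈ P
      rw [AlgEquiv.symm_apply_apply]
    exact h q fun g hg => hP _ (List.mem_map.2 ⟨g, hg, rfl⟩)

theorem isSyntomic_of_isStd {R T : Type u} [CommRing R] [CommRing T] [Algebra R T] (h : IsStd R T) :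
    Synt.IsSyntomic R T := by
  obtain ⟨N, M, F, hF, ⟨e⟩⟩ := h
  exact isSyntomic_of_algEquiv e (S9147.result R N M F hF)

/-- Two relative global complete intersections compose to a local complete intersection. -/
theorem isLCI_trans_of_isStd {R S T : Type u} [CommRing R] [CommRing S] [CommRing T] [Algebra R S] [Algebra S T]
    [Algebra R T] [IsScalarTower R S T] (hS : IsStd R S) (hT : IsStd S T) : LCI.IsLCI R T := by
  obtain ⟨n, c, F, hF, ⟨eS⟩⟩ := hS
  obtain ⟨m, d, G, hG, ⟨eT⟩⟩ := hT
  let B := MvPolynomial (Fin n) R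
  let B' := MvPolynomial (Fin m) B
  let φ : B →ₐ[R] S := eS.toAlgHom.comp (Ideal.Quotient.mkₐ R (Ideal.span (Set.range F)))
  have hφ : Function.Surjective φ := eS.surjective.comp Ideal.Quotient.mk_surjective
  have hφk : RingHom.ker φ.toRingHom = Ideal.span (Set.range F) := by
    refine Eq.trans ?_ (Ideal.mk_ker (I := Ideal.span (Set.range F)))
    ext x
    exact map_eq_zero_iff eS eS.injective
  let Φ : B' →ₐ[R] MvPolynomial (Fin m) S := MvPolynomial.mapAlgHom φ
  have hΦ : Function.Surjective Φ := MvPolynomial.map_surjective φ.toRingHom hφ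
  have hΦk : RingHom.ker Φ.toRingHom = Ideal.span (Set.range fun i => (MvPolynomial.C (F i) : B')) := by
    refine (MvPolynomial.ker_map φ.toRingHom).trans ?_
    rw [hφk, Ideal.map_span, ← Set.range_comp]
    rfl
  choose G' hG' using fun j => hΦ (G j)
  let μ : MvPolynomial (Fin m) S →ₐ[S] T := eT.toAlgHom.comp (Ideal.Quotient.mkₐ S (Ideal.span (Set.range G)))
  have hμ : Function.Surjective μ := eT.surjective.comp Ideal.Quotient.mk_surjective
  have hμk : RingHom.ker μ.toRingHom = Ideal.span (Set.range G) := by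
    refine Eq.trans ?_ (Ideal.mk_ker (I := Ideal.span (Set.range G)))
    ext x
    exact map_eq_zero_iff eT eT.injective
  let ε : MvPolynomial (Fin (m + n)) R ≃ₐ[R] B' :=
    (MvPolynomial.renameEquiv R finSumFinEquiv.symm).trans (MvPolynomial.sumAlgEquiv R (Fin m) (Fin n))
  let L1 : List B := List.ofFn F
  have hK1 : RingHom.ker Φ.toRingHom = Ideal.ofList (L1.map (algebraMap B B')) := by
    rw [hΦk, ← ofList_ofFn, List.map_ofFn]
    rfl
  have hmapG : (List.ofFn G').map Φ.toRingHom = List.ofFn G := by
    rw [List.map_ofFn]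
    exact congrArg List.ofFn (funext hG')
  have hμk' : RingHom.ker μ.toRingHom = Ideal.ofList ((List.ofFn G').map Φ.toRingHom) := by
    rw [hmapG, ofList_ofFn, hμk]
  refine isLCI_of_local ε ((μ.restrictScalars R).comp Φ) (hμ.comp hΦ) (L1.map (algebraMap B B') ++ List.ofFn G')
    (ker_comp_eq_ofList Φ.toRingHom hΦ μ.toRingHom _ _ hK1 hμk') fun q _ hmem => ?_
  refine isWeaklyRegular_append_of_surjective Φ.toRingHom hΦ L1 _ hK1 q
    (fun f hf => hmem f (List.mem_append_left _ hf)) (fun p _ hp => ?_) fun Q _ hQ => ?_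
  · subst hp
    exact weaklyRegular_relGCI hF _ fun i =>
      hmem _ (List.mem_append_left _ (List.mem_map.2 ⟨F i, List.mem_ofFn.2 ⟨i, rfl⟩, rfl⟩))
  · rw [hmapG]
    refine weaklyRegular_relGCI hG Q fun j => ?_
    rw [hQ, ← hG' j]
    exact Ideal.mem_map_of_mem _ (hmem _ (List.mem_append_right _ (List.mem_ofFn.2 ⟨j, rfl⟩)))

theorem isSyntomic_trans_of_isStd {R S T : Type u} [CommRing R] [CommRing S] [CommRing T] [Algebra R S] [Algebra S T]
    [Algebra R T] [IsScalarTower R S T] (hS : IsStd R S) (hT : IsStd S T) : Synt.IsSyntomic R T := by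
  haveI := (isSyntomic_of_isStd hS).1
  haveI := (isSyntomic_of_isStd hT).1
  haveI : Module.Flat R T := Module.Flat.trans R S T
  exact isSyntomic_of_flat_of_isLCI (isLCI_trans_of_isStd hS hT)

/-- A composite of syntomic algebras is syntomic. -/
theorem isSyntomic_trans {R S T : Type u} [CommRing R] [CommRing S] [CommRing T] [Algebra R S] [Algebra S T]
    [Algebra R T] [IsScalarTower R S T] (hS : Synt.IsSyntomic R S) (hT : Synt.IsSyntomic S T) :
    Synt.IsSyntomic R T := by
  let s : Set T := {h | Synt.IsSyntomic R (Localization.Away h)}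
  refine isSyntomic_of_span s ?_ fun h hh => hh
  by_contra hne
  obtain ⟨M, hM, hle⟩ := Ideal.exists_le_maximal _ hne
  haveI := hM.isPrime
  haveI := hS.1
  haveI := hS.2.1
  let p : PrimeSpectrum S := ⟨M.comap (algebraMap S T), inferInstance⟩
  obtain ⟨g, hg, hstd⟩ := exists_isStd_away p _ rfl (hS.2.2 _)
  let S' := Localization.Away g
  let T' := Localization.Away (algebraMap S T g)
  letI : Algebra S' T' := (IsLocalization.Away.map S' T' (algebraMap S T) g).toAlgebra
  haveI : IsScalarTower S S' T' := .of_algebraMap_eq fun x => by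
    show _ = IsLocalization.Away.map S' T' (algebraMap S T) g (algebraMap S S' x)
    rw [IsLocalization.Away.map, IsLocalization.map_eq, ← IsScalarTower.algebraMap_apply]
  haveI : IsScalarTower R S' T' := IsScalarTower.to₁₃₄ R S S' T'
  have hT' : Synt.IsSyntomic S' T' := isSyntomic_away_base hT g S' T'
  haveI := hT'.1
  haveI := hT'.2.1
  have hgM : algebraMap S T g ∉ M := hg
  obtain ⟨M', hM'⟩ := exists_prime_away (algebraMap S T g) M hgM T'
  obtain ⟨k, hk, hstd'⟩ := exists_isStd_away M' _ rfl (hT'.2.2 _)
  have hcomp : Synt.IsSyntomic R (Localization.Away k) := isSyntomic_trans_of_isStd hstd hstd'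
  obtain ⟨h, hh, ⟨e⟩⟩ := exists_away_away (R := R) (algebraMap S T g) M hgM T' M'.asIdeal hM' k hk
  exact hh (hle (Ideal.subset_span (isSyntomic_of_algEquiv e hcomp)))

end Groth.Agent.Synt29
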