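import Groth.Agent.Synt29.SerreCover
import Groth.Agent.CurveDual.Dual
import Groth.Agent.Algz7.Canon2.Stalk
import Groth.Agent.Lib.DivisorExt
import Groth.Agent.AffCompl.Lift
import Groth.Agent.H23.InvStalk
import Groth.Agent.ParShLib.ResStalk
import Mathlib.GroupTheory.CosetCover

/-!
# Cayley--Bacharach subschemes with Gorenstein local rings and the multiplication pairing
-/

set_option autoImplicit false
set_option linter.style.haveILetI false
set_option linter.unusedSectionVars false
set_option backward.isDefEq.respectTransparency false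
set_option backward.isDefEq.respectTransparency.types false
set_option maxHeartbeats 1000000

universe u

open CategoryTheory CategoryTheory.Limits AlgebraicGeometry TopologicalSpace
open CategoryTheory.MonoidalCategory
open Groth.Agent Groth.Agent.H23 Groth.Agent.H23.PicMul Groth.Agent.Synt29.SerreIdeal Groth.Agent.Synt29.SerreCover

attribute [local instance] H23.PicMul.clMonoid

noncomputable section

namespace Groth.Agent.Synt29.CBPairing

variable {k : Type u} [Field k] {X : Scheme.{u}} [X.Over (Spec (CommRingCat.of k))]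

/-- The local ring of the subscheme of `I` at `z`. -/
abbrev Loc (I : X.IdealSheafData) (z : X) : Type u := X.presheaf.stalk z ⧸ StalkIdeal.sI I z

/-- The local ring of the subscheme as an algebra over the base field. -/
abbrev locAlg (k : Type u) [Field k] [X.Over (Spec (CommRingCat.of k))] (I : X.IdealSheafData) (z : X) :
    Algebra k (Loc I z) :=
  ((Ideal.Quotient.mk (StalkIdeal.sI I z)).comp (Curv2.stalkMap k X z)).toAlgebra

theorem smul_mk (I : X.IdealSheafData) (z : X) (a : k) (r : X.presheaf.stalk z) :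
    letI := locAlg k I z
    a • Ideal.Quotient.mk (StalkIdeal.sI I z) r = Ideal.Quotient.mk _ (Curv2.stalkMap k X z a * r) := by
  letI := locAlg k I z
  rw [Algebra.smul_def, map_mul]
  rfl

/-- A linear functional killing a subspace and non-zero on finitely many vectors outside it. -/
theorem exists_dual {K : Type u} [Field K] [Infinite K] {W : Type u} [AddCommGroup W] [Module K W] {ι : Type u}
    [Finite ι] (V : Submodule K W) (w : ι → W) (hw : ∀ i, w i ∉ V) :
    ∃ lam : W →ₗ[K] K, (∀ v ∈ V, lam v = 0) ∧ ∀ i, lam (w i) ≠ 0 := by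
  classical
  haveI := Fintype.ofFinite ι
  let E : ι → Submodule K V.dualAnnihilator := fun i =>
    LinearMap.ker ((Module.Dual.eval K W (w i)).comp V.dualAnnihilator.subtype)
  have hE : ⊤ ∉ Finset.univ.image E := fun h => by
    obtain ⟨i, -, hi⟩ := Finset.mem_image.1 h
    obtain ⟨lam, h1, h2⟩ := Submodule.exists_dual_map_eq_bot_of_notMem (hw i) inferInstance
    refine h1 ?_
    have hmem : lam ∈ V.dualAnnihilator := by
      rw [Submodule.mem_dualAnnihilator]
      intro v hv
      exact (Submodule.mem_bot K).1 (h2 ▸ Submodule.mem_map_of_mem hv)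
    exact LinearMap.congr_fun (LinearMap.ker_eq_top.1 hi) ⟨lam, hmem⟩
  obtain ⟨lam, hlam⟩ := (Set.ne_univ_iff_exists_notMem _).1 (Subspace.biUnion_ne_univ_of_top_notMem (k := K) (E := V.dualAnnihilator) (s := Finset.univ.image E) hE)
  refine ⟨lam.1, fun v hv => (Submodule.mem_dualAnnihilator _).1 lam.2 v hv, fun i hi => hlam ?_⟩
  exact Set.mem_biUnion (Finset.mem_image_of_mem E (Finset.mem_univ i)) hi

/-- The dimensions of two spaces orthogonal under a pairing without kernel. -/
theorem finrank_orth {K : Type u} [Field K] {W : Type u} [CommRing W] [Algebra K W] [Module.Finite K W]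
    (lam : W →ₗ[K] K) (hnd : ∀ a : W, (∀ b, lam (a * b) = 0) → a = 0) (U₁ U₂ : Submodule K W)
    (h : ∀ a ∈ U₁, ∀ b ∈ U₂, lam (a * b) = 0) :
    Module.finrank K U₁ + Module.finrank K U₂ ≤ Module.finrank K W := by
  let φ : W →ₗ[K] Module.Dual K W := (LinearMap.mul K W).compr₂ lam
  have hφ : Function.Injective φ :=
    (injective_iff_map_eq_zero φ).2 fun a ha => hnd a fun b => LinearMap.congr_fun ha b
  have hle : Submodule.map φ U₁ ≤ U₂.dualAnnihilator := by
    rintro _ ⟨a, ha, rfl⟩
    exact (Submodule.mem_dualAnnihilator _).2 fun b hb => h a ha b hb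
  have h1 := Submodule.finrank_mono hle
  rw [← (Submodule.equivMapOfInjective φ hφ U₁).finrank_eq] at h1
  have h2 : Module.finrank K U₂ + Module.finrank K U₂.dualAnnihilator = Module.finrank K W :=
    Subspace.finrank_add_finrank_dualAnnihilator_eq U₂
  omega

variable [IsProper (X ↘ Spec (CommRingCat.of k))] {I : X.IdealSheafData}

/-- The stalks of `O_X / I`. -/
theorem exists_quot_equiv (I : X.IdealSheafData) (z : X) :
    letI := locAlg k I z
    letI := CurveCohLib.stalkModuleK k (ClSub.quotMod I) z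
    Nonempty (Loc I z ≃ₗ[k] (ClSub.quotMod I).presheaf.stalk z) := by
  letI := locAlg k I z
  letI := CurveCohLib.stalkModuleK k (ClSub.quotMod I) z
  let Φ := DerSch.stalkFunctor X z
  haveI : Φ.Additive := DerSch.additive_stalkFunctor z
  have hse := DivisorExt.ideal_shortExact I
  haveI := hse.epi_g
  obtain ⟨e, he⟩ := exists_gen_stalk (H23.InvStalk.isInvertible_structureModule (X := X)) z
  let ρ : X.presheaf.stalk z →ₗ[X.presheaf.stalk z] Φ.obj (ClSub.quotMod I) :=
    (Φ.map (ClSub.toSubscheme I)).hom.comp (LinearMap.toSpanSingleton _ _ e)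
  have hρ : Function.Surjective ρ :=
    ((ModuleCat.epi_iff_surjective (Φ.map (ClSub.toSubscheme I))).1 inferInstance).comp he.2
  have hexact := ((KFlatLib.exact_iff_stalk _).1 hse.exact z).moduleCat_range_eq_ker
  have hker : LinearMap.ker ρ = StalkIdeal.sI I z := by
    ext r
    rw [← smul_mem_smul_top_iff he (StalkIdeal.sI I z) r, ← isTwist_idealModι I z, LinearMap.mem_ker]
    exact (Iff.of_eq (congrArg (r • e ∈ ·) hexact)).symm
  let q := (Submodule.quotEquivOfEq _ _ hker.symm).trans (ρ.quotKerEquivOfSurjective hρ)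
  exact ⟨{ q.toAddEquiv with
    map_smul' := fun a x => by
      obtain ⟨r, rfl⟩ := Ideal.Quotient.mk_surjective x
      rw [RingHom.id_apply, smul_mk]
      show ρ (Curv2.stalkMap k X z a * r) = Curv2.stalkMap k X z a • ρ r
      rw [← smul_eq_mul, map_smul] }⟩

/-- The length of the subscheme is the sum of the dimensions of the local rings. -/
theorem euler_quot (hI : Coh.IsCoh (ClSub.quotMod I)) (hfin : (I.support : Set X).Finite) [JacobsonSpace X] :
    letI := fun z : X => locAlg k I z
    FGA.eulerCharLE k X (ClSub.quotMod I) 2 = ∑ z ∈ hfin.toFinset, (Module.finrank k (Loc I z) : ℤ) ∧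
      ∀ z ∈ hfin.toFinset, Module.Finite k (Loc I z) := by
  classical
  letI := fun z : X => locAlg k I z
  haveI : IsNoetherian X := CurveCohLib.isNoetherian_of_proper (k := k)
  have hsupp : CohB1.support (ClSub.quotMod I) ⊆ hfin.toFinset := fun x hx => hfin.mem_toFinset.2 (by
    by_contra hxI
    exact hx (ParShLib.subsingleton_stalk_quotMod I hxI))
  have hcl : ∀ x ∈ CohB1.support (ClSub.quotMod I), IsClosed ({x} : Set X) := fun x hx =>
    SerreCover.isClosed_of_finite hfin (hfin.mem_toFinset.1 (hsupp hx))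
  obtain ⟨he, hf⟩ := CurveCohLib.euler_eq_sum_stalks (k := k) hI hcl hfin.toFinset hsupp
  rw [CurveCohLib.euler_eq_finrank_zero hI hcl] at he
  refine ⟨?_, fun z hz => ?_⟩
  · have h1 : ∀ i, 1 ≤ i → Module.finrank k (Coh.HH X (ClSub.quotMod I) i) = 0 := fun i hi => by
      haveI := S0047.result X (ClSub.quotMod I) hI hcl i hi
      exact Module.finrank_zero_of_subsingleton
    rw [FGA.eulerCharLE, Finset.sum_range_succ, Finset.sum_range_succ, Finset.sum_range_one, h1 1 le_rfl,
      h1 2 (by norm_num)]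
    simp only [pow_zero, one_mul, Nat.cast_zero, mul_zero, add_zero]
    letI := fun z : X => CurveCohLib.stalkModuleK k (ClSub.quotMod I) z
    rw [he]
    exact Finset.sum_congr rfl fun z _ => congrArg _ (exists_quot_equiv (k := k) I z).some.finrank_eq.symm
  · letI := CurveCohLib.stalkModuleK k (ClSub.quotMod I) z
    haveI := hf z hz
    exact Module.Finite.equiv (exists_quot_equiv (k := k) I z).some.symm

/-- The value of a section in the local ring of the subscheme, in a generator. -/
def red (I : X.IdealSheafData) {L : X.Modules} {z : X} {e : (DerSch.stalkFunctor X z).obj L}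
    (he : Function.Bijective fun r : X.presheaf.stalk z => r • e) :
    (DerSch.stalkFunctor X z).obj L →ₗ[X.presheaf.stalk z] Loc I z :=
  (Submodule.mkQ (StalkIdeal.sI I z)).comp
    (LinearEquiv.ofBijective (LinearMap.toSpanSingleton _ _ e) he).symm.toLinearMap

theorem red_smul {L : X.Modules} {z : X} {e : (DerSch.stalkFunctor X z).obj L}
    (he : Function.Bijective fun r : X.presheaf.stalk z => r • e) (r : X.presheaf.stalk z) :
    red I he (r • e) = Ideal.Quotient.mk _ r :=
  congrArg (Submodule.mkQ (StalkIdeal.sI I z))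
    ((LinearEquiv.ofBijective (LinearMap.toSpanSingleton _ _ e) he).symm_apply_apply r)

theorem red_eq_mk_iff {L : X.Modules} {z : X} {e : (DerSch.stalkFunctor X z).obj L}
    (he : Function.Bijective fun r : X.presheaf.stalk z => r • e) (v : (DerSch.stalkFunctor X z).obj L) :
    red I he v = 0 ↔ v ∈ StalkIdeal.sI I z • (⊤ : Submodule (X.presheaf.stalk z) _) := by
  obtain ⟨r, rfl⟩ := he.2 v
  show red I he (r • e) = 0 ↔ r • e ∈ _
  rw [red_smul he, smul_mem_smul_top_iff he, Ideal.Quotient.eq_zero_iff_mem]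

section Eval

variable (I) {Z : Finset X} {L : X.Modules}
  {o : ∀ z : X, (DerSch.stalkFunctor X z).obj (Coh.structureModule X)}
  {e : ∀ z : X, (DerSch.stalkFunctor X z).obj L}

/-- Evaluation of sections on the subscheme. -/
def ev (k : Type u) [Field k] [X.Over (Spec (CommRingCat.of k))] (Z : Finset X)
    (o : ∀ z : X, (DerSch.stalkFunctor X z).obj (Coh.structureModule X))
    (he : ∀ z : X, Function.Bijective fun r : X.presheaf.stalk z => r • e z) :
    letI := fun z : X => locAlg k I z
    (Coh.structureModule X ⟶ L) →ₗ[k] ∀ z : Z, Loc I z.1 :=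
  letI := fun z : X => locAlg k I z
  { toFun := fun σ z => red I (he z.1) (((DerSch.stalkFunctor X z.1).map σ).hom (o z.1))
    map_add' := fun σ τ => funext fun z => by
      haveI : (DerSch.stalkFunctor X z.1).Additive := DerSch.additive_stalkFunctor z.1
      rw [Functor.map_add, ModuleCat.hom_add, LinearMap.add_apply, map_add]
      rfl
    map_smul' := fun a σ => funext fun z => by
      obtain ⟨r, hr⟩ := (he z.1).2 (((DerSch.stalkFunctor X z.1).map σ).hom (o z.1))
      rw [show a • σ = σ ≫ (a • 𝟙 L) by rw [Linear.comp_smul, Category.comp_id], KLin.smul_id,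
        Functor.map_comp, ModuleCat.hom_comp, LinearMap.comp_apply]
      show red I (he z.1) (Algz.stalkMapₗ (Formal.smulMod k L a) z.1 _) = a • red I (he z.1) _
      rw [Algz7.Canon2.stalk_smulMod, map_smul, ← hr]
      show Algz.toStalk k X z.1 a • red I (he z.1) (r • e z.1) = a • red I (he z.1) (r • e z.1)
      rw [red_smul, smul_mk]
      rfl }

variable (ho : ∀ z : X, Function.Bijective fun r : X.presheaf.stalk z => r • o z)
  (he : ∀ z : X, Function.Bijective fun r : X.presheaf.stalk z => r • e z)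

include ho in
theorem range_le_iff {σ : Coh.structureModule X ⟶ L} (z : X)
    (P : Submodule (X.presheaf.stalk z) ((DerSch.stalkFunctor X z).obj L)) :
    LinearMap.range ((DerSch.stalkFunctor X z).map σ).hom ≤ P ↔ ((DerSch.stalkFunctor X z).map σ).hom (o z) ∈ P := by
  refine ⟨fun h => h ⟨o z, rfl⟩, fun h => ?_⟩
  rintro _ ⟨v, rfl⟩
  obtain ⟨r, rfl⟩ := (ho z).2 v
  show ((DerSch.stalkFunctor X z).map σ).hom (r • o z) ∈ P
  rw [map_smul]
  exact P.smul_mem r h

include ho in
/-- The rank of evaluation. -/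
theorem finrank_ev (hL : PicF.IsInvertible L) (hN : Coh.IsCoh (CohB1.tensorMod L (ClSub.idealMod I)))
    (hfin : (I.support : Set X).Finite) (hZ : Z = hfin.toFinset) :
    letI := fun z : X => locAlg k I z
    (Module.finrank k (LinearMap.range (ev I k Z o he)) : ℤ) =
      (Module.finrank k (Coh.HH X L 0) : ℤ) -
        (Module.finrank k (Coh.HH X (CohB1.tensorMod L (ClSub.idealMod I)) 0) : ℤ) := by
  letI := fun z : X => locAlg k I z
  haveI : IsNoetherian X := CurveCohLib.isNoetherian_of_proper (k := k)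
  haveI : Mono (DivisorExt.mulIdeal I L) := AffCompl.mono_mulIdeal I hL
  have htw := isTwist_mulIdeal I L
  haveI := CurveCohLib.finite_HH (k := k) (CurveDeg.isCoh_of_isInvertible hL) 0
  haveI : Module.Finite k (Coh.structureModule X ⟶ L) := Module.Finite.equiv (CurveDual.homH0 L).symm
  let c := Linear.rightComp k (Coh.structureModule X) (DivisorExt.mulIdeal I L)
  have hc : Function.Injective c := fun a b h => (cancel_mono (DivisorExt.mulIdeal I L)).1 h
  have hker : LinearMap.ker (ev I k Z o he) = LinearMap.range c := by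
    ext σ
    rw [LinearMap.mem_ker]
    refine ⟨fun h => ?_, fun ⟨g, hg⟩ => funext fun z => ?_⟩
    · obtain ⟨g, hg⟩ := exists_factor σ (DivisorExt.mulIdeal I L) fun x => by
        rw [range_le_iff ho, htw x]
        by_cases hx : x ∈ Z
        · exact (red_eq_mk_iff (he x) _).1 (congrFun h ⟨x, hx⟩)
        · have htop : StalkIdeal.sI I x = ⊤ := not_not.1 fun hh =>
            hx (hZ ▸ hfin.mem_toFinset.2 (SerreCover.mem_support_iff.2 hh))
          rw [htop, Submodule.top_smul]
          exact Submodule.mem_top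
      exact ⟨g, hg⟩
    · refine (red_eq_mk_iff (he z.1) _).2 ?_
      rw [← htw z.1]
      exact range_le_of_comp hg z.1 ⟨o z.1, rfl⟩
  have h1 := LinearMap.finrank_range_add_finrank_ker (ev I k Z o he)
  rw [hker, LinearMap.finrank_range_of_inj hc, (CurveDual.homH0 (k := k) L).finrank_eq] at h1
  have h2 := (CurveDual.homH0 (k := k) ((SheafHomX.ten (ClSub.idealMod I)).obj L)).finrank_eq
  rw [h2] at h1
  rw [← h1]
  push_cast
  exact (add_sub_cancel_right _ _).symm

end Eval

/-- Generators at a point for which the product of sections multiplies values. -/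
theorem exists_gen_mul (z : X) {L₁ L₂ Λ : X.Modules} (em : CohB1.tensorMod L₁ L₂ ≅ Λ)
    {o : (DerSch.stalkFunctor X z).obj (Coh.structureModule X)}
    (ho : Function.Bijective fun r : X.presheaf.stalk z => r • o)
    {e₁ : (DerSch.stalkFunctor X z).obj L₁} (he₁ : Function.Bijective fun r : X.presheaf.stalk z => r • e₁)
    {e₂ : (DerSch.stalkFunctor X z).obj L₂} (he₂ : Function.Bijective fun r : X.presheaf.stalk z => r • e₂) :
    ∃ e : (DerSch.stalkFunctor X z).obj Λ, Function.Bijective (fun r : X.presheaf.stalk z => r • e) ∧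
      ∀ (σ : Coh.structureModule X ⟶ L₁) (τ : Coh.structureModule X ⟶ L₂) (a b : X.presheaf.stalk z),
        ((DerSch.stalkFunctor X z).map σ).hom o = a • e₁ → ((DerSch.stalkFunctor X z).map τ).hom o = b • e₂ →
          ((DerSch.stalkFunctor X z).map
            (σ ≫ (KFlatLib.tensorUnitIso L₁).inv ≫ (DCoh.tensorBi.obj L₁).map τ ≫ em.hom)).hom o = (a * b) • e := by
  let Φ := DerSch.stalkFunctor X z
  let R := X.presheaf.stalk z
  let f₀ : R ≃ₗ[R] Φ.obj (Coh.structureModule X) := LinearEquiv.ofBijective (LinearMap.toSpanSingleton R _ o) ho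
  let f₁ : R ≃ₗ[R] Φ.obj L₁ := LinearEquiv.ofBijective (LinearMap.toSpanSingleton R _ e₁) he₁
  let f₂ : R ≃ₗ[R] Φ.obj L₂ := LinearEquiv.ofBijective (LinearMap.toSpanSingleton R _ e₂) he₂
  let unit : Φ.obj L₁ ≃ₗ[R] TensorProduct R (Φ.obj L₁) (Φ.obj (Coh.structureModule X)) :=
    ((KFlatLib.stalkTensorIso z L₁ (Coh.structureModule X)) ≪≫
      Φ.mapIso (KFlatLib.tensorUnitIso L₁)).toLinearEquiv.symm
  let T : TensorProduct R (Φ.obj L₁) (Φ.obj L₂) ≃ₗ[R] Φ.obj Λ :=
    ((KFlatLib.stalkTensorIso z L₁ L₂) ≪≫ Φ.mapIso em).toLinearEquiv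
  let lc : TensorProduct R (Φ.obj L₁) (Φ.obj (Coh.structureModule X)) ≃ₗ[R] Φ.obj L₁ :=
    (LinearEquiv.lTensor _ f₀.symm).trans (TensorProduct.rid R _)
  let v : Φ.obj L₁ := lc (unit e₁)
  have hv : unit e₁ = v ⊗ₜ[R] o := by
    refine lc.injective ?_
    show v = lc (v ⊗ₜ[R] o)
    show v = TensorProduct.rid R _ (v ⊗ₜ[R] f₀.symm o)
    rw [show f₀.symm o = 1 from f₀.symm_apply_eq.2 (one_smul R o).symm, TensorProduct.rid_tmul, one_smul]
  let G : R ≃ₗ[R] Φ.obj Λ :=
    (f₁.trans (unit.trans lc)).trans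
      ((TensorProduct.rid R _).symm.trans ((LinearEquiv.lTensor _ f₂).trans T))
  have hG : G 1 = T (v ⊗ₜ[R] e₂) := by
    show T (LinearEquiv.lTensor _ f₂ ((TensorProduct.rid R _).symm (lc (unit (f₁ 1))))) = _
    rw [show f₁ 1 = e₁ from one_smul R e₁, TensorProduct.rid_symm_apply]
    exact congrArg T (congrArg (v ⊗ₜ[R] ·) (one_smul R e₂))
  refine ⟨T (v ⊗ₜ[R] e₂), ?_, fun σ τ a b ha hb => ?_⟩
  · have : (fun r : R => r • T (v ⊗ₜ[R] e₂)) = G := funext fun r => by
      rw [← hG, ← map_smul, smul_eq_mul, mul_one]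
    rw [this]
    exact G.bijective
  · have hn := KFlatLib.stalkTensorIso_naturality (x := z) (𝟙 L₁) τ
    rw [CategoryTheory.Functor.map_id, CategoryTheory.Functor.map_id, NatTrans.id_app, Category.id_comp] at hn
    have hkey : (Φ.map ((DCoh.tensorBi.obj L₁).map τ)).hom
          ((KFlatLib.stalkTensorIso z L₁ (Coh.structureModule X)).hom.hom (v ⊗ₜ[R] o)) =
        (KFlatLib.stalkTensorIso z L₁ L₂).hom.hom (v ⊗ₜ[R] (b • e₂)) := by
      rw [← hb]
      exact (congr($(hn).hom (v ⊗ₜ[R] o))).symm
    have hu : (Φ.map (KFlatLib.tensorUnitIso L₁).inv).hom e₁ =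
        (KFlatLib.stalkTensorIso z L₁ (Coh.structureModule X)).hom.hom (v ⊗ₜ[R] o) := by
      rw [← hv]
      exact ((KFlatLib.stalkTensorIso z L₁ (Coh.structureModule X)).toLinearEquiv.apply_symm_apply _).symm
    show ((Φ.map (σ ≫ (KFlatLib.tensorUnitIso L₁).inv ≫ (DCoh.tensorBi.obj L₁).map τ ≫ em.hom))).hom o = _
    rw [Functor.map_comp, Functor.map_comp, Functor.map_comp, ModuleCat.hom_comp, ModuleCat.hom_comp,
      ModuleCat.hom_comp, LinearMap.comp_apply, LinearMap.comp_apply, LinearMap.comp_apply, ha, map_smul,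
      map_smul, map_smul, hu]
    show a • (Φ.map em.hom).hom ((Φ.map ((DCoh.tensorBi.obj L₁).map τ)).hom _) = _
    rw [hkey, TensorProduct.tmul_smul, map_smul, map_smul, smul_smul]
    rfl

variable [IsAlgClosed k] [IsIntegral X]

include k in
/-- The ranks of evaluation in complementary degrees add up to at most the length. -/
theorem rank_add_le (hfin : (I.support : Set X).Finite) (hsoc : ∀ z ∈ (I.support : Set X), ∃ s, IsSocleGen I z s)
    {L₁ L₂ Λ : X.Modules} (hL₁ : PicF.IsInvertible L₁) (hL₂ : PicF.IsInvertible L₂) (hΛ : PicF.IsInvertible Λ)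
    (hcl : PicF.cl L₁ * PicF.cl L₂ = PicF.cl Λ)
    (hCB : ∀ I', I ⋖ I' → ∀ σ : Coh.structureModule X ⟶ Λ,
        PicF2.zeroScheme Λ σ ≤ I' → PicF2.zeroScheme Λ σ ≤ I) :
    ((Module.finrank k (Coh.HH X L₁ 0) : ℤ) -
        (Module.finrank k (Coh.HH X (CohB1.tensorMod L₁ (ClSub.idealMod I)) 0) : ℤ)) +
      ((Module.finrank k (Coh.HH X L₂ 0) : ℤ) -
        (Module.finrank k (Coh.HH X (CohB1.tensorMod L₂ (ClSub.idealMod I)) 0) : ℤ)) ≤
      FGA.eulerCharLE k X (ClSub.quotMod I) 2 := by
  classical
  haveI : IsNoetherian X := CurveCohLib.isNoetherian_of_proper (k := k)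
  haveI : JacobsonSpace X := LocallyOfFiniteType.jacobsonSpace (X ↘ Spec (CommRingCat.of k))
  haveI : Infinite k := IsAlgClosed.instInfinite
  letI := fun z : X => locAlg k I z
  have hcoh : ∀ {L : X.Modules}, PicF.IsInvertible L → Coh.IsCoh (CohB1.tensorMod L (ClSub.idealMod I)) :=
    fun hL => ParShLib.isCoh_tensorMod (CurveDeg.isCoh_of_isInvertible hL) (NormalLib.isCoh_idealMod I)
  haveI : IsLocallyNoetherian I.subscheme := LocallyOfFiniteType.isLocallyNoetherian I.subschemeι
  have hq : Coh.IsCoh (ClSub.quotMod I) :=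
    QCoh.isCoh_pushforward_finite I.subschemeι QCoh.isCoh_structureModule'
  obtain ⟨hlen, hfd⟩ := euler_quot (k := k) hq hfin
  let Z := hfin.toFinset
  choose o ho using fun z : X => exists_gen_stalk (H23.InvStalk.isInvertible_structureModule (X := X)) z
  choose e₁ he₁ using fun z : X => exists_gen_stalk hL₁ z
  choose e₂ he₂ using fun z : X => exists_gen_stalk hL₂ z
  obtain ⟨em⟩ := cl_eq_iff.1 ((cl_tensor L₁ L₂).trans hcl)
  choose e he hmul using fun z : X => exists_gen_mul z em (ho z) (he₁ z) (he₂ z)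
  haveI : ∀ z : Z, Module.Finite k (Loc I z.1) := fun z => hfd z.1 z.2
  let W := ∀ z : Z, Loc I z.1
  choose s hs using fun z : Z => hsoc z.1 (hfin.mem_toFinset.1 z.2)
  let w : Z → W := fun z => Pi.single z (Ideal.Quotient.mk _ (s z))
  let V := LinearMap.range (ev I k Z o he)
  have hw : ∀ z, w z ∉ V := by
    intro z ⟨σ, hσ⟩
    obtain ⟨J, hIJ, hJz, hJne⟩ := exists_enlarge hfin
      (fun y hy => SerreCover.isClosed_of_finite hfin hy)
      (SerreCover.isClosed_of_finite hfin (hfin.mem_toFinset.1 z.2)) (s z)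
    have hcov := covBy_enlarge hIJ (hs z) hJz hJne
    have htw := isTwist_zeroScheme hΛ σ
    have hle : ∀ (x : X) (P : Ideal (X.presheaf.stalk x)) (r : X.presheaf.stalk x),
        ((DerSch.stalkFunctor X x).map σ).hom (o x) = r • e x →
        (StalkIdeal.sI (PicF2.zeroScheme Λ σ) x ≤ P ↔ r ∈ P) := fun x P r hr => by
      rw [← smul_top_le_iff hΛ, ← htw x, range_le_iff ho, hr, smul_mem_smul_top_iff (he x)]
    obtain ⟨rz, hrz⟩ := (he z.1).2 (((DerSch.stalkFunctor X z.1).map σ).hom (o z.1))
    have hvz : Ideal.Quotient.mk (StalkIdeal.sI I z.1) rz = Ideal.Quotient.mk _ (s z) := by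
      have := congrFun hσ z
      simp only [ev, w, LinearMap.coe_mk, AddHom.coe_mk, Pi.single_eq_same] at this
      rw [← this, ← hrz, red_smul]
    have hzJ : PicF2.zeroScheme Λ σ ≤ J := le_iff_sI.2 fun x => by
      obtain ⟨r, hr⟩ := (he x).2 (((DerSch.stalkFunctor X x).map σ).hom (o x))
      rw [hle x _ r hr.symm]
      by_cases hxz : x = z.1
      · subst hxz
        rw [hJz]
        rw [show r = rz from (he z.1).1 (hr.trans hrz.symm),
          show rz = (rz - s z) + s z from (sub_add_cancel _ _).symm]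
        exact add_mem (Ideal.mem_sup_left (Ideal.Quotient.eq.1 hvz))
          (Ideal.mem_sup_right (Ideal.mem_span_singleton_self _))
      · rw [hJne x hxz]
        by_cases hx : x ∈ Z
        · have := congrFun hσ ⟨x, hx⟩
          simp only [ev, w, LinearMap.coe_mk, AddHom.coe_mk,
            Pi.single_eq_of_ne (show (⟨x, hx⟩ : Z) ≠ z from fun h => hxz (congrArg Subtype.val h))] at this
          rwa [← hr, red_smul, Ideal.Quotient.eq_zero_iff_mem] at this
        · rw [not_not.1 fun hh => hx (hfin.mem_toFinset.2 (SerreCover.mem_support_iff.2 hh))]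
          exact Submodule.mem_top
    have := (hle z.1 _ rz hrz.symm).1 (le_iff_sI.1 (hCB J hcov σ hzJ) z.1)
    rw [← Ideal.Quotient.eq_zero_iff_mem, hvz, Ideal.Quotient.eq_zero_iff_mem] at this
    exact (hs z).1 this
  obtain ⟨lam, hlamV, hlamw⟩ := exists_dual V w hw
  have hnd : ∀ a : W, (∀ b, lam (a * b) = 0) → a = 0 := by
    intro a ha
    by_contra hne
    obtain ⟨z, hz⟩ := Function.ne_iff.1 hne
    obtain ⟨r, hr⟩ := Ideal.Quotient.mk_surjective (a z)
    have hrI : r ∉ StalkIdeal.sI I z.1 := fun h => hz (by rw [← hr, Ideal.Quotient.eq_zero_iff_mem.2 h]; rfl)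
    have hlt : StalkIdeal.sI I z.1 < StalkIdeal.sI I z.1 ⊔ Ideal.span {r} :=
      left_lt_sup.2 fun h => hrI (h (Ideal.mem_span_singleton_self r))
    obtain ⟨i, hi, t, ht, hst⟩ := Submodule.mem_sup.1 ((hs z).2.2 _ hlt)
    obtain ⟨c, rfl⟩ := Ideal.mem_span_singleton'.1 ht
    refine hlamw z ?_
    rw [← ha (Pi.single z (Ideal.Quotient.mk _ c))]
    congr 1
    funext y
    by_cases hy : y = z
    · subst hy
      show _ = a y * (Pi.single y _ : W) y
      simp only [w, Pi.single_eq_same, ← hr, ← map_mul]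
      rw [Ideal.Quotient.eq, ← hst, show i + c * r - r * c = i by ring]
      exact hi
    · show w z y = a y * (Pi.single z _ : W) y
      simp only [w, Pi.single_eq_of_ne hy, mul_zero]
  have horth : ∀ a ∈ LinearMap.range (ev I k Z o he₁), ∀ b ∈ LinearMap.range (ev I k Z o he₂), lam (a * b) = 0 := by
    rintro _ ⟨σ, rfl⟩ _ ⟨τ, rfl⟩
    refine hlamV _ ⟨σ ≫ (KFlatLib.tensorUnitIso L₁).inv ≫ (DCoh.tensorBi.obj L₁).map τ ≫ em.hom, funext fun z => ?_⟩
    obtain ⟨a, ha⟩ := (he₁ z.1).2 (((DerSch.stalkFunctor X z.1).map σ).hom (o z.1))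
    obtain ⟨b, hb⟩ := (he₂ z.1).2 (((DerSch.stalkFunctor X z.1).map τ).hom (o z.1))
    show red I (he z.1) _ = red I (he₁ z.1) _ * red I (he₂ z.1) _
    rw [hmul z.1 σ τ a b ha.symm hb.symm, ← ha, ← hb, red_smul, red_smul, red_smul, map_mul]
  have h := finrank_orth lam hnd _ _ horth
  rw [Module.finrank_pi_fintype] at h
  rw [← finrank_ev I ho he₁ hL₁ (hcoh hL₁) hfin rfl, ← finrank_ev I ho he₂ hL₂ (hcoh hL₂) hfin rfl, hlen,
    ← Finset.sum_coe_sort hfin.toFinset]
  exact_mod_cast h

end Groth.Agent.Synt29.CBPairing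

end
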