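import Groth.Agent.Synt29.SerreCover
import Groth.Agent.H23.DiagReg
import Groth.Agent.Lib.SurfHodge
import Groth.Agent.LC.GorFlat
import Groth.Agent.LC.GorRows
import Groth.Agent.S2821

/-!
Socle generators of finite complete intersections on surfaces.
-/

set_option autoImplicit false
set_option linter.style.haveILetI false
set_option linter.unusedSectionVars false
set_option backward.isDefEq.respectTransparency false
set_option backward.isDefEq.respectTransparency.types false
set_option maxHeartbeats 1000000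

universe u

open CategoryTheory AlgebraicGeometry TopologicalSpace IsLocalRing
open Groth.Agent Groth.Agent.H23

noncomputable section

namespace Groth.Agent.Synt29.SerreSocle

/-- The socle of a zero dimensional complete intersection in a two dimensional regular local ring. -/
theorem exists_socle_gen {R : Type u} [CommRing R] [IsRegularLocalRing R] (hd : ringKrullDim R = 2) (a b : R)
    (hI : Ideal.span {a, b} ≤ maximalIdeal R)
    (hprim : ∀ p : Ideal R, p.IsPrime → Ideal.span {a, b} ≤ p → p = maximalIdeal R) :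
    ∃ s, s ∉ Ideal.span {a, b} ∧ (∀ r ∈ maximalIdeal R, r * s ∈ Ideal.span {a, b}) ∧
      ∀ J : Ideal R, Ideal.span {a, b} < J → s ∈ J := by
  haveI : IsDomain R := (S2821.result R).1
  haveI : UniqueFactorizationMonoid R := (S2821.result R).2
  let I := Ideal.span {a, b}
  have hprinc : ∀ c : R, I ≤ Ideal.span {c} → IsUnit c := by
    intro c hc
    by_contra hu
    have hcm : Ideal.span {c} ≤ maximalIdeal R := (Ideal.span_singleton_le_iff_mem _).2 hu
    have hmin : maximalIdeal R ∈ (Ideal.span {c}).minimalPrimes :=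
      ⟨⟨inferInstance, hcm⟩, fun q hq _ => le_of_eq (hprim q hq.1 (hc.trans hq.2)).symm⟩
    have h1 := Ideal.height_le_one_of_isPrincipal_of_mem_minimalPrimes (Ideal.span {c}) _ hmin
    have h2 : ((maximalIdeal R).height : WithBot ℕ∞) = 2 := by
      rw [IsLocalRing.maximalIdeal_height_eq_ringKrullDim, hd]
    have : (2 : WithBot ℕ∞) ≤ (1 : WithBot ℕ∞) := h2 ▸ (WithBot.coe_le_coe.2 h1)
    exact absurd this (by decide)
  have ha : a ≠ 0 := fun h => by
    subst h
    have hb : IsUnit b := hprinc b (Ideal.span_le.2 (by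
      rintro x (rfl | rfl)
      · exact zero_mem _
      · exact Ideal.mem_span_singleton_self x))
    exact (maximalIdeal.isMaximal R).ne_top
      (Ideal.eq_top_of_isUnit_mem _ (hI (Ideal.subset_span (Set.mem_insert_of_mem _ rfl))) hb)
  have hrel : IsRelPrime a b := fun d hda hdb => hprinc d (Ideal.span_le.2 (by
    rintro x (rfl | rfl)
    · exact Ideal.mem_span_singleton.2 hda
    · exact Ideal.mem_span_singleton.2 hdb))
  have hreg : RingTheory.Sequence.IsWeaklyRegular R [a, b] := by
    refine RingTheory.Sequence.IsWeaklyRegular.cons (fun x y h => mul_left_cancel₀ ha h)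
      (RingTheory.Sequence.IsWeaklyRegular.cons ?_ (RingTheory.Sequence.IsWeaklyRegular.nil _ _))
    intro x y h
    obtain ⟨x, rfl⟩ := Submodule.Quotient.mk_surjective _ x
    obtain ⟨y, rfl⟩ := Submodule.Quotient.mk_surjective _ y
    replace h : (Submodule.Quotient.mk (b • x) : QuotSMulTop a R) = Submodule.Quotient.mk (b • y) := h
    rw [Submodule.Quotient.eq, Submodule.mem_smul_pointwise_iff_exists] at h ⊢
    obtain ⟨t, -, ht⟩ := h
    obtain ⟨q, hq⟩ : a ∣ x - y := hrel.dvd_of_dvd_mul_left ⟨t, by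
      simp only [smul_eq_mul] at ht
      rw [mul_sub]; exact ht.symm⟩
    exact ⟨q, trivial, hq.symm⟩
  have hof : Ideal.ofList [a, b] = I := by
    rw [Ideal.ofList]
    congr 1
    ext x
    simp
  haveI := LC.gorenstein_of_isRegularLocalRing (R := R)
  have hmem : ∀ r ∈ [a, b], r ∈ maximalIdeal R := fun r hr => hI (Ideal.subset_span (by simpa using hr))
  haveI hG := LC.gorenstein_quotient_ofList [a, b] hmem hreg
  rw [hof] at hG
  have htop : I ≠ ⊤ := fun h => (maximalIdeal.isMaximal R).ne_top (top_le_iff.1 (h ▸ hI))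
  haveI : Nontrivial (R ⧸ I) := Ideal.Quotient.nontrivial_iff.2 htop
  haveI : IsLocalRing (R ⧸ I) := .of_surjective' _ Ideal.Quotient.mk_surjective
  haveI : IsLocalHom (Ideal.Quotient.mk I) := IsLocalHom.mk fun x hx => by
      by_contra hu
      obtain ⟨y, hy⟩ := hx.exists_right_inv
      obtain ⟨y, rfl⟩ := Ideal.Quotient.mk_surjective y
      rw [← map_mul, ← map_one (Ideal.Quotient.mk I), Ideal.Quotient.eq] at hy
      have h1 : x * y - 1 ∈ maximalIdeal R := hI hy
      have h2 : x * y ∈ maximalIdeal R := Ideal.mul_mem_right _ _ hu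
      exact (maximalIdeal.isMaximal R).ne_top ((Ideal.eq_top_iff_one _).2 (by
        simpa using sub_mem h2 h1))
  have hrad : maximalIdeal R ≤ I.radical := by
    rw [Ideal.radical_eq_sInf]
    exact le_sInf fun p hp => (hprim p hp.2 hp.1).ge
  obtain ⟨N, hN⟩ := Ideal.exists_pow_le_of_le_radical_of_fg hrad (IsNoetherian.noetherian _)
  have hsoc : ∀ J : Ideal R, I < J → ∃ t ∈ J, t ∉ I ∧ ∀ r ∈ maximalIdeal R, r * t ∈ I := by
    intro J hJ
    have hex : ∃ n, maximalIdeal R ^ n * J ≤ I :=
      ⟨N, (Ideal.mul_le.2 fun r hr t _ => Ideal.mul_mem_right t _ hr).trans hN⟩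
    classical
    obtain ⟨n, hn⟩ : ∃ n, n = Nat.find hex := ⟨_, rfl⟩
    rcases n with _ | n
    · have h0 := Nat.find_spec hex
      rw [← hn, pow_zero, Ideal.one_eq_top, Ideal.top_mul] at h0
      exact absurd (lt_of_lt_of_le hJ h0) (lt_irrefl _)
    · have h1 := Nat.find_spec hex
      rw [← hn] at h1
      have h2 := Nat.find_min hex (show n < Nat.find hex by omega)
      obtain ⟨t, ht, htI⟩ := SetLike.not_le_iff_exists.1 h2
      have hle : maximalIdeal R ^ n * J ≤ J := Ideal.mul_le.2 fun r _ t ht => Ideal.mul_mem_left J r ht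
      refine ⟨t, hle ht, htI, fun r hr => ?_⟩
      have hmem : r * t ∈ maximalIdeal R * (maximalIdeal R ^ n * J) := Ideal.mul_mem_mul hr ht
      rw [← mul_assoc, ← pow_succ'] at hmem
      exact h1 hmem
  obtain ⟨s, -, hs, hms⟩ := hsoc ⊤ htop.lt_top
  have hs' : Ideal.Quotient.mk I s ≠ 0 := fun h => hs (Ideal.Quotient.eq_zero_iff_mem.1 h)
  have hkill : ∀ t : R, (∀ r ∈ maximalIdeal R, r * t ∈ I) →
      ∀ r ∈ maximalIdeal (R ⧸ I), r * Ideal.Quotient.mk I t = 0 := fun t ht r hr => by
    obtain ⟨r, rfl⟩ := Ideal.Quotient.mk_surjective r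
    rw [← map_mul, Ideal.Quotient.eq_zero_iff_mem]
    exact ht r fun hu => hr (hu.map _)
  refine ⟨s, hs, hms, fun J hJ => ?_⟩
  obtain ⟨t, htJ, htI, htm⟩ := hsoc J hJ
  obtain ⟨c, hc⟩ := (LC.socle_of_gorenstein hs' (hkill s hms)).2 _ (hkill t htm)
  obtain ⟨c, rfl⟩ := Ideal.Quotient.mk_surjective c
  rw [← map_mul, Ideal.Quotient.eq] at hc
  have hcu : IsUnit c := by
    by_contra hu
    exact htI (by simpa using add_mem hc (hms c hu))
  have : c * s ∈ J := by simpa using sub_mem htJ (hJ.le hc)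
  exact (Ideal.unit_mul_mem_iff_mem _ hcu).1 this

variable {k : Type u} [Field k] {X : Scheme.{u}} [X.Over (Spec (CommRingCat.of k))]
  [Smooth (X ↘ Spec (CommRingCat.of k))] [IsIntegral X] (hdim : topologicalKrullDim X = 2)

/-- At an isolated point of the support the stalk ideal is primary. -/
theorem eq_maximal_of_le {I : X.IdealSheafData} (hcl : ∀ y ∈ (I.support : Set X), IsClosed ({y} : Set X))
    {z : X} (p : Ideal (X.presheaf.stalk z)) (hp : p.IsPrime) (hle : StalkIdeal.sI I z ≤ p) :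
    p = maximalIdeal (X.presheaf.stalk z) := by
  let w : Spec (X.presheaf.stalk z) := ⟨p, hp⟩
  have hw : w ∈ ((I.comap (X.fromSpecStalk z)).support : Set _) := by
    rw [SetLike.mem_coe,
      Scheme.IdealSheafData.mem_support_iff_of_mem (U := ⟨⊤, isAffineOpen_top _⟩) (x := w) trivial,
      Scheme.mem_zeroLocus_iff]
    intro f hf hwf
    rw [AlgebraicGeometry.basicOpen_eq_of_affine'] at hwf
    exact hwf (hle (Ideal.mem_map_of_mem _ hf))
  rw [Scheme.IdealSheafData.support_comap] at hw
  have hyz : X.fromSpecStalk z w ⤳ z := by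
    have h : w ⤳ closedPoint (X.presheaf.stalk z) := IsLocalRing.specializes_closedPoint w
    simpa [Scheme.fromSpecStalk_closedPoint] using h.map (X.fromSpecStalk z).continuous
  have hy : X.fromSpecStalk z w = z := by
    have h := hyz.mem_closure
    rw [(hcl _ hw).closure_eq] at h
    exact (Set.mem_singleton_iff.1 h).symm
  have := (X.fromSpecStalk z).isEmbedding.injective (hy.trans (Scheme.fromSpecStalk_closedPoint).symm)
  exact congrArg PrimeSpectrum.asIdeal this

include k hdim in
/-- A finite complete intersection has socle generators. -/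
theorem exists_isSocleGen {I : X.IdealSheafData} (hcl : ∀ y ∈ (I.support : Set X), IsClosed ({y} : Set X))
    (hlci : ∀ x : X, ∃ V : X.affineOpens, x ∈ (V : X.Opens) ∧ ∃ a b : Γ(X, V), I.ideal V = Ideal.span {a, b})
    {z : X} (hz : z ∈ (I.support : Set X)) : ∃ s, SerreCover.IsSocleGen I z s := by
  obtain ⟨V, hzV, a, b, hab⟩ := hlci z
  haveI := SurfHodge.regular k (X := X) z
  have hd : ringKrullDim (X.presheaf.stalk z) = 2 := by
    rw [H23.DiagReg.dim_stalk_closed (X ↘ Spec (CommRingCat.of k)) (n := 2) hdim (hcl z hz)]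
    norm_num
  have hI : StalkIdeal.sI I z = Ideal.span {X.presheaf.germ V.1 z hzV a, X.presheaf.germ V.1 z hzV b} := by
    rw [StalkIdeal.sI_eq I V hzV, CDivEq.stk, hab, Ideal.map_span, Set.image_insert_eq, Set.image_singleton]
  obtain ⟨s, hs⟩ := exists_socle_gen hd _ _ (hI ▸ le_maximalIdeal (SerreCover.mem_support_iff.1 hz))
    fun p hp hle => eq_maximal_of_le hcl p hp (hI ▸ hle)
  exact ⟨s, by rw [SerreCover.IsSocleGen, hI]; exact hs⟩

/-- A finite set of closed points as a reduced subscheme. -/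
theorem sI_vanishing {Y : Scheme.{u}} (Z : Finset Y) (hZc : IsClosed (Z : Set Y))
    (hZ : ∀ z ∈ Z, IsClosed ({z} : Set Y)) {z : Y} (hz : z ∈ Z) :
    StalkIdeal.sI (Scheme.IdealSheafData.vanishingIdeal ⟨(Z : Set Y), hZc⟩) z =
      maximalIdeal (Y.presheaf.stalk z) := by
  classical
  let I := Scheme.IdealSheafData.vanishingIdeal ⟨(Z : Set Y), hZc⟩
  refine le_antisymm (le_maximalIdeal (SerreCover.mem_support_iff.1 (by
    rw [Scheme.IdealSheafData.coe_support_vanishingIdeal]; exact hz))) fun f hf => ?_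
  obtain ⟨V, hzV, b, rfl⟩ := TopCat.Presheaf.exists_germ_eq Y.presheaf f
  let O : Y.Opens := V ⊓ ⟨((Z : Set Y) \ {z})ᶜ, isOpen_compl_iff.2 (by
    rw [← Set.biUnion_of_singleton ((Z : Set Y) \ {z})]
    exact (Z.finite_toSet.subset Set.sdiff_subset).isClosed_biUnion fun y hy => hZ y hy.1)⟩
  obtain ⟨_, ⟨U, hU, rfl⟩, hzU, hUO⟩ := Y.isBasis_affineOpens.exists_subset_of_mem_open
    (show z ∈ O from ⟨hzV, fun h => h.2 rfl⟩) O.2
  have hUV : U ≤ V := fun y hy => (hUO hy).1
  rw [StalkIdeal.sI_eq I ⟨U, hU⟩ hzU, CDivEq.stk,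
    ← Y.presheaf.germ_res_apply (homOfLE hUV) z hzU b]
  refine Ideal.mem_map_of_mem _ ?_
  rw [Scheme.IdealSheafData.vanishingIdeal_ideal, PrimeSpectrum.mem_vanishingIdeal]
  intro p hp
  by_contra hb
  have hy : hU.fromSpec p ∈ U := hU.range_fromSpec.le ⟨p, rfl⟩
  have hyz : hU.fromSpec p = z := by
    by_contra hne
    exact (hUO hy).2 ⟨hp, hne⟩
  have h1 : p ∈ hU.fromSpec ⁻¹ᵁ Y.basicOpen (Y.presheaf.map (homOfLE hUV).op b) := by
    rw [hU.fromSpec_preimage_basicOpen]
    exact hb
  have h1' : hU.fromSpec p ∈ Y.basicOpen (Y.presheaf.map (homOfLE hUV).op b) := h1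
  rw [hyz, Scheme.basicOpen_res] at h1'
  have h2 : z ∈ Y.basicOpen b := h1'.2
  rw [Scheme.mem_basicOpen _ _ _ hzV] at h2
  exact hf h2

/-- Reduced points have the socle generator one. -/
theorem isSocleGen_vanishing {Y : Scheme.{u}} (Z : Finset Y) (hZc : IsClosed (Z : Set Y))
    (hZ : ∀ z ∈ Z, IsClosed ({z} : Set Y)) {z : Y} (hz : z ∈ Z) :
    SerreCover.IsSocleGen (Scheme.IdealSheafData.vanishingIdeal ⟨(Z : Set Y), hZc⟩) z 1 := by
  rw [SerreCover.IsSocleGen, sI_vanishing Z hZc hZ hz]
  refine ⟨fun h => (maximalIdeal.isMaximal _).ne_top ((Ideal.eq_top_iff_one _).2 h),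
    fun r hr => by rwa [mul_one], fun J hJ => ?_⟩
  rw [(maximalIdeal.isMaximal _).out.2 J hJ]
  trivial

end Groth.Agent.Synt29.SerreSocle

end
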