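import Groth.Agent.H26.FMod.ExistSupp
import Groth.Agent.H26.FMod.AlgExt

/-!
# The inverse system on the scheme of a system of modules on the levels of a completion
-/

noncomputable section

set_option autoImplicit false
set_option maxHeartbeats 800000
set_option linter.style.haveILetI false
set_option linter.unusedSectionVars false
set_option backward.isDefEq.respectTransparency false
set_option backward.isDefEq.respectTransparency.types false

universe u

open CategoryTheory CategoryTheory.Limits TopologicalSpace Opposite AlgebraicGeometry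
open Groth.Agent

namespace Groth.Agent.Synt29.ModSysPush

/-- Exactness gives lifts of sections on affine opens. -/
theorem exists_lift {W : Scheme.{u}} {S : ShortComplex W.Modules} (hS : S.Exact)
    (h1 : Coh.IsQCoh S.X₁) (h2 : Coh.IsQCoh S.X₂) (h3 : Coh.IsQCoh S.X₃) {V : W.Opens} (hV : IsAffineOpen V)
    (x : Γ(S.X₂, V)) (hx : S.g.app V x = 0) : ∃ y, S.f.app V y = x := by
  haveI : Epi (kernel.lift S.g S.f S.zero) := (S.exact_iff_epi_kernel_lift).1 hS
  have hx' : (cokernel.π (kernel.ι S.g)).app V x = 0 := by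
    refine QCoh.app_injective (Abelian.factorThruCoimage S.g) V ?_
    rw [map_zero]
    exact (congrArg (fun t => Scheme.Modules.Hom.app t V x) (Abelian.coimage.fac S.g)).trans hx
  obtain ⟨n, hn⟩ := QCoh.exists_app_f_eq (S := ShortComplex.mk (kernel.ι S.g) (cokernel.π (kernel.ι S.g))
      (cokernel.condition _))
    { exact := ShortComplex.exact_of_g_is_cokernel _ (cokernelIsCokernel _) } V x hx'
  obtain ⟨y, rfl⟩ := QCoh.app_surjective_of_epi h1 (QCoh.isQCoh_kernel h2 h3 S.g) (kernel.lift S.g S.f S.zero) hV n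
  exact ⟨y, (congrArg (fun t => Scheme.Modules.Hom.app t V y) (kernel.lift_ι S.g S.f S.zero)).symm.trans hn⟩

theorem transApp_hom {A B Y : Scheme.{u}} (f : A ⟶ B) (g : B ⟶ Y) {p : A ⟶ Y} (e : f ≫ g = p) (M : Y.Modules) :
    ((Scheme.Modules.pullbackComp f g).app M ≪≫ (Scheme.Modules.pullbackCongr e).app M).hom =
      (Scheme.Modules.pullbackComp f g).hom.app M ≫ (Scheme.Modules.pullbackCongr e).hom.app M := rfl

theorem comm_gen {T0 T1 Y : Scheme.{u}} (f : T0 ⟶ T1) (g : T1 ⟶ Y) (p : T0 ⟶ Y) (hfg : f ≫ g = p)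
    {M : Y.Modules} {P' : T1.Modules} {P : T0.Modules} (e : (Scheme.Modules.pullback f).obj P' ⟶ P)
    (c' : M ⟶ (Scheme.Modules.pushforward g).obj P') (c : M ⟶ (Scheme.Modules.pushforward p).obj P)
    (hc : c' ≫ H26.FMod.pushTrans f g p hfg
      ((Scheme.Modules.pullbackPushforwardAdjunction f).homEquiv _ _ e) = c) :
    (Scheme.Modules.pullback f).map (((Scheme.Modules.pullbackPushforwardAdjunction g).homEquiv _ _).symm c') ≫ e =
      ((Scheme.Modules.pullbackComp f g).hom.app M ≫ (Scheme.Modules.pullbackCongr hfg).hom.app M) ≫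
        ((Scheme.Modules.pullbackPushforwardAdjunction p).homEquiv _ _).symm c := by
  apply ((Scheme.Modules.pullbackPushforwardAdjunction f).homEquiv _ _).injective
  refine (((Scheme.Modules.pullbackPushforwardAdjunction f).homEquiv_naturality_left _ _).trans
    ?_).trans ((Scheme.Modules.pullbackPushforwardAdjunction f).homEquiv_naturality_right _ _).symm
  exact (H26.FMod.adjunct_compat f g p hfg _ c' c hc).symm

variable {A : Type u} [CommRing A] (I : Ideal A) {X : Scheme.{u}} [X.Over (Spec (CommRingCat.of A))]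
  (𝓚 : X.IdealSheafData) (h𝓚 : 𝓚 = (FSch.idealSpec A I).comap (X ↘ Spec (CommRingCat.of A)))
  (𝔐 : FSch.ModSys (FSch.completionAlong X 𝓚))

/-- The level, on the scheme. -/
abbrev push (k : ℕ) : X.Modules :=
  (Scheme.Modules.pushforward (FSch.completionToX X 𝓚 k)).obj (𝔐.F k)

/-- The transition in the adjoint form. -/
abbrev adjT (k : ℕ) : 𝔐.F (k + 1) ⟶ (Scheme.Modules.pushforward ((FSch.completionAlong X 𝓚).ι k)).obj (𝔐.F k) :=
  (Scheme.Modules.pullbackPushforwardAdjunction ((FSch.completionAlong X 𝓚).ι k)).homEquiv _ _ (𝔐.e k).hom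

/-- The transition of the levels, on the scheme. -/
def tPush (k : ℕ) : push 𝓚 𝔐 (k + 1) ⟶ push 𝓚 𝔐 k :=
  H26.FMod.pushTrans ((FSch.completionAlong X 𝓚).ι k) (FSch.completionToX X 𝓚 (k + 1)) (FSch.completionToX X 𝓚 k)
    (FSch.completionToX_comm X 𝓚 k) (adjT 𝓚 𝔐 k)

/-- The system. -/
abbrev sys : ℕᵒᵖ ⥤ X.Modules := Functor.ofOpSequence (X := push 𝓚 𝔐) (tPush 𝓚 𝔐)

lemma sys_succ (k : ℕ) : (sys 𝓚 𝔐).map (homOfLE (Nat.le_succ k)).op = tPush 𝓚 𝔐 k :=
  Functor.ofOpSequence_map_homOfLE_succ (X := push 𝓚 𝔐) (tPush 𝓚 𝔐) k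

variable [IsLocallyNoetherian X] (hcoh : 𝔐.IsCoh)

include hcoh in
lemma isCoh_push (k : ℕ) : Coh.IsCoh (push 𝓚 𝔐 k) :=
  QCoh.isCoh_pushforward_finite (FSch.completionToX X 𝓚 k) (hcoh k)

include h𝓚 in
lemma killedBy_push (k : ℕ) : Formal.KilledBy (I ^ (k + 1)) (push 𝓚 𝔐 k) := by
  intro a ha
  refine Scheme.Modules.hom_ext _ _ fun V => ?_
  ext s
  refine QCoh.eq_zero_of_locally _ _ fun x hx => ?_
  obtain ⟨_, ⟨U, hU, rfl⟩, hxU, hle⟩ := X.isBasis_affineOpens.exists_subset_of_mem_open hx V.2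
  refine ⟨U, homOfLE hle, hxU, ?_⟩
  refine (congr($((Formal.smulMod A (push 𝓚 𝔐 k) a).mapPresheaf.naturality (homOfLE hle).op) s)).symm.trans ?_
  show (Formal.smulMod A (push 𝓚 𝔐 k) a).app U _ = 0
  rw [FFun.smulMod_app]
  refine (QCoh.pushforward_smul (FSch.completionToX X 𝓚 k) U _ _).trans ?_
  have h0 : (FSch.completionToX X 𝓚 k).app U (FFun.φsec U a) = 0 :=
    H26.FMod.app_toX_eq_zero 𝓚 k ⟨U, hU⟩ (by rw [H26.FMod.ideal_pow_eq_map I 𝓚 h𝓚]; exact Ideal.mem_map_of_mem _ ha)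
  exact (congrArg (· • (show Γ(𝔐.F k, (FSch.completionToX X 𝓚 k) ⁻¹ᵁ U) from _)) h0).trans (zero_smul _ _)

include hcoh in
lemma tPush_sections (k : ℕ) {U : X.Opens} (hU : IsAffineOpen U) :
    Function.Surjective ((tPush 𝓚 𝔐 k).app U) ∧ ∀ s, (tPush 𝓚 𝔐 k).app U s = 0 →
      s ∈ (𝓚 ^ (k + 1)).ideal ⟨U, hU⟩ • (⊤ : Submodule Γ(X, U) Γ(push 𝓚 𝔐 (k + 1), U)) := by
  have hk : (FSch.completionToX X 𝓚 k).ker = 𝓚 ^ (k + 1) := Scheme.IdealSheafData.ker_subschemeι _
  rw [← hk]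
  haveI : IsIso (((Scheme.Modules.pullbackPushforwardAdjunction ((FSch.completionAlong X 𝓚).ι k)).homEquiv _ _).symm
      (adjT 𝓚 𝔐 k)) := by
    rw [Equiv.symm_apply_apply]
    infer_instance
  exact H26.FMod.pushTrans_sections ((FSch.completionAlong X 𝓚).ι k) (FSch.completionToX X 𝓚 (k + 1))
    (FSch.completionToX X 𝓚 k) (FSch.completionToX_comm X 𝓚 k) (adjT 𝓚 𝔐 k) (hcoh (k + 1)).1 hU

include h𝓚 hcoh in
/-- The system of a coherent system of modules is a coherent formal module. -/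
theorem isCohFormal_sys : Formal.IsCohFormal I (sys 𝓚 𝔐) := by
  refine ⟨isCoh_push 𝓚 𝔐 hcoh, fun k => killedBy_push I 𝓚 h𝓚 𝔐 k, fun k => ?_⟩
  rw [sys_succ]
  have h0 := Algz7.smulFamily_comp_eq_zero (killedBy_push I 𝓚 h𝓚 𝔐 k) (tPush 𝓚 𝔐 k)
  refine ⟨h0, QCoh.isIso_of_isBasis _ X.isBasis_affineOpens fun U (hU : IsAffineOpen U) => ?_⟩
  have hM := isCoh_push 𝓚 𝔐 hcoh (k + 1)
  have hC : Coh.IsQCoh (Formal.modPow I (k + 1) (push 𝓚 𝔐 (k + 1))) := (FFun.isCoh_modJ (I ^ (k + 1)) hM).1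
  haveI : Epi (Formal.modPowπ I (k + 1) (push 𝓚 𝔐 (k + 1))) := inferInstanceAs (Epi (cokernel.π _))
  have hπ : Formal.modPowπ I (k + 1) (push 𝓚 𝔐 (k + 1)) ≫ cokernel.desc _ _ h0 = tPush 𝓚 𝔐 k :=
    cokernel.π_desc _ _ _
  have e : ∀ s, (cokernel.desc _ _ h0).app U ((Formal.modPowπ I (k + 1) (push 𝓚 𝔐 (k + 1))).app U s) =
      (tPush 𝓚 𝔐 k).app U s :=
    fun s => congrArg (fun t => Scheme.Modules.Hom.app t U s) hπ
  refine ⟨(injective_iff_map_eq_zero _).2 fun z hz => ?_, fun y => ?_⟩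
  · obtain ⟨s, hs⟩ := QCoh.app_surjective_of_epi hM.1 hC (Formal.modPowπ I (k + 1) _) hU z
    subst hs
    refine FFun.π_app_eq_zero _ _ U ?_
    rw [← H26.FMod.ideal_pow_eq_map I 𝓚 h𝓚 ⟨U, hU⟩ (k + 1)]
    exact (tPush_sections 𝓚 𝔐 hcoh k hU).2 s ((e s).symm.trans hz)
  · obtain ⟨s, rfl⟩ := (tPush_sections 𝓚 𝔐 hcoh k hU).1 y
    exact ⟨_, e s⟩

omit [IsLocallyNoetherian X] in
lemma map_smulModΓ (k : ℕ) (a : A) :
    (Scheme.Modules.pushforward (FSch.completionToX X 𝓚 k)).map (Formal.smulModΓ (𝔐.F k)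
      ((FSch.completionToX X 𝓚 k).appTop.hom (Coh.toGlobal (X ↘ Spec (CommRingCat.of A)) a))) =
      Formal.smulMod A (push 𝓚 𝔐 k) a := by
  refine Scheme.Modules.hom_ext _ _ fun V => ?_
  ext s
  refine Eq.trans ?_ (QCoh.pushforward_smul (FSch.completionToX X 𝓚 k) V _ _).symm
  refine congrArg (fun r : Γ((FSch.completionAlong X 𝓚).X k, (FSch.completionToX X 𝓚 k) ⁻¹ᵁ V) =>
    r • (show Γ(𝔐.F k, (FSch.completionToX X 𝓚 k) ⁻¹ᵁ V) from s)) ?_
  exact (congr($((FSch.completionToX X 𝓚 k).naturality (homOfLE le_top).op) _)).symm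

omit [IsLocallyNoetherian X] in
lemma completionMod_e_hom (M : X.Modules) (k : ℕ) : ((FSch.completionMod 𝓚 M).e k).hom =
    (Scheme.Modules.pullbackComp ((FSch.completionAlong X 𝓚).ι k) (FSch.completionToX X 𝓚 (k + 1))).hom.app M ≫
      (Scheme.Modules.pullbackCongr (FSch.completionToX_comm X 𝓚 k)).hom.app M := by
  delta FSch.completionMod
  dsimp only
  exact transApp_hom _ _ (FSch.completionToX_comm X 𝓚 k) M

include h𝓚 in
/-- A coherent system whose direct image is a completion is a completion. -/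
theorem nonempty_iso_completionMod {M : X.Modules} (hM : Coh.IsCoh M)
    (β : Formal.completion I M ≅ sys 𝓚 𝔐) : Nonempty (FSch.completionMod 𝓚 M ≅ 𝔐) := by
  let c : ∀ k, M ⟶ push 𝓚 𝔐 k := fun k => Formal.modPowπ I (k + 1) M ≫ β.hom.app (op k)
  let E : ∀ k, (Scheme.Modules.pullback (FSch.completionToX X 𝓚 k)).obj M ⟶ 𝔐.F k := fun k =>
    ((Scheme.Modules.pullbackPushforwardAdjunction (FSch.completionToX X 𝓚 k)).homEquiv _ _).symm (c k)
  haveI hiso : ∀ k, IsIso (E k) := fun k => by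
    haveI := H26.FMod.isIso_modPowCmp I 𝓚 h𝓚 hM k
    haveI : Epi (Formal.modPowπ I (k + 1) M) := inferInstanceAs (Epi (cokernel.π _))
    have h1 : H26.FMod.modPowCmp I 𝓚 h𝓚 hM.1 k ≫
        (Scheme.Modules.pushforward (FSch.completionToX X 𝓚 k)).map (E k) = β.hom.app (op k) := by
      refine (cancel_epi (Formal.modPowπ I (k + 1) M)).1 ?_
      refine ((Category.assoc _ _ _).symm.trans (congrArg (· ≫ _) (H26.FMod.π_modPowCmp I 𝓚 h𝓚 hM.1 k))).trans ?_
      exact (Adjunction.homEquiv_unit _ _ _ _).symm.trans (Equiv.apply_symm_apply _ _)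
    haveI : IsIso (H26.FMod.modPowCmp I 𝓚 h𝓚 hM.1 k ≫
        (Scheme.Modules.pushforward (FSch.completionToX X 𝓚 k)).map (E k)) := by
      rw [h1]; infer_instance
    haveI := IsIso.of_isIso_comp_left (H26.FMod.modPowCmp I 𝓚 h𝓚 hM.1 k)
      ((Scheme.Modules.pushforward (FSch.completionToX X 𝓚 k)).map (E k))
    exact H26.FMod.isIso_of_isIso_push (FSch.completionToX X 𝓚 k) (E k)
  have hc : ∀ k, c (k + 1) ≫ tPush 𝓚 𝔐 k = c k := fun k => by
    rw [← sys_succ 𝓚 𝔐 k, Category.assoc, ← β.hom.naturality, ← Category.assoc]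
    refine congrArg (· ≫ β.hom.app (op k)) ?_
    rw [show (Formal.completion I M).map (homOfLE (Nat.le_succ k)).op = Formal.modPowTrans I (k + 1) M from
      Functor.ofOpSequence_map_homOfLE_succ (X := fun n => Formal.modPow I (n + 1) M)
        (fun n => Formal.modPowTrans I (n + 1) M) k]
    exact Formal.modPowπ_trans I (k + 1) M
  have hcomm : ∀ k, (Scheme.Modules.pullback ((FSch.completionAlong X 𝓚).ι k)).map (E (k + 1)) ≫ (𝔐.e k).hom =
      ((FSch.completionMod 𝓚 M).e k).hom ≫ E k := fun k => by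
    rw [completionMod_e_hom]
    exact comm_gen ((FSch.completionAlong X 𝓚).ι k) (FSch.completionToX X 𝓚 (k + 1))
      (FSch.completionToX X 𝓚 k) (FSch.completionToX_comm X 𝓚 k) (𝔐.e k).hom (c (k + 1)) (c k) (hc k)
  refine ⟨{ hom := ⟨E, hcomm⟩
            inv := ⟨fun k => inv (E k), fun k => ?_⟩
            hom_inv_id := FSch.ModSys.Hom.ext (funext fun k => IsIso.hom_inv_id (E k))
            inv_hom_id := FSch.ModSys.Hom.ext (funext fun k => IsIso.inv_hom_id (E k)) }⟩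
  rw [Functor.map_inv, IsIso.inv_comp_eq, ← Category.assoc, IsIso.eq_comp_inv]
  exact (hcomm k).symm

end Groth.Agent.Synt29.ModSysPush
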