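import Groth.Agent.Synt29.FormalHH

/-!
# Formal cohomology on a punctured spectrum when `f` is regular and the cohomology is finite
-/

set_option autoImplicit false
set_option linter.style.haveILetI false
set_option linter.unusedSectionVars false
set_option backward.isDefEq.respectTransparency false
set_option backward.isDefEq.respectTransparency.types false
set_option maxHeartbeats 1000000

universe u

open CategoryTheory CategoryTheory.Limits AlgebraicGeometry Opposite TopologicalSpace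
open Groth.Agent Groth.Agent.LocCohDepth.Punct
open Groth.Agent.PnCoh.Finite (mapLin deltaLin)
open Groth.Agent.Synt29.FormalHH (mp mp_comp)

noncomputable section

namespace Groth.Agent.Synt29.FormalHHReg

variable {A : Type u} [CommRing A] [IsNoetherianRing A] (𝔞 : Ideal A) (f : A)
  (N : ModuleCat.{u} (CommRingCat.of A)) [Module.Finite A N]

local notation "U" => LocCoh.puncturedOpen A 𝔞

/-- The multiplication sequence. -/
def seq (n : ℕ) : ShortComplex (ModuleCat.{u} (CommRingCat.of A)) :=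
  ShortComplex.mk (f ^ n • 𝟙 N) (FormalSectU.q f N n) (ModuleCat.hom_ext (LinearMap.ext fun x =>
    (Submodule.Quotient.mk_eq_zero _).2 ((FAdicLim.mem_pow_span f n _).2 ⟨x, rfl⟩)))

theorem exact_seq (n : ℕ) : (seq f N n).Exact := by
  rw [ShortComplex.moduleCat_exact_iff]
  intro x hx
  obtain ⟨z, hz⟩ := (FAdicLim.mem_pow_span f n x).1 ((Submodule.Quotient.mk_eq_zero _).1 hx)
  exact ⟨z, hz.symm⟩

theorem mono_pow [Mono ((G U).map (f • 𝟙 N))] : ∀ n : ℕ, Mono ((G U).map (f ^ n • 𝟙 N))
  | 0 => by rw [pow_zero, one_smul, CategoryTheory.Functor.map_id]; infer_instance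
  | n + 1 => by
    haveI := mono_pow n
    rw [show f ^ (n + 1) • 𝟙 N = (f ^ n • 𝟙 N) ≫ (f • 𝟙 N) from
      ModuleCat.hom_ext (LinearMap.ext fun x => show f ^ (n + 1) • x = f • f ^ n • x by
        rw [← mul_smul, pow_succ']), Functor.map_comp]
    infer_instance

theorem exact_mapG {R : CommRingCat.{u}} (V : (Spec R).Opens) {S : ShortComplex (ModuleCat.{u} R)} (hS : S.Exact)
    [(tilde.functor R).PreservesZeroMorphisms] [(G V).PreservesZeroMorphisms] : (S.map (G V)).Exact :=
  (hS.map (tilde.functor R)).map (Scheme.Modules.restrictFunctor V.ι)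

theorem shortExact_seq [Mono ((G U).map (f • 𝟙 N))] (n : ℕ) : ((seq f N n).map (G U)).ShortExact := by
  haveI : Epi (seq f N n).g := (ModuleCat.epi_iff_surjective _).2 (Submodule.mkQ_surjective _)
  haveI : (tilde.functor (CommRingCat.of A)).IsLeftAdjoint := (tilde.adjunction (R := CommRingCat.of A)).isLeftAdjoint
  haveI : (tilde.functor (CommRingCat.of A)).PreservesZeroMorphisms :=
    Functor.preservesZeroMorphisms_of_isLeftAdjoint _
  haveI := preservesBinaryBiproducts_of_preservesBinaryCoproducts (tilde.functor (CommRingCat.of A))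
  haveI : (tilde.functor (CommRingCat.of A)).Additive := Functor.additive_of_preservesBinaryBiproducts _
  exact
    { exact := exact_mapG _ (exact_seq f N n)
      mono_f := mono_pow 𝔞 f N n
      epi_g := (G (LocCoh.puncturedOpen A 𝔞)).map_epi (seq f N n).g }

theorem finite_HH : ∀ (p : ℕ), Module.Finite A ((localCohomology 𝔞 (p + 1)).obj N) →
    Module.Finite A (Coh.HH (U : Scheme.{u}) ((G U).obj N) p) := by
  rintro (_ | p) h
  · obtain ⟨ε⟩ := GrLib8.PuncturedLC.nonempty_H1 𝔞 N
    haveI : Module.Finite A (Coh.HH (U : Scheme.{u}) ((G U).obj N) 0 ⧸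
      LinearMap.range (GrLib8.PuncturedLC.cmap U N)) := Module.Finite.equiv ε.symm
    exact Module.Finite.of_submodule_quotient (LinearMap.range (GrLib8.PuncturedLC.cmap U N))
  · obtain ⟨ε⟩ := GrLib8.PuncturedLC.nonempty_HH_succ 𝔞 p N
    exact Module.Finite.equiv ε.symm

variable [IsAdicComplete (Ideal.span {f}) A] [Mono ((G (LocCoh.puncturedOpen A 𝔞)).map (f • 𝟙 N))] (p : ℕ)
  [Module.Finite A (Coh.HH (LocCoh.puncturedOpen A 𝔞 : Scheme.{u}) ((G (LocCoh.puncturedOpen A 𝔞)).obj N) p)]

theorem ker_q (n : ℕ) (x : Coh.HH (U : Scheme.{u}) ((G U).obj N) p) (hx : mp 𝔞 (FormalSectU.q f N n) p x = 0) :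
    ∃ z, x = f ^ n • z := by
  obtain ⟨z, hz⟩ := (CurveCohLib.ker_mapLin_g (CommRingCat.of A) (shortExact_seq 𝔞 f N n) p).le (LinearMap.mem_ker.2 hx)
  exact ⟨z, hz.symm.trans (mapLin_smul N (f ^ n) p z)⟩

theorem injective (g : Coh.HH (U : Scheme.{u}) ((G U).obj N) p)
    (hg : ∀ k, mp 𝔞 (FormalSectU.q f N k) p g = 0) : g = 0 := by
  haveI := Adic7.isAdicComplete_of_finite (I := Ideal.span {f}) (Coh.HH (U : Scheme.{u}) ((G U).obj N) p)
  exact FAdicLim.eq_zero_of_forall f g fun k => ker_q 𝔞 f N p k g (hg k)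

theorem surjective [Module.Finite A (Coh.HH (U : Scheme.{u}) ((G U).obj N) (p + 1))]
    (y : ∀ k, Coh.HH (U : Scheme.{u}) ((G U).obj (FormalSectU.Q f N k)) p)
    (hy : ∀ k, mp 𝔞 (FormalSectU.tr f N (Nat.le_succ k)) p (y (k + 1)) = y k) :
    ∃ g, ∀ k, mp 𝔞 (FormalSectU.q f N k) p g = y k := by
  let H₁ := Coh.HH (U : Scheme.{u}) ((G U).obj N) (p + 1)
  let K : ℕ →o Submodule A H₁ := ⟨fun n => LinearMap.ker ((f ^ n) • LinearMap.id : H₁ →ₗ[A] H₁),
    fun k n h x hx => by
      have hx' : f ^ k • x = 0 := hx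
      show f ^ n • x = 0
      rw [← Nat.sub_add_cancel h, pow_add, mul_smul, hx', smul_zero]⟩
  obtain ⟨d, hd⟩ := monotone_stabilizes_iff_noetherian.mpr (inferInstance : IsNoetherian A H₁) K
  have htr : ∀ (n k : ℕ) (hnk : n ≤ k), mp 𝔞 (FormalSectU.tr f N hnk) p (y k) = y n := fun n k hnk => by
    induction hnk with
    | refl =>
      rw [show FormalSectU.tr f N (le_refl n) = 𝟙 _ from
        ModuleCat.hom_ext (Submodule.linearMap_qext _ (LinearMap.ext fun _ => rfl)), mp, CategoryTheory.Functor.map_id]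
      exact mapLin_id _ _ _
    | @step m hnm ih =>
      rw [← FormalSectU.tr_tr f N hnm (Nat.le_succ m), mp_comp, hy m]
      exact ih
  have hlift : ∀ n, ∃ x, mp 𝔞 (FormalSectU.q f N n) p x = y n := fun n => by
    let τ : seq f N (n + d) ⟶ seq f N n :=
      { τ₁ := f ^ d • 𝟙 N
        τ₂ := 𝟙 N
        τ₃ := FormalSectU.tr f N (Nat.le_add_right n d)
        comm₁₂ := by
          refine ModuleCat.hom_ext (LinearMap.ext fun x => ?_)
          show f ^ n • f ^ d • x = f ^ (n + d) • x
          rw [← mul_smul, pow_add]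
        comm₂₃ := by
          show 𝟙 N ≫ FormalSectU.q f N n = FormalSectU.q f N (n + d) ≫ FormalSectU.tr f N _
          rw [Category.id_comp, FormalSectU.q_tr] }
    let z : H₁ := deltaLin (CommRingCat.of A) (shortExact_seq 𝔞 f N (n + d)) p (y (n + d))
    have hz : f ^ (n + d) • z = 0 := (mapLin_smul N (f ^ (n + d)) (p + 1) z).symm.trans
      (LinearMap.mem_ker.1 ((CurveCohLib.ker_mapLin_f_succ (CommRingCat.of A) (shortExact_seq 𝔞 f N (n + d)) p).ge
        (LinearMap.mem_range_self _ _)))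
    have hzd : f ^ d • z = 0 := by
      have : z ∈ K (n + d) := hz
      rw [← hd (n + d) (Nat.le_add_left _ _)] at this
      exact this
    have hδ : deltaLin (CommRingCat.of A) (shortExact_seq 𝔞 f N n) p (y n) = 0 := by
      rw [← htr n (n + d) (Nat.le_add_right _ _)]
      refine (QCoh.Ab.connecting_naturality (X := (U : Scheme.{u}).toPresheafedSpace.carrier)
        (QCoh.toAb_shortExact (shortExact_seq 𝔞 f N (n + d)))
        (QCoh.toAb_shortExact (shortExact_seq 𝔞 f N n))
        ((QCoh.toAbFunctor (U : Scheme.{u})).mapShortComplex.map ((G U).mapShortComplex.map τ)) p (y (n + d))).symm.trans ?_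
      exact (mapLin_smul N (f ^ d) (p + 1) z).trans hzd
    exact (CurveCohLib.ker_deltaLin (CommRingCat.of A) (shortExact_seq 𝔞 f N n) p).le (LinearMap.mem_ker.2 hδ)
  choose x hx using hlift
  haveI := Adic7.isAdicComplete_of_finite (I := Ideal.span {f}) (Coh.HH (U : Scheme.{u}) ((G U).obj N) p)
  obtain ⟨L, hL⟩ := IsPrecomplete.prec (inferInstance : IsPrecomplete (Ideal.span {f})
    (Coh.HH (U : Scheme.{u}) ((G U).obj N) p)) (f := x) fun {m n} hmn => SModEq.sub_mem.2 <| by
      refine (FAdicLim.mem_pow_span f m _).2 (ker_q 𝔞 f N p m _ ?_)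
      rw [map_sub, hx m, ← FormalSectU.q_tr f N hmn, mp_comp, hx n, htr m n hmn, sub_self]
  refine ⟨L, fun k => ?_⟩
  obtain ⟨z, hz⟩ := (FAdicLim.mem_pow_span f k _).1 (SModEq.sub_mem.1 (hL k))
  rw [show L = x k - f ^ k • z by rw [← hz, sub_sub_cancel], map_sub, hx k, sub_eq_self,
    ← mapLin_smul N (f ^ k) p z]
  show mp 𝔞 (FormalSectU.q f N k) p (mp 𝔞 (seq f N k).f p z) = 0
  exact LinearMap.mem_ker.1 ((CurveCohLib.ker_mapLin_g (CommRingCat.of A) (shortExact_seq 𝔞 f N k) p).ge
    (LinearMap.mem_range_self _ z))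

end Groth.Agent.Synt29.FormalHHReg
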