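import Groth.Agent.Adic7.Basic
import Mathlib.RingTheory.AdicCompletion.Basic

/-!
# Bijectivity onto a limit from bounded defects
-/

set_option autoImplicit false

universe u v

namespace Groth.Agent.Synt29.FAdicLim

variable {A : Type u} [CommRing A] (f : A)

theorem mem_pow_span {M : Type*} [AddCommGroup M] [Module A M] (i : ℕ) (x : M) :
    x ∈ ((Ideal.span {f}) ^ i • ⊤ : Submodule A M) ↔ ∃ z, x = f ^ i • z := by
  rw [Ideal.span_singleton_pow, Submodule.ideal_span_singleton_smul, Submodule.mem_smul_pointwise_iff_exists]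
  exact ⟨fun ⟨z, _, hz⟩ => ⟨z, hz.symm⟩, fun ⟨z, hz⟩ => ⟨z, trivial, hz.symm⟩⟩

theorem exists_sum_limit {M : Type*} [AddCommGroup M] [Module A M] [IsPrecomplete (Ideal.span {f}) M]
    (m : ℕ → M) : ∃ L : M, ∀ i, ∃ z, L - ∑ l ∈ Finset.range i, f ^ l • m l = f ^ i • z := by
  let s : ℕ → M := fun i => ∑ l ∈ Finset.range i, f ^ l • m l
  obtain ⟨L, hL⟩ := IsPrecomplete.prec (inferInstance : IsPrecomplete (Ideal.span {f}) M) (f := s)
    (fun {i j} hij => by
      rw [SModEq.sub_mem, mem_pow_span]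
      refine ⟨-∑ l ∈ Finset.range (j - i), f ^ l • m (i + l), ?_⟩
      obtain ⟨d, rfl⟩ := Nat.exists_eq_add_of_le hij
      rw [Nat.add_sub_cancel_left, smul_neg, Finset.smul_sum]
      simp only [s]
      rw [Finset.sum_range_add, sub_add_cancel_left]
      simp only [smul_smul, ← pow_add])
  refine ⟨L, fun i => ?_⟩
  obtain ⟨z, hz⟩ := (mem_pow_span f i _).1 (SModEq.sub_mem.1 (hL i).symm)
  exact ⟨z, hz⟩

theorem eq_zero_of_forall {M : Type*} [AddCommGroup M] [Module A M] [IsHausdorff (Ideal.span {f}) M] (x : M)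
    (h : ∀ i, ∃ z, x = f ^ i • z) : x = 0 :=
  IsHausdorff.haus (inferInstance : IsHausdorff (Ideal.span {f}) M) x fun i =>
    SModEq.sub_mem.2 (by rw [sub_zero]; exact (mem_pow_span f i x).2 (h i))

variable {N G : Type v} [AddCommGroup N] [Module A N] [AddCommGroup G] [Module A G]
  {Q : ℕ → Type v} [∀ i, AddCommGroup (Q i)] [∀ i, Module A (Q i)]

theorem bijective_limit [IsNoetherianRing A] [IsAdicComplete (Ideal.span {f}) A] [Module.Finite A N]
    (R₀ : N →ₗ[A] G) (c₁ : ℕ) (hR : ∀ g, ∃ n, f ^ c₁ • g = R₀ n)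
    (π : ∀ i, G →ₗ[A] Q i) (t : ∀ i, Q (i + 1) →ₗ[A] Q i) (ht : ∀ i g, t i (π (i + 1) g) = π i g)
    (hQ : ∀ i (q : Q i), f ^ i • q = 0) (c : ℕ)
    (hker : ∀ n, c ≤ n → ∀ g, π n g = 0 → ∃ z, g = f ^ (n - c) • z)
    (hlift : ∀ y : ∀ i, Q i, (∀ i, t i (y (i + 1)) = y i) → ∀ n, c ≤ n → ∃ g, π n g = y n) :
    (∀ g, (∀ i, π i g = 0) → g = 0) ∧
      ∀ y : ∀ i, Q i, (∀ i, t i (y (i + 1)) = y i) → ∃ g, ∀ i, π i g = y i := by
  haveI := Adic7.isAdicComplete_of_finite (I := Ideal.span {f}) N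
  haveI := Adic7.isAdicComplete_of_finite (I := Ideal.span {f}) (LinearMap.range R₀)
  refine ⟨fun g hg => ?_, fun y hy => ?_⟩
  · obtain ⟨z, hz⟩ := hker (c + c₁) (Nat.le_add_right _ _) g (hg _)
    rw [Nat.add_sub_cancel_left] at hz
    obtain ⟨n, hn⟩ := hR z
    have hmem : g ∈ LinearMap.range R₀ := ⟨n, by rw [hz, hn]⟩
    have := eq_zero_of_forall f (⟨g, hmem⟩ : LinearMap.range R₀) fun i => by
      obtain ⟨w, hw⟩ := hker (c + (i + c₁)) (Nat.le_add_right _ _) g (hg _)
      rw [Nat.add_sub_cancel_left] at hw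
      obtain ⟨n', hn'⟩ := hR w
      exact ⟨⟨R₀ n', LinearMap.mem_range_self _ _⟩, Subtype.ext (show g = f ^ i • R₀ n' from hw.trans (by rw [pow_add, mul_smul, hn']))⟩
    exact congrArg Subtype.val this
  · choose g hg using fun j => hlift y hy (c + j) (Nat.le_add_right _ _)
    have hd : ∀ j, ∃ h, g (j + 1) - g j = f ^ j • h := fun j => by
      have h0 : π (c + j) (g (j + 1) - g j) = 0 := by
        rw [map_sub, hg j, ← ht (c + j) (g (j + 1)), show π (c + j + 1) (g (j + 1)) = y (c + j + 1) from hg (j + 1),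
          hy, sub_self]
      obtain ⟨h, hh⟩ := hker _ (Nat.le_add_right _ _) _ h0
      rw [Nat.add_sub_cancel_left] at hh
      exact ⟨h, hh⟩
    choose h hh using hd
    choose m hm using fun l => hR (h (l + c₁))
    obtain ⟨L, hL⟩ := exists_sum_limit f m
    have hsum : ∀ i, g (c₁ + i) = g c₁ + R₀ (∑ l ∈ Finset.range i, f ^ l • m l) := fun i => by
      induction i with
      | zero => simp
      | succ i ih =>
        have h5 : g (c₁ + (i + 1)) = g (c₁ + i) + f ^ (c₁ + i) • h (c₁ + i) := by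
          rw [← hh (c₁ + i), add_sub_cancel]
          rfl
        rw [h5, ih, Finset.sum_range_succ, map_add, add_assoc, map_smul, ← hm i, smul_smul, ← pow_add,
          add_comm c₁ i]
    refine ⟨g c₁ + R₀ L, fun i => ?_⟩
    obtain ⟨z, hz⟩ := hL i
    rw [sub_eq_iff_eq_add.1 hz, map_add R₀, add_left_comm, map_add, map_smul, map_smul, hQ, zero_add, ← hsum]
    have htel : ∀ d, ∀ v : G, π (i + d) v = y (i + d) → π i v = y i := by
      intro d
      induction d with
      | zero => exact fun v hv => hv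
      | succ d ih =>
        intro v hv
        refine ih v ?_
        rw [← ht (i + d) v, ← hy (i + d)]
        exact congrArg (t (i + d)) hv
    exact htel (c + c₁) _ (by rw [show i + (c + c₁) = c + (c₁ + i) by omega]; exact hg (c₁ + i))

end Groth.Agent.Synt29.FAdicLim
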