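import Groth.Agent.GrLib8.PuncturedLC
import Groth.Agent.QCoh.Ab.LerayNat
import Groth.Agent.Synt29.FAdicLim

/-!
# Sections over a punctured spectrum and `f`-adic limits
-/

set_option autoImplicit false
set_option linter.style.haveILetI false
set_option linter.unusedSectionVars false
set_option backward.isDefEq.respectTransparency false
set_option backward.isDefEq.respectTransparency.types false
set_option maxHeartbeats 1000000

universe u

open CategoryTheory CategoryTheory.Limits AlgebraicGeometry Opposite TopologicalSpace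
open Groth.Agent Groth.Agent.LocCohDepth.Punct
open Groth.Agent.PnCoh.Finite (mapLin deltaLin)

noncomputable section

namespace Groth.Agent.Synt29.FormalSectU

variable {A : Type u} [CommRing A] (U : (Spec (CommRingCat.of A)).Opens)

/-- Sections over `U`. -/
abbrev Γ₀ (N : ModuleCat.{u} (CommRingCat.of A)) : Type u := Coh.HH (U : Scheme.{u}) ((G U).obj N) 0

/-- The map on sections. -/
abbrev m₀ {N M : ModuleCat.{u} (CommRingCat.of A)} (g : N ⟶ M) : Γ₀ U N →ₗ[A] Γ₀ U M :=
  mapLin (CommRingCat.of A) ((G U).map g) 0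

theorem m₀_comp {L N M : ModuleCat.{u} (CommRingCat.of A)} (g : L ⟶ N) (h : N ⟶ M) (x : Γ₀ U L) :
    m₀ U h (m₀ U g x) = m₀ U (g ≫ h) x := by
  rw [m₀, m₀, m₀, Functor.map_comp, mapLin_comp]

variable (f : A)

/-- `N / f^n N`. -/
abbrev Q (N : ModuleCat.{u} (CommRingCat.of A)) (n : ℕ) : ModuleCat.{u} (CommRingCat.of A) :=
  ModuleCat.of (CommRingCat.of A) (N ⧸ ((Ideal.span {f}) ^ n • ⊤ : Submodule A N))

/-- The projection. -/
abbrev q (N : ModuleCat.{u} (CommRingCat.of A)) (n : ℕ) : N ⟶ Q f N n :=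
  ModuleCat.ofHom (Submodule.mkQ ((Ideal.span {f}) ^ n • ⊤ : Submodule A N))

/-- The transition map. -/
abbrev tr (N : ModuleCat.{u} (CommRingCat.of A)) {n m : ℕ} (h : n ≤ m) : Q f N m ⟶ Q f N n :=
  ModuleCat.ofHom (Submodule.mapQ ((Ideal.span {f}) ^ m • ⊤ : Submodule A N) ((Ideal.span {f}) ^ n • ⊤ : Submodule A N)
    LinearMap.id (by
      rw [Submodule.comap_id]
      exact Submodule.smul_mono_left (Ideal.pow_le_pow_right h)))

theorem q_tr (N : ModuleCat.{u} (CommRingCat.of A)) {n m : ℕ} (h : n ≤ m) : q f N m ≫ tr f N h = q f N n :=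
  ModuleCat.hom_ext (LinearMap.ext fun _ => rfl)

theorem tr_tr (N : ModuleCat.{u} (CommRingCat.of A)) {n m l : ℕ} (h : n ≤ m) (h' : m ≤ l) :
    tr f N h' ≫ tr f N h = tr f N (h.trans h') := by
  refine ModuleCat.hom_ext (Submodule.linearMap_qext _ (LinearMap.ext fun _ => rfl))

variable {f}

instance additive_G : (G U).Additive := by
  haveI : (tilde.functor (CommRingCat.of A)).IsLeftAdjoint := (tilde.adjunction (R := CommRingCat.of A)).isLeftAdjoint
  haveI : (tilde.functor (CommRingCat.of A)).PreservesZeroMorphisms :=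
    Functor.preservesZeroMorphisms_of_isLeftAdjoint _
  haveI := preservesBinaryBiproducts_of_preservesBinaryCoproducts (tilde.functor (CommRingCat.of A))
  haveI : (tilde.functor (CommRingCat.of A)).Additive := Functor.additive_of_preservesBinaryBiproducts _
  haveI : (Scheme.Modules.restrictFunctor U.ι).Additive := Functor.additive_of_preserves_binary_products _
  infer_instance

theorem kill_H {N : ModuleCat.{u} (CommRingCat.of A)} (n : ℕ) (h : ∀ z : N, f ^ n • z = 0) (p : ℕ)
    (x : Coh.HH (U : Scheme.{u}) ((G U).obj N) p) : f ^ n • x = 0 := by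
  have e : (f ^ n • 𝟙 N : N ⟶ N) = 0 := ModuleCat.hom_ext (LinearMap.ext fun z => h z)
  rw [← mapLin_smul N (f ^ n) p x, e, Functor.map_zero]
  show Sheaf.H.map ((QCoh.toAbFunctor (U : Scheme.{u})).map 0) p x = 0
  rw [Functor.map_zero]
  show ((Sheaf.functorH _ p).map 0).hom x = 0
  rw [Functor.map_zero]
  rfl

variable [IsNoetherianRing A]

theorem bijective_limit (𝔞 : Ideal A) [IsAdicComplete (Ideal.span {f}) A]
    (N : ModuleCat.{u} (CommRingCat.of A)) [Module.Finite A N]
    (c₁ : ℕ) (h₁ : ∀ x : (localCohomology 𝔞 1).obj N, f ^ c₁ • x = 0)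
    (c₂ : ℕ) (h₂ : ∀ x : (localCohomology 𝔞 2).obj N, f ^ c₂ • x = 0) :
    (∀ g : Γ₀ (LocCoh.puncturedOpen A 𝔞) N, (∀ i, m₀ _ (q f N i) g = 0) → g = 0) ∧
      ∀ y : ∀ i, Γ₀ (LocCoh.puncturedOpen A 𝔞) (Q f N i),
        (∀ i, m₀ _ (tr f N (Nat.le_succ i)) (y (i + 1)) = y i) →
          ∃ g : Γ₀ (LocCoh.puncturedOpen A 𝔞) N, ∀ i, m₀ _ (q f N i) g = y i := by
  let U := LocCoh.puncturedOpen A 𝔞
  -- the stable torsion
  let K : ℕ →o Submodule A N := ⟨fun n => LinearMap.ker ((f ^ n) • LinearMap.id : N →ₗ[A] N),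
    fun m n h x hx => by
      have hx' : f ^ m • x = 0 := hx
      show f ^ n • x = 0
      rw [← Nat.sub_add_cancel h, pow_add, mul_smul, hx', smul_zero]⟩
  obtain ⟨c, hc⟩ := monotone_stabilizes_iff_noetherian.mpr (inferInstance : IsNoetherian A N) K
  have hK : ∀ n, c ≤ n → ∀ x : N, f ^ n • x = 0 → f ^ c • x = 0 := fun n hn x hx => by
    have : x ∈ K n := hx
    rw [← hc n hn] at this
    exact this
  let T : Submodule A N := K c
  let Tn : ModuleCat.{u} (CommRingCat.of A) := ModuleCat.of (CommRingCat.of A) T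
  let M' : ModuleCat.{u} (CommRingCat.of A) := ModuleCat.of (CommRingCat.of A) (N ⧸ T)
  let ι₀ : M' ⟶ N := ModuleCat.ofHom (T.liftQ ((f ^ c) • LinearMap.id : N →ₗ[A] N) le_rfl)
  let ι : ℕ → (M' ⟶ N) := fun n => ι₀ ≫ (f ^ (n - c) • 𝟙 N)
  have hι : ∀ n, c ≤ n → ∀ x : N, (ι n).hom (Submodule.Quotient.mk x) = f ^ n • x := fun n hn x => by
    show f ^ (n - c) • (f ^ c • x) = _
    rw [← mul_smul, ← pow_add, Nat.sub_add_cancel hn]
  let E : ∀ n, c ≤ n → ShortComplex (ModuleCat.{u} (CommRingCat.of A)) := fun n hn =>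
    ShortComplex.mk (ι n) (q f N n) (by
      refine ModuleCat.hom_ext (Submodule.linearMap_qext _ (LinearMap.ext fun x => ?_))
      show Submodule.Quotient.mk ((ι n).hom (Submodule.Quotient.mk x)) = 0
      rw [hι n hn, Submodule.Quotient.mk_eq_zero, FAdicLim.mem_pow_span]
      exact ⟨x, rfl⟩)
  have hE : ∀ n hn, (E n hn).ShortExact := fun n hn =>
    { exact := by
        rw [ShortComplex.moduleCat_exact_iff]
        intro x hx
        obtain ⟨z, hz⟩ := (FAdicLim.mem_pow_span f n x).1 ((Submodule.Quotient.mk_eq_zero _).1 hx)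
        exact ⟨Submodule.Quotient.mk z, (hι n hn z).trans hz.symm⟩
      mono_f := (ModuleCat.mono_iff_injective _).2 (by
        intro a b hab
        induction a using Submodule.Quotient.induction_on with | _ a => ?_
        induction b using Submodule.Quotient.induction_on with | _ b => ?_
        replace hab : (ι n).hom (Submodule.Quotient.mk a) = (ι n).hom (Submodule.Quotient.mk b) := hab
        rw [hι n hn, hι n hn] at hab
        refine (Submodule.Quotient.eq T).2 ?_
        show a - b ∈ K c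
        exact hK n hn (a - b) (by rw [smul_sub, hab, sub_self]))
      epi_g := (ModuleCat.epi_iff_surjective _).2 (Submodule.mkQ_surjective _) }
  -- `H¹(U, N)` and `H¹(U, M')` are killed by powers of `f`
  have hN1 : ∀ x : Coh.HH (U : Scheme.{u}) ((G U).obj N) 1, f ^ c₂ • x = 0 := fun x => by
    obtain ⟨e⟩ := GrLib8.PuncturedLC.nonempty_HH_succ 𝔞 0 N
    exact e.injective ((e.map_smul (f ^ c₂) x).trans ((h₂ (e x)).trans (map_zero e).symm))
  let S : ShortComplex (ModuleCat.{u} (CommRingCat.of A)) :=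
    ShortComplex.mk (ModuleCat.ofHom T.subtype : Tn ⟶ N) (ModuleCat.ofHom T.mkQ : N ⟶ M')
      (ModuleCat.hom_ext (LinearMap.ext fun x => (Submodule.Quotient.mk_eq_zero _).2 x.2))
  have hS : S.ShortExact :=
    { exact := by
        rw [ShortComplex.moduleCat_exact_iff]
        intro x hx
        exact ⟨⟨x, (Submodule.Quotient.mk_eq_zero _).1 hx⟩, rfl⟩
      mono_f := (ModuleCat.mono_iff_injective _).2 T.injective_subtype
      epi_g := (ModuleCat.epi_iff_surjective _).2 (Submodule.mkQ_surjective _) }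
  have hM1 : ∀ x : Coh.HH (U : Scheme.{u}) ((G U).obj M') 1, f ^ (c₂ + c) • x = 0 := fun x => by
    let δ := deltaLin (CommRingCat.of A) (GrLib8.PuncturedLC.shortExact_G U hS) 1
    have hδ : δ (f ^ c • x) = 0 := by
      rw [LinearMap.map_smul]
      exact kill_H U c (N := Tn) (fun z => Subtype.ext (show f ^ c • (z.1 : N) = 0 from z.2)) 2 _
    have hker := CurveCohLib.ker_deltaLin (CommRingCat.of A) (GrLib8.PuncturedLC.shortExact_G U hS) 1
    obtain ⟨y, hy⟩ := hker.le (LinearMap.mem_ker.2 hδ)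
    rw [pow_add, mul_smul]
    refine (congrArg (fun t => f ^ c₂ • t) hy.symm).trans ?_
    exact ((LinearMap.map_smul _ (f ^ c₂) y).symm.trans ((congrArg _ (hN1 y)).trans (map_zero _)))
  refine FAdicLim.bijective_limit f (GrLib8.PuncturedLC.cmap U N) c₁ ?_ (fun i => m₀ U (q f N i))
    (fun i => m₀ U (tr f N (Nat.le_succ i))) (fun i g => by rw [m₀_comp, q_tr]) ?_ c ?_ ?_
  · intro g
    obtain ⟨e⟩ := GrLib8.PuncturedLC.nonempty_H1 𝔞 N
    have : (LinearMap.range (GrLib8.PuncturedLC.cmap U N)).mkQ (f ^ c₁ • g) = 0 := by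
      apply e.injective
      rw [LinearMap.map_smul]
      exact (e.map_smul (f ^ c₁) _).trans ((h₁ _).trans (map_zero e).symm)
    obtain ⟨n, hn⟩ := (Submodule.Quotient.mk_eq_zero _).1 this
    exact ⟨n, hn.symm⟩
  · intro i x
    refine kill_H U i (N := Q f N i) (fun z => ?_) 0 x
    induction z using Submodule.Quotient.induction_on with | _ z => ?_
    exact (Submodule.Quotient.mk_eq_zero _).2 ((FAdicLim.mem_pow_span f i _).2 ⟨z, rfl⟩)
  · intro n hn g hg
    have hk := (GrLib8.PuncturedLC.mapG_exact₀ U (hE n hn)).2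
    obtain ⟨z, hz⟩ := hk.le (LinearMap.mem_ker.2 hg)
    refine ⟨m₀ U ι₀ z, hz.symm.trans ?_⟩
    rw [← mapLin_smul N (f ^ (n - c)) 0 (m₀ U ι₀ z)]
    exact (m₀_comp U ι₀ (f ^ (n - c) • 𝟙 N) z).symm
  · intro y hy n hn
    let d := c₂ + c
    have hnd : c ≤ n + d := hn.trans (Nat.le_add_right _ _)
    have hyd : ∀ e, m₀ U (tr f N (Nat.le_add_right n e)) (y (n + e)) = y n := fun e => by
      induction e with
      | zero =>
        have : tr f N (Nat.le_add_right n 0) = 𝟙 _ :=
          ModuleCat.hom_ext (Submodule.linearMap_qext _ (LinearMap.ext fun _ => rfl))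
        rw [this, m₀, CategoryTheory.Functor.map_id]
        exact mapLin_id _ 0 _
      | succ e ih =>
        show m₀ U (tr f N ((Nat.le_add_right n e).trans (Nat.le_succ (n + e)))) (y (n + e + 1)) = y n
        refine (LinearMap.congr_fun (congrArg (m₀ U) (tr_tr f N (Nat.le_add_right n e) (Nat.le_succ (n + e)))).symm
          (y (n + e + 1))).trans ?_
        rw [← m₀_comp, hy (n + e)]
        exact ih
    let τ : E (n + d) hnd ⟶ E n hn :=
      { τ₁ := f ^ d • 𝟙 M'
        τ₂ := 𝟙 N
        τ₃ := tr f N (Nat.le_add_right n d)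
        comm₁₂ := by
          refine ModuleCat.hom_ext (Submodule.linearMap_qext _ (LinearMap.ext fun x => ?_))
          show (ι n).hom (f ^ d • Submodule.Quotient.mk x) = (ι (n + d)).hom (Submodule.Quotient.mk x)
          rw [map_smul, hι n hn, hι (n + d) hnd, ← mul_smul, ← pow_add, add_comm d n]
        comm₂₃ := by
          show 𝟙 N ≫ q f N n = q f N (n + d) ≫ tr f N (Nat.le_add_right n d)
          rw [Category.id_comp, q_tr] }
    have hδ : deltaLin (CommRingCat.of A) (GrLib8.PuncturedLC.shortExact_G U (hE n hn)) 0 (y n) = 0 := by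
      rw [← hyd d]
      refine (QCoh.Ab.connecting_naturality (X := (U : Scheme.{u}).toPresheafedSpace.carrier)
        (QCoh.toAb_shortExact (GrLib8.PuncturedLC.shortExact_G U (hE (n + d) hnd)))
        (QCoh.toAb_shortExact (GrLib8.PuncturedLC.shortExact_G U (hE n hn)))
        ((QCoh.toAbFunctor (U : Scheme.{u})).mapShortComplex.map ((G U).mapShortComplex.map τ)) 0 (y (n + d))).symm.trans ?_
      exact (mapLin_smul M' (f ^ d) 1 _).trans (hM1 _)
    obtain ⟨g, hg⟩ := (CurveCohLib.ker_deltaLin (CommRingCat.of A) (GrLib8.PuncturedLC.shortExact_G U (hE n hn)) 0).le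
      (LinearMap.mem_ker.2 hδ)
    exact ⟨g, hg⟩

end Groth.Agent.Synt29.FormalSectU
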