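import Groth.Prelude.Def_Formal
import Groth.Agent.SheafHomX.Main
import Groth.Agent.Synt29.FormalSectU

/-!
# The structure sheaf of a punctured spectrum is `f`-adically complete
-/

set_option autoImplicit false
set_option linter.style.haveILetI false
set_option linter.unusedSectionVars false
set_option backward.isDefEq.respectTransparency false
set_option backward.isDefEq.respectTransparency.types false
set_option maxHeartbeats 1000000

universe u

open CategoryTheory CategoryTheory.Limits AlgebraicGeometry Opposite TopologicalSpace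
open Groth.Agent Groth.Agent.LocCohDepth.Punct
open Groth.Agent.PnCoh.Finite (mapLin deltaLin)

noncomputable section

namespace Groth.Agent.Synt29.FormalSectO

variable {A : Type u} [CommRing A] (f : A) (U : (Spec (CommRingCat.of A)).Opens)

theorem smulMod_G (N : ModuleCat.{u} (CommRingCat.of A)) (a : A) :
    Formal.smulMod A ((G U).obj N) a = (G U).map (a • 𝟙 N) := by
  letI := overSelf (CommRingCat.of A)
  refine (Algz7.restrict_smulMod U.ι rfl (tilde N) a).symm.trans ?_
  show _ = (Scheme.Modules.restrictFunctor U.ι).map (tilde.map (a • 𝟙 N))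
  exact congrArg (Scheme.Modules.restrictFunctor U.ι).map (tilde_smul (R := CommRingCat.of A) N a).symm

theorem exists_quotIso {M : (U : Scheme.{u}).Modules} {N : ModuleCat.{u} (CommRingCat.of A)}
    (u : M ≅ (G U).obj N) (n : ℕ) :
    ∃ e : Formal.modPow (Ideal.span {f}) n M ≅ (G U).obj (FormalSectU.Q f N n),
      Formal.modPowπ (Ideal.span {f}) n M ≫ e.hom = u.hom ≫ (G U).map (FormalSectU.q f N n) := by
  let J : Ideal A := Ideal.span {f} ^ n
  let π := Formal.modPowπ (Ideal.span {f}) n M
  let q := FormalSectU.q f N n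
  obtain ⟨c, hc⟩ := SheafHomX.exists_desc (Ideal.span {f}) n (u.hom ≫ (G U).map q) fun a ha => by
    rw [← Category.assoc, FFun.smulMod_naturality, Category.assoc, smulMod_G, ← Functor.map_comp]
    have : (a • 𝟙 N) ≫ q = 0 := ModuleCat.hom_ext (LinearMap.ext fun x =>
      (Submodule.Quotient.mk_eq_zero _).2 (Submodule.smul_mem_smul ha (show x ∈ (⊤ : Submodule A N) from trivial)))
    rw [this, Functor.map_zero, comp_zero]
  let B : Submodule A N := (Ideal.span {f}) ^ n • ⊤
  let S : ShortComplex (ModuleCat.{u} (CommRingCat.of A)) :=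
    ShortComplex.mk (ModuleCat.ofHom B.subtype : ModuleCat.of (CommRingCat.of A) B ⟶ N) q
      (ModuleCat.hom_ext (LinearMap.ext fun x => (Submodule.Quotient.mk_eq_zero _).2 x.2))
  have hS : S.ShortExact :=
    { exact := by
        rw [ShortComplex.moduleCat_exact_iff]
        intro x hx
        exact ⟨⟨x, (Submodule.Quotient.mk_eq_zero _).1 hx⟩, rfl⟩
      mono_f := (ModuleCat.mono_iff_injective _).2 B.injective_subtype
      epi_g := (ModuleCat.epi_iff_surjective _).2 (Submodule.mkQ_surjective _) }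
  have hGS := GrLib8.PuncturedLC.shortExact_G U hS
  let p : N ⟶ ModuleCat.of (CommRingCat.of A) B := ModuleCat.ofHom
    (((f ^ n) • LinearMap.id : N →ₗ[A] N).codRestrict B fun x => (FAdicLim.mem_pow_span f n _).2 ⟨x, rfl⟩)
  have hp : Epi p := (ModuleCat.epi_iff_surjective _).2 fun ⟨y, hy⟩ => by
    obtain ⟨z, rfl⟩ := (FAdicLim.mem_pow_span f n y).1 hy
    exact ⟨z, rfl⟩
  haveI := hp
  haveI : (tilde.functor (CommRingCat.of A)).IsLeftAdjoint := (tilde.adjunction (R := CommRingCat.of A)).isLeftAdjoint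
  haveI : Epi ((G U).map p) := (G U).map_epi p
  have hk : (S.map (G U)).f ≫ u.inv ≫ π = 0 := by
    rw [← cancel_epi ((G U).map p), comp_zero]
    show (G U).map p ≫ (G U).map S.f ≫ u.inv ≫ π = 0
    rw [← Category.assoc, ← Functor.map_comp, show p ≫ S.f = f ^ n • 𝟙 N from rfl, ← smulMod_G,
      ← Category.assoc, FFun.smulMod_naturality u.inv, Category.assoc]
    exact (congrArg (u.inv ≫ ·) (Algz7.smulMod_comp_eq_zero (cokernel.condition (Formal.smulFamily J M))
      (Ideal.pow_mem_pow (Ideal.mem_span_singleton_self f) n))).trans comp_zero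
  haveI := hGS.epi_g
  let d : (S.map (G U)).X₃ ⟶ Formal.modPow (Ideal.span {f}) n M := hGS.exact.desc (u.inv ≫ π) hk
  have hd : (G U).map q ≫ d = u.inv ≫ π := hGS.exact.g_desc _ _
  haveI : Epi π := inferInstanceAs (Epi (cokernel.π _))
  haveI : Epi ((G U).map q) := hGS.epi_g
  refine ⟨⟨c, d, ?_, ?_⟩, hc⟩
  · rw [← cancel_epi π, ← Category.assoc, hc, Category.assoc, hd, Iso.hom_inv_id_assoc, Category.comp_id]
  · rw [← cancel_epi ((G U).map q), ← Category.assoc, hd, Category.assoc, hc, Iso.inv_hom_id_assoc, Category.comp_id]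

theorem exists_unitIso :
    Nonempty (Coh.structureModule (U : Scheme.{u}) ≅ (G U).obj (ModuleCat.of (CommRingCat.of A) A)) := by
  obtain ⟨e0⟩ := PicClLib.nonempty_pullback_structureModule U.ι
  exact ⟨((Scheme.Modules.restrictFunctorIsoPullback U.ι).app _ ≪≫ e0).symm⟩

theorem toHHlim_apply (I : Ideal A) (M : (U : Scheme.{u}).Modules) (n : ℕ)
    (x : Coh.HH (U : Scheme.{u}) M 0) :
    (Formal.toHHlim I M 0 x).1 n = mapLin (CommRingCat.of A) (Formal.modPowπ I (n + 1) M) 0 x := rfl

theorem cancel_iso {M M' : (U : Scheme.{u}).Modules} (e : M ≅ M') (x : Coh.HH (U : Scheme.{u}) M 0) :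
    mapLin (CommRingCat.of A) e.inv 0 (mapLin (CommRingCat.of A) e.hom 0 x) = x :=
  (mapLin_comp e.hom e.inv 0 x).symm.trans
    ((congrArg (fun t => mapLin (CommRingCat.of A) t 0 x) e.hom_inv_id).trans (mapLin_id M 0 x))

theorem bijective_toHHlim_O [IsNoetherianRing A] (𝔞 : Ideal A) [IsAdicComplete (Ideal.span {f}) A]
    (c₁ : ℕ) (h₁ : ∀ x : (localCohomology 𝔞 1).obj (ModuleCat.of (CommRingCat.of A) A), f ^ c₁ • x = 0)
    (c₂ : ℕ) (h₂ : ∀ x : (localCohomology 𝔞 2).obj (ModuleCat.of (CommRingCat.of A) A), f ^ c₂ • x = 0) :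
    Function.Bijective (Formal.toHHlim (Ideal.span {f})
      (Coh.structureModule (LocCoh.puncturedOpen A 𝔞 : Scheme.{u})) 0) := by
  let U := LocCoh.puncturedOpen A 𝔞
  let I := Ideal.span {f}
  let N : ModuleCat.{u} (CommRingCat.of A) := ModuleCat.of (CommRingCat.of A) A
  haveI : Module.Finite A N := inferInstanceAs (Module.Finite A A)
  obtain ⟨hinj, hsurj⟩ := FormalSectU.bijective_limit (f := f) 𝔞 N c₁ h₁ c₂ h₂
  obtain ⟨u⟩ := exists_unitIso (A := A) U
  choose e he using fun n => exists_quotIso f U u n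
  let μ : FormalSectU.Γ₀ U N →ₗ[A] Coh.HH (U : Scheme.{u}) (Coh.structureModule (U : Scheme.{u})) 0 :=
    mapLin (CommRingCat.of A) u.inv 0
  have hμ : ∀ (n : ℕ) (g : FormalSectU.Γ₀ U N),
      mapLin (CommRingCat.of A) (e n).hom 0 (mapLin (CommRingCat.of A)
        (Formal.modPowπ I n (Coh.structureModule (U : Scheme.{u}))) 0 (μ g)) = FormalSectU.m₀ U (FormalSectU.q f N n) g := by
    intro n g
    refine (mapLin_comp _ _ 0 _).symm.trans ((mapLin_comp _ _ 0 g).symm.trans ?_)
    refine congrArg (fun t => mapLin (CommRingCat.of A) t 0 g) ?_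
    rw [he n, Iso.inv_hom_id_assoc]
  have hμb : Function.Bijective μ :=
    ⟨fun a b h => (cancel_iso U u.symm a).symm.trans
      ((congrArg (mapLin (CommRingCat.of A) u.hom 0) h).trans (cancel_iso U u.symm b)),
    fun x => ⟨mapLin (CommRingCat.of A) u.hom 0 x, cancel_iso U u x⟩⟩
  have heI : ∀ n, Function.Injective (mapLin (CommRingCat.of A) (e n).hom 0) := fun n a b h =>
    (cancel_iso U (e n) a).symm.trans ((congrArg (mapLin (CommRingCat.of A) (e n).inv 0) h).trans (cancel_iso U (e n) b))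
  refine ⟨(injective_iff_map_eq_zero _).2 fun x hx => ?_, fun y => ?_⟩
  · obtain ⟨g, rfl⟩ := hμb.2 x
    have hx' : ∀ n, FormalSectU.m₀ U (FormalSectU.q f N (n + 1)) g = 0 := fun n => by
      have h0 : mapLin (CommRingCat.of A) (Formal.modPowπ I (n + 1) (Coh.structureModule (U : Scheme.{u}))) 0 (μ g) = 0 := by
        rw [← toHHlim_apply, hx]
        rfl
      refine (hμ (n + 1) g).symm.trans ?_
      rw [h0]
      exact map_zero _
    rw [hinj g fun i => ?_, map_zero]
    rcases i with _ | i
    · rw [← FormalSectU.q_tr f N (Nat.le_succ 0), ← FormalSectU.m₀_comp, hx' 0, map_zero]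
    · exact hx' i
  · let y₁ : ∀ n, FormalSectU.Γ₀ U (FormalSectU.Q f N (n + 1)) := fun n =>
      mapLin (CommRingCat.of A) (e (n + 1)).hom 0 (y.1 n)
    let y' : ∀ i, FormalSectU.Γ₀ U (FormalSectU.Q f N i) := fun i =>
      match i with
      | 0 => FormalSectU.m₀ U (FormalSectU.tr f N (Nat.le_succ 0)) (y₁ 0)
      | i + 1 => y₁ i
    have ht : ∀ n, (e (n + 1)).hom ≫ (G U).map (FormalSectU.tr f N (Nat.le_succ n)) =
        Formal.modPowTrans I n (Coh.structureModule (U : Scheme.{u})) ≫ (e n).hom := fun n => by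
      haveI : Epi (Formal.modPowπ I (n + 1) (Coh.structureModule (U : Scheme.{u}))) :=
        inferInstanceAs (Epi (cokernel.π _))
      rw [← cancel_epi (Formal.modPowπ I (n + 1) (Coh.structureModule (U : Scheme.{u}))), ← Category.assoc,
        he (n + 1), Category.assoc, ← Functor.map_comp, FormalSectU.q_tr, ← Category.assoc,
        Formal.modPowπ_trans, he n]
    obtain ⟨g, hg⟩ := hsurj y' fun i => by
      rcases i with _ | i
      · rfl
      · show FormalSectU.m₀ U (FormalSectU.tr f N (Nat.le_succ (i + 1))) (y₁ (i + 1)) = y₁ i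
        refine (mapLin_comp _ _ 0 (y.1 (i + 1))).symm.trans ?_
        rw [ht (i + 1), mapLin_comp]
        exact congrArg _ (y.2 i)
    refine ⟨μ g, Subtype.ext (funext fun n => heI (n + 1) ?_)⟩
    rw [toHHlim_apply]
    exact (hμ (n + 1) g).trans (hg (n + 1))

end Groth.Agent.Synt29.FormalSectO
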