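import Mathlib
import Groth.Agent.SiteBase.DLim.Trunc
import Groth.Agent.SiteBase.DLim.Single

/-! Vanishing of the hypercohomology of a bounded complex from that of its terms. -/

set_option autoImplicit false
set_option linter.style.haveILetI false

universe u

open CategoryTheory CategoryTheory.Limits Abelian DerivedCategory

namespace Groth.Agent.Synt29.HyperVanish

variable {C : Type u} [SmallCategory C] {J : GrothendieckTopology C}
  [HasDerivedCategory.{u} (Sheaf J AddCommGrpCat.{u})]

theorem subsingleton_single (G : Sheaf J AddCommGrpCat.{u}) (b n : ℤ) (U : C)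
    (h : ∀ q : ℕ, b + q = n → Subsingleton (CohSite.HU G q U)) :
    Subsingleton (CohCx.HDU (Q.obj ((HomologicalComplex.single (Sheaf J AddCommGrpCat.{u}) (ComplexShape.up ℤ) b).obj G)) n U) := by
  let K : CochainComplex (Sheaf J AddCommGrpCat.{u}) ℤ := (HomologicalComplex.single (Sheaf J AddCommGrpCat.{u}) (ComplexShape.up ℤ) b).obj G
  have hz : ∀ i, i ≠ b → IsZero (K.X i) := fun i hi => HomologicalComplex.isZero_single_obj_X _ _ _ _ hi
  haveI : K.IsStrictlyGE b := (CochainComplex.isStrictlyGE_iff K b).2 fun i hi => hz i (by omega)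
  haveI : K.IsStrictlyLE b := (CochainComplex.isStrictlyLE_iff K b).2 fun i hi => hz i (by omega)
  haveI : (Q.obj K).IsGE b := inferInstance
  haveI : (Q.obj K).IsLE b := inferInstance
  rcases lt_or_ge n b with hnb | hnb
  · exact DLim.subsingleton_HDU_of_isGE (Q.obj K) b n hnb U
  · obtain ⟨q, hq⟩ : ∃ q : ℕ, b + q = n := ⟨(n - b).toNat, by omega⟩
    refine DLim.subsingleton_HDU_of_heart (Q.obj K) b U q n hq (DLim.subsingleton_of_ext_iso ?_ (h q hq))
    exact ((homologyFunctorFactors _ b).app K ≪≫
      HomologicalComplex.singleObjHomologySelfIso (ComplexShape.up ℤ) b G).symm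

set_option backward.isDefEq.respectTransparency false in
set_option backward.isDefEq.respectTransparency.types false in
/-- Stupid truncation induction. -/
theorem subsingleton_HDU (n a : ℤ) (U : C) :
    ∀ (d : ℕ) (K : CochainComplex (Sheaf J AddCommGrpCat.{u}) ℤ), (∀ i, i < a → IsZero (K.X i)) →
      (∀ i, a + d ≤ i → IsZero (K.X i)) →
      (∀ (i : ℤ) (q : ℕ), i + q = n → Subsingleton (CohSite.HU (K.X i) q U)) →
      Subsingleton (CohCx.HDU (Q.obj K) n U) := by
  intro d
  induction d with
  | zero =>
    intro K h1 h2 _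
    have hK : IsZero K := by
      rw [IsZero.iff_id_eq_zero]
      refine HomologicalComplex.hom_ext _ _ fun i => ?_
      exact (by
        rcases lt_or_ge i a with hi | hi
        · exact h1 i hi
        · exact h2 i (by simpa using hi) : IsZero (K.X i)).eq_of_src _ _
    have : IsZero ((shiftFunctor (DerivedCategory (Sheaf J AddCommGrpCat.{u})) n).obj (Q.obj K)) :=
      Functor.map_isZero _ (Functor.map_isZero _ hK)
    exact ⟨fun x y => this.eq_of_tgt x y⟩
  | succ d ih =>
    intro K h1 h2 h
    let b : ℤ := a + d
    have hd : ∀ j, (ComplexShape.up ℤ).Rel b j → 𝟙 (K.X b) ≫ K.d b j = 0 := fun j hj =>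
      (h2 j (by simp at hj; omega)).eq_of_tgt _ _
    let s := (HomologicalComplex.single (Sheaf J AddCommGrpCat.{u}) (ComplexShape.up ℤ) b).obj (K.X b)
    let φ : s ⟶ K := HomologicalComplex.mkHomFromSingle (𝟙 (K.X b)) hd
    haveI : IsIso (φ.f b) := by
      rw [HomologicalComplex.mkHomFromSingle_f]
      infer_instance
    have hφ : ∀ i, i ≠ b → IsZero (s.X i) := fun i hi => HomologicalComplex.isZero_single_obj_X _ _ _ _ hi
    haveI : ∀ i, Mono (φ.f i) := fun i => by
      rcases eq_or_ne i b with rfl | hi
      · infer_instance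
      · exact ⟨fun g g' _ => (hφ i hi).eq_of_tgt g g'⟩
    haveI : Mono φ := HomologicalComplex.mono_of_mono_f φ inferInstance
    let S : ShortComplex (CochainComplex (Sheaf J AddCommGrpCat.{u}) ℤ) :=
      ShortComplex.mk φ (cokernel.π φ) (cokernel.condition φ)
    haveI : CategoryWithHomology (CochainComplex (Sheaf J AddCommGrpCat.{u}) ℤ) :=
      categoryWithHomology_of_abelian (C := CochainComplex (Sheaf J AddCommGrpCat.{u}) ℤ)
    haveI : S.HasHomology := CategoryWithHomology.hasHomology S
    have hS : S.ShortExact :=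
      { exact := ShortComplex.exact_of_g_is_cokernel S (cokernelIsCokernel φ)
        mono_f := inferInstanceAs (Mono φ)
        epi_g := inferInstanceAs (Epi (cokernel.π φ)) }
    have hSi := fun i => (HomologicalComplex.shortExact_iff_degreewise_shortExact S).1 hS i
    have hiso : ∀ i, i ≠ b → IsIso ((cokernel.π φ).f i) := fun i hi => by
      haveI : Mono ((cokernel.π φ).f i) := (hSi i).exact.mono_g ((hφ i hi).eq_of_src _ _)
      haveI : Epi ((cokernel.π φ).f i) := (hSi i).epi_g
      exact isIso_of_mono_of_epi _
    have hzero : IsZero ((cokernel φ).X b) := by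
      haveI : Epi ((cokernel.π φ).f b) := (hSi b).epi_g
      have h0 : φ.f b ≫ (cokernel.π φ).f b = 0 := by
        rw [← HomologicalComplex.comp_f, cokernel.condition]; rfl
      rw [IsZero.iff_id_eq_zero, ← cancel_epi ((cokernel.π φ).f b), ← cancel_epi (φ.f b)]
      simp [reassoc_of% h0, h0]
    have hC : Subsingleton (CohCx.HDU (Q.obj (cokernel φ)) n U) := by
      refine ih (cokernel φ) (fun i hi => ?_) (fun i hi => ?_) fun i q hiq => ?_
      · haveI := hiso i (by omega)
        exact (h1 i hi).of_iso (asIso ((cokernel.π φ).f i)).symm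
      · rcases eq_or_ne i b with rfl | hi'
        · exact hzero
        · haveI := hiso i hi'
          exact (h2 i (by omega)).of_iso (asIso ((cokernel.π φ).f i)).symm
      · rcases eq_or_ne i b with rfl | hi'
        · exact DLim.subsingleton_HU_of_isZero hzero q U
        · haveI := hiso i hi'
          exact DLim.subsingleton_of_ext_iso (asIso ((cokernel.π φ).f i)) (h i q hiq)
    have hA := subsingleton_single (K.X b) b n U fun q hq => h b q hq
    refine subsingleton_of_forall_eq 0 fun x => ?_
    obtain ⟨y, rfl⟩ := DLim.exact₂_shift (triangleOfSES hS) (triangleOfSES_distinguished hS) n x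
      (@Subsingleton.elim _ hC _ _)
    rw [show y = 0 from @Subsingleton.elim _ hA y 0, zero_comp]

end Groth.Agent.Synt29.HyperVanish
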