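import Mathlib
import Groth.Prelude.Def_DeRham2
import Groth.Agent.Synt29.HyperVanish
import Groth.Agent.Synt29.SmoothDim
import Groth.Agent.Lib.SmoothAdapted
import Groth.Agent.H28.ExtSh
import Groth.Agent.QCoh.LocFree
import Groth.Agent.QCoh.CechStd
import Groth.Agent.SiteBase.Global
import Groth.Agent.S1488
import Groth.Agent.S5018
import Groth.Agent.S0458
import Groth.Agent.Lib.Euler
import Groth.Agent.KFlatLib.Scheme.QCohD

/-! Vanishing of de Rham cohomology in high degrees. -/

set_option autoImplicit false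
set_option linter.style.haveILetI false
set_option backward.isDefEq.respectTransparency false
set_option backward.isDefEq.respectTransparency.types false

universe u

open CategoryTheory CategoryTheory.Limits AlgebraicGeometry TopologicalSpace Opposite

namespace Groth.Agent.Synt29.DRVanish

theorem subsingleton_exteriorPower {A M : Type u} [CommRing A] [AddCommGroup M] [Module A M] {m p : ℕ}
    (b : Module.Basis (Fin m) A M) (hp : m < p) : Subsingleton ↥(⋀[A]^p M) := by
  refine subsingleton_of_forall_eq 0 fun x => ?_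
  have hx : x ∈ Submodule.span A (Set.range (exteriorPower.ιMulti A p (M := M))) :=
    (exteriorPower.ιMulti_span A p M) ▸ Submodule.mem_top
  induction hx using Submodule.span_induction with
  | mem y hy =>
    obtain ⟨e, rfl⟩ := hy
    have : exteriorPower.ιMulti A p (M := M) = 0 := by
      refine Module.Basis.ext_alternating b fun v hv => ?_
      have := Fintype.card_le_of_injective v hv
      simp at this
      omega
    rw [this]; rfl
  | zero => rfl
  | add y z _ _ hy hz => rw [hy, hz, add_zero]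
  | smul c y _ hy => rw [hy, smul_zero]

variable {k : Type u} [Field k] {X : Scheme.{u}} (f : X ⟶ Spec (CommRingCat.of k)) [Smooth f]

theorem fibreDimAt_le {n : ℕ} (hn : topologicalKrullDim ↥X ≤ n) (x : X) : FlatMor.fibreDimAt f x ≤ n := by
  refine (iInf_le _ (⟨⊤, trivial⟩ : {U : TopologicalSpace.Opens (f.fiber (f.base x)) // f.asFiber x ∈ U})).trans ?_
  refine (topologicalKrullDim_subspace_le _ _).trans (le_trans ?_ hn)
  exact (f.fiberι (f.base x)).isEmbedding.isInducing.topologicalKrullDim_le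

variable [QuasiSeparated f]

theorem exists_frame_le {n : ℕ} (hn : topologicalKrullDim ↥X ≤ n) (x : X) :
    ∃ (V : X.Opens) (m : ℕ) (_ : m ≤ n) (s : Fin m → Γ(Omega.sheaf f, V)),
      x ∈ V ∧ H23.Frame.IsFrame (Omega.sheaf f) s := by
  obtain ⟨U, hU, V, hV, e, m, hxV, hstd, -, hdim⟩ := SmoothDim.exists_chart f x
  have hm : m ≤ n := by
    have := hdim ▸ fibreDimAt_le f hn x
    exact_mod_cast this
  refine ⟨V, m, hm, ?_⟩
  letI := (f.appLE U V e).hom.toAlgebra
  haveI : Algebra.IsStandardSmoothOfRelativeDimension m Γ(Spec (CommRingCat.of k), U) Γ(X, V) := hstd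
  haveI : Algebra.IsStandardSmooth Γ(Spec (CommRingCat.of k), U) Γ(X, V) :=
    Algebra.IsStandardSmoothOfRelativeDimension.isStandardSmooth m
  haveI : Nontrivial Γ(X, V) := by
    refine ⟨⟨0, 1, fun h => ?_⟩⟩
    have h1 := congrArg (X.presheaf.germ V x hxV) h
    rw [map_zero, map_one] at h1
    exact zero_ne_one h1
  have hr : Module.finrank Γ(X, V) Ω[Γ(X, V)⁄Γ(Spec (CommRingCat.of k), U)] = m := by
    have := Algebra.IsStandardSmoothOfRelativeDimension.rank_kaehlerDifferential
      (R := Γ(Spec (CommRingCat.of k), U)) (S := Γ(X, V)) m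
    simp [Module.finrank, this]
  let b := (Module.finBasisOfFinrankEq Γ(X, V) Ω[Γ(X, V)⁄Γ(Spec (CommRingCat.of k), U)] hr).reindex Equiv.ulift.symm
  obtain ⟨i⟩ := QCoh.exists_free_restrict (OmegaUniv.isQCoh_omega f) hV
    ((SmoothAdapted.secEquiv f hV hU e).symm.trans b.repr)
  obtain ⟨s, hs⟩ := H23.Frame.exists_frame i
  exact ⟨s, hxV, hs⟩

theorem isFinLocFree_omega : FlatMod.IsFinLocFree (Omega.sheaf f) :=
  S5018.result f ((S1488.result _).1 inferInstance).2 _ _ (OmegaUniv.isUniversal_dOmega _)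

theorem isQCoh_term (D : DeRhamSh.OmegaCx f) (p : ℕ) : Coh.IsQCoh (D.term p) := by
  obtain ⟨e⟩ := H28.ExtSh.nonempty_iso_L (isFinLocFree_omega f) (D.isExtPow p)
  exact KFlatLib.isQCoh_of_iso e (QCoh.isQCoh_of_isFinLocFree (H28.ExtSh.isFinLocFree_L p (isFinLocFree_omega f)))

theorem isZero_term {n : ℕ} (hn : topologicalKrullDim ↥X ≤ n) (D : DeRhamSh.OmegaCx f) (p : ℕ) (hp : n < p) :
    IsZero (D.term p) := by
  refine QCoh.isZero_of_app_eq_zero (isQCoh_term f D p) fun U y => ?_
  refine AModX.eq_of_locally y 0 fun z hz => ?_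
  obtain ⟨V, m, hm, s, hzV, hs⟩ := exists_frame_le f hn z
  obtain ⟨W, hW, hzW, hWle⟩ := exists_isAffineOpen_mem_and_subset (U := U.1 ⊓ V) (x := z) ⟨hz, hzV⟩
  have hWU : W ≤ U.1 := fun w hw => (hWle hw).1
  have hWV : W ≤ V := fun w hw => (hWle hw).2
  refine ⟨W, hWU, hzW, ?_⟩
  haveI : Subsingleton ↥(⋀[Γ(X, W)]^p Γ(Omega.sheaf f, W)) := subsingleton_exteriorPower
    (Module.Basis.ofEquivFun (LinearEquiv.ofBijective (PinchPO7.combₗ (Omega.sheaf f) s W hWV) (hs W hWV)).symm)
    (hm.trans_lt hp)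
  exact (D.loc p ⟨W, hW⟩).injective (Subsingleton.elim _ _)

theorem subsingleton_HdR {Y S : Scheme.{u}} {g : Y ⟶ S} {Ω' : Y.Modules} {δ : OmegaSh.Der g Ω'}
    (D : DeRhamSh.Cx g Ω' δ)
    [HasDerivedCategory.{u} (Sheaf (Opens.grothendieckTopology ↥Y) AddCommGrpCat.{u})] (N : ℕ) (n : ℤ)
    (hz : ∀ p, N ≤ p → IsZero (D.term p))
    (h : ∀ p q : ℕ, (p : ℤ) + q = n → Subsingleton (Coh.HH Y (D.term p) q)) :
    Subsingleton (DeRhamSh.HdR D n) := by
  have hX : ∀ p : ℕ, D.KZ.X (p : ℤ) ≅ Coh.toAb (D.term p) := fun p =>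
    D.K.extendXIso ComplexShape.embeddingUpNat (i := p) rfl ≪≫ D.iso p
  have hneg : ∀ i : ℤ, i < 0 → IsZero (D.KZ.X i) := fun i hi =>
    D.K.isZero_extend_X ComplexShape.embeddingUpNat i fun j hj => by simp at hj; omega
  refine HyperVanish.subsingleton_HDU n 0 ⊤ N D.KZ hneg (fun i hi => ?_) fun i q hiq => ?_
  · obtain ⟨p, rfl⟩ : ∃ p : ℕ, (p : ℤ) = i := ⟨i.toNat, by omega⟩
    exact (Functor.map_isZero (SheafOfModules.toSheaf Y.ringCatSheaf) (hz p (by omega))).of_iso (hX p)
  · rcases lt_or_ge i 0 with hi | hi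
    · exact DLim.subsingleton_HU_of_isZero (hneg i hi) q ⊤
    · obtain ⟨p, rfl⟩ : ∃ p : ℕ, (p : ℤ) = i := ⟨i.toNat, by omega⟩
      refine DLim.subsingleton_of_ext_iso (hX p).symm ?_
      exact (SiteBase.huTerminalEquiv (isTerminalTop : IsTerminal (⊤ : Opens ↥Y)) (Coh.toAb (D.term p)) q).toEquiv.subsingleton_congr.2
        (h p q hiq)

end Groth.Agent.Synt29.DRVanish

namespace Groth.Agent.Synt29.DRVanish

variable {k : Type u} [Field k] {X : Scheme.{u}} (f : X ⟶ Spec (CommRingCat.of k)) [Smooth f] [QuasiSeparated f]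

/-- De Rham cohomology vanishes where all Hodge terms do. -/
theorem subsingleton_of_hodge (D : DeRhamSh.OmegaCx f)
    [HasDerivedCategory.{u} (Sheaf (Opens.grothendieckTopology ↥X) AddCommGrpCat.{u})] {n : ℕ}
    (hn : topologicalKrullDim ↥X ≤ n) (i : ℤ)
    (h : ∀ p q : ℕ, p ≤ n → (p : ℤ) + q = i → Coh.IsQCoh (D.term p) → Subsingleton (Coh.HH X (D.term p) q)) :
    Subsingleton (DeRhamSh.HdR D i) := by
  refine subsingleton_HdR D (n + 1) i (fun p hp => isZero_term f hn D p hp) fun p q hpq => ?_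
  rcases le_or_gt p n with hp | hp
  · exact h p q hp hpq (isQCoh_term f D p)
  · exact Euler.subsingleton_HH_of_isZero (isZero_term f hn D p hp) q

theorem hH_vanish [QuasiCompact f] {n : ℕ} (hn : topologicalKrullDim ↥X ≤ n) (M : X.Modules) (q : ℕ) (hq : n < q) :
    Subsingleton (Coh.HH X M q) := by
  haveI : CompactSpace ↥X := QuasiCompact.compactSpace_of_compactSpace f
  haveI : IsLocallyNoetherian X := LocallyOfFiniteType.isLocallyNoetherian f
  haveI : AlgebraicGeometry.IsNoetherian X := {}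
  exact S0458.result (X := X.toPresheafedSpace.carrier) n hn (Coh.toAb M) q hq

end Groth.Agent.Synt29.DRVanish
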