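import Groth.Agent.Synt29.ConormalSeq

/-! Splitting and injectivity in the sequences of conormal sheaves. -/

set_option autoImplicit false

universe u

open CategoryTheory CategoryTheory.Limits AlgebraicGeometry TopologicalSpace Opposite
open scoped TensorProduct

namespace Groth.Agent.Synt29.ConormalSplit

open OmegaStalk ConormalStalk ConormalExact ConormalSeq Groth.Agent.KFlatLib

/-- pulled back sections with vanishing germ -/
theorem gm_pullSect_eq_zero {Z X : Scheme.{u}} (h : Z ⟶ X) (M : X.Modules) {x : Z} {U : X.Opens}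
    (hU : x ∈ h ⁻¹ᵁ U) (s : Γ(M, U)) (hs : gm M (show h x ∈ U from hU) s = 0) :
    gm ((Scheme.Modules.pullback h).obj M) hU (OmegaSh.pullSect h M U s) = 0 := by
  let P := (stalkPullbackIso h x).app M
  refine (ConcreteCategory.bijective_of_isIso P.hom).1 ?_
  refine (stalkPullbackIso_gm h M x hU s).trans ?_
  rw [hs, map_zero]
  exact (map_zero P.hom.hom).symm

section Section

variable {Z X S : Scheme.{u}} (f : X ⟶ S) (i : Z ⟶ X)
  (g : X ⟶ Z) (hgi : i ≫ g = 𝟙 Z) (hgS : g ≫ i ≫ f = f)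
  (ΩX : X.Modules) (dX : OmegaSh.Der f ΩX)

include hgi hgS in
/-- a retraction splits the map of differentials -/
theorem exists_section (ΩZ : Z.Modules) (dZ : OmegaSh.Der (i ≫ f) ΩZ) (hZ : OmegaSh.IsUniversal dZ)
    (c : (Scheme.Modules.pullback i).obj ΩX ⟶ ΩZ) (hc : OmegaSh.IsDiffCompat i dX dZ c) :
    ∃ σ : ΩZ ⟶ (Scheme.Modules.pullback i).obj ΩX, σ ≫ c = 𝟙 _ := by
  let M := (Scheme.Modules.pullback i).obj ΩX
  have le : ∀ U : Z.Opens, U ≤ i ⁻¹ᵁ g ⁻¹ᵁ U := fun U z hz => by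
    show g (i z) ∈ U
    rw [show g (i z) = z from congr($hgi z)]
    exact hz
  have hres : ∀ (U : Z.Opens) (a : Γ(Z, U)),
      Z.presheaf.map (homOfLE (le U)).op (i.app (g ⁻¹ᵁ U) (g.app U a)) = a := by
    intro U a
    rw [show i.app (g ⁻¹ᵁ U) (g.app U a) = (i ≫ g).app U a from rfl,
      Scheme.Hom.congr_app hgi U, ConcreteCategory.comp_apply]
    erw [← ConcreteCategory.comp_apply, ← Functor.map_comp]
    exact congr($((congrArg Z.presheaf.map (Subsingleton.elim _ (𝟙 _))).trans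
      (Z.presheaf.map_id _)) a)
  let val : ∀ U : Z.Opens, Γ(X, g ⁻¹ᵁ U) → Γ(M, U) := fun U b =>
    M.presheaf.map (homOfLE (le U)).op (OmegaSh.pullSect i ΩX (g ⁻¹ᵁ U) (dX.app (g ⁻¹ᵁ U) b))
  have hsmul : ∀ (V : X.Opens) (r : Γ(X, V)) (m : Γ(ΩX, V)),
      OmegaSh.pullSect i ΩX V (r • m) = i.app V r • OmegaSh.pullSect i ΩX V m := fun V r m =>
    Scheme.Modules.Hom.app_smul ((Scheme.Modules.pullbackPushforwardAdjunction i).unit.app ΩX) r m
  have hmap : ∀ {A B B' C : (Z.Opens)ᵒᵖ} (q₁ : A ⟶ B) (q₂ : B ⟶ C) (q₁' : A ⟶ B') (q₂' : B' ⟶ C)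
      (y : M.presheaf.obj A), M.presheaf.map q₂ (M.presheaf.map q₁ y) =
        M.presheaf.map q₂' (M.presheaf.map q₁' y) := by
    intro A B B' C q₁ q₂ q₁' q₂' y
    refine Eq.trans (congr($((M.presheaf.map_comp q₁ q₂).symm) y))
      (Eq.trans ?_ (congr($(M.presheaf.map_comp q₁' q₂') y)))
    exact congr($(congrArg M.presheaf.map (Subsingleton.elim (q₁ ≫ q₂) (q₁' ≫ q₂'))) y)
  let D : OmegaSh.Der (i ≫ f) M :=
    { d := fun {U} =>
        { toFun := fun a => val U.unop (g.app U.unop a)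
          map_zero' := by
            show val U.unop (g.app U.unop 0) = 0
            simp only [val, map_zero]
          map_add' := fun s t => by
            show val U.unop (g.app U.unop (s + t)) = _
            simp only [val, map_add]
            rfl }
      d_mul := fun {U} (s t : Γ(Z, U.unop)) => by
        show val U.unop (g.app U.unop (s * t)) =
          s • val U.unop (g.app U.unop t) + t • val U.unop (g.app U.unop s)
        simp only [val, map_mul, app_mul, map_add, hsmul, Scheme.Modules.map_smul, hres]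
      d_map := fun {U V} j s => by
        show val V.unop (g.app V.unop (Z.presheaf.map j s)) =
          M.presheaf.map j (val U.unop (g.app U.unop s))
        have e1 : g.app V.unop (Z.presheaf.map j s) =
            X.presheaf.map ((Opens.map g.base).map j.unop).op (g.app U.unop s) :=
          congr($(g.naturality j) s)
        simp only [val, e1, app_res]
        rw [show OmegaSh.pullSect i ΩX (g ⁻¹ᵁ V.unop)
            (ΩX.presheaf.map ((Opens.map g.base).map j.unop).op (dX.app (g ⁻¹ᵁ U.unop) (g.app U.unop s))) =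
          M.presheaf.map ((Opens.map i.base).map ((Opens.map g.base).map j.unop)).op
            (OmegaSh.pullSect i ΩX (g ⁻¹ᵁ U.unop) (dX.app (g ⁻¹ᵁ U.unop) (g.app U.unop s))) from
          congr($(((Scheme.Modules.pullbackPushforwardAdjunction i).unit.app ΩX).mapPresheaf.naturality
            ((Opens.map g.base).map j.unop).op) _)]
        exact hmap _ _ _ _ _
      d_app := fun {W} a => by
        show val ((i ≫ f) ⁻¹ᵁ W.unop) (g.app _ ((i ≫ f).app W.unop a)) = 0
        have e : g.app ((i ≫ f) ⁻¹ᵁ W.unop) ((i ≫ f).app W.unop a) =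
            X.presheaf.map (eqToHom (congrArg (fun t : X ⟶ S => t ⁻¹ᵁ W.unop) hgS)).op
              (f.app W.unop a) :=
          congr($(Scheme.Hom.congr_app hgS W.unop) a)
        have e2 : dX.app (g ⁻¹ᵁ ((i ≫ f) ⁻¹ᵁ W.unop))
            (g.app ((i ≫ f) ⁻¹ᵁ W.unop) ((i ≫ f).app W.unop a)) = 0 := by
          refine (congrArg (dX.app _) e).trans ?_
          refine (app_res ΩX dX (eqToHom _) _).trans ?_
          exact (congrArg _ (app_base ΩX dX W.unop a)).trans (map_zero _)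
        refine (congrArg (fun y => M.presheaf.map (homOfLE (le ((i ≫ f) ⁻¹ᵁ W.unop))).op
          (OmegaSh.pullSect i ΩX (g ⁻¹ᵁ ((i ≫ f) ⁻¹ᵁ W.unop)) y)) e2).trans ?_
        rw [map_zero, map_zero] }
  obtain ⟨σ, hσ, -⟩ := hZ M D
  refine ⟨σ, ?_⟩
  obtain ⟨α, -, huniq⟩ := hZ ΩZ dZ
  have h1 : dZ.postcomp (σ ≫ c).val = dZ := by
    refine PresheafOfModules.Derivation.ext ?_
    funext U
    refine AddMonoidHom.ext fun a => ?_
    show c.app U.unop (σ.app U.unop (dZ.app U.unop a)) = dZ.app U.unop a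
    rw [show σ.app U.unop (dZ.app U.unop a) = val U.unop (g.app U.unop a) from
      PresheafOfModules.Derivation.congr_d hσ a]
    rw [show c.app U.unop (val U.unop (g.app U.unop a)) =
      ΩZ.presheaf.map (homOfLE (le U.unop)).op (c.app (i ⁻¹ᵁ g ⁻¹ᵁ U.unop)
        (OmegaSh.pullSect i ΩX (g ⁻¹ᵁ U.unop) (dX.app (g ⁻¹ᵁ U.unop) (g.app U.unop a)))) from
      congr($(c.mapPresheaf.naturality (homOfLE (le U.unop)).op) _)]
    rw [hc, ← app_res, hres]
  have h2 : dZ.postcomp (𝟙 ΩZ : ΩZ ⟶ ΩZ).val = dZ :=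
    PresheafOfModules.Derivation.ext rfl
  exact (huniq _ h1).trans (huniq _ h2).symm

end Section

section Smooth

variable {Z X Y : Scheme.{u}} (p : X ⟶ Y) (i : Z ⟶ X) [IsImmersion i] [QuasiCompact i]

/-- for formally smooth stalks the map of conormal sheaves is injective -/
theorem mono_conormalMap [IsImmersion (i ≫ p)] [QuasiCompact (i ≫ p)]
    (hp : MoreMor.IsFormallySmoothHom p)
    (ψ : (Scheme.Modules.pullback (𝟙 Z)).obj (Omega.conormal (i ≫ p)) ⟶ Omega.conormal i)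
    (hψ : OmegaSh.IsConormalMap i (i ≫ p) p (𝟙 Z) ψ) : Mono ψ := by
  rw [mono_iff_stalk]
  intro x
  refine (injective_iff_map_eq_zero _).mpr fun z hz => ?_
  obtain ⟨m, hm⟩ := exists_unit (𝟙 Z) x (Scheme.Hom.stalkMap_surjective (𝟙 Z) x) _ z
  obtain ⟨U', hx, s', rfl⟩ := exists_conormalSect (i ≫ p) x m
  have hx1 : x ∈ (𝟙 Z) ⁻¹ᵁ ((i ≫ p) ⁻¹ᵁ U') := hx
  have hx2 : x ∈ i ⁻¹ᵁ p ⁻¹ᵁ U' := hx
  have hzz : z = gm _ hx1
      (OmegaSh.pullSect (𝟙 Z) (Omega.conormal (i ≫ p)) ((i ≫ p) ⁻¹ᵁ U')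
        (OmegaSh.conormalSect (i ≫ p) U' s')) :=
    (ConcreteCategory.bijective_of_isIso ((stalkPullbackIso (𝟙 Z) x).app _).hom).1
      (hm.trans (stalkPullbackIso_gm (𝟙 Z) _ x hx1 _).symm)
  obtain ⟨s, hs, he⟩ := psi_gen p i ψ hψ U' s' (x := x) hx2
  subst hzz
  rw [he] at hz
  suffices h : gm (Omega.conormal (i ≫ p)) hx (OmegaSh.conormalSect (i ≫ p) U' s') = 0 by
    exact gm_pullSect_eq_zero (𝟙 Z) _ hx1 _ h
  refine conormalSect_eq_zero (i ≫ p) hx s' ?_
  let r := Y.presheaf.germ U' (p (i x)) hx (OmegaSh.idealSect (i ≫ p).ker U' s')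
  have hr : (i ≫ p).stalkMap x r = 0 := rep_mem (i ≫ p) (x := x) ⟨U', hx, s', rfl, rfl⟩
  show r ∈ RingHom.ker ((i ≫ p).stalkMap x).hom ^ 2
  have hrep : Rep i (i x) (gm (I i) (show i x ∈ p ⁻¹ᵁ U' from hx) s) (p.stalkMap (i x) r) := by
    refine ⟨p ⁻¹ᵁ U', hx, s, rfl, ?_⟩
    rw [hs]
    exact (Scheme.Hom.germ_stalkMap_apply p U' (i x) hx _).symm
  have hu : unit1 i x (gm (I i) (show i x ∈ p ⁻¹ᵁ U' from hx) s) = 0 :=
    ((stalkPullbackIso_gm i (I i) x hx2 s).symm.trans
      (congrArg ((stalkPullbackIso i x).hom.app (I i)) hz)).trans (map_zero _)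
  have hsq := mem_sq_of_unit1_eq_zero i (i.stalkMap_surjective x) hrep hu
  -- lift modulo the square
  let R := Y.presheaf.stalk (p (i x))
  let _ := (p.stalkMap (i x)).hom.toAlgebra
  let _ := (i.stalkMap x).hom.toAlgebra
  let _ : Algebra R (Z.presheaf.stalk x) := ((i ≫ p).stalkMap x).hom.toAlgebra
  have : IsScalarTower R (X.presheaf.stalk (i x)) (Z.presheaf.stalk x) :=
    IsScalarTower.of_algebraMap_eq' (congrArg CommRingCat.Hom.hom (Scheme.Hom.stalkMap_comp i p x))
  have : Algebra.FormallySmooth R (X.presheaf.stalk (i x)) :=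
    StalkFormal.formallySmooth_stalkMap p hp (i x)
  let J : Ideal R := RingHom.ker ((i ≫ p).stalkMap x).hom
  let Q := R ⧸ J ^ 2
  let q : Q →ₐ[R] Z.presheaf.stalk x := Ideal.Quotient.liftₐ (J ^ 2) (Algebra.ofId R _)
    fun c hc => Ideal.pow_le_self two_ne_zero hc
  have hq : Function.Surjective q := fun b => by
    obtain ⟨c, hc⟩ := (i ≫ p).stalkMap_surjective x b
    exact ⟨Ideal.Quotient.mk _ c, hc⟩
  have hnil : ∀ u v : Q, q u = 0 → q v = 0 → u * v = 0 := by
    intro u v hu hv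
    obtain ⟨u, rfl⟩ := Ideal.Quotient.mk_surjective u
    obtain ⟨v, rfl⟩ := Ideal.Quotient.mk_surjective v
    rw [← map_mul, Ideal.Quotient.eq_zero_iff_mem, sq]
    exact Ideal.mul_mem_mul (RingHom.mem_ker.mpr hu) (RingHom.mem_ker.mpr hv)
  have hker : IsNilpotent (RingHom.ker (q : Q →+* Z.presheaf.stalk x)) := ⟨2, by
    refine ((sq _).trans (le_bot_iff.mp (Ideal.mul_le.mpr fun u hu v hv => ?_))).trans
      Ideal.zero_eq_bot.symm
    exact Ideal.mem_bot.mpr (hnil u v hu hv)⟩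
  obtain ⟨l, hl⟩ : ∃ l : X.presheaf.stalk (i x) →ₐ[R] Q, ∀ a, q (l a) = i.stalkMap x a :=
    ⟨Algebra.FormallySmooth.liftOfSurjective
      (IsScalarTower.toAlgHom R (X.presheaf.stalk (i x)) (Z.presheaf.stalk x)) q hq hker,
      Algebra.FormallySmooth.liftOfSurjective_apply _ q hq hker⟩
  have hlz : ∀ a ∈ RingHom.ker (i.stalkMap x).hom ^ 2, l a = 0 := by
    intro a ha
    rw [sq] at ha
    induction ha using Submodule.mul_induction_on' with
    | mem_mul_mem b hb c hc =>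
        rw [map_mul]
        exact hnil _ _ ((hl b).trans hb) ((hl c).trans hc)
    | add b _ c _ hb hc => rw [map_add, hb, hc, add_zero]
  exact Ideal.Quotient.eq_zero_iff_mem.mp ((l.commutes r).symm.trans (hlz _ hsq))

end Smooth

end Groth.Agent.Synt29.ConormalSplit
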