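import Mathlib
import Groth.Prelude.Def_CAlgX
import Groth.Prelude.Def_PP16
import Groth.Agent.LinType.QReg
import Groth.Agent.KRegLib.Local

/-!
Locally quasi-regular ideals descend along faithfully flat maps.
-/

set_option autoImplicit false
set_option linter.style.haveILetI false

universe u

open TensorProduct MvPolynomial

namespace Groth.Agent.Synt29.QRDescent

/-- Relations over a flat algebra come from relations over the base. -/
theorem coeff_mem_of_rel {A S : Type u} [CommRing A] [CommRing S] [Algebra A S] [Module.Flat A S]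
    {ι : Type*} [Fintype ι] (x : ι → A) (u : ι → S) (hu : ∑ i, u i * algebraMap A S (x i) = 0) (i : ι) :
    u i ∈ (Ideal.span {c | ∃ v : ι → A, ∑ j, v j * x j = 0 ∧ v i = c}).map (algebraMap A S) := by
  classical
  let φ : (ι → A) →ₗ[A] A := Fintype.linearCombination A x
  have hex : Function.Exact ((LinearMap.ker φ).subtype.lTensor S) (φ.lTensor S) :=
    Module.Flat.lTensor_exact S (LinearMap.exact_subtype_ker_map φ)
  let e := TensorProduct.piScalarRight A S S ι
  have he : ∀ z : S ⊗[A] (ι → A),
      Algebra.TensorProduct.rid A S S (φ.lTensor S z) = ∑ j, e z j * algebraMap A S (x j) := by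
    intro z
    induction z using TensorProduct.induction_on with
    | zero => simp
    | tmul b v =>
      rw [LinearMap.lTensor_tmul, Algebra.TensorProduct.rid_tmul]
      simp only [φ, Fintype.linearCombination_apply, smul_eq_mul, e, TensorProduct.piScalarRight_apply,
        TensorProduct.piScalarRightHom_tmul, Algebra.smul_def, map_sum, Finset.sum_mul, map_mul]
      exact Finset.sum_congr rfl fun j _ => by ring
    | add a b ha hb => simp only [map_add, ha, hb, Pi.add_apply, add_mul, Finset.sum_add_distrib]
  obtain ⟨w, hw⟩ := (hex (e.symm u)).1 ((Algebra.TensorProduct.rid A S S).injective (by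
    rw [he, LinearEquiv.apply_symm_apply, hu, map_zero]))
  rw [← e.apply_symm_apply u, ← hw]
  clear hw
  induction w using TensorProduct.induction_on with
  | zero => simp
  | tmul b v =>
    rw [LinearMap.lTensor_tmul]
    simp only [e, TensorProduct.piScalarRight_apply, TensorProduct.piScalarRightHom_tmul, Algebra.smul_def]
    refine Ideal.mul_mem_right _ _ (Ideal.mem_map_of_mem _ (Ideal.subset_span ⟨v.1, ?_, rfl⟩))
    have hv : φ v.1 = 0 := v.2
    simpa only [φ, Fintype.linearCombination_apply, smul_eq_mul] using hv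
  | add a b ha hb => rw [map_add, map_add]; exact add_mem ha hb

variable {A S : Type u} [CommRing A] [CommRing S] [Algebra A S] {c : ℕ}

theorem map_span_range (f : Fin c → A) : (Ideal.span (Set.range f)).map (algebraMap A S) =
    Ideal.span (Set.range fun i => algebraMap A S (f i)) := by
  rw [Ideal.map_span, ← Set.range_comp]
  rfl

/-- Quasi-regular sequences stay quasi-regular in flat algebras. -/
theorem qr_flat [Module.Flat A S] {f : Fin c → A} (hf : CAlgX.IsQuasiRegular f) :
    CAlgX.IsQuasiRegular fun i => algebraMap A S (f i) := by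
  classical
  intro n P hP hev d
  rw [← map_span_range f] at hev ⊢
  by_cases hd : d ∈ P.support
  swap
  · rw [MvPolynomial.notMem_support_iff.1 hd]
    exact zero_mem _
  let I := Ideal.span (Set.range f)
  rw [← Ideal.map_pow, Ideal.map, Ideal.span, Submodule.mem_span_iff_exists_finset_subset] at hev
  obtain ⟨t, T, hT, -, hsum⟩ := hev
  choose k hk hk' using fun w : T => hT w.2
  let x : P.support ⊕ T → A := Sum.elim (fun e => ∏ i, f i ^ (e.1 i)) fun w => -k w
  let u : P.support ⊕ T → S := Sum.elim (fun e => P.coeff e.1) fun w => t w.1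
  have hu : ∑ i, u i * algebraMap A S (x i) = 0 := by
    rw [Fintype.sum_sum_type]
    simp only [u, x, Sum.elim_inl, Sum.elim_inr, map_neg, mul_neg, Finset.sum_neg_distrib, hk', map_prod, map_pow]
    rw [← sub_eq_add_neg, sub_eq_zero, Finset.sum_coe_sort P.support
      (fun e => P.coeff e * ∏ i, algebraMap A S (f i) ^ e i), Finset.sum_coe_sort T (fun w => t w * w),
      ← MvPolynomial.eval_eq']
    exact hsum.symm
  refine Ideal.map_mono (Ideal.span_le.2 ?_) (coeff_mem_of_rel x u hu (Sum.inl ⟨d, hd⟩))
  rintro _ ⟨v, hv, rfl⟩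
  let Q : MvPolynomial (Fin c) A := ∑ e : P.support, monomial e.1 (v (Sum.inl e))
  have hQ : Q.IsHomogeneous n := IsHomogeneous.sum _ _ _ fun e _ => isHomogeneous_monomial _ (by
    have := hP (MvPolynomial.mem_support_iff.1 e.2)
    rw [Finsupp.degree_eq_weight_one]
    exact this)
  have hQe : eval f Q = ∑ w, v (Sum.inr w) * k w := by
    rw [Fintype.sum_sum_type] at hv
    simp only [x, Sum.elim_inl, Sum.elim_inr, mul_neg, Finset.sum_neg_distrib, ← sub_eq_add_neg, sub_eq_zero] at hv
    rw [← hv, map_sum]
    refine Finset.sum_congr rfl fun e _ => ?_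
    rw [eval_monomial, Finsupp.prod_fintype _ _ (fun i => pow_zero _)]
  have hc := hf n Q hQ (hQe ▸ Ideal.sum_mem _ fun w _ => Ideal.mul_mem_left _ _ (hk w)) d
  have hQc : Q.coeff d = v (Sum.inl ⟨d, hd⟩) := by
    simp only [Q, coeff_sum, coeff_monomial]
    rw [Finset.sum_eq_single (⟨d, hd⟩ : P.support)]
    · simp
    · intro e _ he
      rw [if_neg fun h => he (Subtype.ext h)]
    · simp
  rwa [hQc] at hc

/-- Quasi-regularity descends along faithfully flat maps. -/
theorem qr_of_faithfullyFlat [Module.FaithfullyFlat A S] {f : Fin c → A}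
    (hf : CAlgX.IsQuasiRegular fun i => algebraMap A S (f i)) : CAlgX.IsQuasiRegular f := by
  intro n P hP hev d
  rw [← Ideal.comap_map_eq_self_of_faithfullyFlat (B := S) (Ideal.span (Set.range f)), Ideal.mem_comap,
    map_span_range, ← coeff_map]
  refine hf n _ (hP.map _) ?_ d
  rw [← map_span_range, ← Ideal.map_pow, eval_map,
    show eval₂ (algebraMap A S) (fun i => algebraMap A S (f i)) P = algebraMap A S (eval f P) from
      (eval₂_comp _ _ _).symm]
  exact Ideal.mem_map_of_mem _ hev

/-- A sequence generating the unit ideal is quasi-regular. -/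
theorem qr_of_span_eq_top {f : Fin c → A} (h : Ideal.span (Set.range f) = ⊤) : CAlgX.IsQuasiRegular f :=
  fun _ _ _ _ d => h ▸ Submodule.mem_top

/-- Quasi-regularity is local. -/
theorem qr_of_forall_away {f : Fin c → A} (h : ∀ (Q : Ideal A) [Q.IsPrime], ∃ G : A, G ∉ Q ∧
    CAlgX.IsQuasiRegular fun i => algebraMap A (Localization.Away G) (f i)) : CAlgX.IsQuasiRegular f := by
  intro n P hP hev d
  let I := Ideal.span (Set.range f)
  by_contra hne
  obtain ⟨Q, hQ, hle⟩ := Ideal.exists_le_maximal (I.colon ({P.coeff d} : Set A)) fun htop => hne (by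
    simpa [I] using Submodule.mem_colon_singleton.1 (htop ▸ Submodule.mem_top : (1 : A) ∈ I.colon ({P.coeff d} : Set A)))
  haveI := hQ.isPrime
  obtain ⟨G, hG, hqr⟩ := h Q
  let T := Localization.Away G
  have hc := hqr n _ (hP.map (algebraMap A T)) (by
    rw [← map_span_range, ← Ideal.map_pow, eval_map,
      show eval₂ (algebraMap A T) (fun i => algebraMap A T (f i)) P = algebraMap A T (eval f P) from
        (eval₂_comp _ _ _).symm]
    exact Ideal.mem_map_of_mem _ hev) d
  rw [← map_span_range, coeff_map, IsLocalization.algebraMap_mem_map_algebraMap_iff (Submonoid.powers G)] at hc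
  obtain ⟨_, ⟨j, rfl⟩, hj⟩ := hc
  exact hG (hQ.isPrime.mem_of_pow_mem j (hle (Submodule.mem_colon_singleton.2 hj)))

/-- Near the prime `P` the ideal is generated by a quasi-regular sequence. -/
def QRNear (J P : Ideal A) : Prop :=
  ∃ g : A, g ∉ P ∧ ∃ (r : ℕ) (f : Fin r → Localization.Away g),
    CAlgX.IsQuasiRegular f ∧ Ideal.span (Set.range f) = J.map (algebraMap A (Localization.Away g))

/-- A flat algebra in which `g` is invertible receives a quasi-regular sequence. -/
theorem QRNear.exists_on {J P : Ideal A} (h : QRNear J P) :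
    ∃ g : A, g ∉ P ∧ ∀ (T : Type u) [CommRing T] [Algebra A T] [Module.Flat A T], IsUnit (algebraMap A T g) →
      ∃ (r : ℕ) (f : Fin r → T), CAlgX.IsQuasiRegular f ∧ Ideal.span (Set.range f) = J.map (algebraMap A T) := by
  obtain ⟨g, hg, r, f, hf, hI⟩ := h
  refine ⟨g, hg, fun T _ _ _ hu => ?_⟩
  letI : Algebra (Localization.Away g) T := (IsLocalization.Away.lift g hu).toAlgebra
  haveI : IsScalarTower A (Localization.Away g) T := IsScalarTower.of_algebraMap_eq fun x => by
    rw [RingHom.algebraMap_toAlgebra, IsLocalization.Away.lift_eq]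
  haveI : Module.Flat (Localization.Away g) T :=
    (Module.flat_iff_of_isLocalization (Localization.Away g) (Submonoid.powers g) T).2 inferInstance
  refine ⟨r, fun i => algebraMap _ T (f i), qr_flat hf, ?_⟩
  rw [← map_span_range, hI, Ideal.map_map, ← IsScalarTower.algebraMap_eq]

theorem mem_of_rel {f : Fin c → A} (hf : CAlgX.IsQuasiRegular f) (u : Fin c → A) (hu : ∑ i, u i * f i = 0)
    (i : Fin c) : u i ∈ Ideal.span (Set.range f) := by
  classical
  have := hf 1 (∑ j, C (u j) * X j) (IsHomogeneous.sum _ _ _ fun j _ => (isHomogeneous_X A j).C_mul _)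
    (by simp only [map_sum, map_mul, eval_C, eval_X, hu]; exact zero_mem _) (Finsupp.single i 1)
  simpa [coeff_sum, coeff_C_mul, coeff_X', Finsupp.single_left_inj] using this

/-- Two generating sequences without relations outside the prime have the same length. -/
theorem card_eq_of_minimal {r n : ℕ} (Q : Ideal A) [Q.IsPrime] (y : Fin r → A) (e : Fin n → A)
    (hspan : Ideal.span (Set.range y) = Ideal.span (Set.range e))
    (hy : ∀ u : Fin r → A, ∑ i, u i * y i = 0 → ∀ i, u i ∈ Q)
    (he : ∀ u : Fin n → A, ∑ i, u i * e i = 0 → ∀ i, u i ∈ Q) : r = n := by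
  classical
  have hM : ∀ i, ∃ m : Fin n → A, ∑ j, m j * e j = y i := fun i =>
    Ideal.mem_span_range_iff_exists_fun.1 (hspan ▸ Ideal.subset_span ⟨i, rfl⟩)
  have hN : ∀ j, ∃ m : Fin r → A, ∑ i, m i * y i = e j := fun j =>
    Ideal.mem_span_range_iff_exists_fun.1 (hspan.symm ▸ Ideal.subset_span ⟨j, rfl⟩)
  choose M hM using hM
  choose N hN using hN
  let q : A →+* Q.ResidueField := algebraMap A Q.ResidueField
  let MM : Matrix (Fin r) (Fin n) A := Matrix.of M
  let NN : Matrix (Fin n) (Fin r) A := Matrix.of N
  have h1 : MM.map q * NN.map q = 1 := by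
    rw [← Matrix.map_mul, ← Matrix.map_one q (map_zero q) (map_one q)]
    ext i l
    simp only [Matrix.map_apply, q]
    rw [← sub_eq_zero, ← map_sub, Ideal.algebraMap_residueField_eq_zero]
    refine hy (fun l => (MM * NN) i l - (1 : Matrix (Fin r) (Fin r) A) i l) ?_ l
    simp only [sub_mul, Finset.sum_sub_distrib, Matrix.mul_apply, Finset.sum_mul, MM, NN, Matrix.of_apply,
      Matrix.one_apply, ite_mul, one_mul, zero_mul, Finset.sum_ite_eq, Finset.mem_univ, if_true, mul_assoc]
    rw [Finset.sum_comm]
    simp only [← Finset.mul_sum, hN, hM, sub_self]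
  have h2 : NN.map q * MM.map q = 1 := by
    rw [← Matrix.map_mul, ← Matrix.map_one q (map_zero q) (map_one q)]
    ext i l
    simp only [Matrix.map_apply, q]
    rw [← sub_eq_zero, ← map_sub, Ideal.algebraMap_residueField_eq_zero]
    refine he (fun l => (NN * MM) i l - (1 : Matrix (Fin n) (Fin n) A) i l) ?_ l
    simp only [sub_mul, Finset.sum_sub_distrib, Matrix.mul_apply, Finset.sum_mul, MM, NN, Matrix.of_apply,
      Matrix.one_apply, ite_mul, one_mul, zero_mul, Finset.sum_ite_eq, Finset.mem_univ, if_true, mul_assoc]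
    rw [Finset.sum_comm]
    simp only [← Finset.mul_sum, hN, hM, sub_self]
  have ha : r ≤ n := by
    have := Matrix.rank_mul_le_left (MM.map q) (NN.map q)
    rw [h1, Matrix.rank_one, Fintype.card_fin] at this
    exact this.trans ((MM.map q).rank_le_width)
  have hb : n ≤ r := by
    have := Matrix.rank_mul_le_left (NN.map q) (MM.map q)
    rw [h2, Matrix.rank_one, Fintype.card_fin] at this
    exact this.trans ((NN.map q).rank_le_width)
  exact le_antisymm ha hb

/-- A minimal generating sequence of a locally quasi-regular ideal is quasi-regular nearby. -/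
theorem exists_qr_nhd (Q : Ideal A) [Q.IsPrime] {r : ℕ} (y : Fin r → A) (hy : ∀ i, y i ∈ Q)
    (hK : QRNear (Ideal.span (Set.range y)) Q) (hind : ∀ u : Fin r → A, ∑ i, u i * y i = 0 → ∀ i, u i ∈ Q) :
    ∃ G : A, G ∉ Q ∧ CAlgX.IsQuasiRegular fun i => algebraMap A (Localization.Away G) (y i) := by
  classical
  obtain ⟨g, hg, n, e, he, heJ⟩ := hK
  rw [map_span_range] at heJ
  let T := Localization.Away g
  obtain ⟨hprime, hcomap⟩ := KRegLib.exists_prime_of_away T Q hg
  haveI := hprime
  let QT := Q.map (algebraMap A T)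
  have hle : Ideal.span (Set.range e) ≤ QT := by
    rw [heJ]
    exact Ideal.span_le.2 (Set.range_subset_iff.2 fun i => Ideal.mem_map_of_mem _ (hy i))
  obtain rfl : r = n := card_eq_of_minimal QT _ e heJ.symm (fun u hu i => by
    obtain ⟨s, hs⟩ := IsLocalization.exist_integer_multiples_of_finite (Submonoid.powers g) u
    choose v hv using hs
    have h1 : algebraMap A T (∑ j, v j * y j) = 0 := by
      rw [map_sum, ← mul_zero (algebraMap A T s), ← hu, Finset.mul_sum]
      exact Finset.sum_congr rfl fun j _ => by rw [map_mul, hv, Algebra.smul_def, mul_assoc]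
    obtain ⟨⟨s', hs'⟩, hs0⟩ := (IsLocalization.map_eq_zero_iff (Submonoid.powers g) T _).1 h1
    have hv' := hind (fun j => s' * v j) (by simpa only [Finset.mul_sum, mul_assoc] using hs0) i
    have hnot : s' ∉ Q := by
      obtain ⟨k, rfl⟩ := hs'
      exact fun hk => hg (Ideal.IsPrime.mem_of_pow_mem inferInstance k hk)
    have h2 : algebraMap A T (v i) ∈ QT :=
      Ideal.mem_map_of_mem _ ((Ideal.IsPrime.mem_or_mem inferInstance hv').resolve_left hnot)
    rwa [hv, Algebra.smul_def, Ideal.unit_mul_mem_iff_mem _ (IsLocalization.map_units T s)] at h2)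
    fun u hu i => hle (mem_of_rel he u hu i)
  exact ⟨g, hg, LinType.isQuasiRegular_of_span_eq e _ he heJ.symm⟩

/-- A locally quasi-regular ideal is finitely generated. -/
theorem fg_of_isLocallyQuasiRegular (I : Ideal A) (h : PP16.IsLocallyQuasiRegular A I) : I.FG := by
  let t : Set A := {g | (I.map (algebraMap A (Localization.Away g))).FG}
  refine Ideal.fg_of_localizationSpan t ?_ fun g => g.2
  by_contra hne
  obtain ⟨m, hm, hle⟩ := Ideal.exists_le_maximal _ hne
  haveI := hm.isPrime
  by_cases hIm : I ≤ m
  · obtain ⟨g, hg, r, f, -, hI⟩ := h m hIm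
    refine hg (hle (Ideal.subset_span ?_))
    show (I.map _).FG
    rw [← hI]
    exact Submodule.fg_span (Set.finite_range f)
  · obtain ⟨g, hgI, hgm⟩ := SetLike.not_le_iff_exists.1 hIm
    refine hgm (hle (Ideal.subset_span ?_))
    show (I.map (algebraMap A (Localization.Away g))).FG
    rw [Ideal.eq_top_of_isUnit_mem _ (Ideal.mem_map_of_mem _ hgI) (IsLocalization.Away.algebraMap_isUnit g)]
    exact ⟨{1}, by simp⟩

end Groth.Agent.Synt29.QRDescent
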