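import Groth.Agent.HilbPoly.Misc
import Groth.Agent.RefX.Dual
import Groth.Agent.RefX.Reflexive
import Groth.Agent.RefX.Iso
import Groth.Agent.S16491
import Groth.Agent.S2821
import Groth.Agent.GrpSchLib.SmoothRegular
import Groth.Agent.H23.DiagReg
import Groth.Agent.AffCompl.InterFinite
import Groth.Agent.Lib.InvEnd
import Groth.Agent.CurveCohLib.SubBundle
import Groth.Agent.TorLib.Basic
import Groth.Agent.GenDiff29.Basic

/-!
Rank one torsion free sheaves on a smooth projective surface: Hilbert polynomials, reflexive hulls,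
and the criterion for slope stability of an extension when the Picard group is `ℤ`.
-/

set_option autoImplicit false
set_option linter.style.haveILetI false
set_option linter.unusedSectionVars false
set_option backward.isDefEq.respectTransparency false
set_option backward.isDefEq.respectTransparency.types false
set_option maxHeartbeats 800000

universe u

open CategoryTheory CategoryTheory.Limits AlgebraicGeometry TopologicalSpace Polynomial StabCat
open Groth.Agent Groth.Agent.H23.PicMul Groth.Agent.HilbPoly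
open scoped Groth.Agent.H23.PicMul

noncomputable section

namespace Groth.Agent.Synt29.SurfRankOne

section Integral

variable {X : Scheme.{u}} [IsIntegral X] [IsLocallyNoetherian X]

theorem eq_zero_of_stalk_zero {F G : X.Modules} (hG : Coh.IsQCoh G) (htG : TorSh.IsTorsionFree G) (ψ : F ⟶ G)
    (h : ∀ v, ((DerSch.stalkFunctor X (genericPoint X)).map ψ).hom v = 0) : ψ = 0 := by
  refine Scheme.Modules.hom_ext _ _ fun U => AddCommGrpCat.hom_ext (AddMonoidHom.ext fun s => ?_)
  show ψ.app U s = 0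
  by_cases hU : Nonempty U
  · obtain ⟨⟨x, hx⟩⟩ := hU
    have hη : genericPoint X ∈ U := ((genericPoint_spec X).mem_open_set_iff U.2).2 (by simpa using ⟨x, hx⟩)
    refine TorLib.eq_zero_of_germ_genericPoint hG htG hη _ ?_
    exact (DerSch.stalkFunctor_map_germ (genericPoint X) ψ U hη s).symm.trans (h _)
  · refine TopCat.Presheaf.section_ext ⟨G.presheaf, G.isSheaf⟩ U _ _ fun z hz => ?_
    exact absurd ⟨⟨z, hz⟩⟩ hU

/-- The support of a nonzero torsion free module is everything. -/
theorem mem_support {G : X.Modules} (hG : Coh.IsCoh G) (htG : TorSh.IsTorsionFree G) (h0 : ¬ IsZero G) :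
    genericPoint X ∈ CohB1.support G := by
  intro h
  refine h0 ((IsZero.iff_id_eq_zero G).2 (eq_zero_of_stalk_zero hG.1 htG (𝟙 G) fun v => ?_))
  exact (h : Subsingleton (G.presheaf.stalk (genericPoint X))).elim _ _

/-- A subsheaf of a torsion free module is torsion free. -/
theorem tf_of_mono {F G : X.Modules} (f : F ⟶ G) [Mono f] (htG : TorSh.IsTorsionFree G) :
    TorSh.IsTorsionFree F := fun x => by
  haveI : Module.IsTorsionFree (X.presheaf.stalk x) (G.presheaf.stalk x) := htG x
  let g : F.presheaf.stalk x →ₗ[X.presheaf.stalk x] G.presheaf.stalk x := ((DerSch.stalkFunctor X x).map f).hom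
  have hg : Function.Injective g := CurveCohLib.stalk_injective f x
  exact hg.moduleIsTorsionFree _ (fun r m => map_smul g r m)

/-- A morphism of modules which is injective at the generic point, from a torsion free module, is mono. -/
theorem mono_of_generic {F G : X.Modules} (hF : Coh.IsCoh F) (hG : Coh.IsCoh G) (htF : TorSh.IsTorsionFree F)
    (f : F ⟶ G) (h : Function.Injective ((DerSch.stalkFunctor X (genericPoint X)).map f).hom) : Mono f := by
  refine Preadditive.mono_of_isZero_kernel f ((IsZero.iff_id_eq_zero _).2 ?_)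
  refine eq_zero_of_stalk_zero (QCoh.isCoh_kernel hF hG f).1 (tf_of_mono (kernel.ι f) htF) (𝟙 _) fun v => ?_
  let Φ := DerSch.stalkFunctor X (genericPoint X)
  haveI : Φ.Additive := DerSch.additive_stalkFunctor _
  have h1 : (Φ.map f).hom ((Φ.map (kernel.ι f)).hom v) = 0 := by
    show (Φ.map (kernel.ι f) ≫ Φ.map f).hom v = 0
    rw [← Functor.map_comp, kernel.condition, Functor.map_zero]
    rfl
  have h2 : (Φ.map (kernel.ι f)).hom v = 0 := h (h1.trans (map_zero _).symm)
  have h3 : v = 0 := CurveCohLib.stalk_injective (kernel.ι f) _ (h2.trans (map_zero _).symm)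
  rw [h3, map_zero]

/-- A torsion free coherent module of rank one has frames in codimension one. -/
theorem hasFrames (hX : Pi1.IsNormalScheme X) {F : X.Modules} (hF : Coh.IsCoh F) (htF : TorSh.IsTorsionFree F)
    {v : F.presheaf.stalk (genericPoint X)}
    (hv : Function.Bijective fun a : X.presheaf.stalk (genericPoint X) => a • v) : RefX.HasFrames F := by
  intro x hx
  rcases lt_or_eq_of_le hx with h | h
  · have hxη : x = genericPoint X := by
      rw [ENat.lt_one_iff_eq_zero, Order.coheight_eq_zero] at h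
      exact (Specializes.antisymm (h (RefX.specializes_genericPoint x)) (RefX.specializes_genericPoint x)).eq
    subst hxη
    have hsp : RefX.spM F (RefX.specializes_genericPoint (genericPoint X)) v = v := by
      obtain ⟨V, hV, m, rfl⟩ := TopCat.Presheaf.exists_germ_eq F.presheaf v
      rw [RefX.spM_germ]
    refine RefX.exists_frame_of_gen hF htF (t := v) (eq_top_iff.2 fun w _ => ?_) fun h0 => ?_
    · obtain ⟨a, ha⟩ := hv.2 w
      exact Submodule.mem_span_singleton.2 ⟨a, ha⟩
    · rw [hsp] at h0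
      have h01 : (fun a : X.presheaf.stalk (genericPoint X) => a • v) 0 =
          (fun a : X.presheaf.stalk (genericPoint X) => a • v) 1 := by simp [h0]
      exact zero_ne_one (α := X.functionField) (hv.1 h01)
  · obtain ⟨t, ht, ht0⟩ := RefX.exists_gen_dim_one hX hF htF hv h
    exact RefX.exists_frame_of_gen hF htF ht ht0

/-- The biduality map is bijective wherever there is a frame. -/
theorem bidual_bijective {F : X.Modules} (hF : Coh.IsCoh F) {U : X.Opens} {e : Γ(F, U)} (he : InvX.IsFrame e)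
    {x : X} (hx : x ∈ U) : Function.Bijective ((DerSch.stalkFunctor X x).map (RefHull.bidualMap F)).hom := by
  have hb := he.germ_bijective hx
  have hr : RefHull.IsReflexiveAt F x := by
    let e' : X.presheaf.stalk x ≃ₗ[X.presheaf.stalk x] F.presheaf.stalk x :=
      LinearEquiv.ofBijective (LinearMap.toSpanSingleton _ _ (F.presheaf.germ U x hx e)) hb
    haveI : Module.Free (X.presheaf.stalk x) (F.presheaf.stalk x) := Module.Free.of_equiv e'
    haveI : Module.Finite (X.presheaf.stalk x) (F.presheaf.stalk x) := Module.Finite.equiv e'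
    show Module.IsReflexive (X.presheaf.stalk x) (F.presheaf.stalk x)
    infer_instance
  exact (RefX.stalkMap_bidual_bijective_iff hF x).2 hr

theorem normal_of_regular (hreg : ∀ x : X, IsRegularLocalRing (X.presheaf.stalk x)) : Pi1.IsNormalScheme X :=
  H23.PrincipalGlobal.normal_of_ufd fun x => by
    haveI := hreg x
    exact (S2821.result (X.presheaf.stalk x)).2

theorem notMem_support_cokernel {F G : X.Modules} (f : F ⟶ G) {x : X}
    (h : Function.Surjective ((DerSch.stalkFunctor X x).map f).hom) : x ∉ CohB1.support (cokernel f) := by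
  intro hmem
  refine hmem (subsingleton_of_forall_eq 0 fun z => ?_)
  let Φ := DerSch.stalkFunctor X x
  have hπ : Function.Surjective (Φ.map (cokernel.π f)) := (ModuleCat.epi_iff_surjective _).1 inferInstance
  obtain ⟨w, rfl⟩ := hπ z
  obtain ⟨u, rfl⟩ := h w
  show (Φ.map f ≫ Φ.map (cokernel.π f)).hom u = 0
  haveI : Φ.Additive := DerSch.additive_stalkFunctor x
  rw [← Functor.map_comp, cokernel.condition, Functor.map_zero]
  rfl

theorem surjective_of_notMem {F G : X.Modules} (f : F ⟶ G) {x : X} (h : x ∉ CohB1.support (cokernel f)) :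
    Function.Surjective ((DerSch.stalkFunctor X x).map f).hom := by
  let Φ := DerSch.stalkFunctor X x
  haveI : Φ.Additive := DerSch.additive_stalkFunctor x
  let S : ShortComplex X.Modules := ShortComplex.mk f (cokernel.π f) (cokernel.condition f)
  have hr := ((KFlatLib.exact_iff_stalk S).1 (ShortComplex.exact_cokernel f) x).moduleCat_range_eq_ker
  intro y
  have hy : y ∈ LinearMap.ker ((DerSch.stalkFunctor X x).map (cokernel.π f)).hom :=
    (not_not.1 h : Subsingleton ((cokernel f).presheaf.stalk x)).elim _ _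
  exact LinearMap.mem_range.1 ((hr ▸ hy :))

end Integral

/-- A finite closed set has dimension zero. -/
theorem dim_le_zero {T : Type u} [TopologicalSpace T] [JacobsonSpace T] {Z : Set T} (hc : IsClosed Z)
    (hf : Z.Finite) : topologicalKrullDim ↥Z ≤ 0 := by
  haveI : Finite ↥Z := hf.to_subtype
  haveI : T1Space ↥Z := ⟨fun x => by
    have h := (InterFinite.isClosed_singleton_of_finite hc hf x.2).preimage
      (continuous_subtype_val (p := (· ∈ Z)))
    convert h using 1
    ext y
    simp [Subtype.ext_iff]⟩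
  refine Order.krullDim_nonpos_iff_forall_isMax.2 fun a b hab => le_of_eq ?_
  have key : ∀ c : IrreducibleCloseds ↥Z, ∃ x, (c : Set ↥Z) = {x} := fun c =>
    ⟨_, (isIrreducible_iff_singleton.1 c.2).choose_spec⟩
  obtain ⟨x, hx⟩ := key a
  obtain ⟨y, hy⟩ := key b
  refine IrreducibleCloseds.ext ?_
  have h1 : (a : Set ↥Z) ⊆ b := hab
  rw [hx, hy, Set.singleton_subset_singleton] at h1
  rw [hx, hy, h1]

section Surface

variable {k : Type u} [Field k] {X : Scheme.{u}} [X.Over (Spec (CommRingCat.of k))]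
  [IsProper (X ↘ Spec (CommRingCat.of k))] [IsIntegral X] (hdim : topologicalKrullDim X = 2)

include hdim in
theorem coheight_le_two (x : X) : Order.coheight x ≤ 2 := by
  have h1 : (Order.coheight x : WithBot ℕ∞) ≤ topologicalKrullDim X := by
    rw [topologicalKrullDim, Order.krullDim_eq_of_orderIso (irreducibleSetEquivPoints (α := X))]
    exact Order.coheight_le_krullDim x
  rw [hdim] at h1
  exact WithBot.coe_le_coe.1 (h1.trans_eq (by norm_num))

include hdim in
theorem isClosed_of_one_lt_coheight {x : X} (h : 1 < Order.coheight x) : IsClosed ({x} : Set X) := by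
  by_contra hx
  obtain ⟨y, hy, hne⟩ : ∃ y ∈ closure ({x} : Set X), y ≠ x := by
    by_contra! hc
    exact hx (closure_subset_iff_isClosed.1 fun y hy => hc y hy)
  have hxy : x ⤳ y := specializes_iff_mem_closure.2 hy
  have hlt : y < x := lt_of_le_not_ge hxy fun h' => hne (Specializes.antisymm h' hxy).eq
  have h1 := Order.coheight_add_one_le hlt
  have h2 := coheight_le_two hdim y
  have h3 : (2 : ℕ∞) ≤ Order.coheight x := Order.add_one_le_of_lt h
  have h4 : (2 : ℕ∞) + 1 ≤ 2 := (add_le_add_left h3 1).trans (h1.trans h2)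
  exact absurd h4 (by decide)

include k hdim in
theorem one_lt_coheight_of_isClosed {x : X} (hx : IsClosed ({x} : Set X)) : 1 < Order.coheight x := by
  have h := H23.DiagReg.dim_stalk_closed (X ↘ Spec (CommRingCat.of k)) (n := 2) hdim hx
  rw [ringKrullDim_stalk_eq_coheight] at h
  have h' : Order.coheight x = 2 := WithBot.coe_injective (h.trans (by norm_num))
  rw [h']
  decide

include k hdim in
/-- A closed set without points of codimension at most one has dimension zero. -/
theorem dim_le_zero_of_coheight {Z : Set X} (hc : IsClosed Z) (h : ∀ x ∈ Z, 1 < Order.coheight x) :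
    topologicalKrullDim ↥Z ≤ ((0 : ℕ) : WithBot ℕ∞) := by
  haveI : IsNoetherian X := CurveCohLib.isNoetherian_of_proper (k := k)
  haveI : JacobsonSpace X := LocallyOfFiniteType.jacobsonSpace (X ↘ Spec (CommRingCat.of k))
  exact (dim_le_zero hc (CurveCohLib.finite_of_closedPoints hc fun x hx =>
    isClosed_of_one_lt_coheight hdim (h x hx))).trans (by simp)

include k hdim in
/-- The points of a closed set of dimension zero have codimension two. -/
theorem one_lt_coheight_of_dim_le_zero {Z : Set X} (hc : IsClosed Z)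
    (hZ : topologicalKrullDim ↥Z ≤ 0) {x : X} (hx : x ∈ Z) : 1 < Order.coheight x := by
  refine one_lt_coheight_of_isClosed (k := k) hdim (closure_subset_iff_isClosed.1 fun y hy => ?_)
  have hxy : x ⤳ y := specializes_iff_mem_closure.2 hy
  have hyZ : y ∈ Z := hxy.mem_closed hc hx
  let cl : ↥Z → IrreducibleCloseds ↥Z := fun z =>
    ⟨closure {z}, isIrreducible_singleton.closure, isClosed_closure⟩
  have hle : cl ⟨y, hyZ⟩ ≤ cl ⟨x, hx⟩ := by
    show closure {(⟨y, hyZ⟩ : ↥Z)} ⊆ closure {⟨x, hx⟩}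
    refine specializes_iff_closure_subset.1 ?_
    exact (subtype_specializes_iff _ _).2 hxy
  have h1 : IsMax (cl ⟨y, hyZ⟩) := Order.krullDim_nonpos_iff_forall_isMax.1 hZ _
  have h2 := h1 hle
  have h3 : (⟨y, hyZ⟩ : ↥Z) ⤳ ⟨x, hx⟩ := specializes_iff_closure_subset.2 h2
  exact (Specializes.antisymm ((subtype_specializes_iff _ _).1 h3) hxy).eq

include hdim in
theorem dim_le (T : Set X) : topologicalKrullDim ↥T ≤ ((2 : ℕ) : WithBot ℕ∞) := by
  refine (H23.TopDim.dim_le_dim_of_subset (Set.subset_univ T)).trans ?_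
  rw [IsHomeomorph.topologicalKrullDim_eq _ (Homeomorph.Set.univ X).isHomeomorph, hdim]
  rfl

include hdim in
theorem dim_support_eq {M : X.Modules} (hM : Coh.IsCoh M) (h : genericPoint X ∈ CohB1.support M) :
    topologicalKrullDim ↥(CohB1.support M) = ((2 : ℕ) : WithBot ℕ∞) := by
  have : CohB1.support M = Set.univ := by
    refine Set.univ_subset_iff.1 ?_
    rw [← (genericPoint_spec X).def]
    exact closure_minimal (Set.singleton_subset_iff.2 h) (QCoh.isClosed_support_of_isFT hM.1 hM.2)
  rw [this, IsHomeomorph.topologicalKrullDim_eq _ (Homeomorph.Set.univ X).isHomeomorph, hdim]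
  rfl

variable {L : X.Modules} (hL : CohB1.IsAmple L)

include hdim hL in
/-- A subsheaf with cokernel vanishing at the generic point has the same leading coefficient. -/
theorem coeff_two_eq {A B : X.Modules} (hA : Coh.IsCoh A) (hB : Coh.IsCoh B) (f : A ⟶ B) [Mono f] {pA pB : ℚ[X]}
    (hpA : ShStab.IsHilbPoly k X L A pA) (hpB : ShStab.IsHilbPoly k X L B pB)
    (h : genericPoint X ∉ CohB1.support (cokernel f)) : pA.coeff 2 = pB.coeff 2 := by
  obtain ⟨hQ, -, hpQ⟩ := cokernel_data hL hA hB (dim_le hdim _) f hpA hpB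
  have hd : topologicalKrullDim ↥(CohB1.support (cokernel f)) < ((2 : ℕ) : WithBot ℕ∞) :=
    HilbPoly.dim_lt_closure (x := genericPoint X) (n := 2)
      (by rw [(genericPoint_spec X).def, IsHomeomorph.topologicalKrullDim_eq _ (Homeomorph.Set.univ X).isHomeomorph,
        hdim]; rfl)
      (QCoh.isClosed_support_of_isFT hQ.1 hQ.2) (by rw [(genericPoint_spec X).def]; exact Set.subset_univ _) h
  have hdeg := (hilb_props hL.1 hQ (pred_cast (n := 2) (by norm_num) hd) hpQ).1
  have := coeff_eq_zero_of_natDegree_lt (p := pB - pA) (n := 2) (lt_of_le_of_lt hdeg (by norm_num))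
  rw [coeff_sub] at this
  linarith

include hdim hL in
theorem coeff_one_le {A B : X.Modules} (hA : Coh.IsCoh A) (hB : Coh.IsCoh B) (f : A ⟶ B) [Mono f] {pA pB : ℚ[X]}
    (hpA : ShStab.IsHilbPoly k X L A pA) (hpB : ShStab.IsHilbPoly k X L B pB)
    (h2 : pA.coeff 2 = pB.coeff 2) : pA.coeff 1 ≤ pB.coeff 1 := by
  obtain ⟨hQ, hdQ, hpQ⟩ := cokernel_data hL hA hB (dim_le hdim _) f hpA hpB
  by_contra hlt
  push Not at hlt
  have hdeg : (pA - pB).natDegree ≤ 1 := natDegree_le_iff_coeff_eq_zero.2 fun N hN => by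
    rcases Nat.lt_or_ge 2 N with h | h
    · rw [coeff_sub, coeff_eq_zero_of_natDegree_lt
        (lt_of_le_of_lt (hilb_props hL.1 hA (dim_le hdim _) hpA).1 h),
        coeff_eq_zero_of_natDegree_lt (lt_of_le_of_lt (hilb_props hL.1 hB (dim_le hdim _) hpB).1 h), sub_zero]
    · obtain rfl : N = 2 := by omega
      rw [coeff_sub, h2, sub_self]
  obtain ⟨N, hN⟩ := HilbPoly.eventually_pos hdeg (by rw [coeff_sub]; linarith)
  obtain ⟨N', hN'⟩ := hilb_nonneg hL hQ hdQ hpQ
  have h3 := hN (max N N') (le_max_left _ _)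
  have h4 := hN' (max N N') (le_max_right _ _)
  rw [eval_sub] at h3
  rw [eval_zero, eval_sub] at h4
  linarith

include hdim hL in
/-- A cokernel supported in codimension two does not change the two top coefficients. -/
theorem coeff_eq_of_small {A B : X.Modules} (hA : Coh.IsCoh A) (hB : Coh.IsCoh B) (f : A ⟶ B) [Mono f]
    {pA pB : ℚ[X]} (hpA : ShStab.IsHilbPoly k X L A pA) (hpB : ShStab.IsHilbPoly k X L B pB)
    (h : topologicalKrullDim ↥(CohB1.support (cokernel f)) ≤ ((0 : ℕ) : WithBot ℕ∞)) :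
    pA.coeff 2 = pB.coeff 2 ∧ pA.coeff 1 = pB.coeff 1 := by
  obtain ⟨hQ, -, hpQ⟩ := cokernel_data hL hA hB (dim_le hdim _) f hpA hpB
  have hdeg := (hilb_props hL.1 hQ h hpQ).1
  have e2 := coeff_eq_zero_of_natDegree_lt (p := pB - pA) (n := 2) (by omega)
  have e1 := coeff_eq_zero_of_natDegree_lt (p := pB - pA) (n := 1) (by omega)
  rw [coeff_sub] at e1 e2
  constructor <;> linarith

theorem hilb_shift {F G : X.Modules} {j : ℕ} (h : PicF.cl G = PicF.cl F * PicF.cl L ^ j) {pF : ℚ[X]}
    (hF : ShStab.IsHilbPoly k X L F pF) :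
    ShStab.IsHilbPoly k X L G (pF.comp (Polynomial.X + C (j : ℚ))) := fun m => by
  have e := (HilbPoly.additive_euler k).iso (ShStab.twist X L G m) (ShStab.twist X L F (m + j))
    (cl_eq_iff.1 (by
      show PicF.cl (CohB1.tensorMod G (CohB1.tensorPow L m)) = PicF.cl (CohB1.tensorMod F (CohB1.tensorPow L (m + j)))
      rw [cl_tensor, cl_tensor, cl_tensorPow, cl_tensorPow, h, mul_assoc, ← pow_add, add_comm j m]))
  rw [e, hF, eval_comp, eval_add, eval_X, eval_C, Nat.cast_add]

theorem coeff_comp (P : ℚ[X]) (hP : P.natDegree ≤ 2) (a : ℚ) :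
    (P.comp (Polynomial.X + C a)).coeff 2 = P.coeff 2 ∧
      (P.comp (Polynomial.X + C a)).coeff 1 = P.coeff 1 + 2 * a * P.coeff 2 := by
  have hsum : P = C (P.coeff 0) + C (P.coeff 1) * Polynomial.X + C (P.coeff 2) * Polynomial.X ^ 2 := by
    conv_lhs => rw [P.as_sum_range' 3 (by omega)]
    simp [Finset.sum_range_succ, ← C_mul_X_pow_eq_monomial]
  have he : P.comp (Polynomial.X + C a) = C (P.coeff 0 + a * P.coeff 1 + a ^ 2 * P.coeff 2) +
      C (P.coeff 1 + 2 * a * P.coeff 2) * Polynomial.X + C (P.coeff 2) * Polynomial.X ^ 2 := by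
    conv_lhs => rw [hsum]
    simp [map_ofNat]
    ring
  rw [he]
  constructor <;> simp [coeff_X, coeff_C, coeff_X_pow, ← map_pow]

include hdim hL in
theorem exists_hilb_O : ∃ pO : ℚ[X], ShStab.IsHilbPoly k X L (Coh.structureModule X) pO ∧ pO.natDegree ≤ 2 ∧
    0 < pO.coeff 2 := by
  haveI : IsNoetherian X := CurveCohLib.isNoetherian_of_proper (k := k)
  have hc : Coh.IsCoh (Coh.structureModule X) := QCoh.isCoh_structureModule'
  obtain ⟨p, hp, hdeg, -⟩ := HilbPoly.exists_hilb (k := k) hL.1 hc (dim_le hdim _)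
  have hη : genericPoint X ∈ CohB1.support (Coh.structureModule X) := fun h => by
    have h2 : Module.finrank (X.presheaf.stalk (genericPoint X))
        ((Coh.structureModule X).presheaf.stalk (genericPoint X)) = 1 :=
      CurveCohLib.genRank_eq (InvEnd.isFinLocFreeOfRank_one (InvX.isInvertible_structureModule (X := X)))
    haveI : Subsingleton ((Coh.structureModule X).presheaf.stalk (genericPoint X)) := h
    rw [Module.finrank_zero_of_subsingleton] at h2
    omega
  have h := HilbPoly.alpha_pos hL hc (dim_support_eq hdim hc hη) hp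
  exact ⟨p, hp, hdeg, by simpa [alpha] using h⟩

variable [PicGrp.Law X]

theorem exists_exponents (hgen : ∀ c : PicLoc.PicSet X, ∃ n : ℤ, c = PicGrp.cls L hL.1 ^ n) {M : X.Modules}
    (hM : PicF.IsInvertible M) : ∃ a b : ℕ, PicF.cl M * PicF.cl L ^ b = PicF.cl L ^ a := by
  obtain ⟨n, hn⟩ := hgen (PicGrp.cls M hM)
  rcases n with m | m
  · refine ⟨m, 0, ?_⟩
    rw [Int.ofNat_eq_natCast, zpow_natCast] at hn
    have h := congrArg Subtype.val hn
    rw [PicGrp.cls_val, PicGrp.cls_pow_val, cl_tensorPow] at h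
    rw [pow_zero, mul_one, h]
  · refine ⟨0, m + 1, ?_⟩
    rw [zpow_negSucc] at hn
    have h1 : PicGrp.cls M hM * PicGrp.cls L hL.1 ^ (m + 1) = 1 := by rw [hn, inv_mul_cancel]
    have h := congrArg Subtype.val h1
    have hv : (PicGrp.cls L hL.1 ^ (m + 1)).1 = PicF.cl (CohB1.tensorPow L (m + 1)) := PicGrp.cls_pow_val _ _
    rw [PicGrp.mul_val, PicGrp.cls_val, hv, PicGrp.mulCl_cl, PicGrp.one_val, cl_tensor, cl_tensorPow] at h
    rw [pow_zero, h]
    exact one_def

include hdim hL in
/-- The two top coefficients of an invertible module. -/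
theorem exists_deg (hgen : ∀ c : PicLoc.PicSet X, ∃ n : ℤ, c = PicGrp.cls L hL.1 ^ n) {M : X.Modules}
    (hM : PicF.IsInvertible M) {pM pO : ℚ[X]} (hpM : ShStab.IsHilbPoly k X L M pM)
    (hpO : ShStab.IsHilbPoly k X L (Coh.structureModule X) pO) :
    ∃ a b : ℕ, PicF.cl M * PicF.cl L ^ b = PicF.cl L ^ a ∧ pM.coeff 2 = pO.coeff 2 ∧
      pM.coeff 1 = pO.coeff 1 + 2 * ((a : ℚ) - b) * pO.coeff 2 := by
  haveI : IsNoetherian X := CurveCohLib.isNoetherian_of_proper (k := k)
  obtain ⟨a, b, hab⟩ := exists_exponents hL hgen hM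
  have hMc : Coh.IsCoh M := CurveDeg.isCoh_of_isInvertible hM
  obtain ⟨hdM, -⟩ := hilb_props hL.1 hMc (dim_le hdim _) hpM
  obtain ⟨hdO, -⟩ := hilb_props (k := k) hL.1 QCoh.isCoh_structureModule' (dim_le hdim _) hpO
  have h1 := hilb_shift (k := k) (L := L) (G := CohB1.tensorMod M (CohB1.tensorPow L b)) (j := b)
    (by rw [cl_tensor, cl_tensorPow]) hpM
  have h2 := hilb_shift (k := k) (L := L) (G := CohB1.tensorMod M (CohB1.tensorPow L b)) (j := a)
    (F := Coh.structureModule X)
    (by rw [cl_tensor, cl_tensorPow, hab, show PicF.cl (Coh.structureModule X) = 1 from rfl, one_mul]) hpO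
  have he := HilbPoly.isHilbPoly_unique h1 h2
  obtain ⟨m2, m1⟩ := coeff_comp pM hdM (b : ℚ)
  obtain ⟨o2, o1⟩ := coeff_comp pO hdO (a : ℚ)
  rw [he, o2] at m2
  rw [he, o1] at m1
  refine ⟨a, b, hab, m2.symm, ?_⟩
  rw [← m2] at m1
  linarith

include hdim hL in
/-- Slope stability of a non-split extension of a rank one subsheaf of the generator by the structure sheaf. -/
theorem muStable_of_extension [IsAlgClosed k] (hreg : ∀ x : X, IsRegularLocalRing (X.presheaf.stalk x))
    (hgen : ∀ c : PicLoc.PicSet X, ∃ n : ℤ, c = PicGrp.cls L hL.1 ^ n)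
    (N : X.Modules) (ι : N ⟶ L) [Mono ι] (hN : Coh.IsCoh N)
    (hZ : topologicalKrullDim (CohB1.support (cokernel ι)) ≤ 0)
    (V : X.Modules) (hV : Coh.IsCoh V) (hVtf : TorSh.IsTorsionFree V)
    (a : Coh.structureModule X ⟶ V) (b : V ⟶ N) (w : a ≫ b = 0)
    (hex : (ShortComplex.mk a b w).ShortExact)
    (hns : ∀ r : V ⟶ Coh.structureModule X, a ≫ r ≠ 𝟙 (Coh.structureModule X)) :
    ShStab.IsMuStable k X L V 2 := by
  haveI : IsNoetherian X := CurveCohLib.isNoetherian_of_proper (k := k)
  have hnorm := normal_of_regular hreg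
  haveI := hex.mono_f
  have hOc : Coh.IsCoh (Coh.structureModule X) := QCoh.isCoh_structureModule'
  have hLc : Coh.IsCoh L := CurveDeg.isCoh_of_isInvertible hL.1
  have htL : TorSh.IsTorsionFree L :=
    GenDiff29.isTorsionFree_of_isFinLocFree (H23.PullPush.isFinLocFree_of_isInvertible hL.1)
  have htO : TorSh.IsTorsionFree (Coh.structureModule X) :=
    GenDiff29.isTorsionFree_of_isFinLocFree
      (H23.PullPush.isFinLocFree_of_isInvertible (InvX.isInvertible_structureModule (X := X)))
  obtain ⟨pO, hpO, hdO, hc2⟩ := exists_hilb_O (k := k) hdim hL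
  obtain ⟨pL, hpL, -, -⟩ := HilbPoly.exists_hilb (k := k) hL.1 hLc (dim_le hdim _)
  have hLs := hilb_shift (k := k) (L := L) (F := Coh.structureModule X) (G := L) (j := 1)
    (by rw [pow_one, show PicF.cl (Coh.structureModule X) = 1 from rfl, one_mul]) hpO
  obtain ⟨l2, l1⟩ := coeff_comp pO hdO ((1 : ℕ) : ℚ)
  rw [HilbPoly.isHilbPoly_unique hLs hpL] at l2 l1
  obtain ⟨pN, hpN, -, -⟩ := HilbPoly.exists_hilb (k := k) hL.1 hN (dim_le hdim _)
  obtain ⟨n2, n1⟩ := coeff_eq_of_small hdim hL hN hLc ι hpN hpL (by simpa using hZ)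
  have hpV : ShStab.IsHilbPoly k X L V (pO + pN) := HilbPoly.hilb_add hL.1 hex hOc hV hN hpO hpN
  let η := genericPoint X
  letI : Field (X.presheaf.stalk η) := inferInstanceAs (Field X.functionField)
  have hVη : η ∈ CohB1.support V := by
    refine mem_support hV hVtf fun hz => ?_
    have h1 : a = 0 := hz.eq_of_tgt a 0
    have hz' : IsZero (Coh.structureModule X) := (IsZero.iff_id_eq_zero _).2 ((cancel_mono a).1 (by rw [h1]; simp))
    have h := HilbPoly.isHilbPoly_unique hpO (HilbPoly.hilb_isZero hz')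
    rw [h] at hc2
    simp at hc2
  refine ⟨hV, fun hz => Set.eq_empty_iff_forall_notMem.1 (QCoh.support_eq_empty_of_isZero hz hV.1) _ hVη,
    dim_support_eq hdim hV hVη, fun F f hf hF => ?_, ?_⟩
  · haveI := hf
    intro hcon
    by_cases hFη : η ∈ CohB1.support F
    · rw [dim_support_eq hdim hF hFη] at hcon
      exact absurd hcon (by decide)
    · have hz : IsZero F := by
        by_contra h0
        exact hFη (mem_support hF (tf_of_mono f hVtf) h0)
      rw [QCoh.support_eq_empty_of_isZero hz hF.1] at hcon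
      haveI : IsEmpty (IrreducibleCloseds ↥(∅ : Set X)) :=
        ⟨fun s => s.2.1.ne_empty (Set.eq_empty_of_isEmpty s.1)⟩
      rw [topologicalKrullDim, Order.krullDim_eq_bot_iff.2 inferInstance, WithBot.bot_add] at hcon
      exact absurd hcon (by simp)
  intro F f hf hF pF pV hpF hpV' hpos hlt
  haveI := hf
  obtain rfl := HilbPoly.isHilbPoly_unique hpV' hpV
  simp only [alpha, coeff_add] at hpos hlt
  norm_num at hpos hlt
  have htF := tf_of_mono f hVtf
  have hF0 : ¬ IsZero F := fun hz => by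
    rw [HilbPoly.isHilbPoly_unique hpF (HilbPoly.hilb_isZero hz)] at hpos
    simp at hpos
  let Φ := DerSch.stalkFunctor X η
  haveI : Φ.Additive := DerSch.additive_stalkFunctor η
  suffices hgoal : pF.coeff 1 ≤ pO.coeff 1 ∧ pF.coeff 2 = pO.coeff 2 by
    show alpha (2 - 1) pF / alpha 2 pF < alpha (2 - 1) (pO + pN) / alpha 2 (pO + pN)
    simp only [alpha, coeff_add]
    norm_num
    rw [n2, n1, l2, l1, hgoal.2, div_lt_div_iff₀ (by linarith) (by linarith)]
    push_cast
    nlinarith [mul_pos hc2 hc2, hgoal.1]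
  by_cases hφ : f ≫ b = 0
  · -- inside the structure sheaf
    obtain ⟨f', hf'⟩ := KernelFork.IsLimit.lift' hex.fIsKernel f hφ
    haveI : Mono f' := mono_of_mono_fac hf'
    obtain ⟨pF', hpF', -, -⟩ := HilbPoly.exists_hilb (k := k) hL.1 hF (dim_le hdim _)
    have h2 : pF.coeff 2 = pO.coeff 2 := by
      refine coeff_two_eq hdim hL hF hOc f' hpF hpO (notMem_support_cokernel f' ?_)
      have h1 : Module.finrank (X.presheaf.stalk η) ((Coh.structureModule X).presheaf.stalk η) = 1 :=
        CurveCohLib.genRank_eq (InvEnd.isFinLocFreeOfRank_one (InvX.isInvertible_structureModule (X := X)))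
      obtain ⟨v, hv⟩ : ∃ v, (Φ.map f').hom v ≠ 0 := by
        by_contra hc
        push Not at hc
        have h0 : f' = 0 := eq_zero_of_stalk_zero hOc.1 htO f' hc
        exact hF0 ((IsZero.iff_id_eq_zero F).2 ((cancel_mono f').1 (by rw [h0]; simp)))
      intro y
      obtain ⟨c, hc⟩ := exists_smul_eq_of_finrank_eq_one h1 hv y
      exact ⟨c • v, by rw [map_smul]; exact hc⟩
    exact ⟨coeff_one_le hdim hL hF hOc f' hpF hpO h2, h2⟩
  -- mapping into the generator
  let φ : F ⟶ L := f ≫ b ≫ ι
  have hL1 : Module.finrank (X.presheaf.stalk η) (L.presheaf.stalk η) = 1 :=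
    CurveCohLib.genRank_eq (InvEnd.isFinLocFreeOfRank_one hL.1)
  obtain ⟨v, hv⟩ : ∃ v, (Φ.map φ).hom v ≠ 0 := by
    by_contra hc
    push Not at hc
    exact hφ ((cancel_mono ι).1 ((Category.assoc _ _ _).trans
      ((eq_zero_of_stalk_zero hLc.1 htL φ hc).trans Limits.zero_comp.symm)))
  have hφsurj : Function.Surjective (Φ.map φ).hom := fun y => by
    obtain ⟨c, hc⟩ := exists_smul_eq_of_finrank_eq_one hL1 hv y
    exact ⟨c • v, by rw [map_smul]; exact hc⟩
  -- injectivity at the generic point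
  have hSO := ((KFlatLib.exact_iff_stalk (ShortComplex.mk a b w)).1 hex.exact η).moduleCat_range_eq_ker
  have hιinj : Function.Injective (Φ.map ι).hom := CurveCohLib.stalk_injective ι η
  have hφinj : Function.Injective (Φ.map φ).hom := by
    refine (injective_iff_map_eq_zero _).2 fun u hu => ?_
    by_contra hu0
    refine absurd (coeff_two_eq hdim hL hF hV f hpF hpV (notMem_support_cokernel f ?_))
      (by rw [coeff_add]; intro h; linarith)
    intro y
    obtain ⟨t, ht⟩ := hφsurj ((Φ.map ι).hom ((Φ.map b).hom y))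
    have hd : (Φ.map b).hom (y - (Φ.map f).hom t) = 0 := by
      rw [map_sub, sub_eq_zero]
      refine hιinj ?_
      rw [← ht]
      show (Φ.map (f ≫ b ≫ ι)).hom t = _
      rw [Φ.map_comp, Φ.map_comp]
      rfl
    have hub : (Φ.map b).hom ((Φ.map f).hom u) = 0 := hιinj (by
      rw [map_zero]
      have : (Φ.map (f ≫ b ≫ ι)).hom u = 0 := hu
      rw [Φ.map_comp, Φ.map_comp] at this
      exact this)
    obtain ⟨c₁, hc₁⟩ : ∃ c₁, (Φ.map a).hom c₁ = (Φ.map f).hom u := LinearMap.mem_range.1 (hSO ▸ LinearMap.mem_ker.2 hub :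
      (Φ.map f).hom u ∈ LinearMap.range (Φ.map a).hom)
    obtain ⟨c₂, hc₂⟩ : ∃ c₂, (Φ.map a).hom c₂ = y - (Φ.map f).hom t := LinearMap.mem_range.1 (hSO ▸ LinearMap.mem_ker.2 hd :
      y - (Φ.map f).hom t ∈ LinearMap.range (Φ.map a).hom)
    have hO1 : Module.finrank (X.presheaf.stalk η) ((Coh.structureModule X).presheaf.stalk η) = 1 :=
      CurveCohLib.genRank_eq (InvEnd.isFinLocFreeOfRank_one (InvX.isInvertible_structureModule (X := X)))
    have hc₁0 : c₁ ≠ 0 := fun h0 => hu0 (CurveCohLib.stalk_injective f η (by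
      rw [map_zero, ← hc₁, h0]
      exact map_zero _))
    obtain ⟨s, hs⟩ := exists_smul_eq_of_finrank_eq_one hO1 hc₁0 c₂
    refine ⟨t + s • u, ?_⟩
    rw [map_add, map_smul, ← hc₁, ← map_smul, hs]
    exact (congrArg _ hc₂).trans (add_sub_cancel _ _)
  haveI : Mono φ := mono_of_generic hF hLc htF φ hφinj
  have hF2 : pF.coeff 2 = pO.coeff 2 :=
    (coeff_two_eq hdim hL hF hLc φ hpF hpL (notMem_support_cokernel φ hφsurj)).trans l2
  refine ⟨?_, hF2⟩
  -- the reflexive hull
  have hv0 : v ≠ 0 := fun h0 => hv (by rw [h0, map_zero])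
  have hvb : Function.Bijective fun c : X.presheaf.stalk η => c • v := by
    refine ⟨smul_left_injective _ hv0, fun u => ?_⟩
    obtain ⟨c, hc⟩ := exists_smul_eq_of_finrank_eq_one hL1 hv ((Φ.map φ).hom u)
    exact ⟨c, hφinj (by rw [map_smul]; exact hc)⟩
  have hfr := hasFrames hnorm hF htF hvb
  have hW := RefX.isRef1_ddual hF hfr
  have hWi := S16491.result X hreg _ hW.1 hW.2.1 hW.2.2
  let β : F ⟶ RefHull.ddual F := RefHull.bidualMap F
  have hβ : ∀ x : X, Order.coheight x ≤ 1 → Function.Bijective ((DerSch.stalkFunctor X x).map β).hom :=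
    fun x hx => by
      obtain ⟨U, hU, e, he⟩ := hfr x hx
      exact bidual_bijective hF he hU
  haveI : Mono β := mono_of_generic hF hW.1 htF β
    (hβ η (by rw [RefX.coheight_genericPoint]; exact zero_le)).1
  have hβsupp : topologicalKrullDim ↥(CohB1.support (cokernel β)) ≤ ((0 : ℕ) : WithBot ℕ∞) := by
    have hc := QCoh.isCoh_cokernel hF.1 hW.1 β
    refine dim_le_zero_of_coheight (k := k) hdim (QCoh.isClosed_support_of_isFT hc.1 hc.2) fun x hx => ?_
    by_contra hle
    exact notMem_support_cokernel β (hβ x (not_lt.1 hle)).2 hx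
  obtain ⟨pW, hpW, -, -⟩ := HilbPoly.exists_hilb (k := k) hL.1 hW.1 (dim_le hdim _)
  obtain ⟨-, w1⟩ := coeff_eq_of_small hdim hL hF hW.1 β hpF hpW hβsupp
  obtain ⟨i, j, -, -, hij⟩ := exists_deg hdim hL hgen hWi hpW hpO
  by_contra hbad
  push Not at hbad
  rw [w1, hij] at hbad
  have hge : (1 : ℚ) ≤ (i : ℚ) - j := by
    have : (j : ℕ) < i := by
      by_contra hji
      push Not at hji
      have : (i : ℚ) ≤ j := by exact_mod_cast hji
      nlinarith
    have : ((j + 1 : ℕ) : ℚ) ≤ i := by exact_mod_cast this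
    push_cast at this
    linarith
  -- then the map to the generator has small cokernel
  obtain ⟨hTc, -, hpT⟩ := cokernel_data hL hF hLc (dim_le hdim _) φ hpF hpL
  have hTle : topologicalKrullDim ↥(CohB1.support (cokernel φ)) < ((2 : ℕ) : WithBot ℕ∞) :=
    HilbPoly.dim_lt_closure (x := η) (n := 2)
      (by rw [(genericPoint_spec X).def, IsHomeomorph.topologicalKrullDim_eq _ (Homeomorph.Set.univ X).isHomeomorph,
        hdim]; rfl)
      (QCoh.isClosed_support_of_isFT hTc.1 hTc.2) (by rw [(genericPoint_spec X).def]; exact Set.subset_univ _)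
      (notMem_support_cokernel φ hφsurj)
  have hT1 := pred_cast (n := 2) (by norm_num) hTle
  have hTsmall : topologicalKrullDim ↥(CohB1.support (cokernel φ)) ≤ ((0 : ℕ) : WithBot ℕ∞) := by
    refine pred_cast (n := 1) le_rfl (lt_of_le_of_ne hT1 fun heq => ?_)
    have hpos := HilbPoly.alpha_pos hL hTc heq hpT
    have hα : alpha 1 (pL - pF) = pL.coeff 1 - pF.coeff 1 := by simp [alpha]
    rw [hα, l1, w1, hij] at hpos
    push_cast at hpos
    nlinarith
  -- and the extension splits
  let Q := cokernel f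
  have hQc : Coh.IsCoh Q := QCoh.isCoh_cokernel hF.1 hV f
  let χ : Coh.structureModule X ⟶ Q := a ≫ cokernel.π f
  have hclosed := QCoh.isClosed_support_of_isFT hTc.1 hTc.2
  let U : X.Opens := ⟨(CohB1.support (cokernel φ))ᶜ, hclosed.isOpen_compl⟩
  have hχ : ∀ x ∈ U, Function.Bijective ((DerSch.stalkFunctor X x).map χ).hom := by
    intro x hx
    let Ψ := DerSch.stalkFunctor X x
    haveI : Ψ.Additive := DerSch.additive_stalkFunctor x
    have hs := surjective_of_notMem φ (hx : x ∉ CohB1.support (cokernel φ))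
    have hinj : Function.Injective (Ψ.map φ).hom := CurveCohLib.stalk_injective φ x
    have hr := ((KFlatLib.exact_iff_stalk (ShortComplex.mk f (cokernel.π f) (cokernel.condition f))).1
      (ShortComplex.exact_cokernel f) x).moduleCat_range_eq_ker
    have hr2 := ((KFlatLib.exact_iff_stalk (ShortComplex.mk a b w)).1 hex.exact x).moduleCat_range_eq_ker
    have hba : ∀ c, (Ψ.map b).hom ((Ψ.map a).hom c) = 0 := fun c => by
      show (Ψ.map a ≫ Ψ.map b).hom c = 0
      rw [← Ψ.map_comp, w, Functor.map_zero]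
      rfl
    refine ⟨(injective_iff_map_eq_zero _).2 fun c hc => ?_, fun z => ?_⟩
    · have hc' : (Ψ.map a).hom c ∈ LinearMap.ker (Ψ.map (cokernel.π f)).hom := by
        rw [LinearMap.mem_ker]
        have : (Ψ.map (a ≫ cokernel.π f)).hom c = 0 := hc
        rw [Ψ.map_comp] at this
        exact this
      obtain ⟨t, ht⟩ : ∃ t, (Ψ.map f).hom t = (Ψ.map a).hom c :=
        LinearMap.mem_range.1 (hr ▸ hc' : (Ψ.map a).hom c ∈ LinearMap.range (Ψ.map f).hom)
      have ht0 : t = 0 := hinj (by
        rw [map_zero]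
        show (Ψ.map (f ≫ b ≫ ι)).hom t = 0
        rw [Ψ.map_comp, Ψ.map_comp]
        show (Ψ.map ι).hom ((Ψ.map b).hom ((Ψ.map f).hom t)) = 0
        rw [ht, hba, map_zero])
      rw [ht0, map_zero] at ht
      exact CurveCohLib.stalk_injective a x (ht.symm.trans (map_zero _).symm)
    · obtain ⟨y, rfl⟩ := (ModuleCat.epi_iff_surjective (Ψ.map (cokernel.π f))).1 inferInstance z
      obtain ⟨t, ht⟩ := hs ((Ψ.map ι).hom ((Ψ.map b).hom y))
      have hd : y - (Ψ.map f).hom t ∈ LinearMap.ker (Ψ.map b).hom := by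
        rw [LinearMap.mem_ker, map_sub, sub_eq_zero]
        refine CurveCohLib.stalk_injective ι x ?_
        rw [← ht]
        show (Ψ.map (f ≫ b ≫ ι)).hom t = _
        rw [Ψ.map_comp, Ψ.map_comp]
        rfl
      obtain ⟨c, hc⟩ : ∃ c, (Ψ.map a).hom c = y - (Ψ.map f).hom t := LinearMap.mem_range.1 (hr2 ▸ hd : y - (Ψ.map f).hom t ∈ LinearMap.range (Ψ.map a).hom)
      refine ⟨c, ?_⟩
      show (Ψ.map (a ≫ cokernel.π f)).hom c = _
      rw [Ψ.map_comp]
      show (Ψ.map (cokernel.π f)).hom ((Ψ.map a).hom c) = _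
      have hz : (Ψ.map (cokernel.π f)).hom ((Ψ.map f).hom t) = 0 := by
        show (Ψ.map f ≫ Ψ.map (cokernel.π f)).hom t = 0
        rw [← Ψ.map_comp, cokernel.condition, Functor.map_zero]
        rfl
      rw [hc, map_sub, hz, sub_zero]
  obtain ⟨eO, heO⟩ : ∃ e : Γ(Coh.structureModule X, U), InvX.IsFrame e := ⟨_, InvX.isFrame_one U⟩
  have hUbig : ∀ x : X, Order.coheight x ≤ 1 → x ∈ U := fun x hx hmem =>
    absurd (one_lt_coheight_of_dim_le_zero (k := k) hdim hclosed (by simpa using hTsmall) hmem) (not_lt.2 hx)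
  have hQframe : InvX.IsFrame (χ.app U eO) := by
    refine InvX.isFrame_of_germ fun y hy => ?_
    have h1 : (fun c : X.presheaf.stalk y => c • Q.presheaf.germ U y hy (χ.app U eO)) =
        ((DerSch.stalkFunctor X y).map χ).hom ∘ fun c => c • (Coh.structureModule X).presheaf.germ U y hy eO := by
      funext c
      rw [Function.comp_apply, map_smul]
      exact congrArg (c • ·) (DerSch.stalkFunctor_map_germ y χ U hy eO).symm
    rw [h1]
    exact (hχ y hy).comp (heO.germ_bijective hy)
  have hQf : RefX.HasFrames Q := fun x hx => ⟨U, hUbig x hx, _, hQframe⟩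
  have hR := RefX.isRef1_ddual hQc hQf
  have hRi := S16491.result X hreg _ hR.1 hR.2.1 hR.2.2
  let θ : Coh.structureModule X ⟶ RefHull.ddual Q := χ ≫ RefHull.bidualMap Q
  have hθ : ∀ x ∈ U, Function.Bijective ((DerSch.stalkFunctor X x).map θ).hom := fun x hx => by
    show Function.Bijective ((DerSch.stalkFunctor X x).map (χ ≫ RefHull.bidualMap Q)).hom
    rw [Functor.map_comp]
    exact (bidual_bijective hQc hQframe hx).comp (hχ x hx)
  haveI : Mono θ := mono_of_generic hOc hR.1 htO θ
    (hθ η (hUbig η (by rw [RefX.coheight_genericPoint]; exact zero_le))).1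
  obtain ⟨pR, hpR, -, -⟩ := HilbPoly.exists_hilb (k := k) hL.1 hR.1 (dim_le hdim _)
  have hθsupp : topologicalKrullDim ↥(CohB1.support (cokernel θ)) ≤ ((0 : ℕ) : WithBot ℕ∞) :=
    (H23.TopDim.dim_le_dim_of_subset (fun x hx => by
      by_contra hxU
      exact notMem_support_cokernel θ (hθ x hxU).2 hx)).trans hTsmall
  obtain ⟨-, r1⟩ := coeff_eq_of_small hdim hL hOc hR.1 θ hpO hpR hθsupp
  obtain ⟨i', j', hcl, -, hr1⟩ := exists_deg hdim hL hgen hRi hpR hpO
  obtain rfl : i' = j' := by
    have h0 : ((i' : ℚ) - j') * pO.coeff 2 = 0 := by linarith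
    have h1 := (mul_eq_zero.1 h0).resolve_right hc2.ne'
    exact_mod_cast sub_eq_zero.1 h1
  obtain ⟨eR⟩ : Nonempty (RefHull.ddual Q ≅ Coh.structureModule X) := by
    have hm : ∀ {M : X.Modules}, PicF.IsInvertible M → PicF.cl M * PicF.cl L ^ i' = PicF.cl L ^ i' →
        Nonempty (M ≅ Coh.structureModule X) := by
      intro M hM hMcl
      have h1 : PicGrp.cls M hM * PicGrp.cls L hL.1 ^ i' = PicGrp.cls L hL.1 ^ i' := Subtype.ext (by
        have hv : (PicGrp.cls L hL.1 ^ i').1 = PicF.cl (CohB1.tensorPow L i') := PicGrp.cls_pow_val _ _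
        rw [PicGrp.mul_val, PicGrp.cls_val, hv, PicGrp.mulCl_cl, cl_tensor, cl_tensorPow]
        exact hMcl)
      exact (PicGrp.cls_eq_one_iff hM).1 (mul_eq_right.1 h1)
    exact hm hRi hcl
  let θ' : End (Coh.structureModule X) := θ ≫ eR.hom
  have hθ'0 : θ' ≠ 0 := fun h0 => by
    have hm : Mono (θ ≫ eR.hom) := inferInstance
    rw [show θ ≫ eR.hom = 0 from h0] at hm
    have hz : IsZero (Coh.structureModule X) :=
      (IsZero.iff_id_eq_zero _).2 (Preadditive.mono_iff_cancel_zero _ |>.1 hm _ _ (by simp))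
    have h := HilbPoly.isHilbPoly_unique hpO (HilbPoly.hilb_isZero hz)
    rw [h] at hc2
    simp at hc2
  letI := CurveEnd.kAlgebra (k := k) (Coh.structureModule X)
  obtain ⟨c, hc⟩ := (InvEnd.exists_scalar (k := k) (InvX.isInvertible_structureModule (X := X))).2 θ'
  have hc0 : c ≠ 0 := fun h0 => hθ'0 (by rw [← hc, h0, map_zero])
  refine hns (cokernel.π f ≫ RefHull.bidualMap Q ≫ eR.hom ≫ algebraMap k (End (Coh.structureModule X)) c⁻¹) ?_
  have h1 : algebraMap k (End (Coh.structureModule X)) c⁻¹ * θ' = 1 := by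
    rw [← hc, ← map_mul, inv_mul_cancel₀ hc0, map_one]
  rw [End.mul_def] at h1
  simp only [θ', θ, χ, Category.assoc] at h1
  exact h1

end Surface

end Groth.Agent.Synt29.SurfRankOne

end
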