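import Groth.Agent.S10829
import Groth.Agent.S10960
import Groth.Agent.S11310
import Groth.Agent.S4466
import Groth.Agent.Synt29.PnEuler
import Groth.Agent.Synt29.SurfRankOne
import Groth.Agent.CurveEmbed.Conic
import Groth.Agent.H23.PnChart
import Groth.Agent.H26.InterSymm
import Groth.Agent.VarDim.Local
import Groth.Agent.VarDim.Top
import Groth.Agent.Pic13Lib.HypSeq
import Groth.Agent.Pic13Lib.IntNum
import Groth.Agent.Pic13Lib.AlgEqEuler
import Groth.Agent.Lib.IntAlt
import Groth.Agent.AffCompl.Lift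
import Groth.Agent.CurveCohLib.Rank

/-!
# Smooth surfaces in projective three-space
-/

set_option autoImplicit false
set_option linter.style.haveILetI false
set_option linter.unusedSectionVars false
set_option backward.isDefEq.respectTransparency false
set_option backward.isDefEq.respectTransparency.types false
set_option maxHeartbeats 1000000

universe u

open CategoryTheory CategoryTheory.Limits AlgebraicGeometry TopologicalSpace
open Groth.Agent Groth.Agent.H23 Groth.Agent.H23.PicMul Groth.Agent.Pic13Lib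

attribute [local instance] H23.PicMul.clMonoid

noncomputable section

namespace Groth.Agent.Synt29.SurfP3

theorem cl_omega_top (n : ℕ) (A : Type u) [CommRing A] [QuasiSeparated (CohB1.ProjSpace.toSpec n A)]
    {ω : (CohB1.ProjSpace n A).Modules} (hω : ExtPow.IsExtPow n (Omega.sheaf (CohB1.ProjSpace.toSpec n A)) ω) :
    PicF.cl ω = PicF.cl (Twist.twistProjSpace n A (-((n : ℤ) + 1))) := by
  obtain ⟨T, hT, h1, h3, N, a, b, hN, hab, hba⟩ := PnEuler.exists_euler' n A n 0
  rw [Nat.choose_self] at hN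
  subst hN
  haveI : Mono T.f := hT.mono_f
  haveI : Epi T.g := hT.epi_g
  have hz := PnEuler.hodge_top n A (Nat.lt_succ_self n) _ h1
  haveI : Mono T.g := hT.exact.mono_g (hz.eq_of_src _ _)
  haveI : IsIso T.g := isIso_of_mono_of_epi T.g
  rw [PnEuler.cl_eq_hodge_zero n A hω, ← h3, ← zero_sub ((n : ℤ) + 1)]
  refine cl_eq_iff.2 ⟨(asIso T.g).symm ≪≫ ⟨a 0, b 0, ?_, ?_⟩⟩
  · simpa using hab
  · simpa using hba 0 0

variable {k : Type u} [Field k] {X : Scheme.{u}} [X.Over (Spec (CommRingCat.of k))]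
  [Smooth (X ↘ Spec (CommRingCat.of k))] [IsIntegral X] (hdim : topologicalKrullDim X = 2)
  (ι : X ⟶ CohB1.ProjSpace 3 k) [IsClosedImmersion ι]
  (hι : ι ≫ CohB1.ProjSpace.toSpec 3 k = X ↘ Spec (CommRingCat.of k))

include hdim hι in
/-- The ideal of the surface is invertible. -/
theorem isEffCartier_ker : BlowUp.IsEffCartierIdeal ι.ker := by
  haveI hs : Smooth ((CohB1.ProjSpace 3 k) ↘ Spec (CommRingCat.of k)) := CurveEmbed.smooth_toSpec 3 k
  haveI : IsLocallyNoetherian (CohB1.ProjSpace 3 k) :=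
    LocallyOfFiniteType.isLocallyNoetherian ((CohB1.ProjSpace 3 k) ↘ Spec (CommRingCat.of k))
  haveI : IsIntegral (CohB1.ProjSpace 3 k) := PnChart.isIntegral_projSpace 3 k
  haveI : IsIntegral ι.ker.subscheme := by
    haveI : Nonempty ↥(ι.ker.subscheme : Scheme.{u}) := ⟨ι.toImage (genericPoint _)⟩
    exact isIntegral_of_isOpenImmersion (inv ι.toImage)
  refine DivX.isEffCartier_of_codim_one _ ?_ fun x _ => by
    haveI := GrpSchLib.isRegularLocalRing_stalk_of_smooth ((CohB1.ProjSpace 3 k) ↘ Spec (CommRingCat.of k)) x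
    exact S2821.result _
  have hr : closure ({ι.base (genericPoint X)} : Set (CohB1.ProjSpace 3 k)) = Set.range ι.base := by
    have h := (genericPoint_spec X).image ι.continuous
    rw [Set.image_univ, ι.isClosedEmbedding.isClosed_range.closure_eq] at h
    exact h.def
  have hgen : ι.ker.subschemeι (genericPoint ι.ker.subscheme) = ι.base (genericPoint X) := by
    have h := (genericPoint_spec ι.ker.subscheme).image ι.ker.subschemeι.continuous
    rw [Set.image_univ, Scheme.IdealSheafData.range_subschemeι, Scheme.Hom.support_ker] at h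
    rw [closure_closure, ι.isClosedEmbedding.isClosed_range.closure_eq] at h
    exact h.eq hr
  rw [hgen]
  let f := (CohB1.ProjSpace 3 k) ↘ Spec (CommRingCat.of k)
  set η := ι.base (genericPoint X)
  obtain ⟨b, hb, ⟨θ, -, hθ⟩, hle⟩ := VarDim.exists_deg_add_stalk f η
  have h2 : VarDim.deg f η = 2 := by
    have h := VarDim.topologicalKrullDim_closure_singleton f η
    rw [hr, ← IsHomeomorph.topologicalKrullDim_eq _ ι.isClosedEmbedding.isEmbedding.toHomeomorph.isHomeomorph, hdim] at h
    exact_mod_cast (WithBot.coe_inj.1 h).symm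
  have h3 : VarDim.deg f (genericPoint (CohB1.ProjSpace 3 k)) = 3 := by
    have h := VarDim.topologicalKrullDim_eq_deg_genericPoint f
    rw [S10829.result k 3] at h
    exact_mod_cast (WithBot.coe_inj.1 h).symm
  have h4 := hle _ (genericPoint_specializes η)
  have h5 := VarDim.deg_le_of_specializes f (genericPoint_specializes θ)
  rw [hb]
  have : b = 1 := by omega
  exact_mod_cast this

include hdim hι in
/-- The ideal of the surface is a twist. -/
theorem exists_ideal : ∃ e : ℤ, Nonempty (ClSub.idealMod ι.ker ≅ Twist.twistProjSpace 3 k (-e)) := by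
  obtain ⟨d, hd, -⟩ := S10960.result k 3 (by norm_num) _ (H26.IdealCl.isInvertible_idealMod (isEffCartier_ker hdim ι hι))
  exact ⟨-d, by rwa [neg_neg]⟩

include hι in
theorem isProper : IsProper (X ↘ Spec (CommRingCat.of k)) := by
  haveI : IsProper (CohB1.ProjSpace.toSpec 3 k) := PnCoh.Chow.isProper_toSpec 3 _
  rw [← hι]
  infer_instance

theorem euler_line (a : ℤ) :
    Curv2.euler k (CohB1.ProjSpace 3 k) (Twist.twistProjSpace 3 k a) = Ring.choose (a + 3) 3 := by
  haveI : IsProper ((CohB1.ProjSpace 3 k) ↘ Spec (CommRingCat.of k)) := PnCoh.Chow.isProper_toSpec 3 _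
  haveI : IsNoetherian (CohB1.ProjSpace 3 k) := CurveCohLib.isNoetherian_of_proper (k := k)
  rw [← Pic13Lib.eulerCharLE_eq (S10829.result k 3).le (CurveDeg.isCoh_of_isInvertible (PnEuler.isInvertible_O 3 k a)).1]
  exact S4466.result k 3 (by norm_num) a

include hdim hι in
/-- The Euler characteristics of the twists. -/
theorem euler_tw {e : ℤ} (he : Nonempty (ClSub.idealMod ι.ker ≅ Twist.twistProjSpace 3 k (-e))) (j : ℤ) :
    Curv2.euler k X ((Scheme.Modules.pullback ι).obj (Twist.twistProjSpace 3 k j)) =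
      Ring.choose (j + 3) 3 - Ring.choose (j - e + 3) 3 := by
  haveI : IsProper ((CohB1.ProjSpace 3 k) ↘ Spec (CommRingCat.of k)) := PnCoh.Chow.isProper_toSpec 3 _
  haveI : IsNoetherian (CohB1.ProjSpace 3 k) := CurveCohLib.isNoetherian_of_proper (k := k)
  haveI := isProper ι hι
  haveI : IsNoetherian X := CurveCohLib.isNoetherian_of_proper (k := k)
  have hO := PnEuler.isInvertible_O 3 k j
  haveI := AffCompl.mono_mulIdeal ι.ker hO
  obtain ⟨g, w, hS⟩ := exists_ses_restrict ι (K := ι.ker) rfl (Twist.twistProjSpace 3 k j)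
  have hP := CurveDeg.isCoh_of_isInvertible hO
  have hX := ZClosLib.isCoh_pullback ι hP
  obtain ⟨eI⟩ := he
  obtain ⟨e1⟩ : Nonempty (CohB1.tensorMod (Twist.twistProjSpace 3 k j) (ClSub.idealMod ι.ker) ≅
      Twist.twistProjSpace 3 k (j - e)) := cl_eq_iff.1 (by
    rw [cl_tensor, (cl_eq_iff.2 ⟨eI⟩ : PicF.cl (ClSub.idealMod ι.ker) = _), sub_eq_add_neg]
    exact PnEuler.tw_add 3 k j (-e))
  have hK : Coh.IsCoh (CohB1.tensorMod (Twist.twistProjSpace 3 k j) (ClSub.idealMod ι.ker)) :=
    ParShLib.isCoh_tensorMod hP (NormalLib.isCoh_idealMod ι.ker)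
  have h := CurveCohLib.euler_additive (k := k) hS hK hP (QCoh.isCoh_pushforward_finite ι hX)
  have h2 := Pic13Lib.euler_push (k := k) (X := CohB1.ProjSpace 3 k) ι hι hX.1
  have h3 : Curv2.euler k (CohB1.ProjSpace 3 k) (Twist.twistProjSpace 3 k j) =
      Curv2.euler k (CohB1.ProjSpace 3 k) (CohB1.tensorMod (Twist.twistProjSpace 3 k j) (ClSub.idealMod ι.ker)) +
        Curv2.euler k X ((Scheme.Modules.pullback ι).obj (Twist.twistProjSpace 3 k j)) := by
    rw [← h2]; exact h
  rw [CurveCohLib.euler_congr e1, euler_line, euler_line] at h3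
  omega

theorem choose_three (a : ℤ) : 6 * Ring.choose a 3 = a * (a - 1) * (a - 2) := by
  have h := Ring.descPochhammer_eq_factorial_smul_choose a 3
  simp only [descPochhammer_succ_right, descPochhammer_zero, Nat.factorial, nsmul_eq_mul] at h
  norm_num [Polynomial.smeval_mul, Polynomial.smeval_sub, Polynomial.smeval_X, Polynomial.smeval_one,
    Polynomial.smeval_natCast] at h
  rw [show Polynomial.smeval (2 : Polynomial ℤ) a = (2 : ℤ) by
    rw [show (2 : Polynomial ℤ) = ((2 : ℕ) : Polynomial ℤ) from rfl, Polynomial.smeval_natCast]; simp] at h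
  linarith

theorem cl_tensorList_map (m : ℕ) (I : Finset (Fin m)) (M : X.Modules) (f : Fin m → X.Modules) (hf : ∀ i, f i = M) :
    PicF.cl (FGA.tensorList ((I.sort (· ≤ ·)).map f)) = PicF.cl M ^ I.card := by
  rw [IntAlt.cl_tensorList, List.map_map, List.prod_eq_pow_card _ (PicF.cl M) (fun x hx => by
    obtain ⟨i, -, rfl⟩ := List.mem_map.1 hx
    exact congrArg PicF.cl (hf i)), List.length_map, Finset.length_sort]

include hdim hι in
/-- The degree. -/
theorem degree_eq {e : ℤ} (he : Nonempty (ClSub.idealMod ι.ker ≅ Twist.twistProjSpace 3 k (-e))) {d : ℤ}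
    (hd : FGA.intNum k X 2 ![((Scheme.Modules.pullback ι).obj (Twist.twistProjSpace 3 k (-1))),
      ((Scheme.Modules.pullback ι).obj (Twist.twistProjSpace 3 k (-1)))] (Coh.structureModule X) = d) :
    e = d := by
  classical
  haveI := isProper ι hι
  haveI : IsNoetherian X := CurveCohLib.isNoetherian_of_proper (k := k)
  have hterm : ∀ I : Finset (Fin 2),
      FGA.eulerCharLE k X (CohB1.tensorMod (FGA.tensorList ((I.sort (· ≤ ·)).map
          ![((Scheme.Modules.pullback ι).obj (Twist.twistProjSpace 3 k (-1))),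
            ((Scheme.Modules.pullback ι).obj (Twist.twistProjSpace 3 k (-1)))])) (Coh.structureModule X)) 2 =
        Ring.choose (-(I.card : ℤ) + 3) 3 - Ring.choose (-(I.card : ℤ) - e + 3) 3 := by
    intro I
    obtain ⟨φ⟩ : Nonempty (CohB1.tensorMod (FGA.tensorList ((I.sort (· ≤ ·)).map
          ![((Scheme.Modules.pullback ι).obj (Twist.twistProjSpace 3 k (-1))),
            ((Scheme.Modules.pullback ι).obj (Twist.twistProjSpace 3 k (-1)))])) (Coh.structureModule X) ≅
        (Scheme.Modules.pullback ι).obj (Twist.twistProjSpace 3 k (-(I.card : ℤ)))) := cl_eq_iff.1 (by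
      rw [cl_tensor, cl_tensorList_map 2 I ((Scheme.Modules.pullback ι).obj (Twist.twistProjSpace 3 k (-1))) _
        (fun i => by fin_cases i <;> rfl), ← one_def, mul_one]
      show tw ι (-1) ^ I.card = tw ι (-(I.card : ℤ))
      show twCl ι _ ^ I.card = twCl ι _
      rw [← map_pow, ← ofAdd_nsmul, smul_neg, nsmul_one])
    have hc : Coh.IsCoh ((Scheme.Modules.pullback ι).obj (Twist.twistProjSpace 3 k (-(I.card : ℤ)))) :=
      CurveDeg.isCoh_of_isInvertible (isInvertible_tw ι _)
    rw [← euler_tw hdim ι hι he, ← Pic13Lib.eulerCharLE_eq hdim.le hc.1]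
    exact Finset.sum_congr rfl fun q _ => by rw [(RegDescent.HHequiv (k := k) φ q).finrank_eq]
  rw [FGA.intNum, ← Finset.powerset_univ, Finset.sum_congr rfl (fun I _ => by rw [hterm I]),
    Finset.sum_powerset_apply_card
      (f := fun j => (-1 : ℤ) ^ j * (Ring.choose (-(j : ℤ) + 3) 3 - Ring.choose (-(j : ℤ) - e + 3) 3))] at hd
  norm_num [Finset.sum_range_succ, Nat.choose] at hd
  have := choose_three (3 - e)
  have := choose_three (2 - e)
  have := choose_three (1 - e)
  have := choose_three (3 : ℤ)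
  have := choose_three (2 : ℤ)
  have := choose_three (1 : ℤ)
  ring_nf at *
  linarith

include hdim hι in
/-- The adjunction formula for a surface of degree `d`. -/
theorem cl_canonical [IsAlgClosed k] {d : ℤ}
    (hd : FGA.intNum k X 2 ![((Scheme.Modules.pullback ι).obj (Twist.twistProjSpace 3 k (-1))),
      ((Scheme.Modules.pullback ι).obj (Twist.twistProjSpace 3 k (-1)))] (Coh.structureModule X) = d)
    {ω : X.Modules} (hω : Canon.IsTopDiff (X ↘ Spec (CommRingCat.of k)) 2 ω) :
    PicF.cl ω = tw ι (d - 4) := by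
  haveI hs : Smooth ((CohB1.ProjSpace 3 k) ↘ Spec (CommRingCat.of k)) := CurveEmbed.smooth_toSpec 3 k
  haveI : IsProper (CohB1.ProjSpace.toSpec 3 k) := PnCoh.Chow.isProper_toSpec 3 _
  haveI : IsIntegral (CohB1.ProjSpace 3 k) := PnChart.isIntegral_projSpace 3 k
  obtain ⟨e, he⟩ := exists_ideal hdim ι hι
  obtain rfl := degree_eq hdim ι hι he hd
  obtain ⟨W, -, hW⟩ := H28.ExtSh.exists_extPow (m := 3) (PnEuler.isFinLocFree_of_rank (PnEuler.rank_omega 3 k))
  have hωY : ExtPow.IsExtPow 2 (Omega.sheaf (ι ≫ ((CohB1.ProjSpace 3 k) ↘ Spec (CommRingCat.of k)))) ω := by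
    rw [show ι ≫ ((CohB1.ProjSpace 3 k) ↘ Spec (CommRingCat.of k)) = X ↘ Spec (CommRingCat.of k) from hι]
    exact hω
  haveI : IsSeparated ((CohB1.ProjSpace 3 k) ↘ Spec (CommRingCat.of k)) :=
    inferInstanceAs (IsSeparated (CohB1.ProjSpace.toSpec 3 k))
  haveI : QuasiCompact ((CohB1.ProjSpace 3 k) ↘ Spec (CommRingCat.of k)) :=
    inferInstanceAs (QuasiCompact (CohB1.ProjSpace.toSpec 3 k))
  obtain ⟨θ⟩ := S11310.result k 2 1 (CohB1.ProjSpace 3 k)
    (fun x => GrpSchLib.isRegularLocalRing_stalk_of_smooth ((CohB1.ProjSpace 3 k) ↘ Spec (CommRingCat.of k)) x)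
    (by simpa using S10829.result k 3) X ι
    (fun x => GrpSchLib.isRegularLocalRing_stalk_of_smooth (X ↘ Spec (CommRingCat.of k)) x)
    (by simpa using hdim) W hW ω hωY (Omega.conormal ι) (H28.KvbLam.isExtPow_one _)
  have h1 : tw ι (-4) = PicF.cl ω * tw ι (-e) := by
    have hp : PicF.cl ((Scheme.Modules.pullback ι).obj W) = tw ι (-4) :=
      (congrArg (pullHom ι) (cl_omega_top 3 k hW)).trans rfl
    rw [← hp, cl_eq_iff.2 ⟨θ⟩, cl_tensor]
    congr 1
    exact congrArg (pullHom ι) (cl_eq_iff.2 he)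
  calc PicF.cl ω = PicF.cl ω * tw ι (-e) * tw ι e := by
        rw [mul_assoc, ← tw_add, neg_add_cancel, tw_zero, mul_one]
    _ = tw ι (e - 4) := by rw [← h1, ← tw_add, neg_add_eq_sub]

end Groth.Agent.Synt29.SurfP3

end
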