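import Mathlib
import Groth.Agent.Synt29.TorSyzygy
import Groth.Agent.Synt29.FibrePd
import Groth.Agent.RegLoc6.Serre
import Groth.Agent.FlatLoc6.FiberRing

/-!
# Finite projective dimension over a polynomial algebra from finite tor dimension over the base
-/

set_option autoImplicit false
set_option linter.style.haveILetI false
set_option backward.isDefEq.respectTransparency.types false

universe u

open IsLocalRing TensorProduct Groth.Agent.RegLoc6 Groth.Agent.FlatLoc6

namespace Groth.Agent.Synt29

theorem flat_localizedModule {A R M : Type u} [CommRing A] [CommRing R] [Algebra A R] [AddCommGroup M] [Module R M]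
    [Module A M] [IsScalarTower A R M] [Module.Flat A M] (S : Submonoid R) : Module.Flat A (LocalizedModule S M) := by
  rw [Module.Flat.iff_lTensor_injectiveₛ]
  intro P _ _ N
  have h := Module.Flat.lTensor_preserves_injective_linearMap (M := M) N.subtype Subtype.val_injective
  rw [← AlgebraTensorModule.coe_lTensor (A := R)] at h ⊢
  rw [← IsLocalizedModule.map_lTensor (S := S) (f := N.subtype) (g := LocalizedModule.mkLinearMap S M)]
  exact IsLocalizedModule.map_injective _ _ _ _ h

variable {A : Type u} [CommRing A] [IsNoetherianRing A] {n : ℕ}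

/-- The local rings of the fibres of a polynomial algebra are regular. -/
theorem isRegularLocalRing_fibLocRing (q : Ideal (MvPolynomial (Fin n) A)) [q.IsPrime] :
    IsRegularLocalRing (EGA4.FibLocRing A (MvPolynomial (Fin n) A) q) := by
  let p := q.comap (algebraMap A (MvPolynomial (Fin n) A))
  let k := p.ResidueField
  obtain ⟨Q, hQ⟩ := exists_fiber_prime p q rfl
  have key : ∀ (q' : Ideal (MvPolynomial (Fin n) A)) [q'.IsPrime],
      q' = Q.asIdeal.comap (Algebra.TensorProduct.includeRight : MvPolynomial (Fin n) A →ₐ[A] p.Fiber (MvPolynomial (Fin n) A)) →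
      IsRegularLocalRing (EGA4.FibLocRing A (MvPolynomial (Fin n) A) q') := by
    intro q' _ hq'
    subst hq'
    obtain ⟨e⟩ := exists_fibLocEquiv p Q.asIdeal
    let σ : p.Fiber (MvPolynomial (Fin n) A) ≃ₐ[k] MvPolynomial (Fin n) k := MvPolynomial.algebraTensorAlgEquiv A k
    let Q' : Ideal (MvPolynomial (Fin n) k) := Q.asIdeal.comap σ.symm.toRingEquiv.toRingHom
    haveI : Q'.IsPrime := Ideal.comap_isPrime _ _
    let e' := Localization.localAlgEquiv Q.asIdeal Q' σ (by
      ext x
      show x ∈ Q.asIdeal ↔ σ.symm (σ x) ∈ Q.asIdeal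
      rw [AlgEquiv.symm_apply_apply])
    exact IsRegularLocalRing.of_ringEquiv (e'.toRingEquiv.symm.trans e)
  exact key q hQ.symm

/-- Base case: a flat module. -/
theorem exists_pdLE_localized_of_flat (M : Type u) [AddCommGroup M] [Module (MvPolynomial (Fin n) A) M] [Module A M]
    [IsScalarTower A (MvPolynomial (Fin n) A) M] [Module.Finite (MvPolynomial (Fin n) A) M] [Module.Flat A M]
    (q : Ideal (MvPolynomial (Fin n) A)) [q.IsPrime] :
    ∃ m, PdLE (Localization.AtPrime q) m (LocalizedModule q.primeCompl M) := by
  let R := MvPolynomial (Fin n) A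
  let Rq := Localization.AtPrime q
  let p := q.comap (algebraMap A R)
  let Ap := Localization.AtPrime p
  let κ : Ap →+* Rq := Localization.localRingHom p q (algebraMap A R) rfl
  letI : Algebra Ap Rq := κ.toAlgebra
  haveI : IsLocalHom (algebraMap Ap Rq) := Localization.isLocalHom_localRingHom p q (algebraMap A R) rfl
  haveI : IsScalarTower A Ap Rq := .of_algebraMap_eq fun x => by
    show _ = κ (algebraMap A Ap x)
    rw [Localization.localRingHom_to_map, ← IsScalarTower.algebraMap_apply]
  let Mq := LocalizedModule q.primeCompl M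
  letI : Module Ap Mq := Module.compHom Mq κ
  haveI : IsScalarTower Ap Rq Mq := .of_algebraMap_smul fun _ _ => rfl
  haveI : IsScalarTower A Ap Mq := .of_algebraMap_smul fun a m => by
    show κ (algebraMap A Ap a) • m = a • m
    rw [Localization.localRingHom_to_map, algebraMap_smul, algebraMap_smul]
  haveI : Module.Flat A Mq := flat_localizedModule q.primeCompl
  haveI : Module.Flat Ap Mq := (Module.flat_iff_of_isLocalization (S := Ap) (p := p.primeCompl) (M := Mq)).2 inferInstance
  haveI : Module.Finite Rq Mq := Module.Finite.of_isLocalizedModule q.primeCompl (LocalizedModule.mkLinearMap q.primeCompl M)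
  haveI : Module.Flat A Rq := Module.Flat.trans A R Rq
  haveI : Module.Flat Ap Rq := (Module.flat_iff_of_isLocalization (S := Ap) (p := p.primeCompl) (M := Rq)).2 inferInstance
  let J : Ideal Rq := (maximalIdeal Ap).map (algebraMap Ap Rq)
  have hJ : p.map (algebraMap A Rq) = J := by
    show _ = (maximalIdeal Ap).map (algebraMap Ap Rq)
    rw [← IsLocalization.AtPrime.map_eq_maximalIdeal p Ap, Ideal.map_map, ← IsScalarTower.algebraMap_eq]
  haveI := isRegularLocalRing_fibLocRing q
  haveI : IsRegularLocalRing (Rq ⧸ J) := IsRegularLocalRing.of_ringEquiv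
    (show EGA4.FibLocRing A R q ≃+* Rq ⧸ J from Ideal.quotEquivOfEq hJ)
  haveI : Module.Finite (Rq ⧸ J) (Mq ⧸ mN Ap Rq Mq) := Module.Finite.of_restrictScalars_finite Rq (Rq ⧸ J) _
  exact ⟨_, pdLE_of_fibre _ Mq (pdLE_of_isRegularLocalRing (Rq ⧸ J) (Mq ⧸ mN Ap Rq Mq))⟩

/-- A finite module of finite tor dimension over the base has finite projective dimension at every prime. -/
theorem exists_pdLE_localized : ∀ (d : ℕ) (M : Type u) [AddCommGroup M] [Module (MvPolynomial (Fin n) A) M] [Module A M]
    [IsScalarTower A (MvPolynomial (Fin n) A) M] [Module.Finite (MvPolynomial (Fin n) A) M],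
    TorExactFrom A d M → ∀ (q : Ideal (MvPolynomial (Fin n) A)) [q.IsPrime],
    ∃ m, PdLE (Localization.AtPrime q) m (LocalizedModule q.primeCompl M) := by
  intro d
  induction d with
  | zero =>
    intro M _ _ _ _ _ h q _
    haveI := flat_of_torExactFrom_zero h
    exact exists_pdLE_localized_of_flat M q
  | succ d ih =>
    intro M _ _ _ _ _ h q _
    let R := MvPolynomial (Fin n) A
    obtain ⟨k, g, hg⟩ := exists_presentation (R := R) (M := M)
    haveI : Module.Flat A (Fin k → R) := Module.Flat.trans A R _
    have hL : TorExactFrom A d (LinearMap.ker g) := torExactFrom_ker (g.restrictScalars A) hg h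
    haveI : Module.Finite R (LinearMap.ker g) := Module.Finite.iff_fg.2 (IsNoetherian.noetherian _)
    obtain ⟨m, hm⟩ := ih (LinearMap.ker g) hL q
    let S := q.primeCompl
    let G := LocalizedModule.map S g
    let ι := LocalizedModule.map S (LinearMap.ker g).subtype
    have hG : Function.Surjective G := LocalizedModule.map_surjective S g hg
    have hι : Function.Injective ι := LocalizedModule.map_injective S _ Subtype.val_injective
    have hex : LinearMap.range ι = LinearMap.ker G :=
      SetLike.ext fun x => SetLike.ext_iff.1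
        (LinearMap.exact_iff.1 (LocalizedModule.map_exact S _ _ (LinearMap.exact_subtype_ker_map g))).symm x
    haveI : Module.Projective (Localization.AtPrime q) (LocalizedModule S (Fin k → R)) :=
      Module.projective_of_isLocalizedModule S (LocalizedModule.mkLinearMap S (Fin k → R))
    exact ⟨m + 1, pdLE_succ_of_ker G hG
      (pdLE_of_equiv ((LinearEquiv.ofInjective ι hι).trans (LinearEquiv.ofEq _ _ hex)) hm) (pdLE_of_projective _)⟩

/-- The kernel of a surjection onto an algebra of finite tor dimension has finite projective dimension at every prime. -/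
theorem exists_pdLE_ker_map {B : Type u} [CommRing B] [Algebra A B] (f : MvPolynomial (Fin n) A →ₐ[A] B)
    (hf : Function.Surjective f) {d : ℕ} (hB : DRing.HasTorDimLE A d B) (q : Ideal (MvPolynomial (Fin n) A))
    [q.IsPrime] :
    ∃ m, PdLE (Localization.AtPrime q) m
      ((RingHom.ker f.toRingHom).map (algebraMap (MvPolynomial (Fin n) A) (Localization.AtPrime q))) := by
  let R := MvPolynomial (Fin n) A
  let Rq := Localization.AtPrime q
  letI : Algebra R B := f.toRingHom.toAlgebra
  haveI : IsScalarTower A R B := .of_algebraMap_eq fun a => (f.commutes a).symm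
  haveI : Module.Finite R B := Module.Finite.of_surjective (Algebra.linearMap R B) hf
  obtain ⟨m, hm⟩ := exists_pdLE_localized d B (torExactFrom_of_hasTorDimLE hB) q
  let ψ : Rq →ₗ[Rq] LocalizedModule q.primeCompl B :=
    LinearMap.toSpanSingleton Rq _ (LocalizedModule.mkLinearMap q.primeCompl B 1)
  have hval : ∀ a : R, algebraMap R Rq a • LocalizedModule.mkLinearMap q.primeCompl B 1 =
      LocalizedModule.mkLinearMap q.primeCompl B (f a) := fun a => by
    rw [algebraMap_smul, ← map_smul, Algebra.smul_def, mul_one]
    rfl
  have hψ : Function.Surjective ψ := fun y => by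
    induction y using LocalizedModule.induction_on with
    | _ b s =>
      obtain ⟨a, rfl⟩ := hf b
      refine ⟨IsLocalization.mk' Rq a s, ?_⟩
      have hu := IsLocalization.map_units Rq s
      rw [← hu.smul_left_cancel, LinearMap.toSpanSingleton_apply, smul_smul, IsLocalization.mk'_spec', hval,
        algebraMap_smul, LocalizedModule.smul'_mk, ← Submonoid.smul_def, LocalizedModule.mk_cancel]
      rfl
  have hker : LinearMap.ker ψ = (RingHom.ker f.toRingHom).map (algebraMap R Rq) := by
    ext x
    obtain ⟨a, s, rfl⟩ := IsLocalization.exists_mk'_eq q.primeCompl x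
    rw [LinearMap.mem_ker, IsLocalization.mk'_mem_iff, LinearMap.toSpanSingleton_apply,
      ← (IsLocalization.map_units Rq s).smul_eq_zero, smul_smul, IsLocalization.mk'_spec', hval,
      IsLocalizedModule.eq_zero_iff q.primeCompl, IsLocalization.algebraMap_mem_map_algebraMap_iff q.primeCompl]
    constructor
    · rintro ⟨t, ht⟩
      refine ⟨t.1, t.2, ?_⟩
      rw [RingHom.mem_ker, map_mul]
      exact ht
    · rintro ⟨t, ht, hta⟩
      refine ⟨⟨t, ht⟩, ?_⟩
      rw [RingHom.mem_ker, map_mul] at hta
      exact hta
  exact ⟨m, pdLE_of_equiv (LinearEquiv.ofEq _ _ hker) (pdLE_ker ψ hψ (pdLE_mono (Nat.le_succ m) hm) (pdLE_of_projective m))⟩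

end Groth.Agent.Synt29
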