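import Groth.Agent.Synt29.QuadricSimple
import Groth.Agent.Lib.TwistSumInv

/-!
# Cokernels of matrices of forms between sums of one line bundle each
-/

set_option autoImplicit false
set_option linter.style.haveILetI false
set_option linter.unusedSectionVars false
set_option backward.isDefEq.respectTransparency false
set_option backward.isDefEq.respectTransparency.types false
set_option maxHeartbeats 1000000
set_option synthInstance.maxHeartbeats 400000

universe u

open CategoryTheory CategoryTheory.Limits AlgebraicGeometry TopologicalSpace Opposite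
open scoped Groth.Agent.H23.PicMul

noncomputable section

namespace Groth.Agent.Synt29.LineSimple

open Groth.Agent Groth.Agent.H23.PicMul Groth.Agent.RegEpi Groth.Agent.PnCoh.Finite

variable {k : Type u} [Field k] {X : Scheme.{u}} [X.Over (Spec (CommRingCat.of k))]

/-- Tensoring with a module. -/
abbrev tens (L : X.Modules) : X.Modules ⥤ X.Modules := DCoh.tensorBi.obj L

instance additive_tens (L : X.Modules) : (tens L).Additive := Functor.additive_of_preserves_binary_products _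

theorem evalOne_comp {A B : X.Modules} (χ : Coh.structureModule X ⟶ A) (ψ : A ⟶ B) :
    evalOneLin k B (χ ≫ ψ) = Canon.HHlin k ψ 0 (evalOneLin k A χ) :=
  (PnDual.HHlin_comp χ ψ 0 _).symm

/-- An invertible module with an inverse. -/
structure Line (X : Scheme.{u}) where
  L : X.Modules
  inv : X.Modules
  lf : FlatMod.IsFinLocFree L
  lfInv : FlatMod.IsFinLocFree inv
  iso : Nonempty (CohB1.tensorMod inv L ≅ Coh.structureModule X)

variable (Λ : Line X)

theorem exists_untwist : Nonempty (tens Λ.inv ⋙ tens Λ.L ≅ 𝟭 X.Modules) := by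
  obtain ⟨e⟩ := Λ.iso
  obtain ⟨c⟩ := comm Λ.L Λ.inv
  exact ⟨(((KFlatLib.tensorAssocSch X).app Λ.L).app Λ.inv).symm ≪≫ DCoh.tensorBi.mapIso (c ≪≫ e) ≪≫
    ((KFlatLib.tensorBiFlipIso X).app (Coh.structureModule X)).symm ≪≫ KFlatLib.tensorStructureIso X⟩

theorem map_injective_inv {A B : X.Modules} {φ ψ : A ⟶ B}
    (h : (tens Λ.inv).map φ = (tens Λ.inv).map ψ) : φ = ψ := by
  obtain ⟨η⟩ := exists_untwist Λ
  have h' := congrArg (tens Λ.L).map h
  have n1 := η.hom.naturality φ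
  have n2 := η.hom.naturality ψ
  simp only [Functor.comp_map, Functor.id_map] at n1 n2
  rw [h'] at n1
  exact (cancel_epi (η.hom.app A)).1 (n1.symm.trans n2)

variable (k) in
include k in
theorem hom_eq_zero (M : X.Modules) (h : Subsingleton (Coh.HH X ((tens Λ.inv).obj M) 0)) (ψ : Λ.L ⟶ M) :
    ψ = 0 := by
  obtain ⟨u⟩ := Λ.iso
  refine map_injective_inv Λ ?_
  rw [Functor.map_zero, ← cancel_epi u.inv, comp_zero]
  exact (evalOneLin_bijective k _).1 (h.elim _ _)

theorem exists_smul_id (hone : Module.finrank k (Coh.HH X (Coh.structureModule X) 0) = 1) (ψ : Λ.L ⟶ Λ.L) :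
    ∃ z : k, ψ = z • 𝟙 _ := by
  obtain ⟨u⟩ := Λ.iso
  obtain ⟨z, hz⟩ := Syzygy.endo_eq_smul_id hone (u.inv ≫ (tens Λ.inv).map ψ ≫ u.hom)
  refine ⟨z, map_injective_inv Λ ?_⟩
  have h1 : (tens Λ.inv).map ψ = z • 𝟙 _ := by
    have := congrArg (fun t => u.hom ≫ t ≫ u.inv) hz
    simp [Linear.smul_comp, Linear.comp_smul] at this
    exact this
  rw [h1, KLin.smul_id, KLin.smul_id]
  exact (CurveLinear.tensor_map_smul _ _ _).symm

variable (k) in
include k in
/-- Lifting maps out of a line bundle. -/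
theorem exists_lift {S : ShortComplex X.Modules} (hS : S.ShortExact)
    (h : Subsingleton (Coh.HH X ((tens Λ.inv).obj S.X₁) 1)) (ψ : Λ.L ⟶ S.X₃) :
    ∃ ψ' : Λ.L ⟶ S.X₂, ψ' ≫ S.g = ψ := by
  obtain ⟨u⟩ := Λ.iso
  let G := tens Λ.inv
  have hS' : (S.map G).ShortExact := H28.PBPush.shortExact_tens Λ.lfInv hS
  obtain ⟨y, hy⟩ := Quadric.surjective_g_of_h1 (k := k) (S := S.map G) hS' h
    (evalOneLin k (G.obj S.X₃) (u.inv ≫ G.map ψ))
  obtain ⟨χ, rfl⟩ := (evalOneLin_bijective k (G.obj S.X₂)).2 y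
  have hχ : χ ≫ G.map S.g = u.inv ≫ G.map ψ :=
    (evalOneLin_bijective k (G.obj S.X₃)).1 ((evalOne_comp χ (G.map S.g)).trans hy)
  obtain ⟨η⟩ := exists_untwist Λ
  let G' := tens Λ.L
  have n1 : G'.map (G.map S.g) ≫ η.hom.app S.X₃ = η.hom.app S.X₂ ≫ S.g := η.hom.naturality S.g
  have n2 : G'.map (G.map ψ) ≫ η.hom.app S.X₃ = η.hom.app Λ.L ≫ ψ := η.hom.naturality ψ
  refine ⟨η.inv.app Λ.L ≫ G'.map (u.hom ≫ χ) ≫ η.hom.app S.X₂, ?_⟩
  rw [Category.assoc, Category.assoc, ← n1, ← Category.assoc (G'.map (u.hom ≫ χ)), ← G'.map_comp, Category.assoc,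
    hχ, Iso.hom_inv_id_assoc, n2, ← Category.assoc, Iso.inv_hom_id_app]
  exact Category.id_comp _

variable {r r' : ℕ}

/-- Twisted cohomology of a sum. -/
theorem hh_tens_sigma (A B : X.Modules) (i : ℕ) {M : X.Modules} (e : M ≅ ∐ fun _ : Fin r => B)
    (h : Subsingleton (Coh.HH X (CohB1.tensorMod A B) i)) : Subsingleton (Coh.HH X ((tens A).obj M) i) := by
  classical
  let T := fun _ : Fin r => B
  let p : ∀ j, M ⟶ T j := fun j => e.hom ≫ Sigma.desc fun i => if i = j then 𝟙 _ else 0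
  let q : ∀ j, T j ⟶ M := fun j => Sigma.ι T j ≫ e.inv
  have hid : ∑ j, p j ≫ q j = 𝟙 M := by
    have h1 : ∑ j, (Sigma.desc fun i => if i = j then 𝟙 _ else 0 : ∐ T ⟶ T j) ≫ Sigma.ι T j
        = 𝟙 (∐ T) := by
      refine Sigma.hom_ext _ _ fun i => ?_
      rw [Preadditive.comp_sum, Category.comp_id, Finset.sum_eq_single i]
      · simp
      · intro j _ hj
        simp [Ne.symm hj]
      · simp
    calc ∑ j, p j ≫ q j = e.hom ≫ (∑ j, (Sigma.desc fun i => if i = j then 𝟙 _ else 0 :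
          ∐ T ⟶ T j) ≫ Sigma.ι T j) ≫ e.inv := by
            simp only [p, q, T, Preadditive.comp_sum, Preadditive.sum_comp, Category.assoc]
      _ = 𝟙 M := by rw [h1, Category.id_comp, Iso.hom_inv_id]
  refine PnCoh.Finite.subsingleton_HH_of_decomposition (fun j => (tens A).obj (T j))
    (fun j => (tens A).map (p j)) (fun j => (tens A).map (q j)) ?_ i (fun _ => h)
  rw [Finset.sum_congr rfl fun j _ => ((tens A).map_comp (p j) (q j)).symm, ← Functor.map_sum, hid]
  exact (tens A).map_id M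

theorem sigma_total {T : Fin r → X.Modules} :
    ∑ l, (Sigma.desc fun i => if h : i = l then eqToHom (by rw [h]) else 0 : ∐ T ⟶ T l) ≫ Sigma.ι T l
      = 𝟙 (∐ T) := by
  classical
  refine Sigma.hom_ext _ _ fun i => ?_
  rw [Preadditive.comp_sum, Category.comp_id, Finset.sum_eq_single i]
  · simp
  · intro j _ hj
    simp [Ne.symm hj]
  · simp

theorem finite_End_sigma (hone : Module.finrank k (Coh.HH X (Coh.structureModule X) 0) = 1)
    {Q : X.Modules} (e : Q ≅ ∐ fun _ : Fin r => Λ.L) : Module.Finite k (Q ⟶ Q) := by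
  haveI : Module.Finite k (Λ.L ⟶ Λ.L) :=
    Module.Finite.of_surjective (LinearMap.toSpanSingleton k _ (𝟙 Λ.L)) fun ψ => by
      obtain ⟨z, rfl⟩ := exists_smul_id Λ hone ψ
      exact ⟨z, rfl⟩
  let T := fun _ : Fin r => Λ.L
  let p : ∀ l, ∐ T ⟶ T l := fun l => Sigma.desc fun i => if h : i = l then eqToHom (by rw [h]) else 0
  let Ψ : (Q ⟶ Q) →ₗ[k] (Fin r → Fin r → (Λ.L ⟶ Λ.L)) :=
    LinearMap.pi fun i => LinearMap.pi fun j =>
      (Linear.leftComp k Λ.L (Sigma.ι T i ≫ e.inv)).comp (Linear.rightComp k Q (e.hom ≫ p j))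
  refine Module.Finite.of_injective Ψ fun a b hab => ?_
  rw [← cancel_epi e.inv, ← cancel_mono e.hom]
  refine Sigma.hom_ext _ _ fun i => ?_
  rw [← Category.comp_id ((e.inv ≫ a) ≫ e.hom), ← Category.comp_id ((e.inv ≫ b) ≫ e.hom), ← sigma_total]
  simp only [Preadditive.comp_sum]
  refine Finset.sum_congr rfl fun j _ => ?_
  have h : (Sigma.ι T i ≫ e.inv) ≫ a ≫ e.hom ≫ p j = (Sigma.ι T i ≫ e.inv) ≫ b ≫ e.hom ≫ p j :=
    congrFun (congrFun hab i) j
  have h' := congrArg (fun z => z ≫ Sigma.ι T j) h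
  simp only [Category.assoc] at h' ⊢
  exact h'

theorem exists_good_scalar [IsAlgClosed k] {Q P : X.Modules} [Module.Finite k (Q ⟶ Q)] [Module.Finite k (P ⟶ P)]
    (a : Q ⟶ Q) (g : P ⟶ P) : ∃ c : k, IsIso (c • 𝟙 Q - a) ∧ IsIso (c • 𝟙 P - g) := by
  have h : ∀ {Q : X.Modules} [Module.Finite k (Q ⟶ Q)] (a : Q ⟶ Q),
      {c : k | ¬ IsIso (c • 𝟙 Q - a)}.Finite := fun {Q} _ a => by
    haveI : Module.Finite k (End Q) := (inferInstance : Module.Finite k (Q ⟶ Q))
    refine (Quadric.finite_not_isUnit_sub (A := End Q) (k := k) a).subset fun c hc hu => hc ?_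
    have h1 : algebraMap k (End Q) c = c • (𝟙 Q : End Q) := Algebra.algebraMap_eq_smul_one c
    rw [h1] at hu
    exact (isUnit_iff_isIso _).1 hu
  obtain ⟨c, hc⟩ := ((h a).union (h g)).infinite_compl.nonempty
  simp only [Set.mem_compl_iff, Set.mem_union, Set.mem_setOf_eq, not_or, not_not] at hc
  exact ⟨c, hc.1, hc.2⟩

variable (k) in
include k in
theorem exists_lift_sigma {S : ShortComplex X.Modules} (hS : S.ShortExact) {Q : X.Modules}
    (e : Q ≅ ∐ fun _ : Fin r => Λ.L) (h : Subsingleton (Coh.HH X ((tens Λ.inv).obj S.X₁) 1))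
    (ψ : Q ⟶ S.X₃) : ∃ ψ' : Q ⟶ S.X₂, ψ' ≫ S.g = ψ := by
  choose v hv using fun l => exists_lift k Λ hS h (Sigma.ι (fun _ : Fin r => Λ.L) l ≫ e.inv ≫ ψ)
  refine ⟨e.hom ≫ Sigma.desc v, ?_⟩
  rw [Category.assoc, ← cancel_epi e.inv, Iso.inv_hom_id_assoc]
  exact Sigma.hom_ext _ _ fun l => by rw [Sigma.ι_desc_assoc, hv]

variable {B : X.Modules} {P Q : X.Modules} (eP : P ≅ ∐ fun _ : Fin r' => B) (eQ : Q ≅ ∐ fun _ : Fin r => Λ.L)

variable (k) in
include k eP eQ in
theorem hom_sigma_eq_zero (h0 : Subsingleton (Coh.HH X (CohB1.tensorMod Λ.inv B) 0)) (ψ : Q ⟶ P) : ψ = 0 := by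
  rw [← cancel_epi eQ.inv, comp_zero]
  exact Sigma.hom_ext _ _ fun l =>
    (hom_eq_zero k Λ P (hh_tens_sigma Λ.inv B 0 eP h0) _).trans (by simp)

theorem shortExact_coker (f : P ⟶ Q) [Mono f] :
    (ShortComplex.mk f (cokernel.π f) (cokernel.condition f)).ShortExact :=
  { exact := ShortComplex.exact_of_g_is_cokernel _ (cokernelIsCokernel f) }

variable (f f' : P ⟶ Q) [Mono f] [Mono f']

include eP eQ in
/-- Simplicity of the cokernel when the stabiliser is the scalars. -/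
theorem coker_simple [IsAlgClosed k] (ΛB : Line X) (hB : ΛB.L = B)
    (hone : Module.finrank k (Coh.HH X (Coh.structureModule X) 0) = 1)
    (h1 : Subsingleton (Coh.HH X (CohB1.tensorMod Λ.inv B) 1))
    (hstab : ∀ (β : Q ≅ Q) (γ : P ≅ P), γ.hom ≫ f = f ≫ β.hom → ∃ c : k, β.hom = c • 𝟙 Q)
    (φ : cokernel f ⟶ cokernel f) : ∃ c : k, φ = c • 𝟙 (cokernel f) := by
  have hS := shortExact_coker f
  obtain ⟨u, hu⟩ := exists_lift_sigma k Λ hS eQ (hh_tens_sigma Λ.inv B 1 eP h1) (cokernel.π f ≫ φ)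
  change u ≫ cokernel.π f = _ at hu
  have hf : (f ≫ u) ≫ cokernel.π f = 0 := by
    rw [Category.assoc, hu, cokernel.condition_assoc, zero_comp]
  let g : P ⟶ P := hS.exact.lift (f ≫ u) hf
  have hg : g ≫ f = f ≫ u := hS.exact.lift_f (f ≫ u) hf
  haveI := finite_End_sigma (k := k) Λ hone eQ
  haveI : Module.Finite k (P ⟶ P) := finite_End_sigma (k := k) ΛB hone (eP ≪≫ eqToIso (by rw [hB]))
  obtain ⟨c, h₁, h₂⟩ := exists_good_scalar (k := k) u g
  obtain ⟨z, hz⟩ := hstab (asIso (c • 𝟙 Q - u)) (asIso (c • 𝟙 P - g)) (by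
    show (c • 𝟙 P - g) ≫ f = f ≫ (c • 𝟙 Q - u)
    rw [Preadditive.sub_comp, Preadditive.comp_sub, Linear.smul_comp, Linear.comp_smul, Category.id_comp,
      Category.comp_id, hg])
  have hz' : c • 𝟙 Q - u = z • 𝟙 Q := hz
  have ha : u = (c - z) • 𝟙 Q := by rw [sub_smul, ← hz', sub_sub_cancel]
  refine ⟨c - z, (cancel_epi (cokernel.π f)).1 ?_⟩
  rw [← hu, ha, Linear.comp_smul, Category.comp_id, Linear.smul_comp, Category.id_comp]

include k eP eQ in
/-- Isomorphisms of cokernels come from isomorphisms of the matrices. -/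
theorem coker_iso_iff (h0 : Subsingleton (Coh.HH X (CohB1.tensorMod Λ.inv B) 0))
    (h1 : Subsingleton (Coh.HH X (CohB1.tensorMod Λ.inv B) 1)) :
    Nonempty (cokernel f ≅ cokernel f') ↔ ∃ (β : Q ≅ Q) (γ : P ≅ P), f ≫ β.hom = γ.hom ≫ f' := by
  refine ⟨fun ⟨e⟩ => ?_, fun ⟨β, γ, h⟩ => ⟨cokernel.mapIso f f' γ β h⟩⟩
  have hh := hh_tens_sigma Λ.inv B 1 eP h1
  obtain ⟨u, hu⟩ := exists_lift_sigma k Λ (shortExact_coker f') eQ hh (cokernel.π f ≫ e.hom)
  obtain ⟨v, hv⟩ := exists_lift_sigma k Λ (shortExact_coker f) eQ hh (cokernel.π f' ≫ e.inv)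
  change u ≫ cokernel.π f' = _ at hu
  change v ≫ cokernel.π f = _ at hv
  have huv : u ≫ v = 𝟙 Q := by
    have h2 : (u ≫ v - 𝟙 Q) ≫ cokernel.π f = 0 := by
      rw [Preadditive.sub_comp, Category.assoc, hv, reassoc_of% hu, Iso.hom_inv_id, Category.comp_id,
        Category.id_comp, sub_self]
    have h3 := (shortExact_coker f).exact.lift_f (u ≫ v - 𝟙 Q) h2
    rw [hom_sigma_eq_zero k Λ eP eQ h0 ((shortExact_coker f).exact.lift (u ≫ v - 𝟙 Q) h2)] at h3
    exact sub_eq_zero.1 (h3.symm.trans zero_comp)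
  have hvu : v ≫ u = 𝟙 Q := by
    have h2 : (v ≫ u - 𝟙 Q) ≫ cokernel.π f' = 0 := by
      rw [Preadditive.sub_comp, Category.assoc, hu, reassoc_of% hv, Iso.inv_hom_id, Category.comp_id,
        Category.id_comp, sub_self]
    have h3 := (shortExact_coker f').exact.lift_f (v ≫ u - 𝟙 Q) h2
    rw [hom_sigma_eq_zero k Λ eP eQ h0 ((shortExact_coker f').exact.lift (v ≫ u - 𝟙 Q) h2)] at h3
    exact sub_eq_zero.1 (h3.symm.trans zero_comp)
  have hf : (f ≫ u) ≫ cokernel.π f' = 0 := by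
    rw [Category.assoc, hu, cokernel.condition_assoc, zero_comp]
  have hf' : (f' ≫ v) ≫ cokernel.π f = 0 := by
    rw [Category.assoc, hv, cokernel.condition_assoc, zero_comp]
  let g := (shortExact_coker f').exact.lift (f ≫ u) hf
  let g' := (shortExact_coker f).exact.lift (f' ≫ v) hf'
  have hg : g ≫ f' = f ≫ u := (shortExact_coker f').exact.lift_f (f ≫ u) hf
  have hg' : g' ≫ f = f' ≫ v := (shortExact_coker f).exact.lift_f (f' ≫ v) hf'
  refine ⟨⟨u, v, huv, hvu⟩, ⟨g, g', ?_, ?_⟩, hg.symm⟩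
  · rw [← cancel_mono f, Category.assoc, hg', reassoc_of% hg, huv, Category.comp_id, Category.id_comp]
  · rw [← cancel_mono f', Category.assoc, hg, reassoc_of% hg', hvu, Category.comp_id, Category.id_comp]

end Groth.Agent.Synt29.LineSimple

end
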