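import Groth.Agent.Synt29.BlowPtH1
import Groth.Agent.Synt29.LineSimple

/-!
# Vanishing for cokernels of matrices of forms on the blow-up in at most one point
-/

set_option autoImplicit false
set_option linter.style.haveILetI false
set_option linter.unusedSectionVars false
set_option backward.isDefEq.respectTransparency false
set_option backward.isDefEq.respectTransparency.types false
set_option maxHeartbeats 1000000

universe u

open CategoryTheory CategoryTheory.Limits AlgebraicGeometry TopologicalSpace Opposite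

noncomputable section

namespace Groth.Agent.Synt29.BlowPts

open Groth.Agent Groth.Agent.H23.PicMul Groth.Agent.H28

variable {k : Type u} [Field k] {n s : ℕ} (P : Fin s → ↥(CohB1.ProjSpace n k))
  (hPc : ∀ i, IsClosed ({P i} : Set ↥(CohB1.ProjSpace n k))) (hZ : IsClosed (Set.range P))
  {X : Scheme.{u}} {π : X ⟶ CohB1.ProjSpace n k}

theorem Jt_eq (hs : s ≤ 1) (t : Fin s) : Jt P hPc t = J (Set.range P) hZ := by
  have h : (⟨{P t}, hPc t⟩ : Closeds ↥(CohB1.ProjSpace n k)) = ⟨Set.range P, hZ⟩ := by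
    refine Closeds.ext (Set.Subset.antisymm (Set.singleton_subset_iff.2 ⟨t, rfl⟩) ?_)
    rintro x ⟨t', rfl⟩
    obtain rfl : t' = t := Fin.ext (by omega)
    exact Set.mem_singleton _
  show Scheme.IdealSheafData.vanishingIdeal _ = Scheme.IdealSheafData.vanishingIdeal _
  rw [h]

/-- With at most one point, the two descriptions of the exceptional twist agree. -/
theorem nonempty_pow_iso (hs : s ≤ 1) (d : ℕ) :
    Nonempty (CohB1.tensorPow (ClSub.idealMod (BlowUp.exceptional π (J (Set.range P) hZ))) d ≅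
      Ld P hPc π fun _ => d) := by
  refine cl_eq_iff.1 ?_
  rw [cl_tensorPow, H26.IdealCl.cl_multiTwist]
  rcases Nat.eq_zero_or_pos s with rfl | hs'
  · have h : BlowUp.exceptional π (J (Set.range P) hZ) = ⊤ := by
      refine le_antisymm le_top ?_
      have h1 : (⟨Set.range P, hZ⟩ : Closeds ↥(CohB1.ProjSpace n k)) = ⊥ := Closeds.ext (by simp)
      show ⊤ ≤ (Scheme.IdealSheafData.vanishingIdeal _).comap π
      rw [h1, Scheme.IdealSheafData.vanishingIdeal_bot, Scheme.IdealSheafData.comap_top]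
    rw [h, (cl_eq_iff.2 (DefCore.idealMod_top X)).trans one_def.symm, one_pow]
    simp
  · obtain rfl : s = 1 := by omega
    rw [Fin.prod_univ_one]
    show _ = PicF.cl (ClSub.idealMod ((Jt P hPc 0).comap π)) ^ d
    rw [Jt_eq P hPc hZ le_rfl 0]

variable (hP : Function.Injective P) (hπ : BlowUp.IsBlowUp π (J (Set.range P) hZ))

include hPc hP hπ in
/-- All the vanishing needed for at most one point. -/
theorem hh_Md_le_one [IsAlgClosed k] (hn : 2 ≤ n) (hs : s ≤ 1) (c : ℤ) (d : ℕ) (q : ℕ) (hq : 1 ≤ q)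
    (hqn : q < n ∨ (q = n ∧ -(n : ℤ) ≤ c)) (hd : q = 1 → d = 0 ∨ (d : ℤ) ≤ c + 1) :
    Subsingleton (Coh.HH X (Md P hPc π c fun _ => d) q) := by
  have hfin := Set.finite_range P
  have hv : Subsingleton (Coh.HH X (pO π c) q) :=
    hh_vanish _ hfin (hpt_range P hPc) hZ (by omega) hπ c q (fun h => by omega) (fun h => by omega)
  rcases eq_or_ne q 1 with rfl | hq1
  swap
  · exact hh_Md P hPc hZ hP hπ (by omega) c _ q hq1 hv
  obtain ⟨eL⟩ := nonempty_pow_iso P hPc hZ (π := π) hs d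
  refine QCoh.subsingleton_HH_of_iso ((DCoh.tensorBi.obj (pO π c)).mapIso eL) 1 ?_
  by_cases hd0 : d = 0
  · subst hd0
    exact QCoh.subsingleton_HH_of_iso (H23.PicMul.unit (pO π c)).some.symm 1 hv
  have hdc := (hd rfl).resolve_left hd0
  rcases Nat.eq_zero_or_pos s with rfl | hs'
  · obtain ⟨eU⟩ : Nonempty (CohB1.tensorPow (ClSub.idealMod (BlowUp.exceptional π (J (Set.range P) hZ))) d ≅
        Coh.structureModule X) := by
      refine cl_eq_iff.1 ((cl_eq_iff.2 ⟨eL⟩).trans ?_)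
      rw [H26.IdealCl.cl_multiTwist]
      simp [one_def]
    exact QCoh.subsingleton_HH_of_iso
      ((DCoh.tensorBi.obj (pO π c)).mapIso eU ≪≫ (H23.PicMul.unit (pO π c)).some).symm 1 hv
  obtain rfl : s = 1 := by omega
  obtain ⟨c', rfl⟩ : ∃ c' : ℕ, c = (c' : ℤ) := ⟨c.toNat, by omega⟩
  have hJ : J ({P 0} : Set _) (hPc 0) = J (Set.range P) hZ := Jt_eq P hPc hZ le_rfl 0
  have := hh_one_point (hPc 0) (π := π) (hJ ▸ hπ) hn c' d (by omega)
  rwa [hJ] at this

include hPc hP hπ in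
theorem hh_coker [IsAlgClosed k] (hn : 2 ≤ n) (hs : s ≤ 1) {a b : ℕ} {P₁ Q₁ : X.Modules}
    (eP : P₁ ≅ ∐ fun _ : Fin a => pO π (-2)) (eQ : Q₁ ≅ ∐ fun _ : Fin b => pO π (-1))
    (f : P₁ ⟶ Q₁) [Mono f] {Hm : X.Modules}
    (eH : Hm ≅ CohB1.tensorMod (pO π ((n : ℤ) + 1))
      (CohB1.tensorPow (ClSub.idealMod (BlowUp.exceptional π (J (Set.range P) hZ))) (n - 1)))
    (i t : ℕ) (hi : 1 ≤ i) (hin : i + 1 ≤ n) :
    Subsingleton (Coh.HH X (CohB1.tensorMod (cokernel f) (CohB1.tensorPow Hm t)) i) := by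
  let L := CohB1.tensorPow Hm t
  have hI := H26.IdealCl.isInvertible_idealMod hπ.1
  have hpO : PicF.IsInvertible (pO π ((n : ℤ) + 1)) := PicClLib.isInvertible_pullback π (isInvertible_twist _)
  have hL : PicF.IsInvertible L := isInvertible_tensorPow
    (isInvertible_of_iso eH.symm (isInvertible_tensor hpO (isInvertible_tensorPow hI _))) t
  let F := pullHom π
  have hcl : ∀ e : ℤ, PicF.cl (CohB1.tensorMod L (pO π e)) =
      PicF.cl (Md P hPc π (((n : ℤ) + 1) * t + e) fun _ => (n - 1) * t) := fun e => by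
    obtain ⟨eL⟩ := nonempty_pow_iso P hPc hZ (π := π) hs ((n - 1) * t)
    rw [cl_tensor, cl_tensor, ← cl_eq_iff.2 ⟨eL⟩, cl_tensorPow, cl_tensorPow, cl_eq_iff.2 ⟨eH⟩, cl_tensor,
      cl_tensorPow, mul_pow, ← pow_mul]
    have hp : ∀ x : ℤ, PicF.cl (pO π x) = ((pullHom π).comp (SeesawX.PnFibre.twistHom n k)) (Multiplicative.ofAdd x) :=
      fun x => rfl
    rw [hp, hp, hp, ← map_pow, mul_right_comm, ← map_mul]
    congr 2
    rw [← ofAdd_nsmul, ← ofAdd_add]
    congr 1
    simp [mul_comm]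
  haveI : (DCoh.tensorBi.obj L).Additive := Functor.additive_of_preserves_binary_products _
  have hS := LineSimple.shortExact_coker f
  have hS' := PBPush.shortExact_tens (H23.PullPush.isFinLocFree_of_isInvertible hL) hS
  obtain ⟨ec⟩ := H23.PicMul.comm (cokernel f) L
  refine QCoh.subsingleton_HH_of_iso ec.symm i ?_
  have hnd : ((n - 1) * t : ℕ) = ((n : ℤ) - 1) * t := by
    rw [Nat.cast_mul, Nat.cast_sub (by omega)]
    simp
  have h2 : Subsingleton (Coh.HH X ((DCoh.tensorBi.obj L).obj Q₁) i) := by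
    refine LineSimple.hh_tens_sigma L (pO π (-1)) i eQ ?_
    obtain ⟨e⟩ := cl_eq_iff.1 (hcl (-1))
    refine QCoh.subsingleton_HH_of_iso e.symm i (hh_Md_le_one P hPc hZ hP hπ hn hs _ _ i hi
      (Or.inl (by omega)) fun _ => ?_)
    rcases Nat.eq_zero_or_pos t with rfl | ht
    · exact Or.inl (mul_zero _)
    · right
      rw [hnd]
      have : (1 : ℤ) ≤ t := by exact_mod_cast ht
      nlinarith
  have h1 : Subsingleton (Coh.HH X ((DCoh.tensorBi.obj L).obj P₁) (i + 1)) := by
    refine LineSimple.hh_tens_sigma L (pO π (-2)) (i + 1) eP ?_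
    obtain ⟨e⟩ := cl_eq_iff.1 (hcl (-2))
    refine QCoh.subsingleton_HH_of_iso e.symm (i + 1) (hh_Md_le_one P hPc hZ hP hπ hn hs _ _ (i + 1) (by omega)
      ?_ fun h => by omega)
    rcases lt_or_eq_of_le hin with h | h
    · exact Or.inl h
    · refine Or.inr ⟨h, ?_⟩
      have : (0 : ℤ) ≤ ((n : ℤ) + 1) * t := by positivity
      omega
  refine subsingleton_of_forall_eq 0 fun x => ?_
  have hT := QCoh.toAb_shortExact hS'
  obtain ⟨y, hy⟩ := Abelian.Ext.covariant_sequence_exact₃ _ hT x rfl (h1.elim _ _)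
  rw [← hy, h2.elim y 0]
  exact Abelian.Ext.zero_comp _ _ _ _ _

end Groth.Agent.Synt29.BlowPts

end
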