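import Groth.Agent.Synt29.BlowPts
import Groth.Agent.H26.IdealCl
import Groth.Agent.H26.InterDiv
import Groth.Agent.RedComap5.Basic
import Groth.Agent.ModPairLib.Coprod
import Groth.Agent.BlowUpLib.Local
import Groth.Agent.H28.RzCover
import Groth.Agent.Snapper.DimVanish
import Groth.Agent.Lib.PnDualExt
import Groth.Agent.H26.ArInter

/-!
# Several exceptional divisors over points of projective space
-/

set_option autoImplicit false
set_option linter.style.haveILetI false
set_option linter.unusedSectionVars false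
set_option backward.isDefEq.respectTransparency false
set_option backward.isDefEq.respectTransparency.types false
set_option maxHeartbeats 1000000

universe u

open CategoryTheory CategoryTheory.Limits AlgebraicGeometry TopologicalSpace Opposite

noncomputable section

namespace Groth.Agent.Synt29.BlowPts

open Groth.Agent Groth.Agent.H23.PicMul Groth.Agent.H28

/-- The vanishing ideal pulls back along an open immersion. -/
theorem comap_vanishing_open {A B : Scheme.{u}} (j : A ⟶ B) [IsOpenImmersion j] (C : Closeds ↥B) :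
    (Scheme.IdealSheafData.vanishingIdeal C).comap j =
      Scheme.IdealSheafData.vanishingIdeal (C.preimage j.continuous) := by
  refine RedComap5.comap_vanishingIdeal j C ?_ _ rfl
  exact isReduced_of_isOpenImmersion (pullback.snd j (Scheme.IdealSheafData.vanishingIdeal C).subschemeι)

theorem comap_vanishing_eq {A B : Scheme.{u}} (j : A ⟶ B) [IsOpenImmersion j] (C D : Closeds ↥B)
    (h : j ⁻¹' (C : Set ↥B) = j ⁻¹' (D : Set ↥B)) :
    (Scheme.IdealSheafData.vanishingIdeal C).comap j = (Scheme.IdealSheafData.vanishingIdeal D).comap j := by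
  rw [comap_vanishing_open, comap_vanishing_open]
  exact congrArg _ (Closeds.ext h)

variable {k : Type u} [Field k] {n s : ℕ} (P : Fin s → ↥(CohB1.ProjSpace n k))
  (hPc : ∀ i, IsClosed ({P i} : Set ↥(CohB1.ProjSpace n k))) (hZ : IsClosed (Set.range P))

include hPc in
theorem hpt_range : ∀ x ∈ Set.range P, IsClosed ({x} : Set ↥(CohB1.ProjSpace n k)) := by
  rintro _ ⟨i, rfl⟩
  exact hPc i

/-- The ideal of one point. -/
abbrev Jt (t : Fin s) : (CohB1.ProjSpace n k).IdealSheafData :=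
  Scheme.IdealSheafData.vanishingIdeal ⟨{P t}, hPc t⟩

/-- An affine neighbourhood containing at most one of the points. -/
theorem exists_nbhd (hP : Function.Injective P) (hPc : ∀ i, IsClosed ({P i} : Set ↥(CohB1.ProjSpace n k)))
    (x : ↥(CohB1.ProjSpace n k)) :
    ∃ V : (CohB1.ProjSpace n k).affineOpens, x ∈ V.1 ∧
      ((∀ t, P t ∉ V.1) ∨ ∃ t, ∀ t', P t' ∈ V.1 → t' = t) := by
  let T : Set ↥(CohB1.ProjSpace n k) := Set.range P \ {x}
  have hT : IsClosed T := by
    rw [← Set.biUnion_of_singleton T]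
    exact ((Set.finite_range P).subset Set.sdiff_subset).isClosed_biUnion fun y hy => hpt_range P hPc y hy.1
  obtain ⟨V, hV, hxV, hle⟩ := exists_isAffineOpen_mem_and_subset (x := x) (U := ⟨Tᶜ, hT.isOpen_compl⟩)
    (fun h => h.2 rfl)
  refine ⟨⟨V, hV⟩, hxV, ?_⟩
  have h : ∀ t, P t ∈ V → P t = x := fun t ht => by
    by_contra hne
    exact hle ht ⟨⟨t, rfl⟩, hne⟩
  by_cases hx : ∃ t, P t = x
  · obtain ⟨t, ht⟩ := hx
    exact Or.inr ⟨t, fun t' ht' => hP ((h t' ht').trans ht.symm)⟩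
  · exact Or.inl fun t ht => hx ⟨t, h t ht⟩

variable {X : Scheme.{u}} (π : X ⟶ CohB1.ProjSpace n k)

/-- The ideal of one exceptional divisor. -/
abbrev It (t : Fin s) : X.IdealSheafData := (Jt P hPc t).comap π

theorem restrict_It_top {t : Fin s} (V : (CohB1.ProjSpace n k).Opens) (h : P t ∉ V) :
    (It P hPc π t).comap (π ⁻¹ᵁ V).ι = ⊤ := by
  refine BlowUpX.comap_eq_top _ _ fun z hz => ?_
  have h1 : π ((π ⁻¹ᵁ V).ι z) ∈ ((Jt P hPc t).support : Set _) := by
    have := hz
    rw [Scheme.IdealSheafData.support_comap] at this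
    exact this
  rw [Scheme.IdealSheafData.coe_support_vanishingIdeal] at h1
  exact h (h1 ▸ z.2)

theorem restrict_It_eq {t : Fin s} (V : (CohB1.ProjSpace n k).Opens) (h : ∀ t', P t' ∈ V → t' = t) :
    (It P hPc π t).comap (π ⁻¹ᵁ V).ι = (BlowUp.exceptional π (J (Set.range P) hZ)).comap (π ⁻¹ᵁ V).ι := by
  show ((Jt P hPc t).comap π).comap _ = ((J (Set.range P) hZ).comap π).comap _
  rw [← Scheme.IdealSheafData.comap_comp, ← Scheme.IdealSheafData.comap_comp, ← morphismRestrict_ι,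
    Scheme.IdealSheafData.comap_comp, Scheme.IdealSheafData.comap_comp]
  refine congrArg (fun I => I.comap (π ∣_ V)) (comap_vanishing_eq V.ι _ _ ?_)
  ext z
  refine ⟨fun hz => ⟨t, (hz : V.ι z = P t).symm⟩, fun ⟨t', ht'⟩ => ?_⟩
  show V.ι z = P t
  rw [← h t' (ht' ▸ z.2)]
  exact ht'.symm

variable (hP : Function.Injective P) {π} (hπ : BlowUp.IsBlowUp π (J (Set.range P) hZ))

include hP hπ in
theorem isEffCartier_It (t : Fin s) : BlowUp.IsEffCartierIdeal (It P hPc π t) := by
  choose V hxV hV using exists_nbhd P hP hPc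
  refine ModPairLib.isEffCartier_of_comap (fun x => (π ⁻¹ᵁ (V x).1).ι)
    (fun y => ⟨π y, ⟨y, hxV (π y)⟩, rfl⟩) fun x => ?_
  by_cases ht : P t ∈ (V x).1
  · rcases hV x with h | ⟨t₀, h⟩
    · exact absurd ht (h t)
    · rw [h t ht, restrict_It_eq P hPc hZ π (V x).1 h]
      exact BlowUpLib.isEffCartier_comap_flat _ hπ.1
  · rw [restrict_It_top P hPc π (V x).1 ht]
    exact BlowUpX.isEffCartier_top

/-- `⊗ I_t^{d_t}`. -/
abbrev Ld (π : X ⟶ CohB1.ProjSpace n k) (d : Fin s → ℕ) : X.Modules :=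
  FGA.multiTwist (fun t : Fin s => ClSub.idealMod (It P hPc π t)) d

include hP hπ in
theorem isInvertible_Ld (d : Fin s → ℕ) : PicF.IsInvertible (Ld P hPc π d) :=
  H26.ArInter.isInvertible_multiTwist (fun t => H26.IdealCl.isInvertible_idealMod (isEffCartier_It P hPc hZ hP hπ t)) d

include hP hπ in
theorem exists_restrict_Ld (d : Fin s → ℕ) (V : (CohB1.ProjSpace n k).Opens)
    (hV : (∀ t, P t ∉ V) ∨ ∃ t, ∀ t', P t' ∈ V → t' = t) :
    ∃ m, Nonempty ((Ld P hPc π d).restrict (π ⁻¹ᵁ V).ι ≅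
      (CohB1.tensorPow (ClSub.idealMod (BlowUp.exceptional π (J (Set.range P) hZ))) m).restrict (π ⁻¹ᵁ V).ι) := by
  let ι := (π ⁻¹ᵁ V).ι
  have hpull : ∀ I : X.IdealSheafData, BlowUp.IsEffCartierIdeal I →
      pullHom ι (PicF.cl (ClSub.idealMod I)) = PicF.cl (ClSub.idealMod (I.comap ι)) := fun I hI =>
    cl_eq_iff.2 (H26.InterDiv.nonempty_pullback_idealMod ι I hI (BlowUpLib.isEffCartier_comap_flat ι hI))
  have htop : ∀ t, P t ∉ V → pullHom ι (PicF.cl (ClSub.idealMod (It P hPc π t))) = 1 := fun t ht => by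
    rw [hpull _ (isEffCartier_It P hPc hZ hP hπ t), restrict_It_top P hPc π V ht]
    exact (cl_eq_iff.2 (DefCore.idealMod_top _)).trans one_def.symm
  have key : ∀ m, pullHom ι (PicF.cl (Ld P hPc π d)) =
      pullHom ι (PicF.cl (CohB1.tensorPow (ClSub.idealMod (BlowUp.exceptional π (J (Set.range P) hZ))) m)) →
      Nonempty ((Ld P hPc π d).restrict ι ≅
        (CohB1.tensorPow (ClSub.idealMod (BlowUp.exceptional π (J (Set.range P) hZ))) m).restrict ι) := fun m hm => by
    obtain ⟨e⟩ := cl_eq_iff.1 (hm : PicF.cl ((Scheme.Modules.pullback ι).obj (Ld P hPc π d)) =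
      PicF.cl ((Scheme.Modules.pullback ι).obj
        (CohB1.tensorPow (ClSub.idealMod (BlowUp.exceptional π (J (Set.range P) hZ))) m)))
    exact ⟨(Scheme.Modules.restrictFunctorIsoPullback ι).app _ ≪≫ e ≪≫
      ((Scheme.Modules.restrictFunctorIsoPullback ι).app _).symm⟩
  rcases hV with h | ⟨t, h⟩
  · refine ⟨0, key 0 ?_⟩
    rw [H26.IdealCl.cl_multiTwist, cl_tensorPow, pow_zero, map_one, map_prod]
    exact Finset.prod_eq_one fun t _ => by rw [map_pow, htop t (h t), one_pow]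
  · refine ⟨d t, key (d t) ?_⟩
    rw [H26.IdealCl.cl_multiTwist, cl_tensorPow, map_prod, map_pow,
      Finset.prod_eq_single t (fun t' _ hne => by rw [map_pow, htop t' fun h' => hne (h t' h'), one_pow])
        (fun h' => absurd (Finset.mem_univ t) h'), map_pow, hpull _ (isEffCartier_It P hPc hZ hP hπ t),
      hpull _ hπ.1, restrict_It_eq P hPc hZ π V h]

variable (hn : 1 ≤ n)

include hP hπ hn in
theorem rz_Ld (d : Fin s → ℕ) (i : ℕ) (hi : 1 ≤ i) : RKoszul.RZ π (Ld P hPc π d) i := by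
  obtain ⟨hX, hprop⟩ := geom (Set.range P) hZ hπ
  haveI := hX; haveI := hprop
  refine RzCover.isZero_RpushAb_of_cover π
    (QCoh.isQCoh_of_isFinLocFree (H23.PullPush.isFinLocFree_of_isInvertible (isInvertible_Ld P hPc hZ hP hπ d)))
    {W : (CohB1.ProjSpace n k).affineOpens | (∀ t, P t ∉ W.1) ∨ ∃ t, ∀ t', P t' ∈ W.1 → t' = t} (fun y => ?_) ?_ i hi
  · obtain ⟨V, hy, hV⟩ := exists_nbhd P hP hPc y
    exact ⟨V, hV, hy⟩
  intro W hW q
  obtain ⟨m, ⟨e⟩⟩ := exists_restrict_Ld P hPc hZ hP hπ d W.1 hW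
  refine QCoh.subsingleton_HH_of_iso e.symm _ (BlowHH.hh_of_rz π ?_ q
    (van (Set.range P) (Set.finite_range P) (hpt_range P hPc) hZ hn hπ m (q + 1) (by omega)) W.2)
  exact QCoh.isQCoh_of_isFinLocFree (H23.PullPush.isFinLocFree_of_isInvertible
    (isInvertible_tensorPow (H26.IdealCl.isInvertible_idealMod hπ.1) m))

include hP hπ in
/-- `⊗ I_t^{d_t}` is the ideal of a divisor over the points. -/
theorem exists_divisor (d : Fin s → ℕ) :
    ∃ D : X.IdealSheafData, BlowUp.IsEffCartierIdeal D ∧ Nonempty (Ld P hPc π d ≅ ClSub.idealMod D) ∧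
      ∀ z ∈ (D.support : Set X), π z ∈ Set.range P := by
  classical
  obtain ⟨h1, h2⟩ := H26.IdealCl.eff_and_cl_prod (Finset.univ : Finset (Fin s)) (It P hPc π)
    (isEffCartier_It P hPc hZ hP hπ) d
  refine ⟨_, h1, cl_eq_iff.1 ((H26.IdealCl.cl_multiTwist _ d).trans h2.symm), ?_⟩
  let Q : X.IdealSheafData → Prop := fun I => ∀ z ∈ (I.support : Set X), π z ∈ Set.range P
  show Q (∏ t : Fin s, It P hPc π t ^ d t)
  have hone : Q 1 := fun z hz => by
    have h1' : ((1 : X.IdealSheafData).support : Set X) = ∅ := by simp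
    exact absurd (h1' ▸ hz) (Set.notMem_empty z)
  have hmul : ∀ I I', Q I → Q I' → Q (I * I') := fun I I' hI hI' z hz => by
    rw [Scheme.IdealSheafData.support_mul] at hz
    exact hz.elim (hI z) (hI' z)
  refine Finset.prod_induction _ Q hmul hone fun t _ => ?_
  induction d t with
  | zero => rw [pow_zero]; exact hone
  | succ m ih =>
    rw [pow_succ]
    refine hmul _ _ ih fun z hz => ⟨t, ?_⟩
    have h3 : π z ∈ ((Jt P hPc t).support : Set _) := by
      rw [Scheme.IdealSheafData.support_comap] at hz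
      exact hz
    rw [Scheme.IdealSheafData.coe_support_vanishingIdeal] at h3
    exact (h3 : π z = P t).symm

include hPc hZ in
/-- A module supported on the points has no higher cohomology. -/
theorem hh_of_supp {G : (CohB1.ProjSpace n k).Modules} (hG : Coh.IsQCoh G)
    (hsupp : CohB1.support G ⊆ Set.range P) (q : ℕ) (hq : 1 ≤ q) :
    Subsingleton (Coh.HH (CohB1.ProjSpace n k) G q) := by
  haveI := isNoetherian_Pn (k := k) (n := n)
  haveI : IsProper (CohB1.ProjSpace.toSpec n k) := PnCoh.Chow.isProper_toSpec n k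
  haveI : Scheme.IsSeparated (CohB1.ProjSpace n k) := by
    constructor
    rw [← terminal.comp_from (CohB1.ProjSpace.toSpec n k)]
    infer_instance
  let C : Closeds ↥(CohB1.ProjSpace n k) := ⟨Set.range P, hZ⟩
  refine Snapper.subsingleton_HH_of_dim_lt 1 C ?_ G hG hsupp q hq
  haveI : Finite ↥(C : Set ↥(CohB1.ProjSpace n k)) := (Set.finite_range P).to_subtype
  haveI : T1Space ↥(C : Set ↥(CohB1.ProjSpace n k)) :=
    ⟨fun w => by
      have h := (hpt_range P hPc w.1 w.2).preimage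
        (continuous_subtype_val (p := fun z => z ∈ (C : Set ↥(CohB1.ProjSpace n k))))
      have e : Subtype.val ⁻¹' {w.1} = ({w} : Set ↥(C : Set ↥(CohB1.ProjSpace n k))) := by
        ext v
        exact ⟨fun h => Subtype.ext h, fun h => congrArg Subtype.val h⟩
      exact e ▸ h⟩
  exact lt_of_le_of_lt (topologicalKrullDim_zero_of_discreteTopology _) (by exact_mod_cast Nat.one_pos)

include hZ in
/-- A module on a divisor over the points pushes forward to a module supported on the points. -/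
theorem support_push {E : Scheme.{u}} (a : E ⟶ X) (ha : ∀ y, π (a y) ∈ Set.range P) (N : E.Modules) :
    CohB1.support ((Scheme.Modules.pushforward π).obj ((Scheme.Modules.pushforward a).obj N)) ⊆ Set.range P := by
  intro x hx
  by_contra hxP
  let G := (Scheme.Modules.pushforward π).obj ((Scheme.Modules.pushforward a).obj N)
  refine hx (subsingleton_of_forall_eq 0 fun g => ?_)
  obtain ⟨V, hxV, w, rfl⟩ := TopCat.Presheaf.exists_germ_eq G.presheaf g
  let W : (CohB1.ProjSpace n k).Opens := V ⊓ ⟨(Set.range P)ᶜ, hZ.isOpen_compl⟩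
  have hW : a ⁻¹ᵁ (π ⁻¹ᵁ W) = ⊥ :=
    Opens.ext (Set.eq_empty_iff_forall_notMem.2 fun y hy => hy.2 (ha y))
  have hsub : Subsingleton Γ(G, W) := by
    show Subsingleton Γ(N, a ⁻¹ᵁ (π ⁻¹ᵁ W))
    rw [hW]
    exact AddCommGrpCat.subsingleton_of_isZero
      ((IsZero.iff_id_eq_zero _).2 ((TopCat.Sheaf.isTerminalOfEmpty
        (⟨N.presheaf, N.isSheaf⟩ : TopCat.Sheaf AddCommGrpCat E)).hom_ext _ _))
  rw [← InvX.germ_res' (M := G) (inf_le_left : W ≤ V) (⟨hxV, hxP⟩ : x ∈ W) w,
    hsub.elim (AModX.res G (inf_le_left : W ≤ V) w) 0, map_zero]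

/-- The twisted module. -/
abbrev Md (π : X ⟶ CohB1.ProjSpace n k) (c : ℤ) (d : Fin s → ℕ) : X.Modules :=
  CohB1.tensorMod (pO π c) (Ld P hPc π d)

include hP hπ hn in
theorem rz_Md (c : ℤ) (d : Fin s → ℕ) (r : ℕ) : RKoszul.RZ π (Md P hPc π c d) (r + 1) := by
  obtain ⟨hX, hprop⟩ := geom (Set.range P) hZ hπ
  haveI := hX; haveI := hprop
  haveI : HasInjectiveResolutions X.Modules := KFlatLib.hasInjectiveResolutions_modules
  haveI := SpObjSS.enoughInjectives_of_hasInjectiveResolutions (C := X.Modules)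
  obtain ⟨e₀⟩ := S0927.result π (Ld P hPc π d) _ (lf_twist c) (r + 1)
  exact BlowExact.rz_of_isZero_Rpush π r (IsZero.of_iso
    ((DCoh.tensorBi.obj (Twist.twistProjSpace n k c)).map_isZero
      (BlowExact.isZero_Rpush_of_rz π r (rz_Ld P hPc hZ hP hπ hn d (r + 1) (by omega)))) e₀.symm)

omit [Field k] in
/-- The quotient of a bundle by a divisor lives on the divisor. -/
theorem exists_quot_push (L : X.Modules) (hL : FlatMod.IsFinLocFree L) (D : X.IdealSheafData) :
    ∃ N : D.subscheme.Modules, Coh.IsQCoh N ∧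
      Nonempty ((DCoh.tensorBi.obj L).obj (ClSub.quotMod D) ≅ (Scheme.Modules.pushforward D.subschemeι).obj N) := by
  haveI : HasInjectiveResolutions D.subscheme.Modules := KFlatLib.hasInjectiveResolutions_modules
  haveI := SpObjSS.enoughInjectives_of_hasInjectiveResolutions (C := D.subscheme.Modules)
  haveI := QCoh.preservesFiniteLimits_push D.subschemeι
  obtain ⟨e₀⟩ := S0927.result D.subschemeι (Coh.structureModule D.subscheme) L hL 0
  let F := Scheme.Modules.pushforward D.subschemeι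
  let z : F.rightDerived 0 ≅ F := F.rightDerivedZeroIsoSelf
  obtain ⟨eu⟩ := H23.PicMul.unit ((Scheme.Modules.pullback D.subschemeι).obj L)
  refine ⟨(Scheme.Modules.pullback D.subschemeι).obj L,
    QCoh.isQCoh_pullback D.subschemeι (QCoh.isQCoh_of_isFinLocFree hL), ?_⟩
  exact ⟨(DCoh.tensorBi.obj L).mapIso (z.symm.app (Coh.structureModule D.subscheme)) ≪≫ e₀ ≪≫ z.app _ ≪≫
    F.mapIso eu⟩

include hPc hP hπ hn in
theorem hh_push_over_pts {E : Scheme.{u}} (a : E ⟶ X) [IsClosedImmersion a] (ha : ∀ y, π (a y) ∈ Set.range P)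
    (N : E.Modules) (hN : Coh.IsQCoh N)
    (hrz : ∀ r : ℕ, RKoszul.RZ π ((Scheme.Modules.pushforward a).obj N) (r + 1)) (q : ℕ) (hq : 1 ≤ q) :
    Subsingleton (Coh.HH X ((Scheme.Modules.pushforward a).obj N) q) := by
  obtain ⟨hX, hprop⟩ := geom (Set.range P) hZ hπ
  haveI := hX; haveI := hprop
  haveI : IsProper (CohB1.ProjSpace.toSpec n k) := PnCoh.Chow.isProper_toSpec n k
  let t := CohB1.ProjSpace.toSpec n k
  have hQ : Coh.IsQCoh ((Scheme.Modules.pushforward a).obj N) := QCoh.isQCoh_pushforward a hN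
  have hG := QCoh.isQCoh_pushforward π hQ
  obtain ⟨el⟩ := PushComp.leray π t hrz q
  obtain ⟨α⟩ := QCoh.nonempty_HH_equiv_sections (π ≫ t) hQ q
  obtain ⟨β⟩ := QCoh.nonempty_HH_equiv_sections t hG q
  haveI := hh_of_supp P hPc hZ hG (support_push P hZ a ha N) q hq
  let sct := (((sheafToPresheaf _ _).mapIso el.symm).app (op ⊤)).addCommGroupIsoToAddEquiv
  exact ((α.trans sct).trans β.symm).injective.subsingleton

include hP hπ hn in
/-- The sequence `0 → O(c)(-D) → O(c) → O(c)|_D → 0`, whose quotient has no higher cohomology. -/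
theorem exists_seq (c : ℤ) (d : Fin s → ℕ) :
    ∃ S : ShortComplex X.Modules, S.ShortExact ∧ Nonempty (S.X₁ ≅ Md P hPc π c d) ∧
      Nonempty (S.X₂ ≅ pO π c) ∧ ∀ q, 1 ≤ q → Subsingleton (Coh.HH X S.X₃ q) := by
  obtain ⟨D, hD, ⟨eD⟩, hsupp⟩ := exists_divisor P hPc hZ hP hπ d
  let T := DCoh.tensorBi.obj (pO π c)
  haveI : T.Additive := Functor.additive_of_preserves_binary_products _
  obtain ⟨hX, hprop⟩ := geom (Set.range P) hZ hπ
  haveI := hX; haveI := hprop
  let S : ShortComplex X.Modules :=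
    (ShortComplex.mk _ _ (show ClSub.idealModι D ≫ ClSub.toSubscheme D = 0 from kernel.condition _)).map T
  have hS : S.ShortExact := PBPush.shortExact_tens (lf_pO π c) (DivisorExt.ideal_shortExact D)
  have e₁ : S.X₁ ≅ Md P hPc π c d := T.mapIso eD.symm
  have e₂ : S.X₂ ≅ pO π c := (H23.PicMul.unit (pO π c)).some
  obtain ⟨N, hN, ⟨e₃⟩⟩ := exists_quot_push (pO π c) (lf_pO π c) D
  have e₃' : S.X₃ ≅ (Scheme.Modules.pushforward D.subschemeι).obj N := e₃
  refine ⟨S, hS, ⟨e₁⟩, ⟨e₂⟩, fun q hq => QCoh.subsingleton_HH_of_iso e₃'.symm q ?_⟩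
  refine hh_push_over_pts P hPc hZ hP hπ hn D.subschemeι (fun y => hsupp _ ?_) N hN (fun r => ?_) q hq
  · have hy : D.subschemeι y ∈ Set.range D.subschemeι := ⟨y, rfl⟩
    rwa [Scheme.IdealSheafData.range_subschemeι] at hy
  · exact RKoszul.rz_of_iso π e₃' (r + 1) (RKoszul.rz_quot π hS (r + 1)
      (RKoszul.rz_of_iso π e₂.symm (r + 1)
        (rz_pO (Set.range P) (Set.finite_range P) (hpt_range P hPc) hZ hn hπ c r))
      (RKoszul.rz_of_iso π e₁.symm (r + 2) (rz_Md P hPc hZ hP hπ hn c d (r + 1))))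

include hP hπ hn in
theorem hh_Md (c : ℤ) (d : Fin s → ℕ) (q : ℕ) (hq : q ≠ 1) (h : Subsingleton (Coh.HH X (pO π c) q)) :
    Subsingleton (Coh.HH X (Md P hPc π c d) q) := by
  obtain ⟨S, hS, ⟨e₁⟩, ⟨e₂⟩, h₃⟩ := exists_seq P hPc hZ hP hπ hn c d
  have h2 := QCoh.subsingleton_HH_of_iso e₂.symm q h
  haveI := h2
  refine QCoh.subsingleton_HH_of_iso e₁ q ?_
  have hT := QCoh.toAb_shortExact hS
  rcases Nat.eq_zero_or_pos q with rfl | hq'
  · letI : X.Over (Spec (CommRingCat.of k)) := ⟨π ≫ CohB1.ProjSpace.toSpec n k⟩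
    exact (PnDual.HHlin_f_injective (k := k) hS).subsingleton
  · obtain ⟨q', rfl⟩ : ∃ q', q = q' + 1 + 1 := ⟨q - 2, by omega⟩
    refine subsingleton_of_forall_eq 0 fun x => ?_
    obtain ⟨w, rfl⟩ := Abelian.Ext.covariant_sequence_exact₁ _ hT x (h2.elim _ _) rfl
    rw [(h₃ (q' + 1) (by omega)).elim w 0]
    exact Abelian.Ext.zero_comp _ _ _ _ _

end Groth.Agent.Synt29.BlowPts

end
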