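import Groth.Agent.Synt29.OmegaMaps
import Groth.Agent.Synt29.StalkFormal
import Groth.Agent.OmegaUniv.Restrict

/-! Stalks of conormal sheaves of immersions. -/

set_option autoImplicit false

universe u

open CategoryTheory CategoryTheory.Limits AlgebraicGeometry TopologicalSpace Opposite
open scoped TensorProduct

namespace Groth.Agent.Synt29.ConormalStalk

open OmegaStalk Groth.Agent.KFlatLib

variable {Z X : Scheme.{u}} (i : Z ⟶ X) [IsImmersion i] [QuasiCompact i]

omit [QuasiCompact i] in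
/-- a section killed by `i` near a point -/
lemma exists_killed {x : Z} (c : X.presheaf.stalk (i x)) (hc : i.stalkMap x c = 0)
    (O : X.Opens) (hO : i x ∈ O) :
    ∃ (W : X.Opens) (hW : i x ∈ W) (_ : W ≤ O) (e : Γ(X, W)),
      i.app W e = 0 ∧ X.presheaf.germ W (i x) hW e = c := by
  obtain ⟨U, hxU, s, rfl⟩ := X.presheaf.exists_germ_eq (x := i x) c
  rw [Scheme.Hom.germ_stalkMap_apply, ← map_zero (Z.presheaf.germ (i ⁻¹ᵁ U) x hxU).hom] at hc
  obtain ⟨T, hdT, i₁, i₂, hT⟩ := Z.presheaf.germ_eq x hxU hxU _ _ hc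
  obtain ⟨T', hT', hTT'⟩ := i.isEmbedding.isInducing.isOpen_iff.mp T.2
  let W : X.Opens := (U ⊓ O) ⊓ ⟨T', hT'⟩
  have hWU : W ≤ U := inf_le_left.trans inf_le_left
  refine ⟨W, ⟨⟨hxU, hO⟩, (Set.ext_iff.mp hTT' x).mpr hdT⟩, inf_le_left.trans inf_le_right,
    X.presheaf.map (homOfLE hWU).op s, ?_, X.presheaf.germ_res_apply _ _ _ _⟩
  have hWT : i ⁻¹ᵁ W ≤ T := fun z hz => (Set.ext_iff.mp hTT' z).mp hz.2
  have h1 : Z.presheaf.map (homOfLE hWT).op (Z.presheaf.map i₁.op (i.app U s)) = 0 := by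
    rw [show Z.presheaf.map i₁.op (i.app U s) = 0 from hT.trans (map_zero _), map_zero]
  rw [← ConcreteCategory.comp_apply, ← Functor.map_comp] at h1
  refine (congr($(i.naturality (homOfLE hWU).op) s)).trans ?_
  rw [ConcreteCategory.comp_apply]
  exact h1

/-- the module of the ideal -/
noncomputable abbrev I : X.Modules := ClSub.idealMod i.ker

/-- a germ of the ideal module and its function -/
def Rep (y : X) (m : St (I i) y) (a : X.presheaf.stalk y) : Prop :=
  ∃ (U : X.Opens) (hy : y ∈ U) (k : Γ(I i, U)),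
    gm (I i) hy k = m ∧ X.presheaf.germ U y hy (OmegaSh.idealSect i.ker U k) = a

omit [IsImmersion i] [QuasiCompact i] in
lemma rep_inj {y : X} {m m' : St (I i) y} {a : X.presheaf.stalk y} (h : Rep i y m a)
    (h' : Rep i y m' a) : m = m' := by
  obtain ⟨U, hy, k, rfl, hk⟩ := h
  obtain ⟨U', hy', k', rfl, hk'⟩ := h'
  obtain ⟨W, hyW, j, j', e⟩ := X.presheaf.germ_eq y hy hy' _ _ (hk.trans hk'.symm)
  rw [show j = homOfLE (leOfHom j) from rfl, show j' = homOfLE (leOfHom j') from rfl] at e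
  erw [← OmegaLib.idealSect_map, ← OmegaLib.idealSect_map] at e
  have := OmegaLib.idealSect_injective i.ker W e
  rw [← gm_res (I i) j hyW, ← gm_res (I i) j' hyW]
  exact congrArg (gm (I i) hyW) this

omit [IsImmersion i] [QuasiCompact i] in
lemma rep_exists (y : X) (m : St (I i) y) : ∃ a, Rep i y m a := by
  obtain ⟨U, hy, k, rfl⟩ := gm_surjective (I i) m
  exact ⟨_, U, hy, k, rfl, rfl⟩

omit [IsImmersion i] [QuasiCompact i] in
lemma rep_zero (y : X) : Rep i y 0 0 :=
  ⟨⊤, trivial, 0, map_zero _, by rw [map_zero, map_zero]⟩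

omit [IsImmersion i] [QuasiCompact i] in
lemma rep_add {y : X} {m m' : St (I i) y} {a a' : X.presheaf.stalk y} (h : Rep i y m a)
    (h' : Rep i y m' a') : Rep i y (m + m') (a + a') := by
  obtain ⟨U, hy, k, rfl, rfl⟩ := h
  obtain ⟨U', hy', k', rfl, rfl⟩ := h'
  have hyy : y ∈ U ⊓ U' := ⟨hy, hy'⟩
  refine ⟨U ⊓ U', hyy, (I i).presheaf.map (homOfLE inf_le_left).op k +
    (I i).presheaf.map (homOfLE inf_le_right).op k', ?_, ?_⟩
  · rw [map_add, gm_res, gm_res]
  · rw [map_add, OmegaLib.idealSect_map, OmegaLib.idealSect_map, map_add,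
      X.presheaf.germ_res_apply, X.presheaf.germ_res_apply]

omit [IsImmersion i] [QuasiCompact i] in
lemma rep_smul {y : X} {m : St (I i) y} {a : X.presheaf.stalk y} (h : Rep i y m a)
    (c : X.presheaf.stalk y) : Rep i y (c • m) (c * a) := by
  obtain ⟨U, hy, k, rfl, rfl⟩ := h
  obtain ⟨U', hy', r, rfl⟩ := X.presheaf.exists_germ_eq (x := y) c
  have hyy : y ∈ U ⊓ U' := ⟨hy, hy'⟩
  let r' : Γ(X, U ⊓ U') := X.presheaf.map (homOfLE (inf_le_right : U ⊓ U' ≤ U')).op r
  let k' : Γ(I i, U ⊓ U') := (I i).presheaf.map (homOfLE (inf_le_left : U ⊓ U' ≤ U)).op k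
  refine ⟨U ⊓ U', hyy, r' • k', ?_, ?_⟩
  · rw [gm_smul, gm_res, X.presheaf.germ_res_apply]
  · rw [OmegaLib.idealSect_smul, OmegaLib.idealSect_map, map_mul,
      X.presheaf.germ_res_apply, X.presheaf.germ_res_apply]

omit [IsImmersion i] in
lemma rep_mem {x : Z} {m : St (I i) (i x)} {a : X.presheaf.stalk (i x)} (h : Rep i (i x) m a) :
    i.stalkMap x a = 0 := by
  obtain ⟨U, hy, k, -, rfl⟩ := h
  rw [Scheme.Hom.germ_stalkMap_apply, OmegaUniv.app_idealSect, map_zero]

lemma exists_rep {x : Z} {a : X.presheaf.stalk (i x)} (ha : i.stalkMap x a = 0) :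
    ∃ m, Rep i (i x) m a := by
  obtain ⟨W, hW, -, e, he, rfl⟩ := exists_killed i a ha ⊤ trivial
  obtain ⟨k, hk⟩ := OmegaUniv.exists_idealSect_of_app_eq_zero i W e he
  exact ⟨_, W, hW, k, rfl, by rw [hk]⟩

/-- `1 ⊗ m` in the stalk of the conormal sheaf -/
noncomputable def unit1 (x : Z) (m : St (I i) (i x)) :
    (ModuleCat.extendScalars (i.stalkMap x).hom).obj (St (I i) (i x)) :=
  ((ModuleCat.extendRestrictScalarsAdj (i.stalkMap x).hom).unit.app (St (I i) (i x))).hom m

omit [QuasiCompact i] [IsImmersion i] in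
lemma unit1_smul (x : Z) (a : X.presheaf.stalk (i x)) (m : St (I i) (i x)) :
    unit1 i x (a • m) = i.stalkMap x a • unit1 i x m :=
  map_smul ((ModuleCat.extendRestrictScalarsAdj (i.stalkMap x).hom).unit.app
    (St (I i) (i x))).hom a m

/-- on squares of the ideal the class vanishes -/
lemma unit1_eq_zero_of_mem_sq {x : Z} {m : St (I i) (i x)} {a : X.presheaf.stalk (i x)}
    (h : Rep i (i x) m a) (ha : a ∈ RingHom.ker (i.stalkMap x).hom ^ 2) : unit1 i x m = 0 := by
  suffices ∀ a ∈ RingHom.ker (i.stalkMap x).hom ^ 2,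
      ∃ m', Rep i (i x) m' a ∧ unit1 i x m' = 0 by
    obtain ⟨m', hm', h0⟩ := this a ha
    rwa [rep_inj i h hm']
  intro a ha
  rw [sq] at ha
  induction ha using Submodule.mul_induction_on' with
  | mem_mul_mem b hb c hc =>
      obtain ⟨m', hm'⟩ := exists_rep i (RingHom.mem_ker.mp hc)
      refine ⟨b • m', rep_smul i hm' b, ?_⟩
      rw [unit1_smul, RingHom.mem_ker.mp hb, zero_smul]
  | add b hb c hc ihb ihc =>
      obtain ⟨m₁, h₁, e₁⟩ := ihb
      obtain ⟨m₂, h₂, e₂⟩ := ihc
      exact ⟨m₁ + m₂, rep_add i h₁ h₂,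
        ((map_add _ m₁ m₂).trans (congrArg₂ (· + ·) e₁ e₂)).trans (add_zero _)⟩

lemma unit1_surjective (x : Z) : Function.Surjective (unit1 i x) := by
  intro z
  let _ := (i.stalkMap x).hom.toAlgebra
  change (Z.presheaf.stalk x) ⊗[X.presheaf.stalk (i x)] (St (I i) (i x)) at z
  induction z using TensorProduct.induction_on with
  | zero => exact ⟨0, map_zero _⟩
  | tmul b m =>
      obtain ⟨a, ha⟩ := i.stalkMap_surjective x b
      refine ⟨a • m, (unit1_smul i x a m).trans ?_⟩
      rw [ha]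
      show (b * 1) ⊗ₜ[X.presheaf.stalk (i x)] m = b ⊗ₜ[X.presheaf.stalk (i x)] m
      rw [mul_one]
  | add z w ihz ihw =>
      obtain ⟨m, hm⟩ := ihz
      obtain ⟨m', hm'⟩ := ihw
      exact ⟨m + m', (map_add _ m m').trans (congrArg₂ (· + ·) hm hm')⟩

/-- every element of the stalk of the conormal sheaf is the class of a section of the ideal -/
theorem exists_conormalSect (x : Z) (z : St (Omega.conormal i) x) :
    ∃ (U : X.Opens) (hx : x ∈ i ⁻¹ᵁ U) (k : Γ(I i, U)),
      gm (Omega.conormal i) hx (OmegaSh.conormalSect i U k) = z := by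
  let P := (stalkPullbackIso i x).app (I i)
  obtain ⟨m, hm⟩ := unit1_surjective i x (P.hom z)
  obtain ⟨U, hx, k, rfl⟩ := gm_surjective (I i) m
  refine ⟨U, hx, k, (ConcreteCategory.bijective_of_isIso P.hom).1 ?_⟩
  exact (stalkPullbackIso_gm i (I i) x hx k).trans hm

/-- classes of sections of the square of the ideal vanish -/
theorem conormalSect_eq_zero {x : Z} {U : X.Opens} (hx : x ∈ i ⁻¹ᵁ U) (k : Γ(I i, U))
    (h : X.presheaf.germ U (i x) hx (OmegaSh.idealSect i.ker U k) ∈
      RingHom.ker (i.stalkMap x).hom ^ 2) :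
    gm (Omega.conormal i) hx (OmegaSh.conormalSect i U k) = 0 := by
  let P := (stalkPullbackIso i x).app (I i)
  refine (ConcreteCategory.bijective_of_isIso P.hom).1 ?_
  refine (stalkPullbackIso_gm i (I i) x hx k).trans (Eq.trans ?_ (map_zero P.hom.hom).symm)
  exact unit1_eq_zero_of_mem_sq i ⟨U, hx, k, rfl, rfl⟩ h

omit [IsImmersion i] [QuasiCompact i] in
/-- A formally smooth quotient: elements of the kernel with vanishing differential. -/
theorem mem_sq_of_tmul_D {R A B : Type u} [CommRing R] [CommRing A] [CommRing B] [Algebra R A]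
    [Algebra A B] [Algebra R B] [IsScalarTower R A B] [Algebra.FormallySmooth R B]
    (hs : Function.Surjective (algebraMap A B)) (a : A) (ha : algebraMap A B a = 0)
    (h : (1 : B) ⊗ₜ[A] KaehlerDifferential.D R A a = 0) :
    a ∈ RingHom.ker (algebraMap A B) ^ 2 := by
  let K := RingHom.ker (algebraMap A B)
  let Q := A ⧸ K ^ 2
  let q : Q →ₐ[R] B := Ideal.Quotient.liftₐ (K ^ 2) (IsScalarTower.toAlgHom R A B)
    fun c hc => Ideal.pow_le_self two_ne_zero hc
  have hq : Function.Surjective q := fun b => by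
    obtain ⟨c, rfl⟩ := hs b
    exact ⟨Ideal.Quotient.mk _ c, rfl⟩
  have hnil : ∀ u v : Q, q u = 0 → q v = 0 → u * v = 0 := by
    intro u v hu hv
    obtain ⟨u, rfl⟩ := Ideal.Quotient.mk_surjective u
    obtain ⟨v, rfl⟩ := Ideal.Quotient.mk_surjective v
    rw [← map_mul, Ideal.Quotient.eq_zero_iff_mem, sq]
    exact Ideal.mul_mem_mul (RingHom.mem_ker.mpr hu) (RingHom.mem_ker.mpr hv)
  have hker : IsNilpotent (RingHom.ker (q : Q →+* B)) := ⟨2, by
    refine ((sq _).trans (le_bot_iff.mp (Ideal.mul_le.mpr fun u hu v hv => ?_))).trans Ideal.zero_eq_bot.symm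
    exact Ideal.mem_bot.mpr (hnil u v hu hv)⟩
  obtain ⟨g, hg⟩ : ∃ g : B →ₐ[R] Q, ∀ b, q (g b) = b :=
    ⟨Algebra.FormallySmooth.liftOfSurjective (AlgHom.id R B) q hq hker,
      fun b => Algebra.FormallySmooth.liftOfSurjective_apply (AlgHom.id R B) q hq hker b⟩
  let π : A →ₐ[R] Q := Ideal.Quotient.mkₐ R _
  let s : A →ₐ[R] Q := g.comp (IsScalarTower.toAlgHom R A B)
  have hqs : ∀ c, q (π c - s c) = 0 := fun c => by
    rw [map_sub, sub_eq_zero]
    exact (hg (algebraMap A B c)).symm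
  have hmul : ∀ c e, π (c * e) - s (c * e) = π c * (π e - s e) + π e * (π c - s c) := fun c e => by
    have h1 := hnil _ _ (hqs c) (hqs e)
    rw [map_mul, map_mul]
    linear_combination (-1 : Q) * h1
  let δ : Derivation R A Q := Derivation.mk' (π.toLinearMap - s.toLinearMap) fun c e => hmul c e
  let L := δ.liftKaehlerDifferential
  have hL : ∀ w, q (L w) = 0 := fun w => by
    have hw : w ∈ Submodule.span A (Set.range (KaehlerDifferential.D R A)) := by
      rw [KaehlerDifferential.span_range_derivation]; trivial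
    induction hw using Submodule.span_induction with
    | mem y hy =>
        obtain ⟨c, rfl⟩ := hy
        rw [show L (KaehlerDifferential.D R A c) = δ c from δ.liftKaehlerDifferential_comp_D c]
        exact hqs c
    | zero => rw [map_zero, map_zero]
    | add y y' _ _ e e' => rw [map_add, map_add, e, e', add_zero]
    | smul c y _ e => rw [map_smul, Algebra.smul_def, map_mul, e, mul_zero]
  let Φ : B ⊗[A] Ω[A⁄R] →ₗ[A] Q := TensorProduct.lift (LinearMap.mk₂ A (fun b w => g b * L w)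
    (fun b b' w => by rw [map_add, add_mul])
    (fun c b w => by
      rw [Algebra.smul_def, Algebra.smul_def, map_mul, mul_assoc]
      have h1 := hnil _ _ (hqs c) (show q (g b * L w) = 0 by rw [map_mul, hL, mul_zero])
      rw [sub_mul, sub_eq_zero] at h1
      exact h1.symm)
    (fun b w w' => by rw [map_add, mul_add])
    (fun c b w => by rw [map_smul, mul_smul_comm]))
  have h2 : g 1 * L (KaehlerDifferential.D R A a) = 0 := (congrArg Φ h).trans (map_zero Φ)
  rw [map_one, one_mul, show L (KaehlerDifferential.D R A a) = π a - s a from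
    δ.liftKaehlerDifferential_comp_D a, show s a = 0 from (congrArg g ha).trans (map_zero g),
    sub_zero] at h2
  exact Ideal.Quotient.eq_zero_iff_mem.mp h2

theorem mono_conormalDiff {Y : Scheme.{u}} (f : X ⟶ Y) (hf : MoreMor.IsFormallySmoothHom (i ≫ f))
    (Ω' : X.Modules) (d : OmegaSh.Der f Ω') (hd : OmegaSh.IsUniversal d)
    (φ : Omega.conormal i ⟶ (Scheme.Modules.pullback i).obj Ω') (hφ : OmegaSh.IsConormalDiff i d φ) :
    Mono φ := by
  rw [mono_iff_stalk]
  intro x
  refine (injective_iff_map_eq_zero _).mpr fun z hz => ?_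
  obtain ⟨U, hx, k, rfl⟩ := exists_conormalSect i x z
  refine conormalSect_eq_zero i hx k ?_
  have h1 : (DerSch.stalkFunctor Z x).map φ (gm _ hx (OmegaSh.conormalSect i U k)) =
      gm _ hx (OmegaSh.pullSect i Ω' U (d.app U (OmegaSh.idealSect i.ker U k))) := by
    refine (DerSch.stalkFunctor_map_germ x φ _ hx _).trans ?_
    exact congrArg _ (hφ U k)
  rw [h1] at hz
  have h2 := (stalkPullbackIso_gm i Ω' x hx (d.app U (OmegaSh.idealSect i.ker U k))).symm.trans
    ((congrArg _ hz).trans (map_zero _))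
  rw [← stalkD_germ] at h2
  generalize hb : X.presheaf.germ U (i x) hx (OmegaSh.idealSect i.ker U k) = a at h2 ⊢
  have ha : i.stalkMap x a = 0 := by
    rw [← hb]; exact rep_mem i ⟨U, hx, k, rfl, rfl⟩
  obtain ⟨j, hj⟩ := exists_iso_of_eq hd (i x) _ rfl
  let E := (ModuleCat.extendScalars (i.stalkMap x).hom).mapIso j
  let _ := (f.stalkMap (i x)).hom.toAlgebra
  let _ := (i.stalkMap x).hom.toAlgebra
  let _ : Algebra (Y.presheaf.stalk (f (i x))) (Z.presheaf.stalk x) :=
    (f.stalkMap (i x) ≫ i.stalkMap x).hom.toAlgebra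
  have : IsScalarTower (Y.presheaf.stalk (f (i x))) (X.presheaf.stalk (i x)) (Z.presheaf.stalk x) :=
    IsScalarTower.of_algebraMap_eq' rfl
  have : Algebra.FormallySmooth (Y.presheaf.stalk (f (i x))) (Z.presheaf.stalk x) := by
    show (f.stalkMap (i x) ≫ i.stalkMap x).hom.FormallySmooth
    rw [← Scheme.Hom.stalkMap_comp i f x]
    exact StalkFormal.formallySmooth_stalkMap (i ≫ f) hf x
  have h3 : E.hom (((ModuleCat.extendRestrictScalarsAdj (i.stalkMap x).hom).unit.app _).hom
      (CommRingCat.KaehlerDifferential.d a)) = 0 := by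
    rw [← h2, ← hj a]
    exact (congr($((ModuleCat.extendRestrictScalarsAdj (i.stalkMap x).hom).unit.naturality j.hom)
      (CommRingCat.KaehlerDifferential.d a))).symm
  refine mem_sq_of_tmul_D (R := Y.presheaf.stalk (f (i x))) (i.stalkMap_surjective x) a ha ?_
  exact (ConcreteCategory.bijective_of_isIso E.hom).1 (h3.trans (map_zero E.hom.hom).symm)

end Groth.Agent.Synt29.ConormalStalk
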