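import Groth.Agent.Synt29.SurfP3
import Groth.Agent.PlaneCurveCoh.Ideal
import Groth.Agent.GrLib8.SurfExt.Criterion
import Groth.Agent.AdjForm.Main
import Groth.Agent.SeesawX.Basic
import Groth.Agent.H28.DetExt
import Groth.Agent.H28.KRRZero
import Groth.Agent.PPSheaf.Gr
import Groth.Agent.H28.PBCores
import Groth.Agent.Lib.CanonVia
import Groth.Agent.FinPtsReg.Main
import Groth.Agent.Synt29.ExtPowPull

/-!
# Conormal and canonical modules of complete intersections of two hypersurfaces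
-/

set_option autoImplicit false
set_option linter.style.haveILetI false
set_option linter.unusedSectionVars false
set_option backward.isDefEq.respectTransparency false
set_option backward.isDefEq.respectTransparency.types false
set_option maxHeartbeats 1000000

universe u

open CategoryTheory CategoryTheory.Limits AlgebraicGeometry TopologicalSpace Opposite
open Groth.Agent Groth.Agent.H23 Groth.Agent.H23.PicMul Groth.Agent.Pic13Lib

attribute [local instance] H23.PicMul.clMonoid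

noncomputable section

namespace Groth.Agent.Synt29.CITwo

variable {k : Type u} [Field k] {n : ℕ}

/-- A map onto the ideal of a hypersurface, also for the zero form. -/
theorem exists_map {d : ℕ} (G : LefPen.Form n k d) {J : (CohB1.ProjSpace n k).IdealSheafData}
    (hJ : LefPen.hypIdeal G ≤ J) :
    ∃ ψ : Twist.twistProjSpace n k (-(d : ℤ)) ⟶ ClSub.idealMod J,
      ∀ (l : Fin (n + 1)) (a : Γ(CohB1.ProjSpace n k, (LefPenLib.chartAff l).1)),
        a ∈ (LefPen.hypIdeal G).ideal (LefPenLib.chartAff l) →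
          ∃ t, OmegaSh.idealSect J (LefPenLib.chartAff l).1 (ψ.app _ t) = a := by
  by_cases hG : G = 0
  · subst hG
    refine ⟨0, fun l a ha => ⟨0, ?_⟩⟩
    have hz : LefPen.dehom (0 : LefPen.Form n k d) l = 0 := by
      refine (congrArg _ ?_).trans (map_zero _)
      refine HomogeneousLocalization.val_injective _ ?_
      rw [HomogeneousLocalization.Away.val_mk, HomogeneousLocalization.val_zero]
      exact Localization.mk_zero _
    rw [LefPenLib.hypIdeal_chart, hz, Ideal.span_singleton_eq_bot.2 rfl] at ha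
    rw [Ideal.mem_bot.1 ha, map_zero, map_zero]
  · obtain ⟨e⟩ := PlaneCurveCoh.idealMod_hyp_iso G hG
    obtain ⟨φ, hφ⟩ := GrLib8.SurfExt.exists_hom_of_le hJ
    refine ⟨e.inv ≫ φ, fun l a ha => ?_⟩
    obtain ⟨s, rfl⟩ := OmegaLib.exists_of_mem _ (LefPenLib.chartAff l) a ha
    refine ⟨e.hom.app _ s, ?_⟩
    have h1 : (e.inv ≫ φ).app _ (e.hom.app _ s) = φ.app (LefPenLib.chartAff l).1 s :=
      congr((($(e.hom_inv_id)) ≫ φ).app (LefPenLib.chartAff l).1 s)
    rw [h1]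
    show OmegaSh.fnSect _ _ ((ClSub.idealModι J).app _ (φ.app _ s)) = _
    rw [show (ClSub.idealModι J).app _ (φ.app _ s) = (ClSub.idealModι (LefPen.hypIdeal G)).app _ s from
      congr(($hφ).app (LefPenLib.chartAff l).1 s)]
    rfl

variable {a b : ℕ} (G₀ : LefPen.Form n k a) (G₁ : LefPen.Form n k b)

/-- Two hypersurfaces generate. -/
theorem exists_epi : ∃ (ψ₀ : Twist.twistProjSpace n k (-(a : ℤ)) ⟶ ClSub.idealMod (LefPen.hypIdeal G₀ ⊔ LefPen.hypIdeal G₁))
    (ψ₁ : Twist.twistProjSpace n k (-(b : ℤ)) ⟶ ClSub.idealMod (LefPen.hypIdeal G₀ ⊔ LefPen.hypIdeal G₁)),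
    Epi (biprod.desc ψ₀ ψ₁) := by
  obtain ⟨ψ₀, h₀⟩ := exists_map G₀ (le_sup_left (b := LefPen.hypIdeal G₁))
  obtain ⟨ψ₁, h₁⟩ := exists_map G₁ (le_sup_right (a := LefPen.hypIdeal G₀))
  refine ⟨ψ₀, ψ₁, ?_⟩
  have hT : ∀ i : ℤ, Coh.IsQCoh (Twist.twistProjSpace n k i) := fun i => PnCoh.isQCoh_twist_mvPolynomial (Fin (n + 1)) k i
  have hA : Coh.IsQCoh (Twist.twistProjSpace n k (-(a : ℤ)) ⊞ Twist.twistProjSpace n k (-(b : ℤ))) := by
    refine QCoh.isQCoh_of_isFinLocFree (KFlatLib.isFinLocFree_biprod ?_ ?_) <;>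
      exact H23.PullPush.isFinLocFree_of_isInvertible (FinPtsReg.isInvertible_twistProjSpace _)
  have hJq : Coh.IsQCoh (ClSub.idealMod (LefPen.hypIdeal G₀ ⊔ LefPen.hypIdeal G₁)) := PPSheaf.isQCoh_idealMod _
  refine Abelian.epi_of_cokernel_π_eq_zero _ ?_
  refine QCoh.hom_eq_zero_of_cover hJq (QCoh.isQCoh_cokernel hA hJq _) _ (LefPen.chart n k)
    (fun l => (LefPenLib.chartAff l).2) (fun x => Opens.mem_iSup.1 ((LefPenLib.iSup_chart (r := n) (k := k)).ge (Set.mem_univ x)))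
    fun l x => ?_
  have hx := OmegaLib.idealSect_mem (LefPen.hypIdeal G₀ ⊔ LefPen.hypIdeal G₁) (LefPenLib.chartAff l) x
  rw [show (LefPen.hypIdeal G₀ ⊔ LefPen.hypIdeal G₁).ideal (LefPenLib.chartAff l) =
    (LefPen.hypIdeal G₀).ideal (LefPenLib.chartAff l) ⊔ (LefPen.hypIdeal G₁).ideal (LefPenLib.chartAff l) from by
      simp, Submodule.mem_sup] at hx
  obtain ⟨p, hp, q, hq, hpq⟩ := hx
  obtain ⟨s, hs⟩ := h₀ l p hp
  obtain ⟨t, ht⟩ := h₁ l q hq
  have hx' : x = ψ₀.app (LefPen.chart n k l) s + ψ₁.app (LefPen.chart n k l) t := by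
    refine OmegaLib.idealSect_injective (LefPen.hypIdeal G₀ ⊔ LefPen.hypIdeal G₁) _ ?_
    rw [map_add]
    exact (hpq.symm.trans (congrArg₂ (· + ·) hs.symm ht.symm))
  rw [hx', map_add]
  have e₀ : ψ₀ ≫ cokernel.π (biprod.desc ψ₀ ψ₁) = 0 := by
    refine (congrArg (· ≫ cokernel.π (biprod.desc ψ₀ ψ₁)) (biprod.inl_desc ψ₀ ψ₁).symm).trans ?_
    rw [Category.assoc, cokernel.condition, comp_zero]
  have e₁ : ψ₁ ≫ cokernel.π (biprod.desc ψ₀ ψ₁) = 0 := by
    refine (congrArg (· ≫ cokernel.π (biprod.desc ψ₀ ψ₁)) (biprod.inr_desc ψ₀ ψ₁).symm).trans ?_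
    rw [Category.assoc, cokernel.condition, comp_zero]
  exact (congrArg₂ (· + ·) congr(($e₀).app (LefPen.chart n k l) s)
    congr(($e₁).app (LefPen.chart n k l) t)).trans (add_zero _)

variable {X : Scheme.{u}} [X.Over (Spec (CommRingCat.of k))] [IsIntegral X]
  [Smooth (X ↘ Spec (CommRingCat.of k))] {m : ℕ} (hn : m + 2 = n) (hdim : topologicalKrullDim X = m)
  (ι : X ⟶ CohB1.ProjSpace n k) [IsClosedImmersion ι] (hι : ι ≫ CohB1.ProjSpace.toSpec n k = X ↘ Spec (CommRingCat.of k))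
  (hker : ι.ker = LefPen.hypIdeal G₀ ⊔ LefPen.hypIdeal G₁)

include hn hdim hι in
theorem rank_conormal : FlatMod.IsFinLocFreeOfRank 2 (Omega.conormal ι) := by
  haveI hs : Smooth (CohB1.ProjSpace.toSpec n k) := CurveEmbed.smooth_toSpec n k
  haveI : IsProper (CohB1.ProjSpace.toSpec n k) := PnCoh.Chow.isProper_toSpec n _
  haveI : IsIntegral (CohB1.ProjSpace n k) := PnChart.isIntegral_projSpace n k
  haveI : IsLocallyNoetherian (CohB1.ProjSpace n k) :=
    LocallyOfFiniteType.isLocallyNoetherian (CohB1.ProjSpace.toSpec n k)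
  haveI := CurveFin.smoothOfRelativeDimension_of_dim (CohB1.ProjSpace.toSpec n k) (S10829.result k n)
  haveI := CurveFin.smoothOfRelativeDimension_of_dim (X ↘ Spec (CommRingCat.of k)) hdim
  haveI : QuasiSeparated (X ↘ Spec (CommRingCat.of k)) := by rw [← hι]; infer_instance
  have h := AdjForm.isRegularImmersionOfCodim (CohB1.ProjSpace.toSpec n k) (X ↘ Spec (CommRingCat.of k)) n m ι hι
  rw [show n - m = 2 from by omega] at h
  exact CanonVia.rank_conormal ι 2 h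

include hn hdim hι hker in
/-- The determinant of the conormal module. -/
theorem cl_det : PicF.cl (H28.ExtBase.L (Omega.conormal ι) 2) = tw ι (-(a : ℤ)) * tw ι (-(b : ℤ)) := by

  obtain ⟨ψ₀, ψ₁, hψ⟩ : ∃ (ψ₀ : Twist.twistProjSpace n k (-(a : ℤ)) ⟶ ClSub.idealMod ι.ker)
      (ψ₁ : Twist.twistProjSpace n k (-(b : ℤ)) ⟶ ClSub.idealMod ι.ker), Epi (biprod.desc ψ₀ ψ₁) := by
    rw [hker]; exact exists_epi G₀ G₁
  haveI := hψ
  let adj := Scheme.Modules.pullbackPushforwardAdjunction ι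
  let F := Scheme.Modules.pullback ι
  let d : F.obj (Twist.twistProjSpace n k (-(a : ℤ))) ⊞ F.obj (Twist.twistProjSpace n k (-(b : ℤ))) ⟶ Omega.conormal ι :=
    biprod.desc (F.map ψ₀) (F.map ψ₁)
  haveI : Epi d := by
    refine Preadditive.epi_of_cancel_zero _ fun {T} u hu => ?_
    have hu₀ : F.map ψ₀ ≫ u = 0 := by
      have := congrArg (biprod.inl ≫ ·) hu
      rwa [biprod.inl_desc_assoc, comp_zero] at this
    have hu₁ : F.map ψ₁ ≫ u = 0 := by
      have := congrArg (biprod.inr ≫ ·) hu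
      rwa [biprod.inr_desc_assoc, comp_zero] at this
    have h : biprod.desc ψ₀ ψ₁ ≫ adj.homEquiv _ _ u = 0 := by
      refine biprod.hom_ext' _ _ ?_ ?_
      · rw [biprod.inl_desc_assoc, comp_zero, ← adj.homEquiv_naturality_left, hu₀, Adjunction.homEquiv_unit,
          Functor.map_zero, comp_zero]
      · rw [biprod.inr_desc_assoc, comp_zero, ← adj.homEquiv_naturality_left, hu₁, Adjunction.homEquiv_unit,
          Functor.map_zero, comp_zero]
    have h' := (cancel_epi (biprod.desc ψ₀ ψ₁)).1 (h.trans comp_zero.symm)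
    have h2 : (adj.homEquiv _ _).symm (adj.homEquiv _ _ u) = (adj.homEquiv _ _).symm 0 := congrArg _ h'
    rw [Equiv.symm_apply_apply, Adjunction.homEquiv_counit, Functor.map_zero, zero_comp] at h2
    exact h2
  have hA := H28.PBCores.isInvertible_iff_rank.1 (isInvertible_tw ι (-(a : ℤ)))
  have hB := H28.PBCores.isInvertible_iff_rank.1 (isInvertible_tw ι (-(b : ℤ)))
  have hN := rank_conormal hn hdim ι hι
  haveI : IsIso d := SeesawX.isIso_of_epi_rank (H28.KRRZero.rank_biprod hA hB).1 hN d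
  have hse : (ShortComplex.mk (biprod.inl : F.obj (Twist.twistProjSpace n k (-(a : ℤ))) ⟶ _)
      (biprod.snd : _ ⟶ F.obj (Twist.twistProjSpace n k (-(b : ℤ)))) biprod.inl_snd).ShortExact :=
    (ShortComplex.Splitting.ofHasBinaryBiproduct _ _).shortExact
  obtain ⟨e⟩ := H28.DetExt.det_mul hse hA hB
  obtain ⟨eA⟩ := H28.ExtSh.nonempty_iso_L (H28.KvbModel.lf_of_rank hA) (H28.KvbLam.isExtPow_one (F.obj (Twist.twistProjSpace n k (-(a : ℤ)))))
  obtain ⟨eB⟩ := H28.ExtSh.nonempty_iso_L (H28.KvbModel.lf_of_rank hB) (H28.KvbLam.isExtPow_one (F.obj (Twist.twistProjSpace n k (-(b : ℤ)))))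
  obtain ⟨W, -, hW⟩ := H28.ExtSh.exists_extPow (m := 2) (H28.KvbModel.lf_of_rank hN)
  have hW' := ExtPowPull.isExtPow_of_iso (asIso d).symm hW
  obtain ⟨f₁⟩ := H28.ExtSh.nonempty_iso_L (H28.KvbModel.lf_of_rank hN) hW
  obtain ⟨f₂⟩ := H28.ExtSh.nonempty_iso_L (H28.KvbModel.lf_of_rank (H28.KRRZero.rank_biprod hA hB).1) hW'
  rw [cl_eq_iff.2 ⟨f₁ ≪≫ f₂.symm⟩, ← cl_eq_iff.2 ⟨e⟩, cl_tensor, cl_eq_iff.2 ⟨eA⟩, cl_eq_iff.2 ⟨eB⟩]
  rfl

include hn hdim hι hker in
/-- Adjunction. -/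
theorem cl_canonical [IsAlgClosed k] {ω : X.Modules}
    (hω : ExtPow.IsExtPow m (Omega.sheaf (X ↘ Spec (CommRingCat.of k))) ω) :
    PicF.cl ω = tw ι ((a : ℤ) + b - n - 1) := by
  haveI hs : Smooth ((CohB1.ProjSpace n k) ↘ Spec (CommRingCat.of k)) := CurveEmbed.smooth_toSpec n k
  haveI : IsProper (CohB1.ProjSpace.toSpec n k) := PnCoh.Chow.isProper_toSpec n _
  haveI : IsIntegral (CohB1.ProjSpace n k) := PnChart.isIntegral_projSpace n k
  haveI : IsSeparated ((CohB1.ProjSpace n k) ↘ Spec (CommRingCat.of k)) :=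
    inferInstanceAs (IsSeparated (CohB1.ProjSpace.toSpec n k))
  haveI : QuasiCompact ((CohB1.ProjSpace n k) ↘ Spec (CommRingCat.of k)) :=
    inferInstanceAs (QuasiCompact (CohB1.ProjSpace.toSpec n k))
  obtain ⟨W, -, hW⟩ := H28.ExtSh.exists_extPow (m := n) (PnEuler.isFinLocFree_of_rank (PnEuler.rank_omega n k))
  have hωY : ExtPow.IsExtPow m (Omega.sheaf (ι ≫ ((CohB1.ProjSpace n k) ↘ Spec (CommRingCat.of k)))) ω := by
    rw [show ι ≫ ((CohB1.ProjSpace n k) ↘ Spec (CommRingCat.of k)) = X ↘ Spec (CommRingCat.of k) from hι]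
    exact hω
  obtain ⟨L, -, hL⟩ := H28.ExtSh.exists_extPow (m := 2) (H28.KvbModel.lf_of_rank (rank_conormal hn hdim ι hι))
  obtain ⟨eL⟩ := H28.ExtSh.nonempty_iso_L (H28.KvbModel.lf_of_rank (rank_conormal hn hdim ι hι)) hL
  have hW' : ExtPow.IsExtPow (m + 2) (Omega.sheaf ((CohB1.ProjSpace n k) ↘ Spec (CommRingCat.of k))) W := by
    rw [hn]; exact hW
  obtain ⟨θ⟩ := S11310.result k m 2 (CohB1.ProjSpace n k)
    (fun x => GrpSchLib.isRegularLocalRing_stalk_of_smooth ((CohB1.ProjSpace n k) ↘ Spec (CommRingCat.of k)) x)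
    (by rw [hn]; exact S10829.result k n) X ι
    (fun x => GrpSchLib.isRegularLocalRing_stalk_of_smooth (X ↘ Spec (CommRingCat.of k)) x)
    hdim W hW' ω hωY L hL
  have h1 : tw ι (-((n : ℤ) + 1)) = PicF.cl ω * (tw ι (-(a : ℤ)) * tw ι (-(b : ℤ))) := by
    have hp : PicF.cl ((Scheme.Modules.pullback ι).obj W) = tw ι (-((n : ℤ) + 1)) :=
      (congrArg (pullHom ι) (SurfP3.cl_omega_top n k hW)).trans rfl
    rw [← hp, cl_eq_iff.2 ⟨θ⟩, cl_tensor, ← cl_eq_iff.2 ⟨eL⟩, cl_det G₀ G₁ hn hdim ι hι hker]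
  calc PicF.cl ω = PicF.cl ω * (tw ι (-(a : ℤ)) * tw ι (-(b : ℤ))) * (tw ι a * tw ι b) := by
        rw [mul_assoc, ← tw_add, ← tw_add, ← tw_add, show -(a : ℤ) + -(b : ℤ) + ((a : ℤ) + b) = 0 by ring, tw_zero, mul_one]
    _ = tw ι ((a : ℤ) + b - n - 1) := by
        rw [← h1, ← tw_add, ← tw_add]
        congr 1
        ring

end Groth.Agent.Synt29.CITwo

end
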