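import Mathlib
import Groth.Prelude.Def_CAlgX

/-! A section cut out by a quasi-regular sequence forces smoothness. -/

set_option autoImplicit false

universe u

open MvPolynomial

namespace Groth.Agent.Synt29.QuasiSection

theorem exists_homogeneous {R : Type u} [CommRing R] {c : ℕ} (f : Fin c → R) :
    ∀ (n : ℕ) (a : R), a ∈ Ideal.span (Set.range f) ^ n →
      ∃ P : MvPolynomial (Fin c) R, P.IsHomogeneous n ∧ eval f P = a := by
  intro n
  induction n with
  | zero => exact fun a _ => ⟨C a, isHomogeneous_C _ _, eval_C a⟩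
  | succ n ih =>
    intro a ha
    rw [pow_succ'] at ha
    induction ha using Submodule.mul_induction_on' with
    | mem_mul_mem x hx y hy =>
      obtain ⟨b, hb⟩ := Ideal.mem_span_range_iff_exists_fun.1 hx
      obtain ⟨P, hP, hPe⟩ := ih y hy
      refine ⟨(∑ l, C (b l) * X l) * P, ?_, ?_⟩
      · rw [add_comm]
        exact (IsHomogeneous.sum _ _ _ fun l _ => (isHomogeneous_X R l).C_mul (b l)).mul hP
      · rw [map_mul, map_sum, hPe]
        simp [hb]
    | add x _ y _ hx hy =>
      obtain ⟨P, hP, hPe⟩ := hx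
      obtain ⟨Q, hQ, hQe⟩ := hy
      exact ⟨P + Q, hP.add hQ, by rw [map_add, hPe, hQe]⟩

/-- The kernel of a map out of a noetherian ring with an injective section is locally zero. -/
theorem exists_mul_eq_zero {C₀ A₀ B A : Type u} [CommRing C₀] [IsNoetherianRing C₀] [CommRing A₀] [CommRing B]
    [CommRing A] (Φ : C₀ →+* B) (ε₀ : C₀ →+* A₀) (ε : B →+* A) (j : A₀ →+* A) (hj : Function.Injective j)
    (hcomp : ε.comp Φ = j.comp ε₀) {c : ℕ} (t : Fin c → C₀) (hker : RingHom.ker ε₀ = Ideal.span (Set.range t))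
    (hkerB : RingHom.ker ε = Ideal.span (Set.range (Φ ∘ t))) (hqr : CAlgX.IsQuasiRegular (Φ ∘ t))
    (q : Ideal C₀) [q.IsPrime] (hq : RingHom.ker ε₀ ≤ q) (a : C₀) (ha : Φ a = 0) :
    ∃ s ∉ q, s * a = 0 := by
  have hpow : ∀ n, a ∈ Ideal.span (Set.range t) ^ n := by
    intro n
    induction n with
    | zero => rw [pow_zero, Ideal.one_eq_top]; trivial
    | succ n ih =>
      obtain ⟨P, hP, rfl⟩ := exists_homogeneous t n a ih
      have he : eval (Φ ∘ t) (MvPolynomial.map Φ P) = 0 := by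
        rw [eval_map, ← eval₂_comp, ha]
      have hc := hqr n (MvPolynomial.map Φ P) (hP.map Φ) (by rw [he]; exact zero_mem _)
      have hc' : ∀ d, P.coeff d ∈ Ideal.span (Set.range t) := fun d => by
        rw [← hker, RingHom.mem_ker]
        refine hj ?_
        rw [map_zero, ← RingHom.comp_apply, ← hcomp, RingHom.comp_apply]
        have := hc d
        rwa [coeff_map, ← hkerB, RingHom.mem_ker] at this
      rw [eval_eq, pow_succ']
      refine Ideal.sum_mem _ fun d hd => Ideal.mul_mem_mul (hc' d) ?_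
      have hdeg : d.degree = n := by
        rw [Finsupp.degree_eq_weight_one]
        exact hP (MvPolynomial.mem_support_iff.1 hd)
      rw [← hdeg]
      show ∏ i ∈ d.support, t i ^ d i ∈ Ideal.span (Set.range t) ^ (∑ i ∈ d.support, d i)
      rw [← Finset.prod_pow_eq_pow_sum]
      exact Ideal.prod_mem_prod fun l _ => Ideal.pow_mem_pow (Ideal.subset_span (Set.mem_range_self l)) _
  let L := Localization.AtPrime q
  have hne : (Ideal.span (Set.range t)).map (algebraMap C₀ L) ≠ ⊤ := fun h => by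
    have := (Ideal.map_mono (hker ▸ hq) : _ ≤ q.map (algebraMap C₀ L))
    rw [h, top_le_iff, IsLocalization.AtPrime.map_eq_maximalIdeal] at this
    exact (IsLocalRing.maximalIdeal.isMaximal L).ne_top this
  have h0 : algebraMap C₀ L a ∈ ⨅ n, (Ideal.span (Set.range t)).map (algebraMap C₀ L) ^ n := by
    refine Submodule.mem_iInf _ |>.2 fun n => ?_
    rw [← Ideal.map_pow]
    exact Ideal.mem_map_of_mem _ (hpow n)
  rw [Ideal.iInf_pow_eq_bot_of_isLocalRing _ hne, Ideal.mem_bot] at h0
  obtain ⟨s, hs⟩ := (IsLocalization.map_eq_zero_iff q.primeCompl L a).1 h0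
  exact ⟨s, s.2, hs⟩

/-- Smoothness passes to a quotient whose kernel vanishes locally. -/
theorem isSmoothAt_of_kernel {A C B : Type u} [CommRing A] [CommRing C] [Algebra A C] [CommRing B] [Algebra A B]
    (Ψ : C →ₐ[A] B) (hΨ : Function.Surjective Ψ) (q : Ideal B) [q.IsPrime]
    (hloc : ∀ x, Ψ x = 0 → ∃ s ∉ q.comap Ψ, s * x = 0) [Algebra.IsSmoothAt A (q.comap Ψ)] :
    Algebra.IsSmoothAt A q := by
  let q' := q.comap Ψ
  let F : Localization.AtPrime q' →ₐ[A] Localization.AtPrime q :=
    { Localization.localRingHom q' q Ψ.toRingHom rfl with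
      commutes' := fun a => by
        show Localization.localRingHom q' q Ψ.toRingHom rfl (algebraMap A (Localization.AtPrime q') a) = _
        rw [IsScalarTower.algebraMap_apply A C, Localization.localRingHom_to_map,
          IsScalarTower.algebraMap_apply A B (Localization.AtPrime q)]
        exact congrArg _ (Ψ.commutes a) }
  have hF : Function.Bijective F := by
    refine ⟨(injective_iff_map_eq_zero F).2 fun z hz => ?_, fun y => ?_⟩
    · obtain ⟨a, s, rfl⟩ := IsLocalization.exists_mk'_eq q'.primeCompl z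
      rw [show F (IsLocalization.mk' _ a s) = Localization.localRingHom q' q Ψ.toRingHom rfl _ from rfl,
        Localization.localRingHom_mk', IsLocalization.mk'_eq_zero_iff] at hz
      obtain ⟨⟨m, hm⟩, hm'⟩ := hz
      obtain ⟨m, rfl⟩ := hΨ m
      obtain ⟨r, hr, hr'⟩ := hloc (m * a) ((map_mul Ψ m a).trans hm')
      refine (IsLocalization.mk'_eq_zero_iff _ _).2
        ⟨⟨r * m, fun h => (Ideal.IsPrime.mem_or_mem inferInstance h).elim hr hm⟩, ?_⟩
      show r * m * a = 0
      rw [mul_assoc]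
      exact hr'
    · obtain ⟨b, ⟨s, hs⟩, rfl⟩ := IsLocalization.exists_mk'_eq q.primeCompl y
      obtain ⟨a, rfl⟩ := hΨ b
      obtain ⟨r, rfl⟩ := hΨ s
      exact ⟨IsLocalization.mk' _ a (⟨r, hs⟩ : q'.primeCompl), Localization.localRingHom_mk' q' q Ψ.toRingHom rfl a ⟨r, hs⟩⟩
  exact Algebra.FormallySmooth.of_equiv (AlgEquiv.ofBijective F hF)

theorem isSmoothAt_universal {A : Type u} [CommRing A] {N c : ℕ} (cb : Fin N → Fin c → MvPolynomial (Fin N) A)
    (h : Fin N → MvPolynomial (Fin N ⊕ Fin c) A)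
    (hh : ∀ k, h k = X (Sum.inl k) - ∑ l, rename Sum.inl (cb k l) * X (Sum.inr l))
    (q : Ideal (MvPolynomial (Fin N ⊕ Fin c) A ⧸ Ideal.span (Set.range h))) [q.IsPrime]
    (hq : ∀ P, constantCoeff P = 0 → Ideal.Quotient.mk (Ideal.span (Set.range h)) P ∈ q) :
    Algebra.IsSmoothAt A q := by
  classical
  let P0 : Algebra.PreSubmersivePresentation A (MvPolynomial (Fin N ⊕ Fin c) A ⧸ Ideal.span (Set.range h))
      (Fin N ⊕ Fin c) (Fin N) := Algebra.PreSubmersivePresentation.naive (v := h) Sum.inl Sum.inl_injective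
  have hjac : P0.jacobiMatrix = fun i k => pderiv (Sum.inl i) (h k) :=
    Matrix.ext fun i k => Algebra.PreSubmersivePresentation.jacobiMatrix_apply P0 i k
  have hδ : P0.jacobian ∉ q := by
    intro hmem
    rw [Algebra.PreSubmersivePresentation.jacobian_eq_jacobiMatrix_det] at hmem
    change Ideal.Quotient.mk (Ideal.span (Set.range h)) P0.jacobiMatrix.det ∈ q at hmem
    have h1 : constantCoeff P0.jacobiMatrix.det = 1 := by
      refine (RingHom.map_det constantCoeff P0.jacobiMatrix).trans ?_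
      rw [show constantCoeff.mapMatrix P0.jacobiMatrix = 1 from ?_, Matrix.det_one]
      rw [hjac]
      ext i k
      rcases eq_or_ne i k with rfl | hne
      · simp [hh]
      · rw [Matrix.one_apply_ne hne]
        simp [hh, hne.symm]
    have h2 : Ideal.Quotient.mk (Ideal.span (Set.range h)) (P0.jacobiMatrix.det - 1) ∈ q :=
      hq _ (by rw [map_sub, h1, map_one, sub_self])
    rw [map_sub, map_one] at h2
    exact Ideal.IsPrime.ne_top inferInstance
      ((Ideal.eq_top_iff_one q).2 (by simpa using q.sub_mem hmem h2))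
  let L := Localization.Away P0.jacobian
  let Q := (Algebra.PreSubmersivePresentation.localizationAway L P0.jacobian).comp P0
  have hQ : IsUnit Q.jacobian := by
    show IsUnit ((Algebra.PreSubmersivePresentation.localizationAway L P0.jacobian).comp P0).jacobian
    rw [Algebra.PreSubmersivePresentation.comp_jacobian_eq_jacobian_smul_jacobian,
      Algebra.PreSubmersivePresentation.localizationAway_jacobian, Algebra.smul_def]
    exact (IsLocalization.Away.algebraMap_isUnit _).mul (IsLocalization.Away.algebraMap_isUnit _)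
  haveI : Algebra.IsStandardSmooth A L :=
    Algebra.SubmersivePresentation.isStandardSmooth { toPreSubmersivePresentation := Q, jacobian_isUnit := hQ }
  haveI : Algebra.FinitePresentation A (MvPolynomial (Fin N ⊕ Fin c) A ⧸ Ideal.span (Set.range h)) :=
    P0.toPresentation.finitePresentation_of_isFinite
  exact (Algebra.basicOpen_subset_smoothLocus_iff_smooth.2 inferInstance) (a := ⟨q, inferInstance⟩) hδ

theorem kernel_universal {A₀ A B : Type u} [CommRing A₀] [IsNoetherianRing A₀] [CommRing A] [CommRing B]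
    (j : A₀ →+* A) (hj : Function.Injective j) {N c : ℕ} (R : Fin N → Fin c → MvPolynomial (Fin N) A₀)
    (h₀ : Fin N → MvPolynomial (Fin N ⊕ Fin c) A₀)
    (hh₀ : ∀ k, h₀ k = X (Sum.inl k) - ∑ l, rename Sum.inl (R k l) * X (Sum.inr l))
    (Φ : MvPolynomial (Fin N ⊕ Fin c) A →+* B) (hΦ : ∀ k, Φ (MvPolynomial.map j (h₀ k)) = 0)
    (ε : B →+* A) (he : ∀ P, ε (Φ P) = constantCoeff P) (f : Fin c → B) (hf : ∀ l, Φ (X (Sum.inr l)) = f l)
    (hker : RingHom.ker ε = Ideal.span (Set.range f)) (hqr : CAlgX.IsQuasiRegular f)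
    (q : Ideal B) [q.IsPrime] (hq : RingHom.ker ε ≤ q)
    (P₀ : MvPolynomial (Fin N ⊕ Fin c) A₀) (hP : Φ (MvPolynomial.map j P₀) = 0) :
    ∃ S₀ : MvPolynomial (Fin N ⊕ Fin c) A₀, Φ (MvPolynomial.map j S₀) ∉ q ∧
      S₀ * P₀ ∈ Ideal.span (Set.range h₀) := by
  let mk := Ideal.Quotient.mk (Ideal.span (Set.range h₀))
  let t : Fin c → MvPolynomial (Fin N ⊕ Fin c) A₀ ⧸ Ideal.span (Set.range h₀) := fun l => mk (X (Sum.inr l))
  let Φ₀ : MvPolynomial (Fin N ⊕ Fin c) A₀ ⧸ Ideal.span (Set.range h₀) →+* B :=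
    Ideal.Quotient.lift _ (Φ.comp (MvPolynomial.map j)) fun x hx => (Ideal.span_le.2
      (by rintro _ ⟨k, rfl⟩; exact hΦ k) : Ideal.span (Set.range h₀) ≤ RingHom.ker (Φ.comp (MvPolynomial.map j))) hx
  let ε₀ : MvPolynomial (Fin N ⊕ Fin c) A₀ ⧸ Ideal.span (Set.range h₀) →+* A₀ :=
    Ideal.Quotient.lift _ constantCoeff fun x hx => (Ideal.span_le.2
      (by rintro _ ⟨k, rfl⟩; show constantCoeff (h₀ k) = 0; simp [hh₀]) :
      Ideal.span (Set.range h₀) ≤ RingHom.ker constantCoeff) hx
  have ht : Φ₀ ∘ t = f := funext fun l => by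
    show Φ (MvPolynomial.map j (X (Sum.inr l))) = f l
    rw [map_X, hf]
  have hcomp : ε.comp Φ₀ = j.comp ε₀ := Ideal.Quotient.ringHom_ext (RingHom.ext fun P => by
    show ε (Φ (MvPolynomial.map j P)) = j (constantCoeff P)
    rw [he, constantCoeff_map])
  have hker₀ : RingHom.ker ε₀ = Ideal.span (Set.range t) := by
    refine le_antisymm (fun x hx => ?_) (Ideal.span_le.2 ?_)
    · obtain ⟨P, rfl⟩ := Ideal.Quotient.mk_surjective x
      have hX : ∀ v, mk (X v) ∈ Ideal.span (Set.range t) := by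
        rintro (k | l)
        · have h0 : mk (h₀ k) = 0 :=
            Ideal.Quotient.eq_zero_iff_mem.2 (Ideal.subset_span (Set.mem_range_self k))
          rw [hh₀, map_sub, sub_eq_zero, map_sum] at h0
          rw [h0]
          refine Ideal.sum_mem _ fun l _ => ?_
          rw [map_mul]
          exact Ideal.mul_mem_left _ _ (Ideal.subset_span ⟨l, rfl⟩)
        · exact Ideal.subset_span ⟨l, rfl⟩
      have key : ∀ P : MvPolynomial (Fin N ⊕ Fin c) A₀,
          mk (P - C (constantCoeff P)) ∈ Ideal.span (Set.range t) := by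
        intro P
        induction P using MvPolynomial.induction_on with
        | C a => simp
        | add P Q hP hQ =>
          rw [map_add constantCoeff, C_add, add_sub_add_comm, map_add]
          exact add_mem hP hQ
        | mul_X P v _ => simpa using Ideal.mul_mem_left _ (mk P) (hX v)
      have h1 := key P
      rwa [show constantCoeff P = 0 from RingHom.mem_ker.1 hx, C_0, sub_zero] at h1
    · rintro _ ⟨l, rfl⟩
      exact RingHom.mem_ker.2 (constantCoeff_X (R := A₀) (σ := Fin N ⊕ Fin c) (Sum.inr l))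
  obtain ⟨s, hs, hs0⟩ := exists_mul_eq_zero Φ₀ ε₀ ε j hj hcomp t hker₀
    (by rw [ht]; exact hker) (by rw [ht]; exact hqr) (Ideal.comap Φ₀ q)
    (fun y hy => hq (RingHom.mem_ker.2 (by
      rw [← RingHom.comp_apply, hcomp, RingHom.comp_apply, RingHom.mem_ker.1 hy, map_zero]))) (mk P₀) hP
  obtain ⟨S₀, rfl⟩ := Ideal.Quotient.mk_surjective s
  rw [← map_mul, Ideal.Quotient.eq_zero_iff_mem] at hs0
  exact ⟨S₀, hs, hs0⟩

theorem isSmoothAt {A B : Type u} [CommRing A] [CommRing B] [Algebra A B] [Algebra.FinitePresentation A B]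
    (ε : B →ₐ[A] A) {c : ℕ} (f : Fin c → B) (hker : RingHom.ker ε = Ideal.span (Set.range f))
    (hqr : CAlgX.IsQuasiRegular f) (q : Ideal B) [q.IsPrime] (hq : RingHom.ker ε ≤ q) :
    Algebra.IsSmoothAt A q := by
  classical
  -- a presentation adapted to the section
  obtain ⟨N, π₀, hπ₀⟩ := Algebra.FiniteType.iff_quotient_mvPolynomial''.1 (inferInstance : Algebra.FiniteType A B)
  let g : Fin N → B := fun k => π₀ (X k) - algebraMap A B (ε (π₀ (X k)))
  have hεg : ∀ k, ε (g k) = 0 := fun k => by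
    show ε (π₀ (X k) - algebraMap A B (ε (π₀ (X k)))) = 0
    rw [map_sub, AlgHom.commutes]
    exact sub_self _
  let π : MvPolynomial (Fin N) A →ₐ[A] B := aeval g
  have hπ : Function.Surjective π := by
    intro b
    obtain ⟨P, rfl⟩ := hπ₀ b
    refine ⟨aeval (fun k => X k + C (ε (π₀ (X k)))) P, ?_⟩
    rw [← AlgHom.comp_apply]
    congr 1
    refine MvPolynomial.algHom_ext fun k => ?_
    simp [π, g]
  have hg : ∀ k, g k ∈ Ideal.span (Set.range f) := fun k => hker ▸ RingHom.mem_ker.2 (hεg k)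
  choose b hb using fun k => Ideal.mem_span_range_iff_exists_fun.1 (hg k)
  choose cb hcb using fun k l => hπ (b k l)
  let σ := Fin N ⊕ Fin c
  let Φ : MvPolynomial σ A →ₐ[A] B := aeval (Sum.elim g f)
  have hΦ : Function.Surjective Φ := fun y => by
    obtain ⟨P, rfl⟩ := hπ y
    exact ⟨rename Sum.inl P, by simp [Φ, π, aeval_rename, Function.comp_def]⟩
  obtain ⟨gens, hgens⟩ := Algebra.FinitePresentation.ker_fG_of_surjective _ hΦ
  -- descend the coefficients
  let S : Finset A := gens.biUnion (fun P => P.coeffs) ∪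
    Finset.univ.biUnion fun k => Finset.univ.biUnion fun l => (cb k l).coeffs
  let A₀ := Algebra.adjoin ℤ (S : Set A)
  haveI : IsNoetherianRing A₀ := isNoetherianRing_of_fg (Subalgebra.fg_adjoin_finset S)
  let j : A₀ →+* A := A₀.val.toRingHom
  have hR : ∀ k l, ∃ R : MvPolynomial (Fin N) A₀, MvPolynomial.map j R = cb k l := fun k l =>
    mem_range_map_iff_coeffs_subset.2 fun x hx => ⟨⟨x, Algebra.subset_adjoin (Finset.mem_union_right _
      (Finset.mem_biUnion.2 ⟨k, Finset.mem_univ k, Finset.mem_biUnion.2 ⟨l, Finset.mem_univ l, hx⟩⟩))⟩, rfl⟩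
  choose R hR using hR
  let h : Fin N → MvPolynomial σ A := fun k => X (Sum.inl k) - ∑ l, rename Sum.inl (cb k l) * X (Sum.inr l)
  let h₀ : Fin N → MvPolynomial σ A₀ := fun k => X (Sum.inl k) - ∑ l, rename Sum.inl (R k l) * X (Sum.inr l)
  have hh₀ : ∀ k, MvPolynomial.map j (h₀ k) = h k := fun k => by simp [h₀, h, hR, map_rename]
  have hΦh : ∀ k, Φ (h k) = 0 := fun k => by
    simp only [h, Φ, map_sub, map_sum, map_mul, aeval_X, Sum.elim_inl, Sum.elim_inr, aeval_rename,
      Function.comp_def]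
    rw [sub_eq_zero, ← hb k]
    exact Finset.sum_congr rfl fun l _ => by rw [← hcb k l]
  have he : ∀ P, ε (Φ P) = constantCoeff P := fun P => by
    show (ε.comp Φ) P = _
    rw [show ε.comp Φ = aeval (fun _ => (0 : A)) from MvPolynomial.algHom_ext fun x => by
      cases x with
      | inl k => simpa [Φ] using hεg k
      | inr l =>
        simp only [Φ, AlgHom.comp_apply, aeval_X, Sum.elim_inr]
        exact RingHom.mem_ker.1 (hker ▸ Ideal.subset_span (Set.mem_range_self l))]
    rw [aeval_zero', Algebra.algebraMap_self_apply]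
  let Ψ : (MvPolynomial σ A ⧸ Ideal.span (Set.range h)) →ₐ[A] B := Ideal.Quotient.liftₐ _ Φ (fun x hx =>
    (Ideal.span_le.2 (by rintro _ ⟨k, rfl⟩; exact hΦh k) : Ideal.span (Set.range h) ≤ RingHom.ker Φ) hx)
  have hΨ : Function.Surjective Ψ := fun y => by
    obtain ⟨P, rfl⟩ := hΦ y
    exact ⟨Ideal.Quotient.mk _ P, rfl⟩
  haveI : Algebra.IsSmoothAt A (q.comap Ψ) :=
    isSmoothAt_universal cb h (fun k => rfl) _ fun P hP => hq (RingHom.mem_ker.2 (by
      show ε (Φ P) = 0
      rw [he, hP]))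
  have key : ∀ P ∈ gens, ∃ s : MvPolynomial σ A, Φ s ∉ q ∧ s * P ∈ Ideal.span (Set.range h) := by
    intro P hP
    obtain ⟨P₀, hP₀⟩ : ∃ P₀ : MvPolynomial σ A₀, MvPolynomial.map j P₀ = P :=
      mem_range_map_iff_coeffs_subset.2 fun x hx => ⟨⟨x, Algebra.subset_adjoin (Finset.mem_union_left _
        (Finset.mem_biUnion.2 ⟨P, hP, hx⟩))⟩, rfl⟩
    obtain ⟨S₀, hS, hS'⟩ := kernel_universal j Subtype.val_injective R h₀ (fun k => rfl) Φ.toRingHom
      (fun k => by rw [hh₀]; exact hΦh k) ε.toRingHom he f (fun l => by simp [Φ]) hker hqr q hq P₀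
      (by rw [hP₀]; exact hgens.le (Ideal.subset_span hP))
    refine ⟨MvPolynomial.map j S₀, hS, ?_⟩
    rw [← hP₀, ← map_mul]
    refine (Ideal.map_le_iff_le_comap.2 (Ideal.span_le.2 ?_)) (Ideal.mem_map_of_mem _ hS')
    rintro _ ⟨k, rfl⟩
    show MvPolynomial.map j (h₀ k) ∈ Ideal.span (Set.range h)
    rw [hh₀]
    exact Ideal.subset_span (Set.mem_range_self k)
  refine isSmoothAt_of_kernel Ψ hΨ q fun x hx => ?_
  obtain ⟨P, rfl⟩ := Ideal.Quotient.mk_surjective x
  have hP : P ∈ Ideal.span (gens : Set (MvPolynomial σ A)) := hgens.ge hx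
  clear hx
  induction hP using Submodule.span_induction with
  | mem P hP =>
    obtain ⟨s, hs, hs'⟩ := key P hP
    exact ⟨Ideal.Quotient.mk _ s, hs, by rw [← map_mul]; exact Ideal.Quotient.eq_zero_iff_mem.2 hs'⟩
  | zero =>
    refine ⟨1, fun h => Ideal.IsPrime.ne_top (I := q) inferInstance ((Ideal.eq_top_iff_one q).2 ?_), by simp⟩
    simpa using h
  | add P Q _ _ hP hQ =>
    obtain ⟨s, hs, hs'⟩ := hP
    obtain ⟨r, hr, hr'⟩ := hQ
    refine ⟨s * r, fun h => (Ideal.IsPrime.mem_or_mem inferInstance h).elim hs hr, ?_⟩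
    rw [map_add, mul_add, mul_right_comm, hs', zero_mul, zero_add, mul_assoc, hr', mul_zero]
  | smul a P _ hP =>
    obtain ⟨s, hs, hs'⟩ := hP
    exact ⟨s, hs, by rw [smul_eq_mul, map_mul, mul_left_comm, hs', mul_zero]⟩

end Groth.Agent.Synt29.QuasiSection
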