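import Mathlib
import Groth.Prelude.Def_RegImm
import Groth.Agent.Synt29.QuasiSection
import Groth.Agent.Synt29.QRDescent
import Groth.Agent.MorLib.SmoothLocus
import Groth.Agent.RegImmLib.Basic
import Groth.Agent.KRegLib.Kinds
import Groth.Agent.S8657

/-! A section is a quasi-regular immersion near a point iff the morphism is smooth there. -/

set_option autoImplicit false
set_option linter.style.haveILetI false

universe u

open AlgebraicGeometry CategoryTheory

namespace Groth.Agent.Synt29.SectionSmooth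

/-- An open immersion is Koszul regular of length zero. -/
theorem isKoszulAtLength_zero {Z P : Scheme.{u}} (i : Z ⟶ P) [IsOpenImmersion i] (z : Z) :
    RegImmLib.IsKoszulAtLength i 0 z := by
  obtain ⟨U, hU, hzU, hle⟩ := exists_isAffineOpen_mem_and_subset (U := i.opensRange) (x := i z) ⟨z, rfl⟩
  have hle' : U ≤ i.opensRange := hle
  haveI : IsIso (i.app U) := i.isIso_app U hle'
  haveI : IsIso (i ∣_ U) := by
    haveI : IsOpenImmersion (i ∣_ U) := inferInstance
    haveI : Surjective (i ∣_ U) := ⟨fun y => by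
      obtain ⟨w, hw⟩ := hle' y.2
      exact ⟨⟨w, show i w ∈ U from hw ▸ y.2⟩, Subtype.ext (by rw [morphismRestrict_base]; exact hw)⟩⟩
    exact (isIso_iff_isOpenImmersion_and_surjective _).2 ⟨inferInstance, inferInstance⟩
  refine ⟨U, hU, hzU, inferInstance, Fin.elim0, ?_, ?_⟩
  · intro k x _
    refine ⟨0, ?_⟩
    exact (WiebeLib.subsingleton_ko _ (Nat.succ_pos k)).elim _ _
  · rw [Set.range_eq_empty, Ideal.span_empty, RingHom.ker_eq_bot_iff_eq_zero]
    exact fun x hx => (ConcreteCategory.bijective_of_isIso (i.app U)).1 (hx.trans (map_zero _).symm)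

/-- Quasi-regular near a point forces smoothness there. -/
theorem mem_smoothLocus {X S : Scheme.{u}} (f : X ⟶ S) [LocallyOfFinitePresentation f] (u : S ⟶ X)
    (hu : u ≫ f = 𝟙 S) (V : S.Opens) (s : S) (hsV : s ∈ V)
    (hreg : RegImm.IsRegularImmersionAt RegImm.Kind.quasi (V.ι ≫ u) ⟨s, hsV⟩) :
    u s ∈ f.smoothLocus := by
  obtain ⟨⟨U, hU⟩, hxU : u s ∈ U, hci, rs, hqr, hker⟩ := hreg
  haveI := hci
  obtain ⟨hU₁, hUs⟩ := Synt29.surjective_app_of_isClosedImmersion_restrict (V.ι ≫ u) U hU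
  have hfu : f (u s) = s := by rw [← Scheme.Hom.comp_apply, hu]; rfl
  obtain ⟨W, hW, hsW, -⟩ := exists_isAffineOpen_mem_and_subset (U := (⊤ : S.Opens)) (x := s) trivial
  -- a basic open of `U` over `W`
  obtain ⟨G, hGle, hxG⟩ : ∃ G : Γ(X, U), X.basicOpen G ≤ f ⁻¹ᵁ W ∧ u s ∈ X.basicOpen G :=
    hU.exists_basicOpen_le (V := f ⁻¹ᵁ W) ⟨u s, show f (u s) ∈ W by rw [hfu]; exact hsW⟩ hxU
  -- a basic open of `W` mapped into it
  obtain ⟨a, hale, hsa⟩ : ∃ a : Γ(S, W), S.basicOpen a ≤ V ⊓ u ⁻¹ᵁ X.basicOpen G ∧ s ∈ S.basicOpen a :=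
    hW.exists_basicOpen_le (V := V ⊓ u ⁻¹ᵁ X.basicOpen G) ⟨s, hsV, hxG⟩ hsW
  let b : Γ(X, X.basicOpen G) := f.appLE W (X.basicOpen G) hGle a
  obtain ⟨G', hG'⟩ := hU.basicOpen_basicOpen_is_basicOpen G b
  have hb : X.basicOpen b = X.basicOpen G ⊓ f ⁻¹ᵁ S.basicOpen a := by
    show X.basicOpen (f.appLE W (X.basicOpen G) hGle a) = _
    rw [Scheme.basicOpen_appLE]
  let U'' := X.basicOpen G'
  have hU''eq : U'' = X.basicOpen G ⊓ f ⁻¹ᵁ S.basicOpen a := hG'.trans hb
  let D := S.basicOpen a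
  have hD : IsAffineOpen D := hW.basicOpen a
  have e : U'' ≤ f ⁻¹ᵁ D := hU''eq.le.trans inf_le_right
  have hpre : u ⁻¹ᵁ U'' = D := by
    have h1 : u ⁻¹ᵁ (f ⁻¹ᵁ D) = D := by rw [← Scheme.Hom.comp_preimage, hu]; rfl
    rw [hU''eq, Scheme.Hom.preimage_inf, h1]
    exact inf_eq_right.2 (hale.trans inf_le_right)
  obtain ⟨hUs'', -, hkerU''⟩ := KRegLib.app_basicOpen_props (V.ι ≫ u) hU hU₁ hUs G'
  have hkeru : RingHom.ker ((V.ι ≫ u).app U'').hom = RingHom.ker (u.app U'').hom :=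
    KRegLib.ker_app_comp_ι u V (hpre.le.trans (hale.trans inf_le_left))
  -- the ring level
  let A := Γ(S, D)
  let B := Γ(X, U'')
  letI : Algebra A B := (f.appLE D U'' e).hom.toAlgebra
  haveI : Algebra.FinitePresentation A B := f.finitePresentation_appLE hD (hU.basicOpen G') e
  let ε : B →ₐ[A] A := ⟨(u.appLE U'' D hpre.ge).hom, fun r => by
    show (f.appLE D U'' e ≫ u.appLE U'' D hpre.ge) r = r
    rw [Scheme.Hom.appLE_comp_appLE]
    have gen : ∀ (g : S ⟶ S) (h : D ≤ g ⁻¹ᵁ D), g = 𝟙 S → g.appLE D D h r = r := by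
      rintro _ h rfl
      simp [Scheme.Hom.appLE]
      show (S.presheaf.map (𝟙 (Opposite.op D))) r = r
      simp
    exact gen _ _ hu⟩
  have hε : RingHom.ker ε.toRingHom = RingHom.ker (u.app U'').hom := by
    show RingHom.ker (u.appLE U'' D hpre.ge).hom = _
    have gen : ∀ (O : S.Opens) (hO : O ≤ u ⁻¹ᵁ U''), O = u ⁻¹ᵁ U'' →
        RingHom.ker (u.appLE U'' O hO).hom = RingHom.ker (u.app U'').hom := by
      rintro _ hO rfl
      rw [← Scheme.Hom.app_eq_appLE]
    exact gen _ _ hpre.symm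
  letI : Algebra Γ(X, U) B := (X.presheaf.map (homOfLE (X.basicOpen_le G')).op).hom.toAlgebra
  haveI : IsLocalization.Away G' B := hU.isLocalization_basicOpen G'
  haveI : Module.Flat Γ(X, U) B := IsLocalization.flat _ (Submonoid.powers G')
  have hq' : CAlgX.IsQuasiRegular fun i => algebraMap Γ(X, U) B (rs.get i) := QRDescent.qr_flat hqr
  have hkerε : RingHom.ker ε = Ideal.span (Set.range fun i => algebraMap Γ(X, U) B (rs.get i)) := by
    refine hε.trans (hkeru.symm.trans (hkerU''.trans ?_))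
    rw [hker, ← QRDescent.map_span_range rs.get, RegImmLib.span_range_eq_ofList, List.ofFn_get]
    rfl
  have hxU'' : u s ∈ U'' := show s ∈ u ⁻¹ᵁ U'' from hpre.ge hsa
  let q := (hU.basicOpen G').primeIdealOf ⟨u s, hxU''⟩
  have hq : RingHom.ker ε ≤ q.asIdeal := by
    intro y hy
    by_contra hy'
    have h1 : u s ∈ X.basicOpen y := by
      rw [← (hU.basicOpen G').fromSpec_image_basicOpen y]
      exact ⟨q, hy', (hU.basicOpen G').fromSpec_primeIdealOf _⟩
    have h2 : s ∈ u ⁻¹ᵁ X.basicOpen y := h1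
    rw [Scheme.preimage_basicOpen] at h2
    have h3 : (u.app U'') y = 0 := by
      have := hε.le (RingHom.mem_ker.2 hy)
      exact this
    rw [h3, Scheme.basicOpen_zero] at h2
    exact h2
  have hsm := QuasiSection.isSmoothAt ε _ hkerε hq' q.asIdeal hq
  have h1 : MorLib.SmoothLoc.SM (Spec.map (CommRingCat.ofHom (algebraMap A B))) q :=
    (MorLib.SmoothLoc.sm_Spec_iff q).2 hsm
  have hsq : Spec.map (CommRingCat.ofHom (algebraMap A B)) ≫ hD.fromSpec = (hU.basicOpen G').fromSpec ≫ f :=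
    hD.SpecMap_appLE_fromSpec f (hU.basicOpen G') e
  rw [← MorLib.SmoothLoc.sm_comp_right _ hD.fromSpec, hsq, MorLib.SmoothLoc.sm_comp_left] at h1
  rw [(hU.basicOpen G').fromSpec_primeIdealOf] at h1
  exact h1

/-- A section is Koszul regular near any point where the morphism is smooth. -/
theorem exists_koszul_nhd {X S : Scheme.{u}} (f : X ⟶ S) [LocallyOfFinitePresentation f] (u : S ⟶ X)
    (hu : u ≫ f = 𝟙 S) (s : S) (hs : u s ∈ f.smoothLocus) :
    ∃ V : S.Opens, s ∈ V ∧ RegImm.IsRegularImmersion RegImm.Kind.koszul (V.ι ≫ u) := by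
  let W := f.smoothLocus
  haveI : Smooth (W.ι ≫ f) := by
    rw [← Scheme.Hom.smoothLocus_eq_top_iff, ← Scheme.Hom.preimage_smoothLocus_eq]
    exact Scheme.Opens.ι_preimage_self W
  refine ⟨u ⁻¹ᵁ W, hs, ?_⟩
  let V := u ⁻¹ᵁ W
  let u' := u ∣_ W
  have hu' : u' ≫ (W.ι ≫ f) = V.ι := by
    rw [← Category.assoc, morphismRestrict_ι, Category.assoc, hu, Category.comp_id]
  haveI : IsImmersion u' := by
    haveI : IsImmersion (u' ≫ (W.ι ≫ f)) := by rw [hu']; infer_instance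
    exact IsImmersion.of_comp u' (W.ι ≫ f)
  have hV : RegImm.IsRegularImmersion RegImm.Kind.koszul V.ι :=
    ⟨inferInstance, fun z => (RegImmLib.isRegularImmersionAt_iff _ z).2 ⟨0, isKoszulAtLength_zero _ z⟩⟩
  have hk := (S8657.result V.ι u' (W.ι ≫ f) hu').1 hV
  rw [← morphismRestrict_ι]
  refine ⟨inferInstance, fun z => (RegImmLib.isRegularImmersionAt_iff _ z).2 ?_⟩
  obtain ⟨n, hn⟩ := (RegImmLib.isRegularImmersionAt_iff u' z).1 (hk.2 z)
  exact ⟨0 + n, RegImmLib.IsKoszulAtLength.comp W.ι u' z (isKoszulAtLength_zero _ _) hn⟩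

theorem quasi_of_koszul {Z P : Scheme.{u}} {i : Z ⟶ P} (h : RegImm.IsRegularImmersion RegImm.Kind.koszul i) :
    RegImm.IsRegularImmersion RegImm.Kind.quasi i := by
  refine ⟨h.1, fun z => ?_⟩
  obtain ⟨U, hzU, hci, rs, hrs, hker⟩ := h.2 z
  exact ⟨U, hzU, hci, rs, KRegLib.quasi_of_seq .koszul rs hrs, hker⟩

theorem section_iff {X S : Scheme.{u}} (f : X ⟶ S) [LocallyOfFinitePresentation f] (u : S ⟶ X)
    (hu : u ≫ f = 𝟙 S) (s : S) :
    u s ∈ f.smoothLocus ↔
      ∃ V : S.Opens, s ∈ V ∧ RegImm.IsRegularImmersion RegImm.Kind.quasi (V.ι ≫ u) := by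
  constructor
  · intro hs
    obtain ⟨V, hsV, hV⟩ := exists_koszul_nhd f u hu s hs
    exact ⟨V, hsV, quasi_of_koszul hV⟩
  · rintro ⟨V, hsV, hV⟩
    exact mem_smoothLocus f u hu V s hsV (hV.2 ⟨s, hsV⟩)

/-- Precomposing with the inclusion of a neighbourhood. -/
theorem at_comp_ι {Z P : Scheme.{u}} (i : Z ⟶ P) [IsImmersion i] (V : Z.Opens) (z : Z) (hz : z ∈ V) :
    RegImm.IsRegularImmersionAt RegImm.Kind.quasi (V.ι ≫ i) ⟨z, hz⟩ ↔
      RegImm.IsRegularImmersionAt RegImm.Kind.quasi i z := by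
  obtain ⟨O₁, hO₁, hO₁V⟩ := i.isEmbedding.isInducing.isOpen_iff.1 V.2
  -- shrink a chart into a given open
  have key : ∀ {Y : Scheme.{u}} (j : Y ⟶ P) (y : Y), RegImm.IsRegularImmersionAt RegImm.Kind.quasi j y →
      ∀ O : P.Opens, j y ∈ O → ∃ U : P.affineOpens, j y ∈ U.1 ∧ U.1 ≤ O ∧ IsClosedImmersion (j ∣_ U.1) ∧
        ∃ rs : List Γ(P, U.1), RegImm.Kind.quasi.Seq Γ(P, U.1) rs ∧
          RingHom.ker (j.app U.1).hom = Ideal.ofList rs := by
    intro Y j y hy O hyO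
    obtain ⟨⟨U, hU⟩, hyU : j y ∈ U, hci, rs, hqr, hker⟩ := hy
    haveI := hci
    obtain ⟨hU₁, hUs⟩ := Synt29.surjective_app_of_isClosedImmersion_restrict j U hU
    obtain ⟨G, hGle, hyG⟩ : ∃ G : Γ(P, U), P.basicOpen G ≤ O ∧ j y ∈ P.basicOpen G :=
      hU.exists_basicOpen_le (V := O) ⟨j y, hyO⟩ hyU
    letI : Algebra Γ(P, U) Γ(P, P.basicOpen G) := (P.presheaf.map (homOfLE (P.basicOpen_le G)).op).hom.toAlgebra
    haveI : IsLocalization.Away G Γ(P, P.basicOpen G) := hU.isLocalization_basicOpen G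
    haveI : Module.Flat Γ(P, U) Γ(P, P.basicOpen G) := IsLocalization.flat _ (Submonoid.powers G)
    refine ⟨⟨P.basicOpen G, hU.basicOpen G⟩, hyG, hGle, KRegLib.isClosedImmersion_restrict_of_le j
      (P.basicOpen_le G), List.ofFn (fun i => algebraMap Γ(P, U) Γ(P, P.basicOpen G) (rs.get i)), ?_, ?_⟩
    · show CAlgX.IsQuasiRegular _
      have hq := QRDescent.qr_flat (S := Γ(P, P.basicOpen G)) (f := rs.get) hqr
      have gen : ∀ {n : ℕ} (g : Fin n → Γ(P, P.basicOpen G)), CAlgX.IsQuasiRegular g →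
          ∀ {m : ℕ} (h : m = n), CAlgX.IsQuasiRegular fun k : Fin m => g (Fin.cast h k) := by
        rintro n g hg m rfl
        exact hg
      convert gen _ hq (List.length_ofFn) using 2 with k
      simp
    · rw [← RegImmLib.span_range_eq_ofList, (KRegLib.app_basicOpen_props j hU hU₁ hUs G).2.2, hker,
        ← QRDescent.map_span_range rs.get, RegImmLib.span_range_eq_ofList, List.ofFn_get]
      rfl
  constructor
  · intro h
    obtain ⟨U, hzU, hUle, -, rs, hqr, hker⟩ := key (V.ι ≫ i) ⟨z, hz⟩ h (⟨O₁, hO₁⟩ ⊓ i.coborderRange)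
      ⟨hO₁V.ge hz, subset_coborder ⟨z, rfl⟩⟩
    have hDV : i ⁻¹ᵁ U.1 ≤ V := fun y hy => hO₁V.le (hUle hy).1
    haveI := KRegLib.isClosedImmersion_restrict_coborderRange i
    exact ⟨U, hzU, KRegLib.isClosedImmersion_restrict_of_le i (hUle.trans inf_le_right), rs, hqr,
      (KRegLib.ker_app_comp_ι i V hDV).symm.trans hker⟩
  · intro h
    obtain ⟨U, hzU, hUle, hci, rs, hqr, hker⟩ := key i z h ⟨O₁, hO₁⟩ (hO₁V.ge hz)
    haveI := hci
    have hDV : i ⁻¹ᵁ U.1 ≤ V := fun y hy => hO₁V.le (hUle hy)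
    exact ⟨U, hzU, KRegLib.isClosedImmersion_restrict_comp_ι i V hDV, rs, hqr,
      (KRegLib.ker_app_comp_ι i V hDV).trans hker⟩

/-- Differential smoothness through the second projection. -/
theorem diagonal_iff {X Y : Scheme.{u}} (f : X ⟶ Y) [LocallyOfFinitePresentation f] :
    RegImm.IsRegularImmersion RegImm.Kind.quasi (Limits.pullback.diagonal f) ↔
      ∀ x : X, (Limits.pullback.diagonal f) x ∈ (Limits.pullback.snd f f).smoothLocus := by
  have hu : Limits.pullback.diagonal f ≫ Limits.pullback.snd f f = 𝟙 X := Limits.pullback.diagonal_snd f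
  constructor
  · intro h x
    exact mem_smoothLocus _ _ hu ⊤ x trivial ((at_comp_ι _ ⊤ x trivial).2 (h.2 x))
  · intro h
    refine ⟨inferInstance, fun x => ?_⟩
    obtain ⟨V, hxV, hV⟩ := (section_iff _ _ hu x).1 (h x)
    exact (at_comp_ι _ V x hxV).1 (hV.2 ⟨x, hxV⟩)

end Groth.Agent.Synt29.SectionSmooth
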