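import Mathlib
import Groth.Agent.Synt29.PnRigid

/-! Restriction of the cotangent bundle of projective space along linear embeddings. -/

set_option autoImplicit false
set_option linter.style.haveILetI false
set_option linter.unusedSectionVars false
set_option backward.isDefEq.respectTransparency false
set_option backward.isDefEq.respectTransparency.types false
set_option maxHeartbeats 1600000

universe u

open CategoryTheory CategoryTheory.Limits AlgebraicGeometry TopologicalSpace Opposite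
open CategoryTheory.Abelian

noncomputable section

namespace Groth.Agent.Synt29.PnRestrict

open Groth.Agent Groth.Agent.H23.PicMul

attribute [local instance] Groth.Agent.QCoh.hasFiniteBiproducts

variable {m : ℕ} {k : Type u} [Field k] [QuasiSeparated (CohB1.ProjSpace.toSpec m k)]

local instance : (CohB1.ProjSpace m k).Over (Spec (CommRingCat.of k)) :=
  ⟨CohB1.ProjSpace.toSpec m k⟩

local notation "P" => CohB1.ProjSpace m k
local notation "𝒪" => Coh.structureModule (CohB1.ProjSpace m k)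
local notation "free" => FlatMod.freeMod (CohB1.ProjSpace m k)

/-- A constant matrix as a morphism of free modules. -/
def mat {N M : ℕ} (f : (Fin N → k) →ₗ[k] (Fin M → k)) : free N ⟶ free M :=
  ∑ i, ∑ j, f (Pi.single i 1) j • (H23.Frame.proj P N i ≫ H23.Frame.incl P M j)

theorem incl_mat {N M : ℕ} (f : (Fin N → k) →ₗ[k] (Fin M → k)) (i : Fin N) :
    H23.Frame.incl P N i ≫ mat (m := m) f = ∑ j, f (Pi.single i 1) j • H23.Frame.incl P M j := by
  simp only [mat, Preadditive.comp_sum, Linear.comp_smul, ← Category.assoc, H23.Frame.incl_proj]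
  rw [Finset.sum_eq_single i]
  · simp
  · intro l _ hl
    simp [Ne.symm hl]
  · simp

theorem hom_ext {N : ℕ} {Z : (CohB1.ProjSpace m k).Modules} {f g : free N ⟶ Z}
    (h : ∀ i, H23.Frame.incl P N i ≫ f = H23.Frame.incl P N i ≫ g) : f = g :=
  Sigma.hom_ext _ _ h

theorem mat_comp {N M L : ℕ} (f : (Fin N → k) →ₗ[k] (Fin M → k)) (g : (Fin M → k) →ₗ[k] (Fin L → k)) :
    mat (m := m) (g.comp f) = mat f ≫ mat g := by
  refine hom_ext fun i => ?_
  rw [incl_mat, ← Category.assoc, incl_mat, Preadditive.sum_comp]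
  simp only [Linear.smul_comp, incl_mat, Finset.smul_sum, smul_smul]
  rw [Finset.sum_comm]
  refine Finset.sum_congr rfl fun l _ => ?_
  rw [← Finset.sum_smul]
  congr 1
  have h : f (Pi.single i 1) = ∑ j, f (Pi.single i 1) j • (Pi.single j (1 : k) : Fin M → k) :=
    (pi_eq_sum_univ' (f (Pi.single i 1)))
  conv_lhs => rw [LinearMap.comp_apply, h, map_sum, Finset.sum_apply]
  simp

theorem mat_id (N : ℕ) : mat (m := m) (LinearMap.id : (Fin N → k) →ₗ[k] (Fin N → k)) = 𝟙 (free N) := by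
  refine hom_ext fun i => ?_
  rw [incl_mat, Category.comp_id, Finset.sum_eq_single i]
  · simp
  · intro j _ hj
    simp [Pi.single_eq_of_ne hj]
  · simp

theorem mat_zero (N M : ℕ) : mat (m := m) (0 : (Fin N → k) →ₗ[k] (Fin M → k)) = 0 := by
  simp [mat]

theorem mat_add {N M : ℕ} (f g : (Fin N → k) →ₗ[k] (Fin M → k)) :
    mat (m := m) (f + g) = mat f + mat g := by
  simp [mat, add_smul, Finset.sum_add_distrib]

theorem exists_mat {N M : ℕ} (G : free N ⟶ free M) :
    ∃ f : (Fin N → k) →ₗ[k] (Fin M → k), G = mat f := by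
  choose c hc using fun i j => PnRigid.exists_smul_id_one m k (H23.Frame.incl P N i ≫ G ≫ H23.Frame.proj P M j)
  refine ⟨(Pi.basisFun k (Fin N)).constr k c, hom_ext fun i => ?_⟩
  rw [incl_mat, ← Pi.basisFun_apply (R := k), Module.Basis.constr_basis]
  calc H23.Frame.incl P N i ≫ G
      = H23.Frame.incl P N i ≫ G ≫ ∑ j, H23.Frame.proj P M j ≫ H23.Frame.incl P M j := by
        rw [H23.Frame.total, Category.comp_id]
    _ = ∑ j, (H23.Frame.incl P N i ≫ G ≫ H23.Frame.proj P M j) ≫ H23.Frame.incl P M j := by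
        simp [Preadditive.comp_sum]
    _ = _ := by simp [hc]

/-- The twisted cotangent bundle has no trivial quotient. -/
theorem not_epi_twist {K : (CohB1.ProjSpace m k).Modules}
    (e : K ≅ CohB1.tensorMod (Twist.twistProjSpace m k 1) (Omega.sheaf (CohB1.ProjSpace.toSpec m k)))
    (hK : FlatMod.IsFinLocFree K) (f : K ⟶ 𝒪) : ¬ Epi f :=
  PnRigid.not_epi k hK m (fun p hp => PnEuler.hodge_top m k (by omega) _ (PnEuler.cl_lam m k e hK (p + 1)))
    (fun p q _ => PnHodge.vanish_pos m k ((p + 1 : ℕ) : ℤ) (by omega) m (p + 1) q (by omega) (fun _ => by omega) _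
      (PnEuler.cl_lam m k e hK (p + 1)))
    (PnRigid.not_subsingleton_h0 m k) f

/-- Sections lift through a surjection with acyclic kernel. -/
theorem exists_lift {S : ShortComplex (CohB1.ProjSpace m k).Modules} (hS : S.ShortExact)
    (h : Subsingleton (Coh.HH (CohB1.ProjSpace m k) S.X₁ 1)) (f : 𝒪 ⟶ S.X₃) : ∃ g : 𝒪 ⟶ S.X₂, g ≫ S.g = f := by
  haveI := PnRigid.hasExt m k
  obtain ⟨e⟩ := cl_eq_iff.1 ((PnEuler.tw_zero m k).trans one_def)
  have hE : Subsingleton (Ext.{u} (Twist.twistProjSpace m k 0) S.X₁ 1) := PnRigid.ext_twist m k 0 _ 1 fun M hM => by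
    rw [neg_zero, PnEuler.tw_zero, mul_one] at hM
    obtain ⟨eM⟩ := cl_eq_iff.1 hM
    exact QCoh.subsingleton_HH_of_iso eM.symm 1 h
  obtain ⟨g, hg⟩ := Ext.covariant_sequence_exact₃ _ hS (Ext.mk₀ (e.hom ≫ f)) (zero_add 1) (hE.elim _ _)
  obtain ⟨g, rfl⟩ := (Ext.mk₀_bijective _ _).2 g
  rw [Ext.mk₀_comp_mk₀] at hg
  refine ⟨e.inv ≫ g, ?_⟩
  rw [Category.assoc, (Ext.mk₀_bijective _ _).1 hg, e.inv_hom_id_assoc]

/-- A surjection from a free module onto `O(1)` is the tautological one up to a free summand. -/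
theorem exists_split {N : ℕ} {L : (CohB1.ProjSpace m k).Modules} (g : free N ⟶ L) [Epi g]
    (eL : L ≅ Twist.twistProjSpace m k 1) :
    ∃ (K : (CohB1.ProjSpace m k).Modules) (r : ℕ), m + 1 + r = N ∧
      Nonempty (K ≅ CohB1.tensorMod (Twist.twistProjSpace m k 1) (Omega.sheaf (CohB1.ProjSpace.toSpec m k))) ∧
      Nonempty (kernel g ≅ K ⊞ free r) := by
  obtain ⟨S, hS, hK, -, hS3, ⟨eK⟩, ⟨eF⟩⟩ := PnEuler.exists_taut_ses m k
  obtain ⟨e3⟩ := cl_eq_iff.1 hS3
  haveI := hS.mono_f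
  haveI := hS.epi_g
  have hH1 : Subsingleton (Coh.HH (CohB1.ProjSpace m k) S.X₁ 1) := by
    obtain ⟨eX⟩ := cl_eq_iff.1 ((PnEuler.cl_lam m k eK hK 1).symm.trans (cl_eq_iff.2
      (H28.ExtSh.nonempty_iso_L hK (H28.KvbLam.isExtPow_one S.X₁))))
    by_cases hm : m < 1
    · exact Euler.subsingleton_HH_of_isZero (PnEuler.hodge_top m k hm _ ((PnEuler.cl_lam m k eK hK 1).symm.trans
        (cl_eq_iff.2 (H28.ExtSh.nonempty_iso_L hK (H28.KvbLam.isExtPow_one S.X₁)))).symm) 1
    · exact PnHodge.vanish_pos m k 1 one_pos m 1 1 (by omega) (fun h => absurd h one_ne_zero) _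
        (((PnEuler.cl_lam m k eK hK 1).symm.trans
          (cl_eq_iff.2 (H28.ExtSh.nonempty_iso_L hK (H28.KvbLam.isExtPow_one S.X₁)))).symm)
  choose l hl using fun i => exists_lift hS hH1 (H23.Frame.incl P N i ≫ g ≫ eL.hom ≫ e3.inv)
  let π : free (m + 1) ⟶ L := eF.inv ≫ S.g ≫ e3.hom ≫ eL.inv
  let ι : S.X₁ ⟶ free (m + 1) := S.f ≫ eF.hom
  have hιπ : ι ≫ π = 0 := by simp [ι, π]
  let G : free N ⟶ free (m + 1) := ∑ i, H23.Frame.proj P N i ≫ l i ≫ eF.hom
  have hG : G ≫ π = g := by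
    have h : ∀ i, (H23.Frame.proj P N i ≫ l i ≫ eF.hom) ≫ π = (H23.Frame.proj P N i ≫ H23.Frame.incl P N i) ≫ g := by
      intro i
      simp [π, reassoc_of% hl i]
    simp only [G, Preadditive.sum_comp, h]
    rw [← Preadditive.sum_comp, H23.Frame.total, Category.id_comp]
  obtain ⟨f, hf⟩ := exists_mat G
  have hsurj : LinearMap.range f = ⊤ := by
    by_contra hne
    obtain ⟨lam, hlam, hlf⟩ := Submodule.exists_le_ker_of_lt_top _ (lt_top_iff_ne_top.2 hne)
    let Λ : (Fin (m + 1) → k) →ₗ[k] (Fin 1 → k) := LinearMap.pi fun _ => lam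
    have hcomp : mat (m := m) f ≫ mat Λ = 0 := by
      rw [← mat_comp, show Λ.comp f = 0 from LinearMap.ext fun x => funext fun _ =>
        LinearMap.mem_ker.1 (hlf (LinearMap.mem_range_self f x)), mat_zero]
    obtain ⟨v, hv⟩ : ∃ v, lam v = 1 := LinearMap.surjective hlam 1
    let σ : (Fin 1 → k) →ₗ[k] (Fin (m + 1) → k) := (LinearMap.proj (0 : Fin 1)).smulRight v
    have hσ : mat (m := m) σ ≫ mat Λ = 𝟙 (free 1) := by
      rw [← mat_comp, show Λ.comp σ = LinearMap.id from LinearMap.ext fun x => funext fun i => by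
        simp [Λ, σ, hv, Fin.fin_one_eq_zero i], mat_id]
    let e1 : free 1 ≅ 𝒪 :=
      { hom := H23.Frame.proj P 1 0
        inv := H23.Frame.incl P 1 0
        hom_inv_id := by simpa using H23.Frame.total P 1
        inv_hom_id := by simpa using H23.Frame.incl_proj P 1 0 0 }
    refine not_epi_twist eK hK (ι ≫ mat Λ ≫ e1.hom) ?_
    refine ⟨fun {Z} a b hab => ?_⟩
    rw [← sub_eq_zero]
    have h0 : ι ≫ mat Λ ≫ e1.hom ≫ (a - b) = 0 := by
      simpa [Preadditive.comp_sub, sub_eq_zero] using hab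
    obtain ⟨w, hw⟩ := CokernelCofork.IsColimit.desc' hS.gIsCokernel
      (eF.hom ≫ mat Λ ≫ e1.hom ≫ (a - b)) (by simpa [ι] using h0)
    have hw' : S.g ≫ w = eF.hom ≫ mat Λ ≫ e1.hom ≫ (a - b) := hw
    have hπw : π ≫ eL.hom ≫ e3.inv ≫ w = mat Λ ≫ e1.hom ≫ (a - b) := by
      simp [π, hw']
    have hw0 : g ≫ eL.hom ≫ e3.inv ≫ w = 0 := by
      rw [← hG, Category.assoc, hπw, hf, reassoc_of% hcomp, zero_comp]
    rw [(cancel_epi g).1 (hw0.trans comp_zero.symm), comp_zero] at hπw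
    have h1 := congrArg (fun z => e1.inv ≫ mat σ ≫ z) hπw.symm
    simpa [reassoc_of% hσ] using h1
  obtain ⟨s, hs⟩ := f.exists_rightInverse_of_surjective hsurj
  obtain ⟨r, hr⟩ : ∃ r, Module.finrank k (LinearMap.ker f) = r := ⟨_, rfl⟩
  have hN : m + 1 + r = N := by
    have := f.finrank_range_add_finrank_ker
    rw [hsurj, finrank_top, hr] at this
    simpa using this
  let b := (Module.finBasisOfFinrankEq k (LinearMap.ker f) hr).equivFun
  let t : (Fin r → k) →ₗ[k] (Fin N → k) := (LinearMap.ker f).subtype.comp b.symm.toLinearMap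
  let T : (Fin N → k) →ₗ[k] (Fin r → k) := b.toLinearMap.comp
    ((LinearMap.id - s.comp f).codRestrict (LinearMap.ker f) fun x => by
      have h := LinearMap.congr_fun hs (f x)
      rw [LinearMap.comp_apply] at h
      rw [LinearMap.mem_ker, LinearMap.sub_apply, LinearMap.id_apply, LinearMap.comp_apply, map_sub, h,
        LinearMap.id_apply, sub_self])
  have hsf : ∀ x, f (s x) = x := fun x => LinearMap.congr_fun hs x
  have h1 : mat (m := m) s ≫ mat f = 𝟙 _ := by rw [← mat_comp, hs, mat_id]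
  have h2 : mat (m := m) t ≫ mat T = 𝟙 _ := by
    rw [← mat_comp, show T.comp t = LinearMap.id from LinearMap.ext fun x => ?_, mat_id]
    refine (congrArg b (Subtype.ext ?_)).trans (b.apply_symm_apply x)
    show (b.symm x : Fin N → k) - s (f (b.symm x : Fin N → k)) = _
    rw [LinearMap.mem_ker.1 (b.symm x).2, map_zero, sub_zero]
  have h3 : mat (m := m) t ≫ mat f = 0 := by
    rw [← mat_comp, show f.comp t = 0 from LinearMap.ext fun x => LinearMap.mem_ker.1 (b.symm x).2, mat_zero]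
  have h4 : mat (m := m) s ≫ mat T = 0 := by
    rw [← mat_comp, show T.comp s = 0 from LinearMap.ext fun x => ?_, mat_zero]
    refine (map_eq_zero_iff b b.injective).2 (Subtype.ext ?_)
    simp [hsf]
  have h5 : mat (m := m) f ≫ mat s + mat T ≫ mat t = 𝟙 _ := by
    rw [← mat_comp, ← mat_comp, ← mat_add, show s.comp f + t.comp T = LinearMap.id from LinearMap.ext fun x => by
      simp [t, T], mat_id]
  rw [hf] at hG
  have hmono : Mono ι := inferInstanceAs (Mono (S.f ≫ eF.hom))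
  have hker : ∀ {Z : (CohB1.ProjSpace m k).Modules} (x : Z ⟶ free (m + 1)), x ≫ π = 0 →
      ∃ y : Z ⟶ S.X₁, y ≫ ι = x := fun x hx => by
    obtain ⟨y, hy⟩ := KernelFork.IsLimit.lift' hS.fIsKernel (x ≫ eF.inv) (by
      simpa [π, ← Category.assoc] using hx)
    exact ⟨y, by
      have hy' : y ≫ S.f = x ≫ eF.inv := hy
      simp [ι, reassoc_of% hy']⟩
  obtain ⟨y, hy⟩ := hker (kernel.ι g ≫ mat f) (by rw [Category.assoc, hG, kernel.condition])
  have hs0 : (ι ≫ mat s) ≫ g = 0 := by rw [← hG, Category.assoc, reassoc_of% h1, hιπ]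
  have ht0 : mat (m := m) t ≫ g = 0 := by rw [← hG, reassoc_of% h3, zero_comp]
  refine ⟨S.X₁, r, hN, ⟨eK⟩, ⟨{ hom := biprod.lift y (kernel.ι g ≫ mat T), inv := biprod.desc (kernel.lift g (ι ≫ mat s) hs0) (kernel.lift g (mat t) ht0), hom_inv_id := ?_, inv_hom_id := ?_ }⟩⟩
  · rw [biprod.lift_desc, ← cancel_mono (kernel.ι g)]
    simp only [Preadditive.add_comp, Category.assoc, kernel.lift_ι, Category.id_comp]
    rw [reassoc_of% hy, ← Preadditive.comp_add, h5, Category.comp_id]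
  · refine biprod.hom_ext' _ _ (biprod.hom_ext _ _ ?_ ?_) (biprod.hom_ext _ _ ?_ ?_)
    · rw [← cancel_mono ι]
      simp [hy, h1]
    · simp [h4]
    · rw [← cancel_mono ι]
      simp [hy, h3]
    · simp [h2]

/-- A module with complete orthogonal copies of `V` is their coproduct. -/
theorem nonempty_iso_sigma {X : Scheme.{u}} {E V : X.Modules} {r : ℕ} (a : Fin r → (E ⟶ V))
    (b : Fin r → (V ⟶ E)) (h : ∑ j, a j ≫ b j = 𝟙 E) (h' : ∀ i j, b i ≫ a j = if i = j then 𝟙 V else 0) :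
    Nonempty (E ≅ ∐ fun _ : Fin r => V) := by
  refine ⟨{ hom := ∑ j, a j ≫ Sigma.ι (fun _ : Fin r => V) j, inv := Sigma.desc b, hom_inv_id := ?_, inv_hom_id := ?_ }⟩
  · simp [Preadditive.sum_comp, h]
  · refine Sigma.hom_ext _ _ fun i => ?_
    rw [Sigma.ι_desc_assoc, Preadditive.comp_sum, Category.comp_id, Finset.sum_eq_single i]
    · rw [← Category.assoc, h', if_pos rfl, Category.id_comp]
    · intro j _ hj
      rw [← Category.assoc, h', if_neg (Ne.symm hj), zero_comp]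
    · simp

/-- Restriction of the cotangent bundle along a linear map of projective spaces. -/
theorem exists_pullback_omega {n : ℕ} [QuasiSeparated (CohB1.ProjSpace.toSpec n k)]
    (i : CohB1.ProjSpace m k ⟶ CohB1.ProjSpace n k)
    (hO : Nonempty ((Scheme.Modules.pullback i).obj (Twist.twistProjSpace n k 1) ≅ Twist.twistProjSpace m k 1)) :
    ∃ r, m + r = n ∧ Nonempty ((Scheme.Modules.pullback i).obj (Omega.sheaf (CohB1.ProjSpace.toSpec n k)) ≅
      Omega.sheaf (CohB1.ProjSpace.toSpec m k) ⊞ ∐ fun _ : Fin r => Twist.twistProjSpace m k (-1)) := by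
  obtain ⟨S, hS, hK, hS3', hS3, ⟨eK⟩, ⟨eF⟩⟩ := PnEuler.exists_taut_ses n k
  obtain ⟨e3⟩ := cl_eq_iff.1 hS3
  obtain ⟨eO⟩ := hO
  have hS' := H28.PullVB.shortExact_pullback i hS
    (KFlatLib.isFlat_of_isFinLocFree (PnEuler.isFinLocFree_of_rank hS3'))
  haveI := hS'.epi_g
  let F := (Scheme.Modules.pullback i)
  let eF' : F.obj S.X₂ ≅ FlatMod.freeMod (CohB1.ProjSpace m k) (n + 1) :=
    F.mapIso eF ≪≫ KFlatLib.pullFreeIso i (n + 1)
  let eL : F.obj S.X₃ ≅ Twist.twistProjSpace m k 1 := F.mapIso e3 ≪≫ eO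
  haveI : Epi (S.map F).g := hS'.epi_g
  haveI : Epi (F.map S.g) := hS'.epi_g
  obtain ⟨K, r, hr, ⟨eKm⟩, ⟨e⟩⟩ := exists_split (eF'.inv ≫ F.map S.g) eL
  let eker : F.obj S.X₁ ≅ kernel (eF'.inv ≫ F.map S.g) :=
    hS'.fIsKernel.conePointUniqueUpToIso (kernelIsKernel _) ≪≫
      kernel.mapIso (S.map F).g (eF'.inv ≫ F.map S.g) eF' (Iso.refl _) (by simp)
  let G := (DCoh.tensorBi (X := CohB1.ProjSpace m k)).obj (Twist.twistProjSpace m k (-1))
  haveI : G.Additive := inferInstanceAs ((DCoh.tensorBi (X := CohB1.ProjSpace m k)).obj _).Additive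
  haveI : PreservesBinaryBiproducts G := preservesBinaryBiproducts_of_preservesBiproducts _
  have hΩ : PicF.cl (G.obj (F.obj S.X₁)) = PicF.cl (F.obj (Omega.sheaf (CohB1.ProjSpace.toSpec n k))) := by
    obtain ⟨ep⟩ := H23.PicMul.pull i (Twist.twistProjSpace n k 1) (Omega.sheaf (CohB1.ProjSpace.toSpec n k))
    rw [PnEuler.cl_tens, (cl_eq_iff.2 ⟨F.mapIso eK ≪≫ ep⟩ : PicF.cl (F.obj S.X₁) = _), cl_tensor,
      (cl_eq_iff.2 ⟨eO⟩ : PicF.cl ((Scheme.Modules.pullback i).obj (Twist.twistProjSpace n k 1)) = _), ← mul_assoc,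
      PnEuler.tw_add, neg_add_cancel, PnEuler.tw_zero, one_mul]
  have hΩm : PicF.cl (G.obj K) = PicF.cl (Omega.sheaf (CohB1.ProjSpace.toSpec m k)) := by
    rw [PnEuler.cl_tens, (cl_eq_iff.2 ⟨eKm⟩ : PicF.cl K = _), cl_tensor, ← mul_assoc,
      PnEuler.tw_add, neg_add_cancel, PnEuler.tw_zero, one_mul]
  obtain ⟨e1⟩ := cl_eq_iff.1 hΩ
  obtain ⟨e2⟩ := cl_eq_iff.1 hΩm
  obtain ⟨a, b, hab, hba⟩ := PnEuler.exists_decomp (Twist.twistProjSpace m k (-1))
    (Iso.refl (FlatMod.freeMod (CohB1.ProjSpace m k) r))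
  obtain ⟨e4⟩ := nonempty_iso_sigma a b hab hba
  exact ⟨r, by omega, ⟨e1.symm ≪≫ G.mapIso (eker ≪≫ e) ≪≫ G.mapBiprod K _ ≪≫ biprod.mapIso e2 e4⟩⟩

/-- The cotangent bundle of the line. -/
theorem nonempty_omega_line (k : Type u) [Field k] [QuasiSeparated (CohB1.ProjSpace.toSpec 1 k)] :
    Nonempty (Omega.sheaf (CohB1.ProjSpace.toSpec 1 k) ≅ Twist.twistProjSpace 1 k (-2)) := by
  obtain ⟨T, hT, h1, h3, N, a, b, hN, hab, hba⟩ := PnEuler.exists_euler' 1 k 1 0
  obtain rfl : N = 1 := by simpa using hN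
  haveI := hT.epi_g
  haveI : Mono T.g := hT.exact.mono_g ((PnEuler.hodge_top 1 k (by omega) 0 h1).eq_of_src _ _)
  haveI : IsIso T.g := isIso_of_mono_of_epi _
  obtain ⟨eΩ⟩ := H28.ExtSh.nonempty_iso_L (PnEuler.isFinLocFree_of_rank (PnEuler.rank_omega 1 k))
    (H28.KvbLam.isExtPow_one (Omega.sheaf (CohB1.ProjSpace.toSpec 1 k)))
  obtain ⟨e3⟩ := cl_eq_iff.1 (h3.trans ((congrArg (· * _) (PnEuler.tw_zero 1 k)).trans
    ((one_mul _).trans (cl_eq_iff.2 ⟨eΩ⟩))))
  obtain ⟨e⟩ := nonempty_iso_sigma a b hab hba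
  exact ⟨e3.symm ≪≫ (asIso T.g).symm ≪≫ e ≪≫ coproductUniqueIso _ ≪≫ eqToIso (by norm_num)⟩

end Groth.Agent.Synt29.PnRestrict
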