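import Mathlib
import Groth.Agent.Synt29.PnRestrict
import Groth.Agent.Lib.PnDualExt
import Groth.Agent.Lib.CurveLinear
import Groth.Agent.Lib.TwistSumInv

/-! Cokernels of maps `O(-1) → Ω(1)` on projective space. -/

set_option autoImplicit false
set_option linter.style.haveILetI false
set_option linter.unusedSectionVars false
set_option backward.isDefEq.respectTransparency false
set_option backward.isDefEq.respectTransparency.types false
set_option maxHeartbeats 400000

universe u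

open CategoryTheory CategoryTheory.Limits AlgebraicGeometry TopologicalSpace Opposite
open CategoryTheory.Abelian
open Groth.Agent.PnCoh.Finite (mapLin)

noncomputable section

namespace Groth.Agent.Synt29.NullCorr

open Groth.Agent Groth.Agent.H23.PicMul

attribute [local instance] Groth.Agent.QCoh.hasFiniteBiproducts

variable {n : ℕ} {k : Type u} [Field k] [QuasiSeparated (CohB1.ProjSpace.toSpec n k)]

local instance : (CohB1.ProjSpace n k).Over (Spec (CommRingCat.of k)) :=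
  ⟨CohB1.ProjSpace.toSpec n k⟩

local notation "Ω" => Omega.sheaf (CohB1.ProjSpace.toSpec n k)

theorem cl_W (j : ℤ) : PicF.cl (CohB1.tensorMod Ω (Twist.twistProjSpace n k j)) = PnEuler.hodge n k 1 j :=
  PnEuler.cl_eq_hodge n k (H28.KvbLam.isExtPow_one Ω) j

theorem cl_omega : PicF.cl Ω = PnEuler.hodge n k 1 0 :=
  PnEuler.cl_eq_hodge_zero n k (H28.KvbLam.isExtPow_one Ω)

theorem subsingleton_biprod {A B : (CohB1.ProjSpace n k).Modules} (q : ℕ)
    (hA : Subsingleton (Coh.HH (CohB1.ProjSpace n k) A q)) (hB : Subsingleton (Coh.HH (CohB1.ProjSpace n k) B q)) :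
    Subsingleton (Coh.HH (CohB1.ProjSpace n k) (A ⊞ B) q) := by
  refine subsingleton_of_forall_eq 0 fun x => ?_
  have h : x = mapLin k (biprod.fst ≫ biprod.inl) q x + mapLin k (biprod.snd ≫ biprod.inr) q x := by
    conv_lhs => rw [← PnHodge.mapLin_id_apply k (M := A ⊞ B) q x, ← biprod.total]
    show Sheaf.H.map ((QCoh.toAbFunctor (CohB1.ProjSpace n k)).map (_ + _)) q x = _
    rw [Functor.map_add, Sheaf.H.map_add_apply]
    rfl
  rw [h, ← PnHodge.mapLin_comp_apply, ← PnHodge.mapLin_comp_apply, hA.elim (mapLin k biprod.fst q x) 0,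
    hB.elim (mapLin k biprod.snd q x) 0, map_zero, map_zero, add_zero]

theorem tensor_map_smul' {X : Scheme.{u}} (L T : X.Modules) (r : Coh.Γtop X) :
    (DCoh.tensorBi.flip.obj L).map (Formal.smulModΓ T r) =
      Formal.smulModΓ ((DCoh.tensorBi.flip.obj L).obj T) r := by
  refine CurveLinear.shP_map_eq_smul (MonoidalCategoryStruct.tensorObj (DCoh.toP.obj T) (DCoh.toP.obj L)) r _ fun U s => ?_
  induction s using TensorProduct.induction_on with
  | zero => exact (map_zero _).trans (smul_zero _).symm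
  | tmul a b => exact KFlatLib.tm_smul_left (P := DCoh.toP.obj T) (Q := DCoh.toP.obj L) _ a b
  | add a b ha hb => exact (map_add _ a b).trans ((congrArg₂ (· + ·) ha hb).trans (smul_add _ a b).symm)

open Groth.Agent.PnCoh Groth.Agent.PnCoh.Finite Groth.Agent.PnDual in
/-- The endomorphisms of a twisting sheaf are scalars. -/
theorem exists_smul_line (j : ℤ) {M : (CohB1.ProjSpace n k).Modules} (e : M ≅ Twist.twistProjSpace n k j) (γ : M ⟶ M) :
    ∃ c : k, γ = c • 𝟙 M := by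
  let E := PnDual.twistEquivalence (coordsR k n) coordsR_mem coordsR_cover j (-j) (add_neg_cancel j)
  haveI : E.functor.IsEquivalence := E.isEquivalence_functor
  let i : E.functor.obj (Coh.structureModule (Proj (CohB1.polyGrading n k))) ≅ Twist.twist (CohB1.polyGrading n k) j :=
    (DCoh.tensorBi.mapIso (@asIso _ _ _ _ _ (isIso_oneHom (coordsR k n) coordsR_mem coordsR_cover))).app
        (Twist.twist (CohB1.polyGrading n k) j) ≪≫
      (twist_tensor_iso (coordsR k n) coordsR_mem coordsR_cover 0 j).some ≪≫ eqToIso (by rw [zero_add])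
  let ι : E.functor.obj (Coh.structureModule (CohB1.ProjSpace n k)) ≅ M := i ≪≫ e.symm
  obtain ⟨δ, hδ⟩ := E.functor.map_surjective (ι.hom ≫ γ ≫ ι.inv)
  obtain ⟨c, hc⟩ := PnRigid.exists_smul_id_one n k δ
  subst hc
  refine ⟨c, ?_⟩
  have hlin : E.functor.map (c • 𝟙 (Coh.structureModule (CohB1.ProjSpace n k))) =
      c • 𝟙 (E.functor.obj (Coh.structureModule (CohB1.ProjSpace n k))) := by
    rw [KLin.smul_id, KLin.smul_id]
    exact tensor_map_smul' (X := CohB1.ProjSpace n k) _ _ _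
  rw [hlin] at hδ
  rw [← cancel_epi ι.hom, ← cancel_mono ι.inv, Category.assoc, ← hδ]
  simp

/-- The endomorphisms of a twist of `Ω` are scalars. -/
theorem exists_smul_twist (j : ℤ) {W : (CohB1.ProjSpace n k).Modules} (hW : PicF.cl W = PnEuler.hodge n k 1 j)
    (φ : W ⟶ W) : ∃ c : k, φ = c • 𝟙 W := by
  obtain ⟨T, hT, h1, h3, N, a, b, -, hab, -⟩ := PnEuler.exists_euler' n k 0 j
  obtain ⟨e1⟩ := cl_eq_iff.1 (h1.trans hW.symm)
  rw [PnEuler.hodge_zero] at h3
  obtain ⟨e3⟩ := cl_eq_iff.1 h3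
  have hθj : ∀ i, ∃ g : T.X₂ ⟶ Twist.twistProjSpace n k (j - ((0 : ℕ) + 1)),
      T.f ≫ g = (e1.hom ≫ φ ≫ e1.inv ≫ T.f) ≫ a i := fun i =>
    PnRigid.exists_extend n k hT j e3 _ fun M hM => by
      rw [PnEuler.tw_add] at hM
      obtain ⟨eM⟩ := cl_eq_iff.1 hM
      exact QCoh.subsingleton_HH_of_iso eM.symm 1 (S0844.result k n _ 1 (by simp) (fun h => by push_cast at h; omega))
  choose g hg using hθj
  let θ : T.X₂ ⟶ T.X₂ := ∑ i, g i ≫ b i
  have hθ : T.f ≫ θ = e1.hom ≫ φ ≫ e1.inv ≫ T.f := by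
    simp only [θ, Preadditive.comp_sum, reassoc_of% hg]
    simp only [← Category.assoc]
    simp only [Category.assoc, ← Preadditive.comp_sum, hab, Category.comp_id]
  haveI := hT.epi_g
  haveI := hT.mono_f
  obtain ⟨γ, hγ⟩ := CokernelCofork.IsColimit.desc' hT.gIsCokernel (θ ≫ T.g) (by
    rw [reassoc_of% hθ, T.zero]; simp)
  haveI := PnRigid.hasExt n k
  obtain ⟨c, hc⟩ : ∃ c : k, γ = c • 𝟙 T.X₃ := by
    exact exists_smul_line j e3 γ
  have h0 : (θ - c • 𝟙 T.X₂) ≫ T.g = 0 := by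
    have hγ' : T.g ≫ γ = θ ≫ T.g := hγ
    simp [Preadditive.sub_comp, ← hγ', hc]
  obtain ⟨u, hu⟩ := KernelFork.IsLimit.lift' hT.fIsKernel _ h0
  have hz : ∀ i, b i ≫ u = 0 := fun i => PnRigid.hom_twist_eq_zero n k _ _ fun M hM => by
    refine PnHodge.vanish_pos n k 1 one_pos n 1 0 (by omega) (fun _ => le_rfl) M ?_
    change PicF.cl M = PicF.cl T.X₁ * _ at hM
    rw [hM, h1, PnEuler.hodge, mul_right_comm, PnEuler.tw_add]
    push_cast
    ring_nf
  have hu0 : u = 0 := by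
    rw [← Category.id_comp u, ← hab, Preadditive.sum_comp]
    exact Finset.sum_eq_zero fun i _ => by rw [Category.assoc, hz i, comp_zero]
  rw [hu0, zero_comp] at hu
  have hθc : θ = c • 𝟙 T.X₂ := sub_eq_zero.1 hu.symm
  refine ⟨c, ?_⟩
  have h := hθ.symm.trans (congrArg (T.f ≫ ·) hθc)
  simp only [Linear.comp_smul, Category.comp_id] at h
  have h' : e1.hom ≫ φ ≫ e1.inv = c • 𝟙 T.X₁ := by
    rw [← cancel_mono T.f]
    simpa using h
  rw [← cancel_epi e1.hom, ← cancel_mono e1.inv, Category.assoc, h']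
  simp

variable (u : Twist.twistProjSpace n k (-1) ⟶
    CohB1.tensorMod (Omega.sheaf (CohB1.ProjSpace.toSpec n k)) (Twist.twistProjSpace n k 1))

theorem shortExact_u [Mono u] : (ShortComplex.mk u (cokernel.π u) (cokernel.condition u)).ShortExact :=
  { exact := ShortComplex.exact_of_g_is_cokernel
      (ShortComplex.mk u (cokernel.π u) (cokernel.condition u)) (cokernelIsCokernel u)
    mono_f := inferInstanceAs (Mono u)
    epi_g := inferInstanceAs (Epi (cokernel.π u)) }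

theorem vanish_twist_line (d : ℤ) (q : ℕ) (h₀ : ¬ (q = 0 ∧ 0 ≤ d)) (hn : ¬ (q = n ∧ d ≤ -((n : ℤ) + 1))) :
    Subsingleton (Coh.HH (CohB1.ProjSpace n k) (Twist.twistProjSpace n k d) q) :=
  S0844.result k n d q h₀ hn

theorem h0_coker [Mono u] : Subsingleton (Coh.HH (CohB1.ProjSpace n k) (cokernel u) 0) :=
  PnHodge.subsingleton_right k (shortExact_u u) 0
    (PnHodge.vanish_pos n k 1 one_pos n 1 0 (by omega) (fun _ => le_rfl) _ (cl_W 1))
    (vanish_twist_line (-1) 1 (by simp) (fun h => by omega))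

/-- `Ext¹(Ω(1), O(-1)) = 0`. -/
theorem exists_lift [Mono u] (f : CohB1.tensorMod Ω (Twist.twistProjSpace n k 1) ⟶ cokernel u) :
    ∃ g : CohB1.tensorMod Ω (Twist.twistProjSpace n k 1) ⟶ CohB1.tensorMod Ω (Twist.twistProjSpace n k 1),
      g ≫ cokernel.π u = f := by
  haveI := PnRigid.hasExt n k
  obtain ⟨T, hT, h1, h3, N, a, b, -, hab, -⟩ := PnEuler.exists_euler' n k 0 1
  obtain ⟨e1⟩ := cl_eq_iff.1 (h1.trans (cl_W 1).symm)
  rw [PnEuler.hodge_zero] at h3
  obtain ⟨e3⟩ := cl_eq_iff.1 h3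
  have hTw : ∀ (d : ℤ) (q : ℕ), ¬ (q = 0 ∧ 0 ≤ -1 - d) → ¬ (q = n ∧ -1 - d ≤ -((n : ℤ) + 1)) →
      Subsingleton (Ext.{u} (Twist.twistProjSpace n k d) (Twist.twistProjSpace n k (-1)) q) :=
    fun d q h₀ hn => PnRigid.ext_twist n k d _ q fun M hM => by
      rw [PnEuler.tw_add] at hM
      obtain ⟨eM⟩ := cl_eq_iff.1 hM
      exact QCoh.subsingleton_HH_of_iso eM.symm q
        (vanish_twist_line _ q (by rwa [← sub_eq_add_neg]) (by rwa [← sub_eq_add_neg]))
  haveI h₂ : Subsingleton (Ext.{u} T.X₂ (Twist.twistProjSpace n k (-1)) 1) :=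
    PnDual.subsingleton_ext_of_decomposition (fun _ => Twist.twistProjSpace n k (1 - ((0 : ℕ) + 1))) a b hab 1
      (fun _ => hTw _ 1 (by simp) (fun h => by push_cast at h; omega))
  have h₁ : Subsingleton (Ext.{u} T.X₁ (Twist.twistProjSpace n k (-1)) 1) := by
    refine subsingleton_of_forall_eq 0 fun x => ?_
    have hx : (Ext.mk₀ e3.inv).comp (hT.extClass.comp x (add_comm 1 1)) (zero_add 2) = 0 :=
      (hTw 1 2 (by simp) (fun h => by omega)).elim _ _
    have hx' := congrArg (fun z => (Ext.mk₀ e3.hom).comp z (zero_add 2)) hx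
    simp at hx'
    obtain ⟨y, rfl⟩ := Ext.contravariant_sequence_exact₁ hT _ x (add_comm 1 1) hx'
    rw [h₂.elim y 0, Ext.comp_zero]
  have h0 : (Ext.mk₀ (e1.hom ≫ f)).comp (shortExact_u u).extClass (zero_add 1) = 0 := h₁.elim _ _
  obtain ⟨g, hg⟩ := Ext.covariant_sequence_exact₃ T.X₁ (shortExact_u u) (Ext.mk₀ (e1.hom ≫ f)) (zero_add 1) h0
  obtain ⟨g, rfl⟩ := (Ext.mk₀_bijective _ _).2 g
  rw [Ext.mk₀_comp_mk₀] at hg
  refine ⟨e1.inv ≫ g, ?_⟩
  rw [Category.assoc, (Ext.mk₀_bijective _ _).1 hg, e1.inv_hom_id_assoc]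

theorem exists_smul_coker [Mono u] (φ : cokernel u ⟶ cokernel u) : ∃ c : k, φ = c • 𝟙 (cokernel u) := by
  obtain ⟨g, hg⟩ := exists_lift u (cokernel.π u ≫ φ)
  obtain ⟨c, rfl⟩ := exists_smul_twist 1 (cl_W 1) g
  refine ⟨c, ?_⟩
  rw [← cancel_epi (cokernel.π u), ← hg]
  simp

theorem not_isZero_of_rank {r : ℕ} (hr : 1 ≤ r) {X : Scheme.{u}} [Nonempty X] {M : X.Modules}
    (hM : FlatMod.IsFinLocFreeOfRank r M) : ¬ IsZero M := by
  intro hz
  obtain ⟨x⟩ := ‹Nonempty X›
  obtain ⟨U, hx, ⟨e⟩⟩ := hM x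
  obtain ⟨s, hs⟩ := H23.Frame.exists_frame e
  have hsub : ∀ y : Γ(M, U), y = 0 := fun y =>
    congrArg (fun f : M ⟶ M => f.app U y) ((IsZero.iff_id_eq_zero M).1 hz)
  have h := congr_fun ((hs U le_rfl).1 ((hsub (H23.Frame.comb M s U le_rfl 1)).trans
    (hsub (H23.Frame.comb M s U le_rfl 0)).symm)) ⟨0, hr⟩
  haveI : Nonempty U := ⟨⟨x, hx⟩⟩
  exact one_ne_zero (α := Γ(X, U)) h

theorem nonempty_iso_iff (u' : Twist.twistProjSpace n k (-1) ⟶ CohB1.tensorMod Ω (Twist.twistProjSpace n k 1))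
    [Mono u] [Mono u'] (hn : ¬ IsZero (cokernel u')) :
    Nonempty (cokernel u ≅ cokernel u') ↔ ∃ c : k, c ≠ 0 ∧ u' = c • u := by
  constructor
  · rintro ⟨e⟩
    obtain ⟨g, hg⟩ := exists_lift u' (cokernel.π u ≫ e.hom)
    obtain ⟨c, rfl⟩ := exists_smul_twist 1 (cl_W 1) g
    have hc : c ≠ 0 := by
      rintro rfl
      refine hn ((IsZero.iff_id_eq_zero _).2 ?_)
      rw [← cancel_epi e.hom, ← cancel_epi (cokernel.π u), ← Category.assoc, ← hg]
      simp
    have h0 : (c • u) ≫ cokernel.π u' = 0 := by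
      have := congrArg (u ≫ ·) hg
      simpa [cokernel.condition_assoc] using this
    obtain ⟨l, hl⟩ := KernelFork.IsLimit.lift' (shortExact_u u').fIsKernel _ h0
    obtain ⟨d, rfl⟩ := exists_smul_line (-1) (Iso.refl _) l
    have hl' : d • u' = c • u := by
      simpa using (show (d • 𝟙 (Twist.twistProjSpace n k (-1))) ≫ u' = c • u from hl)
    have hd : d ≠ 0 := by
      rintro rfl
      rw [zero_smul, eq_comm, smul_eq_zero] at hl'
      refine hn ((IsZero.iff_id_eq_zero _).2 ?_)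
      have hu : u = 0 := hl'.resolve_left hc
      have h1 : (𝟙 (Twist.twistProjSpace n k (-1))) = 0 := by rw [← cancel_mono u, hu]; simp
      have h2 : u' = 0 := by rw [← Category.id_comp u', h1, zero_comp]
      exfalso
      haveI : Nonempty (CohB1.ProjSpace n k) := by
        haveI : IsIntegral (CohB1.ProjSpace n k) := H23.PnChart.isIntegral_projSpace n k
        infer_instance
      exact not_isZero_of_rank le_rfl (InvEnd.isFinLocFreeOfRank_one (PnEuler.isInvertible_O n k (-1)))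
        ((IsZero.iff_id_eq_zero _).2 h1)
    exact ⟨c / d, div_ne_zero hc hd, by rw [div_eq_inv_mul, mul_smul, ← hl', inv_smul_smul₀ hd]⟩
  · rintro ⟨c, hc, rfl⟩
    exact ⟨cokernel.mapIso u (c • u) (Iso.refl _) { hom := c • 𝟙 _, inv := c⁻¹ • 𝟙 _,
                                                     hom_inv_id := by simp [smul_smul, inv_mul_cancel₀ hc],
                                                     inv_hom_id := by simp [smul_smul, mul_inv_cancel₀ hc] }
      (by simp)⟩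

theorem subsingleton_left_zero_of_mid {S : ShortComplex (CohB1.ProjSpace n k).Modules} (hS : S.ShortExact)
    (h : Subsingleton (Coh.HH (CohB1.ProjSpace n k) S.X₃ 0)) (h' : Subsingleton (Coh.HH (CohB1.ProjSpace n k) S.X₁ 0)) :
    Subsingleton (Coh.HH (CohB1.ProjSpace n k) S.X₂ 0) := by
  refine subsingleton_of_forall_eq 0 fun x => ?_
  have hx : x ∈ LinearMap.range (mapLin k S.f 0) := by
    rw [Groth.Agent.Euler.range_mapLin_f k hS 0, LinearMap.mem_ker]
    exact h.elim _ _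
  obtain ⟨y, rfl⟩ := hx
  rw [h'.elim y 0, map_zero]

end Groth.Agent.Synt29.NullCorr

namespace Groth.Agent.Synt29.NullCorr

open Groth.Agent Groth.Agent.H23.PicMul

attribute [local instance] Groth.Agent.QCoh.hasFiniteBiproducts

section Plane

variable {k : Type u} [Field k] [QuasiSeparated (CohB1.ProjSpace.toSpec 3 k)]
  [QuasiSeparated (CohB1.ProjSpace.toSpec 2 k)]

local instance overPlane : (CohB1.ProjSpace 2 k).Over (Spec (CommRingCat.of k)) :=
  ⟨CohB1.ProjSpace.toSpec 2 k⟩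

theorem restrict_plane
    (u : Twist.twistProjSpace 3 k (-1) ⟶
      CohB1.tensorMod (Omega.sheaf (CohB1.ProjSpace.toSpec 3 k)) (Twist.twistProjSpace 3 k 1))
    [Mono u] (hM : FlatMod.IsFinLocFreeOfRank 2 (cokernel u))
    (i : CohB1.ProjSpace 2 k ⟶ CohB1.ProjSpace 3 k)
    (hO : Nonempty ((Scheme.Modules.pullback i).obj (Twist.twistProjSpace 3 k 1) ≅ Twist.twistProjSpace 2 k 1)) :
    Subsingleton (Coh.HH (CohB1.ProjSpace 2 k)
        (CohB1.tensorMod ((Scheme.Modules.pullback i).obj (cokernel u)) (Twist.twistProjSpace 2 k (-1))) 0) ∧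
      Nontrivial (Coh.HH (CohB1.ProjSpace 2 k) ((Scheme.Modules.pullback i).obj (cokernel u)) 0) := by
  let F := Scheme.Modules.pullback i
  let X₃ := CohB1.ProjSpace 3 k
  have hflat := KFlatLib.isFlat_of_isFinLocFree (PnEuler.isFinLocFree_of_rank hM)
  have hS := H28.PullVB.shortExact_pullback i (shortExact_u u) hflat
  obtain ⟨r, hr, ⟨eΩ⟩⟩ := PnRestrict.exists_pullback_omega i hO
  obtain rfl : r = 1 := by omega
  obtain ⟨eO⟩ := hO
  have hc1 : PicF.cl (F.obj (Twist.twistProjSpace 3 k (-1))) = PnEuler.tw 2 k (-1) := by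
    have h1 : PicF.cl (F.obj (Twist.twistProjSpace 3 k (-1))) * PnEuler.tw 2 k 1 = 1 := by
      rw [show PnEuler.tw 2 k 1 = PicF.cl (F.obj (Twist.twistProjSpace 3 k 1)) from (cl_eq_iff.2 ⟨eO⟩).symm]
      refine (H23.PicMul.pullCl_mul i (PnEuler.tw 3 k (-1)) (PnEuler.tw 3 k 1)).symm.trans ?_
      rw [PnEuler.tw_add, neg_add_cancel, PnEuler.tw_zero, H23.PicMul.pullCl_one]
    refine (isUnit_cl (PnEuler.isInvertible_O 2 k 1)).mul_right_cancel (h1.trans ?_)
    rw [PnEuler.tw_add, neg_add_cancel, PnEuler.tw_zero]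
  have hc2 : PicF.cl (F.obj (CohB1.tensorMod (Omega.sheaf (CohB1.ProjSpace.toSpec 3 k)) (Twist.twistProjSpace 3 k 1))) =
      PicF.cl (F.obj (Omega.sheaf (CohB1.ProjSpace.toSpec 3 k))) * PnEuler.tw 2 k 1 := by
    obtain ⟨ep⟩ := H23.PicMul.pull i (Omega.sheaf (CohB1.ProjSpace.toSpec 3 k)) (Twist.twistProjSpace 3 k 1)
    rw [(cl_eq_iff.2 ⟨ep⟩ : _ = PicF.cl _), cl_tensor, show PicF.cl ((Scheme.Modules.pullback i).obj (Twist.twistProjSpace 3 k 1)) = PnEuler.tw 2 k 1 from cl_eq_iff.2 ⟨eO⟩]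
  -- twisting the middle term
  have hmid : ∀ d : ℤ, ∀ M : (CohB1.ProjSpace 2 k).Modules,
      PicF.cl M = PicF.cl (F.obj (Omega.sheaf (CohB1.ProjSpace.toSpec 3 k))) * PnEuler.tw 2 k d →
      ∃ A B : (CohB1.ProjSpace 2 k).Modules, PicF.cl A = PnEuler.hodge 2 k 1 d ∧ PicF.cl B = PnEuler.tw 2 k (d - 1) ∧
        Nonempty (M ≅ A ⊞ B) := fun d M hMd => by
    let G := (DCoh.tensorBi (X := CohB1.ProjSpace 2 k)).obj (Twist.twistProjSpace 2 k d)
    haveI : G.Additive := inferInstanceAs ((DCoh.tensorBi (X := CohB1.ProjSpace 2 k)).obj _).Additive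
    haveI : PreservesBinaryBiproducts G := preservesBinaryBiproducts_of_preservesBiproducts _
    obtain ⟨e⟩ := cl_eq_iff.1 (hMd.trans ((mul_comm _ _).trans
      (PnEuler.cl_tens (Twist.twistProjSpace 2 k d) (F.obj (Omega.sheaf (CohB1.ProjSpace.toSpec 3 k)))).symm))
    refine ⟨G.obj (Omega.sheaf (CohB1.ProjSpace.toSpec 2 k)),
      G.obj (∐ fun _ : Fin 1 => Twist.twistProjSpace 2 k (-1)), ?_, ?_, ⟨e ≪≫ G.mapIso eΩ ≪≫ G.mapBiprod _ _⟩⟩
    · rw [PnEuler.cl_tens, cl_omega, PnEuler.hodge, ← mul_assoc, PnEuler.tw_add, add_zero]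
    · rw [PnEuler.cl_tens, show PicF.cl (∐ fun _ : Fin 1 => Twist.twistProjSpace 2 k (-1)) = PnEuler.tw 2 k (-1)
        from cl_eq_iff.2 ⟨coproductUniqueIso _⟩, PnEuler.tw_add, ← sub_eq_add_neg]
  constructor
  · let G := (DCoh.tensorBi (X := CohB1.ProjSpace 2 k)).obj (Twist.twistProjSpace 2 k (-1))
    have hfl : FlatMod.IsFlat ((Scheme.Modules.pullback i).obj (cokernel u)) :=
      KFlatLib.isFlat_of_isFinLocFree (KFlatLib.isFinLocFree_pullback i (PnEuler.isFinLocFree_of_rank hM))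
    have hT := KFlatLib.shortExact_tensor_of_isFlat (Twist.twistProjSpace 2 k (-1)) hS hfl
    have h3 : Subsingleton (Coh.HH (CohB1.ProjSpace 2 k) (G.obj (F.obj (cokernel u))) 0) := by
      refine PnHodge.subsingleton_right k hT 0 ?_ ?_
      · obtain ⟨A, B, hA, hB, ⟨e⟩⟩ := hmid 0 _ (by
          show PicF.cl (G.obj (F.obj (CohB1.tensorMod (Omega.sheaf (CohB1.ProjSpace.toSpec 3 k)) (Twist.twistProjSpace 3 k 1)))) = _
          rw [PnEuler.cl_tens, hc2, mul_left_comm, PnEuler.tw_add, neg_add_cancel])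
        obtain ⟨eB⟩ := cl_eq_iff.1 hB
        exact QCoh.subsingleton_HH_of_iso e.symm 0 (subsingleton_biprod 0
          (PnHodge.vanish_nonpos 2 k 0 le_rfl 1 0 (fun h => absurd h (by norm_num)) (fun h => one_ne_zero h.2) A hA)
          (QCoh.subsingleton_HH_of_iso eB.symm 0 (vanish_twist_line (0 - 1) 0 (by norm_num) (by norm_num))))
      · obtain ⟨e⟩ := cl_eq_iff.1 (show PicF.cl (G.obj (F.obj (Twist.twistProjSpace 3 k (-1)))) = PnEuler.tw 2 k (-2) by
          rw [PnEuler.cl_tens, hc1, PnEuler.tw_add]; norm_num)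
        exact QCoh.subsingleton_HH_of_iso e.symm 1 (vanish_twist_line (-2) 1 (by norm_num) (by norm_num))
    obtain ⟨e⟩ := cl_eq_iff.1 (show PicF.cl (G.obj (F.obj (cokernel u))) =
        PicF.cl (CohB1.tensorMod (F.obj (cokernel u)) (Twist.twistProjSpace 2 k (-1))) by
      rw [PnEuler.cl_tens, cl_tensor, mul_comm])
    exact QCoh.subsingleton_HH_of_iso e 0 h3
  · rw [← not_subsingleton_iff_nontrivial]
    intro h
    have h1 : Subsingleton (Coh.HH (CohB1.ProjSpace 2 k) (F.obj (Twist.twistProjSpace 3 k (-1))) 0) := by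
      obtain ⟨e⟩ := cl_eq_iff.1 hc1
      exact QCoh.subsingleton_HH_of_iso e.symm 0 (vanish_twist_line (-1) 0 (by norm_num) (by norm_num))
    have h2 := subsingleton_left_zero_of_mid hS h h1
    obtain ⟨A, B, hA, hB, ⟨e⟩⟩ := hmid 1 _ hc2
    have hAB : Subsingleton (Coh.HH (CohB1.ProjSpace 2 k) (A ⊞ B) 0) := QCoh.subsingleton_HH_of_iso e 0 h2
    have hB' : Subsingleton (Coh.HH (CohB1.ProjSpace 2 k) B 0) := subsingleton_of_forall_eq 0 fun y => by
      have := PnHodge.mapLin_comp_apply k (biprod.inr : B ⟶ A ⊞ B) biprod.snd 0 y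
      rw [biprod.inr_snd, PnHodge.mapLin_id_apply, hAB.elim (mapLin k biprod.inr 0 y) 0, map_zero] at this
      exact this.symm
    obtain ⟨eB⟩ := cl_eq_iff.1 (hB.trans ((congrArg (PnEuler.tw 2 k) (sub_self (1 : ℤ))).trans
      ((PnEuler.tw_zero 2 k).trans one_def)))
    exact PnRigid.not_subsingleton_h0 2 k (QCoh.subsingleton_HH_of_iso eB 0 hB')

end Plane

end Groth.Agent.Synt29.NullCorr
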