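import Mathlib
import Groth.Agent.H28.ExtSh
import Groth.Agent.H28.KvbModel
import Groth.Agent.H28.BoxSections
import Groth.Agent.AmpleVan.Mul
import Groth.Agent.CurveCohLib.SubBundle
import Groth.Agent.Lib.CurveTensor
import Groth.Agent.TorLib.Basic
import Groth.Agent.GenDiff29.Basic
import Groth.Agent.QCoh.Support
import Groth.Agent.Lib.InvEnd
import Groth.Agent.H28.PBCores
import Groth.Agent.Lib.TwistSumInv
import Groth.Agent.H28.PBAtlas

/-! Morphisms out of bundles of rank two. -/

set_option autoImplicit false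
set_option linter.style.haveILetI false
set_option linter.unusedSectionVars false
set_option backward.isDefEq.respectTransparency false
set_option backward.isDefEq.respectTransparency.types false
set_option maxHeartbeats 1000000

universe u

open CategoryTheory CategoryTheory.Limits AlgebraicGeometry TopologicalSpace Opposite
open Groth.Agent.AModX Groth.Agent.H28.ExtBase

noncomputable section

namespace Groth.Agent.Synt29.Rank2

open Groth.Agent

section Algebra

/-- The kernel of a map from a free module of rank two to a torsion free one over a UFD is free. -/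
theorem free_ker {R V W : Type u} [CommRing R] [IsDomain R] [UniqueFactorizationMonoid R] [AddCommGroup V]
    [Module R V] [AddCommGroup W] [Module R W] [Module.IsTorsionFree R W] (b : Module.Basis (Fin 2) R V)
    (f : V →ₗ[R] W) : Module.Free R (LinearMap.ker f) := by
  haveI : Module.Free R V := Module.Free.of_basis b
  haveI : Module.IsTorsionFree R V := inferInstance
  by_cases hbot : LinearMap.ker f = ⊥
  · rw [hbot]; infer_instance
  by_cases htop : f = 0
  · subst htop
    exact Module.Free.of_equiv (LinearEquiv.ofTop (LinearMap.ker (0 : V →ₗ[R] W)) LinearMap.ker_zero).symm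
  obtain ⟨v, hv, hv0⟩ := Submodule.exists_mem_ne_zero_of_ne_bot hbot
  obtain ⟨p, q, c, hpq, hp, hq⟩ : ∃ p q c, IsRelPrime p q ∧ c * p = b.repr v 0 ∧ c * q = b.repr v 1 := by
    by_cases h : b.repr v 0 = 0
    · have h1 : b.repr v 1 ≠ 0 := fun h1 => hv0 (b.repr.map_eq_zero_iff.1 (Finsupp.ext fun i => by
        fin_cases i <;> simp [h, h1]))
      exact ⟨0, 1, b.repr v 1, isRelPrime_one_right, by simp [h], mul_one _⟩
    · obtain ⟨p, q, c, hpq, hp, hq⟩ := UniqueFactorizationMonoid.exists_reduced_factors _ h (b.repr v 1)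
      exact ⟨p, q, c, hpq, hp, hq⟩
  let u : V := p • b 0 + q • b 1
  have hcu : c • u = v := by
    rw [← b.sum_repr v, Fin.sum_univ_two]
    simp [u, smul_add, smul_smul, hp, hq]
  have hc : c ≠ 0 := fun h => hv0 (by rw [← hcu, h, zero_smul])
  have hu : f u = 0 := (smul_eq_zero_iff_right hc).1 (by rw [← map_smul, hcu]; exact hv)
  have hu0 : u ≠ 0 := fun h => hv0 (by rw [← hcu, h, smul_zero])
  have hker : LinearMap.ker f = Submodule.span R {u} := by
    refine le_antisymm (fun w hw => Submodule.mem_span_singleton.2 ?_)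
      (Submodule.span_le.2 (Set.singleton_subset_iff.2 hu))
    have hw' : w = b.repr w 0 • b 0 + b.repr w 1 • b 1 := by
      conv_lhs => rw [← b.sum_repr w, Fin.sum_univ_two]
    set x := b.repr w 0
    set y := b.repr w 1
    have hdet : p * y = q * x := by
      by_contra hne
      apply htop
      have hD : p * y - q * x ≠ 0 := sub_ne_zero.2 hne
      have hfu : p • f (b 0) + q • f (b 1) = 0 := by simpa [u] using hu
      have hfw : x • f (b 0) + y • f (b 1) = 0 := by
        have := LinearMap.mem_ker.1 hw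
        rw [hw'] at this
        simpa using this
      have h0 : f (b 0) = 0 := (smul_eq_zero_iff_right hD).1 (by
        calc (p * y - q * x) • f (b 0)
            = y • (p • f (b 0) + q • f (b 1)) - q • (x • f (b 0) + y • f (b 1)) := by module
          _ = 0 := by rw [hfu, hfw]; simp)
      have h1 : f (b 1) = 0 := (smul_eq_zero_iff_right hD).1 (by
        calc (p * y - q * x) • f (b 1)
            = p • (x • f (b 0) + y • f (b 1)) - x • (p • f (b 0) + q • f (b 1)) := by module
          _ = 0 := by rw [hfu, hfw]; simp)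
      exact b.ext fun i => by fin_cases i <;> simp [h0, h1]
    by_cases hp0 : p = 0
    · obtain ⟨qi, hqi⟩ := ((isRelPrime_zero_left).1 (hp0 ▸ hpq)).exists_left_inv
      have hx : x = 0 := by
        rw [hp0, zero_mul] at hdet
        calc x = qi * q * x := by rw [hqi, one_mul]
          _ = 0 := by rw [mul_assoc, ← hdet, mul_zero]
      refine ⟨y * qi, ?_⟩
      rw [hw', hx]
      simp [u, hp0, smul_smul, mul_assoc, hqi]
    · obtain ⟨e, he⟩ := hpq.dvd_of_dvd_mul_left ⟨y, hdet.symm⟩
      refine ⟨e, ?_⟩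
      have hy : y = q * e := mul_left_cancel₀ hp0 (by rw [hdet, he]; ring)
      rw [hw', he, hy]
      simp [u, smul_add, smul_smul, mul_comm]
  rw [hker]
  exact Module.Free.of_equiv (LinearEquiv.toSpanNonzeroSingleton R V u hu0)

end Algebra

variable {X : Scheme.{u}} [IsIntegral X] [IsLocallyNoetherian X]

/-- A morphism into a locally free module vanishing at the generic point vanishes. -/
theorem eq_zero_of_generic {E F : X.Modules} (hF : FlatMod.IsFinLocFree F) (ψ : E ⟶ F)
    (h : (DerSch.stalkFunctor X (genericPoint X)).map ψ = 0) : ψ = 0 := by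
  refine Scheme.Modules.hom_ext _ _ fun U => AddCommGrpCat.hom_ext (AddMonoidHom.ext fun s => ?_)
  show ψ.app U s = 0
  by_cases hU : Nonempty U
  · obtain ⟨⟨x, hx⟩⟩ := hU
    have hη : genericPoint X ∈ U := ((genericPoint_spec X).mem_open_set_iff U.2).2 (by simpa using ⟨x, hx⟩)
    refine TorLib.eq_zero_of_germ_genericPoint (QCoh.isCoh_iff_isFP.2 (QCoh.isFP_of_isFinLocFree hF)).1
      (GenDiff29.isTorsionFree_of_isFinLocFree hF) hη _ ?_
    refine (DerSch.stalkFunctor_map_germ (genericPoint X) ψ U hη s).symm.trans ?_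
    rw [h]
    rfl
  · refine TopCat.Presheaf.section_ext ⟨F.presheaf, F.isSheaf⟩ U _ _ fun z hz => ?_
    exact absurd ⟨⟨z, hz⟩⟩ hU

/-- A nonzero morphism from a line bundle to a bundle is a monomorphism. -/
theorem mono_of_ne_zero {B F : X.Modules} (hB : FlatMod.IsFinLocFreeOfRank 1 B) (hF : FlatMod.IsFinLocFree F)
    (f : B ⟶ F) (hf : f ≠ 0) : Mono f := by
  refine GenDiff29.mono_of_generic (H28.KvbModel.lf_of_rank hB) f ?_
  let g := ((DerSch.stalkFunctor X (genericPoint X)).map f).hom
  have h1 : Module.finrank (X.presheaf.stalk (genericPoint X)) (B.presheaf.stalk (genericPoint X)) = 1 :=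
    CurveCohLib.genRank_eq hB
  show Function.Injective g
  refine (injective_iff_map_eq_zero g).2 fun z hz => ?_
  by_contra hz0
  refine hf (eq_zero_of_generic hF f (ModuleCat.hom_ext (LinearMap.ext fun y => ?_)))
  letI : Field (X.presheaf.stalk (genericPoint X)) := inferInstanceAs (Field X.functionField)
  obtain ⟨a, ha⟩ := exists_smul_eq_of_finrank_eq_one h1 hz0 y
  show g y = 0
  rw [← ha, map_smul, hz, smul_zero]

variable [hUFD : ∀ x : X, UniqueFactorizationMonoid (X.presheaf.stalk x)]

/-- The kernel of a nonzero, non injective morphism on a bundle of rank two is a line bundle. -/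
theorem rank_kernel {E F : X.Modules} (hE : FlatMod.IsFinLocFreeOfRank 2 E) (hF : FlatMod.IsFinLocFree F)
    (ψ : E ⟶ F) (h0 : ψ ≠ 0) (hk : ¬ Mono ψ) : FlatMod.IsFinLocFreeOfRank 1 (kernel ψ) := by
  have hEl : FlatMod.IsFinLocFree E := fun x => let ⟨U, hx, e⟩ := hE x; ⟨U, 2, hx, e⟩
  have hEc : Coh.IsCoh E := QCoh.isCoh_iff_isFP.2 (QCoh.isFP_of_isFinLocFree hEl)
  have hKc : Coh.IsCoh (kernel ψ) :=
    QCoh.isCoh_kernel hEc (QCoh.isCoh_iff_isFP.2 (QCoh.isFP_of_isFinLocFree hF)) ψ
  let S : ShortComplex X.Modules := ShortComplex.mk (kernel.ι ψ) ψ (kernel.condition ψ)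
  have hex : S.Exact := ShortComplex.exact_kernel ψ
  have hrange : ∀ x, LinearMap.range ((DerSch.stalkFunctor X x).map (kernel.ι ψ)).hom =
      LinearMap.ker ((DerSch.stalkFunctor X x).map ψ).hom := fun x =>
    ((KFlatLib.exact_iff_stalk S).1 hex x).moduleCat_range_eq_ker
  have hinj : ∀ x, Function.Injective ((DerSch.stalkFunctor X x).map (kernel.ι ψ)).hom :=
    fun x => CurveCohLib.stalk_injective _ x
  have hfree : ∀ x, Module.Free (X.presheaf.stalk x) ((kernel ψ).presheaf.stalk x) := fun x => by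
    haveI := QCoh.free_stalk_of_isFinLocFree hEl x
    haveI : Module.IsTorsionFree (X.presheaf.stalk x) (F.presheaf.stalk x) :=
      GenDiff29.isTorsionFree_of_isFinLocFree hF x
    haveI : Module.Finite (X.presheaf.stalk x) (E.presheaf.stalk x) :=
      QCoh.finite_stalk_of_isFT hEc.1 (QCoh.isFT_of_isFP (QCoh.isCoh_iff_isFP.1 hEc)) x
    have h2 : Module.finrank (X.presheaf.stalk x) (E.presheaf.stalk x) = 2 :=
      TwistSum.finrank_stalk_of_rank hE x
    let f : E.presheaf.stalk x →ₗ[X.presheaf.stalk x] F.presheaf.stalk x := ((DerSch.stalkFunctor X x).map ψ).hom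
    haveI := free_ker (Module.finBasisOfFinrankEq _ _ h2) f
    let g : (kernel ψ).presheaf.stalk x →ₗ[X.presheaf.stalk x] E.presheaf.stalk x :=
      ((DerSch.stalkFunctor X x).map (kernel.ι ψ)).hom
    exact Module.Free.of_equiv (((LinearEquiv.ofInjective g (hinj x)).trans
      (LinearEquiv.ofEq _ (LinearMap.ker f) (hrange x))).symm)
  have hKl : FlatMod.IsFinLocFree (kernel ψ) := QCoh.isFinLocFree_iff.2 ⟨QCoh.isCoh_iff_isFP.1 hKc, hfree⟩
  have hr := CurveCohLib.isFinLocFreeOfRank_genRank hKl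
  suffices h : CurveCohLib.genRank (kernel ψ) = 1 by rwa [h] at hr
  let η := genericPoint X
  letI : Field (X.presheaf.stalk η) := inferInstanceAs (Field X.functionField)
  let f : E.presheaf.stalk η →ₗ[X.presheaf.stalk η] F.presheaf.stalk η := ((DerSch.stalkFunctor X η).map ψ).hom
  let g : (kernel ψ).presheaf.stalk η →ₗ[X.presheaf.stalk η] E.presheaf.stalk η :=
    ((DerSch.stalkFunctor X η).map (kernel.ι ψ)).hom
  have h2 : Module.finrank (X.presheaf.stalk η) (E.presheaf.stalk η) = 2 := CurveCohLib.genRank_eq hE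
  haveI : FiniteDimensional (X.presheaf.stalk η) (E.presheaf.stalk η) :=
    Module.finite_of_finrank_eq_succ h2
  have hle : Module.finrank (X.presheaf.stalk η) ((kernel ψ).presheaf.stalk η) ≤ 2 :=
    h2 ▸ LinearMap.finrank_le_finrank_of_injective (f := g) (hinj η)
  have hne2 : Module.finrank (X.presheaf.stalk η) ((kernel ψ).presheaf.stalk η) ≠ 2 := fun h => by
    have htop : LinearMap.range g = ⊤ := Submodule.eq_top_of_finrank_eq (by
      rw [LinearMap.finrank_range_of_inj (f := g) (hinj η), h, h2])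
    refine h0 (eq_zero_of_generic hF ψ (ModuleCat.hom_ext (LinearMap.ext fun y => ?_)))
    have hy : y ∈ LinearMap.range g := htop ▸ Submodule.mem_top
    exact LinearMap.mem_ker.1 ((hrange η) ▸ hy)
  have hne0 : Module.finrank (X.presheaf.stalk η) ((kernel ψ).presheaf.stalk η) ≠ 0 := fun h => by
    have hr0 : CurveCohLib.genRank (kernel ψ) = 0 := h
    rw [hr0] at hr
    exact hk (Preadditive.mono_of_isZero_kernel ψ
      (H28.PBAtlas.isZero_of_frames fun x => H28.KvbModel.frameAt_of_rank hr x))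
  show Module.finrank (X.presheaf.stalk η) ((kernel ψ).presheaf.stalk η) = 1
  omega

end Groth.Agent.Synt29.Rank2

namespace Groth.Agent.Synt29.Rank2

open Groth.Agent Groth.Agent.H28

variable {X : Scheme.{u}} {E A : X.Modules}

theorem map_tmul_right {M N N' : X.Modules} (φ : N ⟶ N') {U : X.Opens} (a : Γ(M, U)) (b : Γ(N, U)) :
    ((DCoh.tensorBi.obj M).map φ).app U (InvX.tmul a b) = InvX.tmul a (φ.app U b) := by
  have h := KFlatLib.unitShP_naturality (MonoidalCategoryStruct.whiskerLeft (DCoh.toP.obj M) (DCoh.toP.map φ))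
  exact congr(($h).app (op U) (KFlatLib.tm a b)).symm

/-- The alternating map `(v, w) ↦ t w ⊗ v - t v ⊗ w`. -/
def wedgeMap (t : E ⟶ A) (V : X.Opens) : Γ(E, V) [⋀^Fin 2]→ₗ[Γ(X, V)] Γ(CohB1.tensorMod A E, V) where
  toFun e := InvX.tmul (t.app V (e 1)) (e 0) - InvX.tmul (t.app V (e 0)) (e 1)
  map_update_add' := fun {hd} m i x y => by
    fin_cases i <;> simp [H28.Box.tmul_add_l, H28.Box.tmul_add_r] <;> abel
  map_update_smul' := fun {hd} m i c x => by
    fin_cases i <;> simp [Scheme.Modules.Hom.app_smul, InvX.tmul_smul_left, InvX.tmul_smul_right, smul_sub]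
  map_eq_zero_of_eq' e i j h hij := by
    have h01 : e 0 = e 1 := by fin_cases i <;> fin_cases j <;> simp_all
    simp [h01]

theorem wedgeMap_res (t : E ⟶ A) (V V' : X.Opens) (i : V' ≤ V) (e : Fin 2 → Γ(E, V)) :
    res (CohB1.tensorMod A E) i (wedgeMap t V e) = wedgeMap t V' (fun k => res E i (e k)) := by
  show res (CohB1.tensorMod A E) i (InvX.tmul (t.app V (e 1)) (e 0) - InvX.tmul (t.app V (e 0)) (e 1)) =
    InvX.tmul (t.app V' (res E i (e 1))) (res E i (e 0)) - InvX.tmul (t.app V' (res E i (e 0))) (res E i (e 1))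
  rw [map_sub, InvX.res_tmul, InvX.res_tmul, app_res, app_res]

/-- The induced morphism from the second exterior power. -/
def contract (t : E ⟶ A) : ExtBase.L E 2 ⟶ CohB1.tensorMod A E :=
  ((PresheafOfModules.sheafificationAdjunction (𝟙 X.ringCatSheaf.obj)).homEquiv (P E 2) _).symm
    (ExtSh.liftP (wedgeMap t) (wedgeMap_res t))

theorem contract_wedge (t : E ⟶ A) (V : X.Opens) (e : Fin 2 → Γ(E, V)) :
    (contract t).app V (eta E 2 V (wedge E 2 e)) = wedgeMap t V e := by
  have h := ((PresheafOfModules.sheafificationAdjunction (𝟙 X.ringCatSheaf.obj)).homEquiv (P E 2) _).apply_symm_apply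
    (ExtSh.liftP (wedgeMap t) (wedgeMap_res t))
  rw [Adjunction.homEquiv_unit] at h
  exact (congrArg (fun q : P E 2 ⟶ DCoh.toP.obj _ => (q.app (op V)).hom (wedge E 2 e)) h).trans
    (AltGlue.lift_ιMulti (wedgeMap t) V e)

/-- The image of the contraction dies in `A ⊗ A`. -/
theorem contract_comp (hA : PicF.IsInvertible A) (t : E ⟶ A) :
    contract t ≫ (DCoh.tensorBi.obj A).map t = 0 := by
  refine ((PresheafOfModules.sheafificationAdjunction (𝟙 X.ringCatSheaf.obj)).homEquiv (P E 2) _).injective ?_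
  rw [Adjunction.homEquiv_unit, Adjunction.homEquiv_unit]
  refine PresheafOfModules.hom_ext fun V => ModuleCat.hom_ext (exteriorPower.linearMap_ext (AlternatingMap.ext fun e => ?_))
  show ((DCoh.tensorBi.obj A).map t).app V.unop ((contract t).app V.unop (eta E 2 V.unop (wedge E 2 e))) = 0
  rw [contract_wedge]
  show ((DCoh.tensorBi.obj A).map t).app V.unop
    (InvX.tmul (t.app V.unop (e 1)) (e 0) - InvX.tmul (t.app V.unop (e 0)) (e 1)) = 0
  rw [map_sub, map_tmul_right, map_tmul_right, sub_eq_zero]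
  refine AModX.eq_of_locally _ _ fun p hp => ?_
  obtain ⟨V₀, hpV, a₀, ha₀⟩ := InvX.exists_frame hA p
  have ha := ha₀.res (inf_le_left : V₀ ⊓ V.unop ≤ V₀)
  obtain ⟨f, hf⟩ := ha.exists_coord le_rfl (res A inf_le_right (t.app V.unop (e 0)))
  obtain ⟨g, hg⟩ := ha.exists_coord le_rfl (res A inf_le_right (t.app V.unop (e 1)))
  rw [res_self] at hf hg
  refine ⟨V₀ ⊓ V.unop, inf_le_right, ⟨hpV, hp⟩, ?_⟩
  show res (CohB1.tensorMod A A) inf_le_right (InvX.tmul _ _) = res (CohB1.tensorMod A A) inf_le_right (InvX.tmul _ _)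
  simp only [InvX.res_tmul, hf, hg, InvX.tmul_smul_left, InvX.tmul_smul_right, smul_smul, mul_comm]

/-- A nonzero map to a line bundle has nonzero contraction. -/
theorem contract_ne_zero (hE : FlatMod.IsFinLocFreeOfRank 2 E) (hA : PicF.IsInvertible A) (t : E ⟶ A)
    (ht : t ≠ 0) : contract t ≠ 0 := by
  intro h0
  refine ht (Scheme.Modules.hom_ext _ _ fun O => AddCommGrpCat.hom_ext (AddMonoidHom.ext fun y => ?_))
  show t.app O y = 0
  refine AModX.eq_of_locally _ _ fun p hp => ?_
  obtain ⟨U, hpU, ⟨eU⟩⟩ := hE p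
  obtain ⟨s₀, hs₀⟩ := H23.Frame.exists_frame eU
  obtain ⟨V₀, hpV, a₀, ha₀⟩ := InvX.exists_frame hA p
  let W := U ⊓ V₀ ⊓ O
  have hWU : W ≤ U := inf_le_left.trans inf_le_left
  have hWV : W ≤ V₀ := inf_le_left.trans inf_le_right
  have hWO : W ≤ O := inf_le_right
  refine ⟨W, hWO, ⟨⟨hpU, hpV⟩, hp⟩, ?_⟩
  show res A hWO (t.app O y) = res A hWO 0
  rw [map_zero, ← app_res]
  let s : Fin 2 → Γ(E, W) := fun k => res E hWU (s₀ k)
  have ha := ha₀.res hWV
  have hw := contract_wedge t W s
  rw [h0] at hw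
  have hz : (0 : Γ(CohB1.tensorMod A E, W)) =
      InvX.tmul (t.app W (s 1)) (s 0) - InvX.tmul (t.app W (s 0)) (s 1) := hw
  obtain ⟨f, hf⟩ := ha.exists_coord le_rfl (t.app W (s 0))
  obtain ⟨g, hg⟩ := ha.exists_coord le_rfl (t.app W (s 1))
  rw [res_self] at hf hg
  rw [hf, hg, InvX.tmul_smul_left, InvX.tmul_smul_left, ← InvX.tmul_smul_right, ← InvX.tmul_smul_right] at hz
  have h1 : g • s 0 = f • s 1 := (H28.Box.bijective_tmul_frame ha).1 (sub_eq_zero.1 hz.symm)
  have h2 : (![g, -f] : Fin 2 → Γ(X, W)) = 0 := (hs₀ W hWU).1 (by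
    show ∑ i, ![g, -f] i • res E hWU (s₀ i) = ∑ i, (0 : Γ(X, W)) • res E hWU (s₀ i)
    rw [Fin.sum_univ_two]
    show g • s 0 + (-f) • s 1 = _
    rw [h1]
    simp)
  have hg0 : g = 0 := by simpa using congrFun h2 0
  have hf0 : f = 0 := by simpa using congrFun h2 1
  obtain ⟨c, hc⟩ := (hs₀ W hWU).2 (res E hWO y)
  rw [← hc]
  show t.app W (∑ i, c i • res E hWU (s₀ i)) = 0
  rw [Fin.sum_univ_two, map_add, Scheme.Modules.Hom.app_smul, Scheme.Modules.Hom.app_smul]
  show c 0 • t.app W (s 0) + c 1 • t.app W (s 1) = 0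
  rw [hf, hg, hf0, hg0]
  simp

/-- A nonzero map to a line bundle gives a nonzero map from the determinant to kernel tensor target. -/
theorem exists_det_to_kernel (hE : FlatMod.IsFinLocFreeOfRank 2 E) (hA : PicF.IsInvertible A) (t : E ⟶ A)
    (ht : t ≠ 0) : ∃ θ : ExtBase.L E 2 ⟶ CohB1.tensorMod A (kernel t), θ ≠ 0 := by
  have hAl : FlatMod.IsFinLocFree A := H28.KvbModel.lf_of_rank (InvEnd.isFinLocFreeOfRank_one hA)
  let q : E ⟶ cokernel (kernel.ι t) := cokernel.π (kernel.ι t)
  let j : cokernel (kernel.ι t) ⟶ A := cokernel.desc (kernel.ι t) t (kernel.condition t)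
  haveI : Mono j := inferInstanceAs (Mono (Abelian.factorThruCoimage t))
  have hj : q ≫ j = t := cokernel.π_desc _ _ _
  let T : ShortComplex X.Modules := ShortComplex.mk (kernel.ι t) q (cokernel.condition _)
  have hT : T.ShortExact := { exact := ShortComplex.exact_cokernel _ }
  let T' : ShortComplex X.Modules := ShortComplex.mk j (cokernel.π j) (cokernel.condition _)
  have hT' : T'.ShortExact := { exact := ShortComplex.exact_cokernel _ }
  have h1 := CurveTensor.shortExact_tensor hAl (kernel.ι t) q (cokernel.condition _) hT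
  have h2 := CurveTensor.shortExact_tensor hAl j (cokernel.π j) (cokernel.condition _) hT'
  haveI := h2.mono_f
  have h0 : contract t ≫ (DCoh.tensorBi.obj A).map q = 0 := by
    rw [← cancel_mono ((DCoh.tensorBi.obj A).map j), Category.assoc, ← Functor.map_comp, hj, contract_comp hA,
      zero_comp]
  obtain ⟨θ, hθ⟩ := KernelFork.IsLimit.lift' h1.fIsKernel (contract t) h0
  exact ⟨θ, fun h => contract_ne_zero hE hA t ht (by rw [← hθ, h]; exact zero_comp)⟩

end Groth.Agent.Synt29.Rank2
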