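import Mathlib
import Groth.Agent.Synt29.Rank2
import Groth.Agent.Synt29.NullCorr
import Groth.Agent.H28.ExtFil
import Groth.Agent.Lib.CurveEnd
import Groth.Agent.S2821
import Groth.Agent.SmoothReg.Scheme
import Groth.Agent.LefPenLib.Nondeg
import Groth.Agent.PnCoh.Finite.Closed
import Groth.Agent.PnCoh.Chow.Proper
import Groth.Agent.H23.PnChart
import Groth.Agent.SeesawX.PicPn

/-! Bundles of rank two on projective space: stability and simplicity. -/

set_option autoImplicit false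
set_option linter.style.haveILetI false
set_option linter.unusedSectionVars false
set_option backward.isDefEq.respectTransparency false
set_option backward.isDefEq.respectTransparency.types false
set_option maxHeartbeats 1000000

universe u

open CategoryTheory CategoryTheory.Limits AlgebraicGeometry TopologicalSpace Opposite
open CategoryTheory.Abelian

noncomputable section

namespace Groth.Agent.Synt29.Rank2Pn

open Groth.Agent Groth.Agent.H23.PicMul

variable {n : ℕ} {k : Type u} [Field k]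

local instance : (CohB1.ProjSpace n k).Over (Spec (CommRingCat.of k)) :=
  ⟨CohB1.ProjSpace.toSpec n k⟩

local instance quasiSeparated : QuasiSeparated (CohB1.ProjSpace.toSpec n k) := by
  haveI := PnCoh.Chow.isProper_toSpec n k
  infer_instance

local instance : IsIntegral (CohB1.ProjSpace n k) := H23.PnChart.isIntegral_projSpace n k

local instance : IsLocallyNoetherian (CohB1.ProjSpace n k) :=
  PnCoh.Finite.isLocallyNoetherian_projSpace n k

local instance ufd : ∀ x : CohB1.ProjSpace n k, UniqueFactorizationMonoid ((CohB1.ProjSpace n k).presheaf.stalk x) :=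
  fun x => by
    haveI := LefPenLib.smooth_toSpec n k
    haveI := SmoothReg.isRegularLocalRing_stalk_of_mem_smoothLocus (CohB1.ProjSpace.toSpec n k) (x := x)
      (by rw [(CohB1.ProjSpace.toSpec n k).smoothLocus_eq_top]; trivial)
    exact (Groth.Agent.S2821.result _).2

/-- `O(d)`. -/
abbrev O (d : ℤ) : (CohB1.ProjSpace n k).Modules := Twist.twistProjSpace n k d

theorem rank_O (d : ℤ) : FlatMod.IsFinLocFreeOfRank 1 (O (n := n) (k := k) d) :=
  InvEnd.isFinLocFreeOfRank_one (PnEuler.isInvertible_O n k d)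

theorem exists_iso_O {L : (CohB1.ProjSpace n k).Modules} (h : FlatMod.IsFinLocFreeOfRank 1 L) :
    ∃ d : ℤ, Nonempty (L ≅ O d) :=
  SeesawX.PicPn.exists_iso_twist L (H28.PBCores.isInvertible_iff_rank.2 h)

open Groth.Agent.PnCoh Groth.Agent.PnCoh.Finite Groth.Agent.PnDual in
/-- Morphisms out of a twist are the sections of the opposite twist. -/
theorem nontrivial_hom (d : ℤ) (M : (CohB1.ProjSpace n k).Modules)
    (M' : (CohB1.ProjSpace n k).Modules) (hM' : PicF.cl M' = PicF.cl M * PnEuler.tw n k (-d))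
    (h : ¬ Subsingleton (Coh.HH (CohB1.ProjSpace n k) M' 0)) : ∃ f : O d ⟶ M, f ≠ 0 := by
  haveI := PnRigid.hasExt n k
  haveI : HasExt.{u} (Proj (CohB1.polyGrading n k)).Modules := ‹HasExt.{u} (CohB1.ProjSpace n k).Modules›
  by_contra hne
  push Not at hne
  apply h
  let E := PnDual.twistEquivalence (coordsR k n) coordsR_mem coordsR_cover d (-d) (add_neg_cancel d)
  haveI : E.functor.IsEquivalence := E.isEquivalence_functor
  haveI : E.inverse.IsEquivalence := E.isEquivalence_inverse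
  haveI : E.inverse.Additive := Functor.additive_of_preserves_binary_products _
  haveI : EnoughInjectives (Proj (CohB1.polyGrading n k)).Modules :=
    inferInstanceAs (EnoughInjectives (SheafOfModules _))
  let i : E.functor.obj (Coh.structureModule (Proj (CohB1.polyGrading n k))) ≅ Twist.twist (CohB1.polyGrading n k) d :=
    (DCoh.tensorBi.mapIso (@asIso _ _ _ _ _ (isIso_oneHom (coordsR k n) coordsR_mem coordsR_cover))).app
        (Twist.twist (CohB1.polyGrading n k) d) ≪≫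
      (twist_tensor_iso (coordsR k n) coordsR_mem coordsR_cover 0 d).some ≪≫ eqToIso (by rw [zero_add])
  obtain ⟨e₁⟩ := SiteBase.nonempty_ext_addEquiv_of_adjunction E.toAdjunction i 0 M
  obtain ⟨e₂⟩ := SiteBase.nonempty_ext_unit_addEquiv (R := (Proj (CohB1.polyGrading n k)).ringCatSheaf)
    (E.inverse.obj M) 0
  have hExt : Subsingleton (Ext.{u} (Twist.twist (CohB1.polyGrading n k) d) M 0) := by
    refine subsingleton_of_forall_eq 0 fun x => ?_
    obtain ⟨f, rfl⟩ := (Ext.mk₀_bijective _ _).2 x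
    rw [show f = 0 from hne f, Ext.mk₀_zero]
  obtain ⟨eM⟩ := cl_eq_iff.1 ((PnEuler.cl_tens M (Twist.twistProjSpace n k (-d))).trans hM'.symm)
  exact QCoh.subsingleton_HH_of_iso eM 0 ((e₁.trans e₂).toEquiv.subsingleton_congr.1 hExt)

theorem not_subsingleton_line {j : ℤ} (hj : 0 ≤ j) :
    ¬ Subsingleton (Coh.HH (CohB1.ProjSpace n k) (O (n := n) (k := k) j) 0) := by
  obtain ⟨d, rfl⟩ := Int.eq_ofNat_of_zero_le hj
  intro h
  have := (PnBott.h0_line n k d).2
  rw [Module.finrank_zero_of_subsingleton] at this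
  exact (Nat.choose_pos (Nat.le_add_left d n)).ne this

/-- Nonzero maps between twists. -/
theorem exists_ne_zero {a b : ℤ} (h : a ≤ b) : ∃ f : O (n := n) (k := k) a ⟶ O b, f ≠ 0 :=
  nontrivial_hom a (O b) (O (b + -a)) (PnEuler.tw_add n k b (-a)).symm (not_subsingleton_line (by omega))

/-- Maps between twists go up in degree. -/
theorem le_of_ne_zero (hn : n ≠ 0) {a b : ℤ} (f : O (n := n) (k := k) a ⟶ O b) (hf : f ≠ 0) : a ≤ b := by
  by_contra hlt
  refine hf (PnRigid.hom_twist_eq_zero n k a f fun M hM => ?_)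
  rw [PnEuler.tw_add] at hM
  obtain ⟨e⟩ := cl_eq_iff.1 hM
  exact QCoh.subsingleton_HH_of_iso e.symm 0 (S0844.result k n _ 0 (fun h => by omega) (fun h => by omega))

/-- All twists on a point agree. -/
theorem nonempty_iso_zero (a b : ℤ) : Nonempty (O (n := 0) (k := k) a ≅ O b) := by
  have hstep : ∀ j : ℤ, PnEuler.tw 0 k (j - 1) = PnEuler.tw 0 k j := fun j => by
    obtain ⟨T, hT, h1, h3, N, a', b', hN, hab, hba⟩ := PnEuler.exists_euler' 0 k 0 j
    obtain rfl : N = 1 := by simpa using hN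
    haveI := hT.epi_g
    haveI : Mono T.g := hT.exact.mono_g ((PnEuler.hodge_top 0 k (by omega) j h1).eq_of_src _ _)
    haveI : IsIso T.g := isIso_of_mono_of_epi _
    rw [PnEuler.hodge_zero] at h3
    obtain ⟨e3⟩ := cl_eq_iff.1 h3
    obtain ⟨e⟩ := PnRestrict.nonempty_iso_sigma a' b' hab hba
    exact cl_eq_iff.2 ⟨eqToIso (by norm_num) ≪≫ (coproductUniqueIso _).symm ≪≫ e.symm ≪≫ asIso T.g ≪≫ e3⟩
  have h : ∀ j : ℤ, PnEuler.tw 0 k j = PnEuler.tw 0 k 0 := fun j => by
    induction j using Int.induction_on with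
    | zero => rfl
    | succ i hi => rw [← hi, ← hstep ((i : ℤ) + 1), add_sub_cancel_right]
    | pred i hi => rw [hstep, hi]
  exact cl_eq_iff.1 ((h a).trans (h b).symm)

variable {E : (CohB1.ProjSpace n k).Modules}

/-- A twist inside `E` of high degree gives a section. -/
theorem not_subsingleton_of_sub (hEl : FlatMod.IsFinLocFree E) {m k₀ : ℤ} (i : O m ⟶ E) [Mono i]
    (h : 0 ≤ m + k₀) :
    ¬ Subsingleton (Coh.HH (CohB1.ProjSpace n k) (CohB1.tensorMod E (O k₀)) 0) := by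
  intro hs
  let T : ShortComplex (CohB1.ProjSpace n k).Modules := ShortComplex.mk i (cokernel.π i) (cokernel.condition i)
  have hT : T.ShortExact := { exact := ShortComplex.exact_cokernel i }
  have hT' := CurveTensor.shortExact_tensor (H28.KvbModel.lf_of_rank (rank_O (n := n) (k := k) k₀)) i
    (cokernel.π i) (cokernel.condition i) hT
  obtain ⟨e2⟩ := cl_eq_iff.1 ((PnEuler.cl_tens (O k₀) E).trans ((mul_comm _ _).trans (cl_tensor E (O k₀)).symm))
  have h1 := PnHodge.subsingleton_left_zero k hT' (QCoh.subsingleton_HH_of_iso e2.symm 0 hs)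
  obtain ⟨e1⟩ := cl_eq_iff.1 ((PnEuler.cl_tens (O k₀) (O m)).trans (PnEuler.tw_add n k k₀ m))
  exact not_subsingleton_line (n := n) (k := k) (j := k₀ + m) (by omega) (QCoh.subsingleton_HH_of_iso e1 0 h1)

theorem cl_det (hE : FlatMod.IsFinLocFreeOfRank 2 E) {c : ℤ}
    (hdet : ∃ L : (CohB1.ProjSpace n k).Modules, ExtPow.IsExtPow 2 E L ∧ Nonempty (L ≅ O c)) :
    Nonempty (O c ≅ H28.ExtBase.L E 2) := by
  obtain ⟨L, hL, ⟨e⟩⟩ := hdet
  obtain ⟨e'⟩ := H28.ExtSh.nonempty_iso_L (H28.KvbModel.lf_of_rank hE) hL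
  exact ⟨(e' ≪≫ e).symm⟩

/-- Two commuting endomorphisms with zero product bound the determinant. -/
theorem not_subsingleton_of_comp_zero (hE : FlatMod.IsFinLocFreeOfRank 2 E) {c k₀ : ℤ}
    (hdet : ∃ L : (CohB1.ProjSpace n k).Modules, ExtPow.IsExtPow 2 E L ∧ Nonempty (L ≅ O c))
    (hk₀ : -1 ≤ c + 2 * k₀) (ψ χ : E ⟶ E) (hψ : ψ ≠ 0) (hχ : χ ≠ 0) (h : ψ ≫ χ = 0) (h' : χ ≫ ψ = 0) :
    ¬ Subsingleton (Coh.HH (CohB1.ProjSpace n k) (CohB1.tensorMod E (O k₀)) 0) := by
  have hEl := H28.KvbModel.lf_of_rank hE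
  have hM := Rank2.rank_kernel hE hEl ψ hψ (fun _ => hχ ((cancel_mono ψ).1 (h'.trans zero_comp.symm)))
  have hN := Rank2.rank_kernel hE hEl χ hχ (fun _ => hψ ((cancel_mono χ).1 (h.trans zero_comp.symm)))
  obtain ⟨a, ⟨ea⟩⟩ := exists_iso_O hM
  obtain ⟨b, ⟨eb⟩⟩ := exists_iso_O hN
  let t : E ⟶ kernel χ := kernel.lift χ ψ h
  have ht : t ≠ 0 := fun ht => hψ (by rw [← kernel.lift_ι χ ψ h]; exact (congrArg (· ≫ kernel.ι χ) ht).trans zero_comp)
  obtain ⟨θ, hθ⟩ := Rank2.exists_det_to_kernel hE (H28.PBCores.isInvertible_iff_rank.2 hN) t ht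
  let e3 : kernel t ≅ kernel ψ :=
    (kernelCompMono t (kernel.ι χ)).symm ≪≫ kernelIsoOfEq (kernel.lift_ι χ ψ h)
  obtain ⟨ec⟩ := cl_det hE hdet
  obtain ⟨eab⟩ := cl_eq_iff.1 ((cl_tensor (kernel χ) (kernel t)).trans
    ((congrArg₂ (· * ·) (cl_eq_iff.2 ⟨eb⟩) (cl_eq_iff.2 ⟨e3 ≪≫ ea⟩)).trans (PnEuler.tw_add n k b a)))
  by_cases hn : n = 0
  · subst hn
    obtain ⟨e0⟩ := nonempty_iso_zero (k := k) a (-k₀)
    exact not_subsingleton_of_sub hEl (e0.inv ≫ ea.inv ≫ kernel.ι ψ) (by omega)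
  have hle : c ≤ b + a := le_of_ne_zero hn (ec.hom ≫ θ ≫ eab.hom) (fun h0 => hθ (by
    simpa using congrArg (fun z => ec.inv ≫ z ≫ eab.inv) h0))
  by_cases ha : 0 ≤ a + k₀
  · exact not_subsingleton_of_sub hEl (ea.inv ≫ kernel.ι ψ) ha
  · by_cases hb : 0 ≤ b + k₀
    · exact not_subsingleton_of_sub hEl (eb.inv ≫ kernel.ι χ) hb
    · exfalso
      omega

open Polynomial in
/-- A bundle without sections in the normalised twist is simple. -/
theorem exists_smul [IsAlgClosed k] (hE : FlatMod.IsFinLocFreeOfRank 2 E) {c k₀ : ℤ}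
    (hdet : ∃ L : (CohB1.ProjSpace n k).Modules, ExtPow.IsExtPow 2 E L ∧ Nonempty (L ≅ O c))
    (hk₀ : -1 ≤ c + 2 * k₀)
    (h0 : Subsingleton (Coh.HH (CohB1.ProjSpace n k) (CohB1.tensorMod E (O k₀)) 0)) (φ : E ⟶ E) :
    ∃ a : k, (SheafOfModules.toSheaf (CohB1.ProjSpace n k).ringCatSheaf).map φ =
      Coh.smulAb E (Coh.toGlobal (CohB1.ProjSpace.toSpec n k) a) := by
  haveI : IsProper ((CohB1.ProjSpace n k) ↘ Spec (CommRingCat.of k)) := PnCoh.Chow.isProper_toSpec n k
  letI := CurveEnd.kAlgebra (k := k) E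
  let f : End E := φ
  obtain ⟨p, hp, hpf⟩ := CurveEnd.exists_aeval_eq_zero (k := k) E 2 hE f
  haveI : Nontrivial (End E) := ⟨⟨1, 0, fun h => NullCorr.not_isZero_of_rank (by norm_num) hE
    ((IsZero.iff_id_eq_zero E).2 h)⟩⟩
  have hint : _root_.IsIntegral k f := ⟨p, hp, hpf⟩
  obtain ⟨r, hr⟩ := IsAlgClosed.exists_root (minpoly k f) (minpoly.degree_pos hint).ne'
  obtain ⟨q, hq⟩ := dvd_iff_isRoot.2 hr
  have hq0 : q ≠ 0 := fun h => minpoly.ne_zero hint (by rw [hq, h, mul_zero])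
  have hχ : aeval f q ≠ 0 := fun h => by
    have hqm : q.Monic := (monic_X_sub_C r).of_mul_monic_left (hq ▸ minpoly.monic hint)
    have h1 := natDegree_le_natDegree (minpoly.min k f hqm h)
    rw [hq, natDegree_mul (X_sub_C_ne_zero r) hq0, natDegree_X_sub_C] at h1
    omega
  have h12 : (f - algebraMap k (End E) r) * aeval f q = 0 := by
    have := minpoly.aeval k f
    rwa [hq, map_mul, map_sub, aeval_X, aeval_C] at this
  have h21 : aeval f q * (f - algebraMap k (End E) r) = 0 := by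
    have := minpoly.aeval k f
    rwa [hq, mul_comm, map_mul, map_sub, aeval_X, aeval_C] at this
  by_cases hψ : f - algebraMap k (End E) r = 0
  · refine ⟨r, ?_⟩
    rw [show φ = CurveEnd.smulMod E (Coh.toGlobal (CohB1.ProjSpace.toSpec n k) r) from sub_eq_zero.1 hψ]
    exact CurveEnd.toSheaf_smulMod E _
  · exact absurd h0 (not_subsingleton_of_comp_zero hE hdet hk₀ _ _ hψ hχ h21 h12)

theorem pairing_ne_zero {B : (CohB1.ProjSpace n k).Modules} (hE : FlatMod.IsFinLocFreeOfRank 2 E) (s : B ⟶ E)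
    (hs : s ≠ 0) :
    H28.ExtFil.a (ShortComplex.mk s (0 : E ⟶ E) comp_zero) (rfl : 1 + 1 = 1 + 1) ≠ 0 := by
  intro h0
  refine hs (Scheme.Modules.hom_ext _ _ fun U => AddCommGrpCat.hom_ext (AddMonoidHom.ext fun b => ?_))
  show s.app U b = 0
  refine AModX.eq_of_locally _ _ fun p hp => ?_
  obtain ⟨V₀, hpV, ⟨eV⟩⟩ := hE p
  obtain ⟨e₀, he₀⟩ := H23.Frame.exists_frame eV
  let W := V₀ ⊓ U
  refine ⟨W, inf_le_right, ⟨hpV, hp⟩, ?_⟩
  show AModX.res E inf_le_right (s.app U b) = AModX.res E inf_le_right 0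
  rw [map_zero, ← AModX.app_res]
  let S : ShortComplex (CohB1.ProjSpace n k).Modules := ShortComplex.mk s (0 : E ⟶ E) comp_zero
  let y : Γ(B, W) := AModX.res B (inf_le_right : W ≤ U) b
  let e : Fin 2 → Γ(E, W) := fun i => AModX.res E (inf_le_left : W ≤ V₀) (e₀ i)
  have he : H23.Frame.IsFrame E e := InvEnd.frame_res inf_le_left he₀
  have hw : ∀ z : Γ(E, W), H28.ExtBase.wedge E 2 (Fin.append (fun _ : Fin 1 => s.app W y) (fun _ : Fin 1 => z)) = 0 := by
    intro z
    apply H28.ExtBase.eta_injective (M := E) he le_rfl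
    rw [map_zero]
    have h1 := H28.ExtFil.η_map (H28.ExtFil.aP S (rfl : 1 + 1 = 1 + 1)) W
      (H28.ExtBase.wedge B 1 (fun _ => y) ⊗ₜ[Γ(CohB1.ProjSpace n k, W)] H28.ExtBase.wedge E 1 (fun _ => z))
    rw [show DCoh.shP.map (H28.ExtFil.aP S (rfl : 1 + 1 = 1 + 1)) = 0 from h0] at h1
    refine (congrArg (H28.ExtBase.eta E 2 W) ?_).trans h1.symm
    exact (H28.ExtFil.aV_wedge S W (fun _ : Fin 1 => y) (fun _ : Fin 1 => z)).symm
  obtain ⟨c, hc⟩ := (he W le_rfl).2 (s.app W y)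
  have hc' : s.app W y = c 0 • e 0 + c 1 • e 1 := by
    rw [← hc]
    show ∑ i, c i • AModX.res E le_rfl (e i) = _
    rw [Fin.sum_univ_two, AModX.res_self, AModX.res_self]
  have key : ∀ (z : Γ(E, W)) (a : Γ(CohB1.ProjSpace n k, W)),
      H28.ExtBase.wedge E 2 (Fin.append (fun _ : Fin 1 => s.app W y) (fun _ : Fin 1 => z)) =
        a • H28.ExtBase.wedge E 2 e → a = 0 := fun z a ha => by
    have h2 := (H28.ExtBase.bijective_smul_wedge (M := E) he le_rfl).1
    refine h2 ?_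
    show a • H28.ExtBase.wedge E 2 (fun k => AModX.res E le_rfl (e k)) = (0 : Γ(CohB1.ProjSpace n k, W)) • _
    simp only [AModX.res_self, zero_smul]
    rw [← ha]
    exact hw z
  have happ : ∀ v z : Γ(E, W), Fin.append (fun _ : Fin 1 => v) (fun _ : Fin 1 => z) = ![v, z] := fun v z =>
    funext fun i => by fin_cases i <;> rfl
  have hexp : ∀ z, H28.ExtBase.wedge E 2 ![c 0 • e 0 + c 1 • e 1, z] =
      c 0 • H28.ExtBase.wedge E 2 ![e 0, z] + c 1 • H28.ExtBase.wedge E 2 ![e 1, z] := fun z => by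
    let A := exteriorPower.ιMulti Γ(CohB1.ProjSpace n k, W) 2 (M := E.val.obj (op W))
    have hu : ∀ v, ![v, z] = Function.update ![e 0, z] 0 v := fun v => funext fun i => by fin_cases i <;> rfl
    show A _ = c 0 • A _ + c 1 • A _
    rw [hu, hu (e 0), hu (e 1), AlternatingMap.map_update_add, AlternatingMap.map_update_smul,
      AlternatingMap.map_update_smul]
    simp only [Function.update_idem]
  have hev : e = ![e 0, e 1] := funext fun i => by fin_cases i <;> rfl
  have hswap : H28.ExtBase.wedge E 2 ![e 1, e 0] = -H28.ExtBase.wedge E 2 e := by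
    let A := exteriorPower.ιMulti Γ(CohB1.ProjSpace n k, W) 2 (M := E.val.obj (op W))
    show A _ = -A e
    rw [← A.map_swap e (show (0 : Fin 2) ≠ 1 by decide)]
    exact congrArg A (funext fun i => by fin_cases i <;> rfl)
  have hdiag : ∀ v, H28.ExtBase.wedge E 2 ![v, v] = 0 := fun v =>
    (exteriorPower.ιMulti Γ(CohB1.ProjSpace n k, W) 2 (M := E.val.obj (op W))).map_eq_zero_of_eq _
      (i := 0) (j := 1) rfl (by decide)
  have hc0 : c 0 = 0 := key (e 1) (c 0) (by
    rw [happ, hc', hexp, hdiag, smul_zero, add_zero, ← hev])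
  have hc1 : c 1 = 0 := by
    have := key (e 0) (-c 1) (by rw [happ, hc', hexp, hdiag, smul_zero, zero_add, hswap, smul_neg, ← neg_smul])
    simpa using this
  show s.app W y = 0
  rw [hc', hc0, hc1, zero_smul, zero_smul, add_zero]

/-- A section of the normalised twist contradicts simplicity. -/
theorem subsingleton_of_simple (hE : FlatMod.IsFinLocFreeOfRank 2 E) {c k₀ : ℤ}
    (hdet : ∃ L : (CohB1.ProjSpace n k).Modules, ExtPow.IsExtPow 2 E L ∧ Nonempty (L ≅ O c))
    (hk₀ : c + 2 * k₀ ≤ 0)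
    (hsimple : ∀ φ : E ⟶ E, ∃ a : k, (SheafOfModules.toSheaf (CohB1.ProjSpace n k).ringCatSheaf).map φ =
      Coh.smulAb E (Coh.toGlobal (CohB1.ProjSpace.toSpec n k) a)) :
    Subsingleton (Coh.HH (CohB1.ProjSpace n k) (CohB1.tensorMod E (O k₀)) 0) := by
  by_contra hne
  have hEl := H28.KvbModel.lf_of_rank hE
  obtain ⟨s, hs⟩ := nontrivial_hom (-k₀) E (CohB1.tensorMod E (O k₀)) (by rw [cl_tensor, neg_neg]) hne
  haveI := Rank2.mono_of_ne_zero (rank_O (-k₀)) hEl s hs
  let S : ShortComplex (CohB1.ProjSpace n k).Modules := ShortComplex.mk s (0 : E ⟶ E) comp_zero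
  obtain ⟨eT⟩ := H28.ExtFil.nonempty_tensor_iso (S := S) 1 1
  obtain ⟨eB⟩ := H28.ExtSh.nonempty_iso_L (H28.KvbModel.lf_of_rank (rank_O (n := n) (k := k) (-k₀)))
    (H28.KvbLam.isExtPow_one (O (n := n) (k := k) (-k₀)))
  obtain ⟨eE⟩ := H28.ExtSh.nonempty_iso_L hEl (H28.KvbLam.isExtPow_one E)
  obtain ⟨ec⟩ := cl_det hE hdet
  let G := DCoh.tensorBi.obj (O (n := n) (k := k) k₀)
  let aS : DCoh.shP.obj (H28.ExtFil.TP S 1 1) ⟶ H28.ExtBase.L E 2 := H28.ExtFil.a S (rfl : 1 + 1 = 1 + 1)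
  let α : DCoh.shP.obj (H28.ExtFil.TP S 1 1) ⟶ O c := aS ≫ ec.inv
  have hα : α ≠ 0 := fun h => pairing_ne_zero hE s hs (by
    show aS = 0
    rw [← Category.comp_id aS, ← ec.inv_hom_id, ← Category.assoc, show aS ≫ ec.inv = 0 from h, zero_comp])
  have hclX : PicF.cl (DCoh.shP.obj (H28.ExtFil.TP S 1 1)) = PnEuler.tw n k (-k₀) * PicF.cl E := by
    rw [(cl_eq_iff.2 ⟨eT⟩ : PicF.cl (DCoh.shP.obj (H28.ExtFil.TP S 1 1)) = _), PnEuler.cl_tens]
    show PicF.cl (H28.ExtBase.L (O (n := n) (k := k) (-k₀)) 1) * PicF.cl (H28.ExtBase.L E 1) = _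
    rw [(cl_eq_iff.2 ⟨eB⟩ : PicF.cl (H28.ExtBase.L (O (n := n) (k := k) (-k₀)) 1) = _),
      (cl_eq_iff.2 ⟨eE⟩ : PicF.cl (H28.ExtBase.L E 1) = _)]
  obtain ⟨e1⟩ := cl_eq_iff.1 (show PicF.cl (G.obj (DCoh.shP.obj (H28.ExtFil.TP S 1 1))) = PicF.cl E by
    rw [PnEuler.cl_tens, hclX, ← mul_assoc, PnEuler.tw_add, add_neg_cancel, PnEuler.tw_zero, one_mul])
  obtain ⟨e2⟩ := cl_eq_iff.1 ((PnEuler.cl_tens (O k₀) (O c)).trans (PnEuler.tw_add n k k₀ c))
  have hGα : G.map α ≠ 0 := by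
    intro hG
    apply hα
    have hO := H28.KvbModel.lf_of_rank (rank_O (n := n) (k := k) k₀)
    let I := Limits.image α
    have hT1 : (ShortComplex.mk (Limits.image.ι α) (cokernel.π (Limits.image.ι α)) (cokernel.condition _)).ShortExact :=
      { exact := ShortComplex.exact_cokernel _ }
    have hT1' := CurveTensor.shortExact_tensor hO _ _ _ hT1
    haveI : Mono (G.map (Limits.image.ι α)) := hT1'.mono_f
    have hT2 : (ShortComplex.mk (kernel.ι (Limits.factorThruImage α)) (Limits.factorThruImage α) (kernel.condition _)).ShortExact :=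
      { exact := ShortComplex.exact_kernel _ }
    have hT2' := CurveTensor.shortExact_tensor hO _ _ _ hT2
    haveI : Epi (G.map (Limits.factorThruImage α)) := hT2'.epi_g
    rw [← Limits.image.fac α, Functor.map_comp] at hG
    have hz : IsZero (G.obj I) := (IsZero.iff_id_eq_zero _).2 (by
      rw [← cancel_epi (G.map (Limits.factorThruImage α)), ← cancel_mono (G.map (Limits.image.ι α))]
      refine ((Category.assoc _ _ _).trans ((congrArg (_ ≫ ·) (Category.id_comp _)).trans hG)).trans ?_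
      rw [comp_zero, zero_comp])
    obtain ⟨eI⟩ := cl_eq_iff.1 (show PicF.cl (CohB1.tensorMod (O (-k₀)) (G.obj I)) = PicF.cl I by
      rw [cl_tensor, PnEuler.cl_tens, ← mul_assoc, PnEuler.tw_add, neg_add_cancel, PnEuler.tw_zero, one_mul])
    rw [← Limits.image.fac α, (PnEuler.isZero_tensorMod (O (-k₀)) hz |>.of_iso eI.symm).eq_of_src (Limits.image.ι α) 0, comp_zero]
  obtain ⟨g, hg⟩ := exists_ne_zero (n := n) (k := k) (show k₀ + c ≤ -k₀ by omega)
  haveI := Rank2.mono_of_ne_zero (rank_O (k₀ + c)) (H28.KvbModel.lf_of_rank (rank_O (-k₀))) g hg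
  let t : E ⟶ O (k₀ + c) := e1.inv ≫ G.map α ≫ e2.hom
  have ht : t ≠ 0 := fun h => hGα (by simpa [t] using congrArg (fun z => e1.hom ≫ z ≫ e2.inv) h)
  obtain ⟨a, ha⟩ := hsimple (t ≫ g ≫ s)
  have hφ : t ≫ g ≫ s = a • 𝟙 E := by
    refine (SheafOfModules.toSheaf (CohB1.ProjSpace n k).ringCatSheaf).map_injective ?_
    rw [ha, KLin.smul_id]
    rfl
  by_cases ha0 : a = 0
  · rw [ha0, zero_smul] at hφ
    exact ht ((cancel_mono (g ≫ s)).1 (hφ.trans zero_comp.symm))
  · haveI : Epi s := ⟨fun {Z} u v huv => by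
      have : (a • 𝟙 E) ≫ u = (a • 𝟙 E) ≫ v := by rw [← hφ]; simp [huv]
      simpa [smul_right_inj ha0] using this⟩
    haveI : IsIso s := isIso_of_mono_of_epi s
    have := ((DerSch.stalkFunctor (CohB1.ProjSpace n k) (genericPoint (CohB1.ProjSpace n k))).mapIso
      (asIso s)).toLinearEquiv.finrank_eq
    exact absurd ((CurveCohLib.genRank_eq (rank_O (n := n) (k := k) (-k₀))).symm.trans
      (this.trans (CurveCohLib.genRank_eq hE))) (by norm_num)

end Groth.Agent.Synt29.Rank2Pn
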