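import Mathlib
import Groth.Agent.Synt29.Rank2Pn
import Groth.Agent.Synt29.NullCorr
import Groth.Agent.Synt29.StalkMat
import Groth.Agent.QCoh.HHExact
import Groth.Agent.H28.PBCores
import Groth.Agent.S11486

/-! Bundles presented by a line bundle inside a sum of three line bundles split. -/

set_option autoImplicit false
set_option linter.style.haveILetI false
set_option linter.unusedSectionVars false
set_option backward.isDefEq.respectTransparency false
set_option backward.isDefEq.respectTransparency.types false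
set_option maxHeartbeats 1000000

universe u

open CategoryTheory CategoryTheory.Limits AlgebraicGeometry TopologicalSpace Opposite

noncomputable section

namespace Groth.Agent.Synt29.SubLine

open Groth.Agent Groth.Agent.H23.PicMul

section General

variable {X : Scheme.{u}}

theorem lf {r : ℕ} {M : X.Modules} (h : FlatMod.IsFinLocFreeOfRank r M) : FlatMod.IsFinLocFree M :=
  fun x => let ⟨U, hx, e⟩ := h x; ⟨U, r, hx, e⟩

/-- The second exterior power along a sub line bundle. -/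
theorem exists_ses {S : ShortComplex X.Modules} (hS : S.ShortExact) (h₁ : FlatMod.IsFinLocFreeOfRank 1 S.X₁)
    (h₃ : FlatMod.IsFinLocFree S.X₃) :
    ∃ T : ShortComplex X.Modules, T.ShortExact ∧
      PicF.cl T.X₁ = PicF.cl S.X₁ * PicF.cl S.X₃ ∧
      PicF.cl T.X₂ = PicF.cl (H28.ExtBase.L S.X₂ 2) ∧
      PicF.cl T.X₃ = PicF.cl (H28.ExtBase.L S.X₃ 2) := by
  have hg := H28.ExtFil.exists_good hS (lf h₁) h₃
  have hcl : ∀ i j, PicF.cl (DCoh.shP.obj (H28.ExtFil.TP S i j)) =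
      PicF.cl (H28.ExtBase.L S.X₁ i) * PicF.cl (H28.ExtBase.L S.X₃ j) := fun i j => by
    obtain ⟨e⟩ := H28.ExtFil.nonempty_tensor_iso (S := S) i j
    exact (cl_eq_iff.2 ⟨e⟩).trans (PnEuler.cl_tens _ _)
  have hT20 : IsZero (DCoh.shP.obj (H28.ExtFil.TP S 2 0)) := by
    obtain ⟨e⟩ := H28.ExtFil.nonempty_tensor_iso (S := S) 2 0
    refine IsZero.of_iso ?_ e
    haveI : ((DCoh.tensorBi (X := X)).flip.obj (H28.ExtBase.L S.X₃ 0)).Additive :=
      Functor.additive_of_preserves_binary_products _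
    exact Functor.map_isZero ((DCoh.tensorBi (X := X)).flip.obj (H28.ExtBase.L S.X₃ 0))
      (H28.KvbModel.isZero_L h₁ one_lt_two)
  obtain ⟨θ, w, hlast⟩ := H28.ExtFil.last hg (show 2 + 0 = 2 from rfl)
  have eL : PicF.cl (H28.ExtBase.L S.X₂ 2) = PicF.cl (cokernel (H28.ExtFil.a S (show 2 + 0 = 2 from rfl))) := by
    haveI := hlast.epi_g
    haveI : Mono (cokernel.π (H28.ExtFil.a S (show 2 + 0 = 2 from rfl))) :=
      hlast.exact.mono_g (hT20.eq_of_src _ _)
    haveI := isIso_of_mono_of_epi (cokernel.π (H28.ExtFil.a S (show 2 + 0 = 2 from rfl)))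
    exact cl_eq_iff.2 ⟨asIso (cokernel.π (H28.ExtFil.a S (show 2 + 0 = 2 from rfl)))⟩
  obtain ⟨θ₁, q₁, w₁, h11⟩ := H28.ExtFil.step hg (i := 1) (j := 0) (n := 2) rfl rfl
  obtain ⟨θ₀, q₀, w₀, h02⟩ := H28.ExtFil.step hg (i := 0) (j := 1) (n := 2) rfl rfl
  have hC0 : IsZero (H28.ExtFil.C (S := S) 2 0 2 rfl) := by
    haveI := H28.ExtFil.epi_a_zero (S := S) 2
    exact isZero_cokernel_of_epi (H28.ExtFil.a S (Nat.zero_add 2))
  haveI : Mono θ₀ := h02.mono_f
  haveI : Epi θ₀ := h02.exact.epi_f (hC0.eq_of_tgt _ _)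
  haveI := isIso_of_mono_of_epi θ₀
  refine ⟨_, h11, ?_, eL.symm, ?_⟩
  · show PicF.cl (DCoh.shP.obj (H28.ExtFil.TP S 1 1)) = _
    obtain ⟨e₁⟩ := H28.ExtSh.nonempty_iso_L (lf h₁) (H28.KvbLam.isExtPow_one S.X₁)
    obtain ⟨e₃⟩ := H28.ExtSh.nonempty_iso_L h₃ (H28.KvbLam.isExtPow_one S.X₃)
    rw [hcl, cl_eq_iff.2 ⟨e₁⟩, cl_eq_iff.2 ⟨e₃⟩]
  · show PicF.cl (H28.ExtFil.C (S := S) 2 1 1 rfl) = _
    obtain ⟨e₀⟩ := H28.ExtSh.nonempty_iso_L (lf h₁) (H28.KvbLam.isExtPow_zero S.X₁)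
    rw [← show PicF.cl (DCoh.shP.obj (H28.ExtFil.TP S 0 2)) = PicF.cl (H28.ExtFil.C (S := S) 2 1 1 rfl) from
      cl_eq_iff.2 ⟨asIso θ₀⟩, hcl, cl_eq_iff.2 ⟨e₀⟩, ← one_def, one_mul]

end General

attribute [local instance] Groth.Agent.QCoh.hasFiniteBiproducts

variable {n : ℕ} {k : Type u} [Field k] [QuasiSeparated (CohB1.ProjSpace.toSpec n k)]

local instance : (CohB1.ProjSpace n k).Over (Spec (CommRingCat.of k)) :=
  ⟨CohB1.ProjSpace.toSpec n k⟩

local notation "O" => Rank2Pn.O (n := n) (k := k)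

theorem rank_of_cl {r : ℕ} {M M' : (CohB1.ProjSpace n k).Modules} (h : PicF.cl M = PicF.cl M')
    (h' : FlatMod.IsFinLocFreeOfRank r M') : FlatMod.IsFinLocFreeOfRank r M := fun x => by
  obtain ⟨e₀⟩ := cl_eq_iff.1 h
  obtain ⟨U, hx, ⟨e⟩⟩ := h' x
  exact ⟨U, hx, ⟨(Scheme.Modules.restrictFunctor U.ι).mapIso e₀ ≪≫ e⟩⟩

/-- All twists have no cohomology in the given band. -/
def Van (lo hi : ℕ) (M : (CohB1.ProjSpace n k).Modules) : Prop :=
  ∀ (j : ℤ) (q : ℕ), lo ≤ q → q ≤ hi →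
    Subsingleton (Coh.HH (CohB1.ProjSpace n k) ((DCoh.tensorBi.flip.obj (O j)).obj M) q)

theorem isEquivalence_twist (j : ℤ) : (DCoh.tensorBi.flip.obj (O j)).IsEquivalence :=
  (PnDual.twistEquivalence (PnDual.coordsR k n) PnDual.coordsR_mem PnDual.coordsR_cover j (-j)
    (add_neg_cancel j)).isEquivalence_functor

theorem shortExact_twist (j : ℤ) {S : ShortComplex (CohB1.ProjSpace n k).Modules} (hS : S.ShortExact) :
    haveI : (DCoh.tensorBi.flip.obj (O j)).Additive := Functor.additive_of_preserves_binary_products _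
    (S.map (DCoh.tensorBi.flip.obj (O j))).ShortExact := by
  haveI := isEquivalence_twist (n := n) (k := k) j
  haveI : (DCoh.tensorBi.flip.obj (O j)).Additive := Functor.additive_of_preserves_binary_products _
  exact hS.map_of_exact (DCoh.tensorBi.flip.obj (O j))

theorem van_of_cl {lo hi : ℕ} {M M' : (CohB1.ProjSpace n k).Modules} (h : PicF.cl M = PicF.cl M')
    (hM : Van lo hi M) : Van lo hi M' := fun j q h1 h2 => by
  obtain ⟨e⟩ := cl_eq_iff.1 h
  exact QCoh.subsingleton_HH_of_iso ((DCoh.tensorBi.flip.obj (O j)).mapIso e) q (hM j q h1 h2)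

theorem van_line {lo hi : ℕ} (hlo : 1 ≤ lo) (hhi : hi < n) {M : (CohB1.ProjSpace n k).Modules}
    (hM : FlatMod.IsFinLocFreeOfRank 1 M) : Van lo hi M := fun j q h1 h2 => by
  obtain ⟨d, ⟨e⟩⟩ := Rank2Pn.exists_iso_O hM
  obtain ⟨e'⟩ := cl_eq_iff.1 ((PnEuler.cl_tens M (O j)).trans
    ((congrArg (· * _) (cl_eq_iff.2 ⟨e⟩)).trans (PnEuler.tw_add n k d j)))
  exact QCoh.subsingleton_HH_of_iso e'.symm q (NullCorr.vanish_twist_line _ q (by omega) (by omega))

theorem van_biprod {lo hi : ℕ} {A B : (CohB1.ProjSpace n k).Modules} (hA : Van lo hi A) (hB : Van lo hi B) :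
    Van lo hi (A ⊞ B) := fun j q h1 h2 => by
  haveI : (DCoh.tensorBi.flip.obj (O j)).Additive := Functor.additive_of_preserves_binary_products _
  haveI : PreservesFiniteBiproducts (DCoh.tensorBi.flip.obj (O j)) := Functor.preservesFiniteBiproductsOfAdditive _
  haveI := preservesBinaryBiproducts_of_preservesBiproducts (DCoh.tensorBi.flip.obj (O j))
  exact QCoh.subsingleton_HH_of_iso ((DCoh.tensorBi.flip.obj (O j)).mapBiprod A B).symm q
    (NullCorr.subsingleton_biprod q (hA j q h1 h2) (hB j q h1 h2))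

theorem van_right {lo hi : ℕ} {S : ShortComplex (CohB1.ProjSpace n k).Modules} (hS : S.ShortExact)
    (h₂ : Van lo hi S.X₂) (h₁ : Van (lo + 1) (hi + 1) S.X₁) : Van lo hi S.X₃ := fun j q h1 h2 =>
  PnHodge.subsingleton_right k (shortExact_twist j hS) q (h₂ j q h1 h2) (h₁ j (q + 1) (by omega) (by omega))

theorem van_right' {lo hi : ℕ} {A B E : (CohB1.ProjSpace n k).Modules} (f : A ⟶ B) (g : B ⟶ E) (w : f ≫ g = 0)
    (hS : (ShortComplex.mk f g w).ShortExact) (h₂ : Van lo hi B) (h₁ : Van (lo + 1) (hi + 1) A) : Van lo hi E :=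
  fun j q h1 h2 =>
    PnHodge.subsingleton_right k (shortExact_twist j hS) q (h₂ j q h1 h2) (h₁ j (q + 1) (by omega) (by omega))

theorem van_left {lo hi : ℕ} {S : ShortComplex (CohB1.ProjSpace n k).Modules} (hS : S.ShortExact)
    (h₂ : Van (lo + 1) (hi + 1) S.X₂) (h₃ : Van lo hi S.X₃) : Van (lo + 1) (hi + 1) S.X₁ := fun j q h1 h2 => by
  obtain ⟨q', rfl⟩ : ∃ q', q = q' + 1 := ⟨q - 1, by omega⟩
  exact PnHodge.subsingleton_left k (shortExact_twist j hS) q' (h₂ j _ (by omega) (by omega))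
    (h₃ j q' (by omega) (by omega))

theorem van_mid {lo hi : ℕ} {S : ShortComplex (CohB1.ProjSpace n k).Modules} (hS : S.ShortExact)
    (h₁ : Van lo hi S.X₁) (h₃ : Van lo hi S.X₃) : Van lo hi S.X₂ := fun j q h1 h2 =>
  QCoh.subsingleton_HH_X₂ (shortExact_twist j hS) q (h₁ j q h1 h2) (h₃ j q h1 h2)

/-- The split sequence of a biproduct. -/
theorem shortExact_biprod (A B : (CohB1.ProjSpace n k).Modules) :
    (ShortComplex.mk (biprod.inl : A ⟶ A ⊞ B) biprod.snd biprod.inl_snd).ShortExact :=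
  (ShortComplex.Splitting.ofHasBinaryBiproduct A B).shortExact

theorem rank_biprod {r s : ℕ} {M N : (CohB1.ProjSpace n k).Modules} (hM : FlatMod.IsFinLocFreeOfRank r M)
    (hN : FlatMod.IsFinLocFreeOfRank s N) : FlatMod.IsFinLocFreeOfRank (r + s) (M ⊞ N) := by
  have hS := shortExact_biprod M N
  intro x
  obtain ⟨U₁, hx₁, ⟨e₁⟩⟩ := hM x
  obtain ⟨s', hs'⟩ := H23.Frame.exists_frame e₁
  obtain ⟨U₃, hx₃, ⟨e₃⟩⟩ := hN x
  obtain ⟨s'', hs''⟩ := H23.Frame.exists_frame e₃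
  obtain ⟨U, t, hxU, ht⟩ := H28.ExtFil.exists_frame_mid hS hs' hs'' hx₁ hx₃
  exact ⟨U, hxU, H23.Frame.exists_iso_of_frame t ht⟩

/-- A coproduct of two objects is their biproduct. -/
def two (T : Fin 2 → (CohB1.ProjSpace n k).Modules) : (∐ T) ≅ T 0 ⊞ T 1 where
  hom := Sigma.desc fun j => Fin.cases (biprod.inl : T 0 ⟶ T 0 ⊞ T 1)
    (fun i => Fin.cases (biprod.inr : T 1 ⟶ T 0 ⊞ T 1) (fun l => l.elim0) i) j
  inv := biprod.desc (Sigma.ι T 0) (Sigma.ι T 1)
  hom_inv_id := Sigma.hom_ext _ _ fun j => by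
    refine Fin.cases ?_ (fun i => Fin.cases ?_ (fun l => l.elim0) i) j
    · simp
    · rw [Sigma.ι_desc_assoc, Fin.cases_succ, Fin.cases_zero, biprod.inr_desc, Category.comp_id]
      rfl
  inv_hom_id := biprod.hom_ext' _ _ (by simp) (by simp; rfl)

theorem van_tensor_line {lo hi : ℕ} {M M' C : (CohB1.ProjSpace n k).Modules} (hC : FlatMod.IsFinLocFreeOfRank 1 C)
    (h : PicF.cl M' = PicF.cl C * PicF.cl M) (hM : Van lo hi M) : Van lo hi M' := fun j q hq hq' => by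
  obtain ⟨d, ⟨ed⟩⟩ := Rank2Pn.exists_iso_O hC
  obtain ⟨e⟩ := cl_eq_iff.1 (show PicF.cl ((DCoh.tensorBi.flip.obj (O (d + j))).obj M) =
      PicF.cl ((DCoh.tensorBi.flip.obj (O j)).obj M') by
    refine (PnEuler.cl_tens M (O (d + j))).trans (Eq.trans ?_ (PnEuler.cl_tens M' (O j)).symm)
    rw [h, cl_eq_iff.2 ⟨ed⟩, mul_comm (PicF.cl (O d)) (PicF.cl M), mul_assoc]
    exact congrArg _ (PnEuler.tw_add n k d j).symm)
  exact QCoh.subsingleton_HH_of_iso e q (hM (d + j) q hq hq')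

theorem van_untensor_line {lo hi : ℕ} {M M' C : (CohB1.ProjSpace n k).Modules} (hC : FlatMod.IsFinLocFreeOfRank 1 C)
    (h : PicF.cl M = PicF.cl C * PicF.cl M') (hM : Van lo hi M) : Van lo hi M' := fun j q hq hq' => by
  obtain ⟨d, ⟨ed⟩⟩ := Rank2Pn.exists_iso_O hC
  obtain ⟨e⟩ := cl_eq_iff.1 (show PicF.cl ((DCoh.tensorBi.flip.obj (O (j - d))).obj M) =
      PicF.cl ((DCoh.tensorBi.flip.obj (O j)).obj M') by
    refine (PnEuler.cl_tens M (O (j - d))).trans (Eq.trans ?_ (PnEuler.cl_tens M' (O j)).symm)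
    rw [h, cl_eq_iff.2 ⟨ed⟩, mul_right_comm, mul_comm (PicF.cl M')]
    exact congrArg (· * PicF.cl M') ((PnEuler.tw_add n k d (j - d)).trans (by rw [add_sub_cancel])))
  exact QCoh.subsingleton_HH_of_iso e q (hM (j - d) q hq hq')

/-- A rank two quotient of three line bundles by a line bundle splits. -/
theorem exists_split [IsAlgClosed k] [CharZero k] (hn : 3 ≤ n) {A B C E : (CohB1.ProjSpace n k).Modules}
    (hA : FlatMod.IsFinLocFreeOfRank 1 A) (hB : FlatMod.IsFinLocFreeOfRank 1 B)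
    (hC : FlatMod.IsFinLocFreeOfRank 1 C) (hE : FlatMod.IsFinLocFreeOfRank 2 E) (π : C ⊞ (A ⊞ B) ⟶ E) [Epi π] :
    ∃ a b : ℤ, Nonempty (E ≅ Twist.twistProjSpace n k a ⊞ Twist.twistProjSpace n k b) := by
  haveI : IsLocallyNoetherian (CohB1.ProjSpace n k) := PnCoh.Finite.isLocallyNoetherian_projSpace n k
  have hAB : FlatMod.IsFinLocFreeOfRank 2 (A ⊞ B) := rank_biprod hA hB
  have hF : FlatMod.IsFinLocFreeOfRank 3 (C ⊞ (A ⊞ B)) := rank_biprod hC hAB
  have hK : FlatMod.IsFinLocFreeOfRank 1 (kernel π) := StalkMat.rank_kernel π hF hE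
  have hS : (ShortComplex.mk (kernel.ι π) π (kernel.condition π)).ShortExact :=
    { exact := ShortComplex.exact_kernel π }
  have hABv : ∀ lo hi, 1 ≤ lo → hi < n → Van lo hi (A ⊞ B) := fun lo hi h1 h2 =>
    van_biprod (van_line h1 h2 hA) (van_line h1 h2 hB)
  have hFv : Van 1 (n - 2) (C ⊞ (A ⊞ B)) :=
    van_biprod (lo := 1) (hi := n - 2) (van_line le_rfl (by omega) hC) (hABv 1 (n - 2) le_rfl (by omega))
  have hKv : Van (1 + 1) (n - 2 + 1) (kernel π) :=
    van_line (lo := 1 + 1) (hi := n - 2 + 1) (by omega) (by omega) hK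
  have h1 : Van 1 (n - 2) E := by
    exact van_right' (lo := 1) (hi := n - 2) _ _ _ hS hFv hKv
  obtain ⟨T, hT, hT1, hT2, hT3⟩ := exists_ses (shortExact_biprod C (A ⊞ B)) hC (lf hAB)
  obtain ⟨U, hU, hU1, hU2, hU3⟩ := exists_ses hS hK (lf hE)
  have hL : Van (1 + 1) (n - 2 + 1) U.X₂ := van_of_cl (hT2.trans hU2.symm)
    (van_mid hT (van_tensor_line hC hT1 (hABv _ _ (by omega) (by omega)))
      (van_line (by omega) (by omega) (rank_of_cl hT3 (H28.PBCores.rank_top hAB))))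
  have h2 : Van (1 + 1) (n - 2 + 1) E := van_untensor_line hK hU1
    (van_left hU hL (van_line le_rfl (by omega) (rank_of_cl hU3 (H28.PBCores.rank_top hE))))
  obtain ⟨a, ⟨e⟩⟩ := (S11486.result k n 2 E hE).2 fun i d hi hin => by
    rcases le_or_gt i (n - 2) with h | h
    · exact h1 d i hi h
    · exact h2 d i (by omega) (by omega)
  exact ⟨a 0, a 1, ⟨e ≪≫ two (fun j => Twist.twistProjSpace n k (a j))⟩⟩

end Groth.Agent.Synt29.SubLine
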