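import Groth.Agent.Synt29.CommonFact
import Groth.Agent.S8656
import Groth.Agent.S5018
import Groth.Agent.S1488
import Groth.Agent.RegConormal.Free
import Groth.Agent.UnivThick.Lci
import Groth.Agent.KZ.Basic
import Groth.Agent.BigOpen.Ddual
import Groth.Agent.QCoh.LocFree
import Groth.Prelude.Def_KRR

/-! The virtual cotangent class of a factorisation. -/

set_option autoImplicit false

universe u

open CategoryTheory CategoryTheory.Limits AlgebraicGeometry TopologicalSpace Opposite ZeroObject

namespace Groth.Agent.Synt29.VirtClass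

/-- the conormal sequence of a smooth morphism -/
theorem exists_ses {X W V : Scheme.{u}} (p : W ⟶ V) [Smooth p] (j : X ⟶ W) [IsImmersion j] [QuasiCompact j]
    (i : X ⟶ V) [IsImmersion i] [QuasiCompact i] (h : j ≫ p = i) :
    ∃ (Ωp : W.Modules) (dp : OmegaSh.Der p Ωp) (_ : OmegaSh.IsUniversal dp)
      (a : Omega.conormal i ⟶ Omega.conormal j) (b : Omega.conormal j ⟶ (Scheme.Modules.pullback j).obj Ωp)
      (w : a ≫ b = 0), (ShortComplex.mk a b w).ShortExact := by
  obtain ⟨Ωp, dp, hdp⟩ := OmegaExists.exists_isUniversal p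
  obtain ⟨ψ, hψ, -⟩ := S9371.result j i p (𝟙 X) ((Category.id_comp i).trans h.symm)
  obtain ⟨φ, hφ⟩ := GrpOmega.exists_conormalDiff p j Ωp dp
  obtain ⟨w, hS⟩ := S9711.result p j i h Ωp dp hdp ψ hψ φ hφ
  let e := (Scheme.Modules.pullbackId X).app (Omega.conormal i)
  refine ⟨Ωp, dp, hdp, e.inv ≫ ψ, φ, by rw [Category.assoc, w, comp_zero], ?_⟩
  exact ShortComplex.shortExact_of_iso
    (ShortComplex.isoMk (S₁ := ShortComplex.mk ψ φ w) (S₂ := ShortComplex.mk (e.inv ≫ ψ) φ (by rw [Category.assoc, w, comp_zero]))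
      e (Iso.refl _) (Iso.refl _) (by simp) (by simp)) hS

/-- the pulled back differentials of a smooth morphism -/
theorem isFinLocFree_pullback_omega {X V Y : Scheme.{u}} (g : V ⟶ Y) [Smooth g] (i : X ⟶ V) (Ω : V.Modules)
    (d : OmegaSh.Der g Ω) (hd : OmegaSh.IsUniversal d) :
    FlatMod.IsFinLocFree ((Scheme.Modules.pullback i).obj Ω) :=
  KFlatLib.isFinLocFree_pullback i (S5018.result g ((S1488.result g).1 inferInstance).2 Ω d hd)

/-- the conormal sheaf of a factorisation of a local complete intersection morphism -/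
theorem isFinLocFree_conormal {X V Y : Scheme.{u}} (f : X ⟶ Y) (hf : ∀ x : X, Synt.IsKoszulAt f x)
    (g : V ⟶ Y) [Smooth g] (i : X ⟶ V) [IsClosedImmersion i] (h : i ≫ g = f) :
    FlatMod.IsFinLocFree (Omega.conormal i) :=
  RegConormal.isFinLocFree_conormal_h1 i
    (UnivThick.isRegularImmersion_h1_of_koszul (S8656.result f hf g i h))

/-- finite locally free modules are additive in short exact sequences, in K₀ -/
theorem cl_ses {X : Scheme.{u}} {A B C : X.Modules} (a : A ⟶ B) (b : B ⟶ C) (w : a ≫ b = 0)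
    (hS : (ShortComplex.mk a b w).ShortExact) (hA : FlatMod.IsFinLocFree A) (hB : FlatMod.IsFinLocFree B)
    (hC : FlatMod.IsFinLocFree C) : KRR.cl X B = KRR.cl X A + KRR.cl X C :=
  KZ.clSub_ses _ hS hA hB hC

theorem cl_iso {X : Scheme.{u}} {A B : X.Modules} (e : A ≅ B) (hA : FlatMod.IsFinLocFree A)
    (hB : FlatMod.IsFinLocFree B) : KRR.cl X A = KRR.cl X B := by
  have hS : (ShortComplex.mk (0 : (0 : X.Modules) ⟶ A) e.hom zero_comp).ShortExact :=
    KZ.shortExact_iso_zero e (isZero_zero _)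
  have h0 : FlatMod.IsFinLocFree (0 : X.Modules) := fun x =>
    ⟨⊤, 0, trivial, ⟨((Scheme.Modules.restrictFunctor (⊤ : X.Opens).ι).map_isZero (isZero_zero _)).iso
      (by rw [IsZero.iff_id_eq_zero]; exact Sigma.hom_ext _ _ fun b => Fin.elim0 b)⟩⟩
  exact KZ.clSub_iso _ e hA hB (isZero_zero _) h0

/-- ranks of stalks of finite locally free modules are additive in short exact sequences -/
theorem finrank_stalk_ses {X : Scheme.{u}} {A B C : X.Modules} (a : A ⟶ B) (b : B ⟶ C) (w : a ≫ b = 0)
    (hS : (ShortComplex.mk a b w).ShortExact) (hA : FlatMod.IsFinLocFree A)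
    (hC : FlatMod.IsFinLocFree C) (x : X) :
    Module.finrank (X.presheaf.stalk x) (B.presheaf.stalk x) =
      Module.finrank (X.presheaf.stalk x) (A.presheaf.stalk x) +
        Module.finrank (X.presheaf.stalk x) (C.presheaf.stalk x) := by
  have h := hS.map_of_exact (DerSch.stalkFunctor X x)
  haveI : Module.Free (X.presheaf.stalk x) (((DerSch.stalkFunctor X x).obj A) : Type u) :=
    QCoh.free_stalk_of_isFinLocFree hA x
  haveI : Module.Free (X.presheaf.stalk x) (((DerSch.stalkFunctor X x).obj C) : Type u) :=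
    QCoh.free_stalk_of_isFinLocFree hC x
  haveI : Module.Finite (X.presheaf.stalk x) (((DerSch.stalkFunctor X x).obj A) : Type u) :=
    QCoh.finite_stalk_of_isFT (QCoh.isQCoh_of_isFinLocFree hA)
      (QCoh.isFT_of_isFP (QCoh.isFP_of_isFinLocFree hA)) x
  haveI : Module.Finite (X.presheaf.stalk x) (((DerSch.stalkFunctor X x).obj C) : Type u) :=
    QCoh.finite_stalk_of_isFT (QCoh.isQCoh_of_isFinLocFree hC)
      (QCoh.isFT_of_isFP (QCoh.isFP_of_isFinLocFree hC)) x
  have sp : Function.Exact (((DerSch.stalkFunctor X x).map a).hom) (((DerSch.stalkFunctor X x).map b).hom) :=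
    (ShortComplex.ShortExact.moduleCat_exact_iff_function_exact _).1 h.exact
  obtain ⟨l, hl⟩ := Module.projective_lifting_property ((DerSch.stalkFunctor X x).map b).hom LinearMap.id
    h.moduleCat_surjective_g
  let E := (sp.splitSurjectiveEquiv h.moduleCat_injective_f ⟨l, hl⟩).1
  exact (LinearEquiv.finrank_eq E).trans Module.finrank_prod

/-- the rank of a module free of rank `n` near `x` -/
theorem finrank_stalk_of_restrict {X : Scheme.{u}} {M : X.Modules} (hM : FlatMod.IsFinLocFree M) {n : ℕ}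
    (U : X.Opens) {x : X} (hx : x ∈ U)
    (h : FlatMod.IsFinLocFreeOfRank n ((Scheme.Modules.restrictFunctor U.ι).obj M)) :
    Module.finrank (X.presheaf.stalk x) (M.presheaf.stalk x) = n := by
  obtain ⟨V, hV, hxV, -, ⟨b⟩⟩ := BigOpen.exists_basis_affine h hx
  exact QCoh.finrank_stalk_of_freeChart hV (QCoh.isQCoh_of_isFinLocFree hM)
    ((b.reindex Equiv.ulift.symm).repr) hxV

end Groth.Agent.Synt29.VirtClass
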