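import Mathlib
import Groth.Agent.SiteBase.KInjSections
import Groth.Agent.SiteBase.AbSecExact
import Groth.Agent.SiteBase.DLim.Single
import Groth.Agent.SiteBase.CechCtx

/-! The hypercohomology of a bounded below complex of acyclic sheaves is the cohomology of its sections. -/

set_option autoImplicit false
set_option linter.style.haveILetI false

universe u

open CategoryTheory CategoryTheory.Limits Opposite Abelian

namespace Groth.Agent.Synt29.HyperSections

open Groth.Agent.SiteBase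

variable {C : Type u} [SmallCategory C] {J : GrothendieckTopology C}

/-- Higher cohomology over `U` vanishes. -/
def Acyclic (G : Sheaf J AddCommGrpCat.{u}) (U : C) : Prop := ∀ q : ℕ, Subsingleton (CohSite.HU G (q + 1) U)

theorem Acyclic.eq_zero {G : Sheaf J AddCommGrpCat.{u}} {U : C} (h : Acyclic G U) (q : ℕ)
    (x : Ext (CohCx.freeSheaf J U) G (q + 1)) : x = 0 :=
  @Subsingleton.elim _ (h q) _ _

theorem acyclic_of_injective (G : Sheaf J AddCommGrpCat.{u}) [Injective G] (U : C) : Acyclic G U :=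
  fun _ => ⟨fun (x y : Ext (CohCx.freeSheaf J U) G _) => (x.eq_zero_of_injective).trans (y.eq_zero_of_injective).symm⟩

theorem acyclic_of_isZero {G : Sheaf J AddCommGrpCat.{u}} (hG : IsZero G) (U : C) : Acyclic G U :=
  letI : HasDerivedCategory (Sheaf J AddCommGrpCat.{u}) := HasDerivedCategory.standard _
  fun q => ⟨fun (x y : Ext (CohCx.freeSheaf J U) G (q + 1)) => by
    haveI : Injective G := hG.injective
    exact (x.eq_zero_of_injective).trans (y.eq_zero_of_injective).symm⟩

variable {S : ShortComplex (Sheaf J AddCommGrpCat.{u})}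

theorem acyclic_X₃ (hS : S.ShortExact) (U : C) (h₁ : Acyclic S.X₁ U) (h₂ : Acyclic S.X₂ U) : Acyclic S.X₃ U := by
  haveI : HasDerivedCategory (Sheaf J AddCommGrpCat.{u}) := HasDerivedCategory.standard _
  refine fun q => ⟨fun (x y : Ext (CohCx.freeSheaf J U) S.X₃ (q + 1)) => ?_⟩
  suffices key : ∀ z : Ext (CohCx.freeSheaf J U) S.X₃ (q + 1), z = 0 from (key x).trans (key y).symm
  intro z
  obtain ⟨w, rfl⟩ := Ext.covariant_sequence_exact₃ _ hS z (rfl : q + 1 + 1 = q + 2) (h₁.eq_zero (q + 1) _)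
  rw [h₂.eq_zero q w, Ext.zero_comp]

theorem surjective_sections (hS : S.ShortExact) (U : C) (h₁ : Acyclic S.X₁ U) :
    Function.Surjective (S.g.hom.app (op U)).hom := by
  intro s
  obtain ⟨w, hw⟩ := Ext.covariant_sequence_exact₃ _ hS (Ext.mk₀ ((secEquiv J U S.X₃).symm s))
    (rfl : 0 + 1 = 1) (h₁.eq_zero 0 _)
  obtain ⟨w₀, rfl⟩ := (Ext.mk₀_bijective _ _).2 w
  rw [Ext.mk₀_comp_mk₀] at hw
  exact ⟨secEquiv J U S.X₂ w₀, (secEquiv_comp U w₀ S.g).symm.trans
    ((congrArg (secEquiv J U S.X₃) ((Ext.mk₀_bijective _ _).1 hw)).trans (AddEquiv.apply_symm_apply _ _))⟩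

/-- Sections of an exact bounded below complex of acyclic sheaves form an exact complex. -/
theorem exists_preimage (Q : CochainComplex (Sheaf J AddCommGrpCat.{u}) ℤ) (hex : ∀ i, Q.ExactAt i) (a : ℤ)
    (hz : ∀ i, i < a → IsZero (Q.X i)) (U : C) (hac : ∀ i, Acyclic (Q.X i) U) (i : ℤ)
    (x : (Q.X (i + 1)).obj.obj (op U)) (hx : ((Q.d (i + 1) (i + 2)).hom.app (op U)).hom x = 0) :
    ∃ y, ((Q.d i (i + 1)).hom.app (op U)).hom y = x := by
  let S : ℤ → ShortComplex (Sheaf J AddCommGrpCat.{u}) := fun i =>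
    ShortComplex.mk (kernel.ι (Q.d i (i + 1))) (kernel.lift (Q.d (i + 1) (i + 1 + 1)) (Q.d i (i + 1)) (Q.d_comp_d _ _ _))
      (by rw [← cancel_mono (kernel.ι (Q.d (i + 1) (i + 1 + 1))), Category.assoc, kernel.lift_ι, kernel.condition,
        zero_comp])
  have hS : ∀ i, (S i).ShortExact := fun i => by
    have hm : Mono (S i).f := inferInstanceAs (Mono (kernel.ι _))
    have : Epi (S i).g := ((HomologicalComplex.exactAt_iff' Q i (i + 1) (i + 1 + 1) (by simp) (by simp)).1
      (hex (i + 1))).epi_kernelLift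
    refine ShortComplex.ShortExact.mk' (ShortComplex.exact_of_f_is_kernel _ ?_) hm this
    refine KernelFork.IsLimit.ofι' _ _ fun {W} g hg => ⟨kernel.lift _ g ?_, kernel.lift_ι _ _ _⟩
    calc g ≫ Q.d i (i + 1) = (g ≫ (S i).g) ≫ kernel.ι _ := by
          rw [Category.assoc]; exact congrArg (g ≫ ·) (kernel.lift_ι _ _ _).symm
      _ = 0 := by rw [hg, zero_comp]
  have hZ : ∀ (n : ℕ) (i : ℤ), i < a + n → Acyclic (kernel (Q.d i (i + 1))) U := by
    intro n
    induction n with
    | zero => intro i hi; exact acyclic_of_isZero (IsZero.of_mono (kernel.ι _) (hz i (by simpa using hi))) U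
    | succ n ih =>
      intro i hi
      obtain ⟨j, rfl⟩ : ∃ j, i = j + 1 := ⟨i - 1, by omega⟩
      exact acyclic_X₃ (hS j) U (ih j (by push_cast at hi; omega)) (hac j)
  obtain ⟨z, hz'⟩ := exists_kernel_section (ShortComplex.mk (Q.d i (i + 1)) (Q.d (i + 1) (i + 1 + 1))
    (Q.d_comp_d _ _ _)) U x (by
      have : i + 1 + 1 = i + 2 := by omega
      rw [this]; exact hx)
  obtain ⟨y, hy⟩ := surjective_sections (hS i) U (hZ ((i - a).toNat + 1) i (by omega)) z
  refine ⟨y, ?_⟩
  have e : (S i).g ≫ kernel.ι _ = Q.d i (i + 1) := kernel.lift_ι _ _ _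
  rw [← e]
  exact (congrArg _ hy).trans hz'

section

variable {K I Q : CochainComplex (Sheaf J AddCommGrpCat.{u}) ℤ} {φ : K ⟶ I} {ψ : I ⟶ Q} (U : C)

/-- On sections, a short exact sequence with exact cokernel complex is a quasi-isomorphism. -/
theorem sections_qis (w : φ ≫ ψ = 0) (hS : ∀ i, (ShortComplex.mk (φ.f i) (ψ.f i)
      (by rw [← HomologicalComplex.comp_f, w]; rfl)).ShortExact)
    (hKac : ∀ i, Acyclic (K.X i) U)
    (hQ : ∀ i (x : (Q.X i).obj.obj (op U)), ((Q.d i (i + 1)).hom.app (op U)).hom x = 0 →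
      ∃ y, ((Q.d (i - 1) i).hom.app (op U)).hom y = x) (q : ℤ) :
    (∀ z : (I.X q).obj.obj (op U), ((I.d q (q + 1)).hom.app (op U)).hom z = 0 →
      ∃ (x : (K.X q).obj.obj (op U)) (y : (I.X (q - 1)).obj.obj (op U)),
        ((K.d q (q + 1)).hom.app (op U)).hom x = 0 ∧
        ((φ.f q).hom.app (op U)).hom x + ((I.d (q - 1) q).hom.app (op U)).hom y = z) ∧
    (∀ x : (K.X q).obj.obj (op U), (∃ y, ((I.d (q - 1) q).hom.app (op U)).hom y = ((φ.f q).hom.app (op U)).hom x) →
      ∃ v, ((K.d (q - 1) q).hom.app (op U)).hom v = x) := by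
  have cφ : ∀ i j (x : (K.X i).obj.obj (op U)), ((φ.f j).hom.app (op U)).hom (((K.d i j).hom.app (op U)).hom x) =
      ((I.d i j).hom.app (op U)).hom (((φ.f i).hom.app (op U)).hom x) := fun i j x =>
    (congrArg (fun t => (t.hom.app (op U)).hom x) (φ.comm i j)).symm
  have cψ : ∀ i j (x : (I.X i).obj.obj (op U)), ((ψ.f j).hom.app (op U)).hom (((I.d i j).hom.app (op U)).hom x) =
      ((Q.d i j).hom.app (op U)).hom (((ψ.f i).hom.app (op U)).hom x) := fun i j x =>
    (congrArg (fun t => (t.hom.app (op U)).hom x) (ψ.comm i j)).symm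
  have cI : ∀ i j k (x : (I.X i).obj.obj (op U)),
      ((I.d j k).hom.app (op U)).hom (((I.d i j).hom.app (op U)).hom x) = 0 := fun i j k x =>
    congrArg (fun t => (t.hom.app (op U)).hom x) (I.d_comp_d i j k)
  have hinj : ∀ i, Function.Injective ((φ.f i).hom.app (op U)).hom := fun i => by
    have : Mono (φ.f i) := (hS i).mono_f
    exact sheaf_app_injective (φ.f i) U
  have hker : ∀ i (z : (I.X i).obj.obj (op U)), ((ψ.f i).hom.app (op U)).hom z = 0 →
      ∃ x, ((φ.f i).hom.app (op U)).hom x = z := fun i => sections_exact (hS i) U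
  have hsur : ∀ i, Function.Surjective ((ψ.f i).hom.app (op U)).hom := fun i => surjective_sections (hS i) U (hKac i)
  refine ⟨fun z hz => ?_, fun x ⟨y, hy⟩ => ?_⟩
  · obtain ⟨w', hw'⟩ := hQ q (((ψ.f q).hom.app (op U)).hom z) (by rw [← cψ, hz, map_zero])
    obtain ⟨y, rfl⟩ := hsur _ w'
    obtain ⟨x, hx⟩ := hker q (z - ((I.d (q - 1) q).hom.app (op U)).hom y)
      (by rw [map_sub, cψ, hw', sub_self])
    refine ⟨x, y, hinj _ ?_, by rw [hx, sub_add_cancel]⟩
    rw [cφ, hx, map_sub, hz, cI, sub_self, map_zero]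
  · obtain ⟨j', hj⟩ : ∃ j', q - 1 = j' := ⟨_, rfl⟩
    obtain rfl : q = j' + 1 := by omega
    revert y
    rw [hj]
    intro y hy
    obtain ⟨w', hw'⟩ := hQ j' (((ψ.f j').hom.app (op U)).hom y) (by
      rw [← cψ, hy]
      exact congrArg (fun t => (t.hom.app (op U)).hom x) (congrArg (fun t : K ⟶ Q => t.f (j' + 1)) w))
    obtain ⟨y', rfl⟩ := hsur _ w'
    obtain ⟨v, hv⟩ := hker j' (y - ((I.d (j' - 1) j').hom.app (op U)).hom y')
      (by rw [map_sub, cψ, hw', sub_self])
    refine ⟨v, hinj _ ?_⟩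
    rw [cφ, hv, map_sub, hy, cI, sub_zero]

end

variable [HasDerivedCategory.{u} (Sheaf J AddCommGrpCat.{u})]

/-- The cycles of the sections in degree `q`. -/
abbrev cyc (K : CochainComplex (Sheaf J AddCommGrpCat.{u}) ℤ) (U : C) (q : ℤ) :
    AddSubgroup ((K.X q).obj.obj (op U)) :=
  ((K.d q (q + 1)).hom.app (op U)).hom.ker

theorem exists_hom (K : CochainComplex (Sheaf J AddCommGrpCat.{u}) ℤ) (a : ℤ) [K.IsStrictlyGE a] (U : C)
    (hac : ∀ i, Acyclic (K.X i) U) (q : ℤ) :
    ∃ Φ : cyc K U q →+ CohCx.HDU (DerivedCategory.Q.obj K) q U, Function.Surjective Φ ∧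
      ∀ x, Φ x = 0 ↔ ∃ y, ((K.d (q - 1) q).hom.app (op U)).hom y = x.1 := by
  obtain ⟨I, φ, hmono, hqis, hinj, hI⟩ :=
    CochainComplex.Plus.modelCategoryQuillen.exists_mono_quasiIso_injective K (a - 1) a (by omega)
  haveI := hmono; haveI := hqis; haveI := hI; haveI := hinj
  haveI : I.IsKInjective := CochainComplex.isKInjective_of_injective I (a - 1)
  let S : ShortComplex (CochainComplex (Sheaf J AddCommGrpCat.{u}) ℤ) :=
    ShortComplex.mk φ (cokernel.π φ) (cokernel.condition φ)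
  haveI : CategoryWithHomology (CochainComplex (Sheaf J AddCommGrpCat.{u}) ℤ) :=
    categoryWithHomology_of_abelian (C := CochainComplex (Sheaf J AddCommGrpCat.{u}) ℤ)
  haveI : S.HasHomology := CategoryWithHomology.hasHomology S
  have hS : S.ShortExact :=
    { exact := ShortComplex.exact_of_g_is_cokernel S (cokernelIsCokernel φ)
      mono_f := inferInstanceAs (Mono φ)
      epi_g := inferInstanceAs (Epi (cokernel.π φ)) }
  have hSi := fun i => (HomologicalComplex.shortExact_iff_degreewise_shortExact S).1 hS i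
  have hex : ∀ i, (cokernel φ).ExactAt i := fun i => by
    rw [HomologicalComplex.exactAt_iff_isZero_homology]
    haveI : ∀ j, IsIso (HomologicalComplex.homologyMap φ j) := fun j =>
      (quasiIsoAt_iff_isIso_homologyMap φ j).1 (hqis.quasiIsoAt j)
    have hf : HomologicalComplex.homologyMap (cokernel.π φ) i = 0 := by
      rw [← cancel_epi (HomologicalComplex.homologyMap φ i), ← HomologicalComplex.homologyMap_comp,
        cokernel.condition, HomologicalComplex.homologyMap_zero, comp_zero]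
    have hg : hS.δ i (i + 1) rfl = 0 := by
      rw [← cancel_mono (HomologicalComplex.homologyMap φ (i + 1)), zero_comp]
      exact hS.δ_comp i (i + 1) rfl
    exact (hS.homology_exact₃ i (i + 1) rfl).isZero_X₂ hf hg
  have hQac : ∀ i, Acyclic ((cokernel φ).X i) U := fun i =>
    acyclic_X₃ (hSi i) U (hac i) (acyclic_of_injective (I.X i) U)
  have hQz : ∀ i, i < a - 1 → IsZero ((cokernel φ).X i) := fun i hi => by
    haveI : Epi ((cokernel.π φ).f i) := (hSi i).epi_g
    exact IsZero.of_epi ((cokernel.π φ).f i) (I.isZero_of_isStrictlyGE (a - 1) i hi)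
  obtain ⟨hsurjH, hinjH⟩ := sections_qis U (cokernel.condition φ) hSi hac (fun i x hx => by
    obtain ⟨j, rfl⟩ : ∃ j, i = j + 1 := ⟨i - 1, by omega⟩
    have h2 : j + 1 + 1 = j + 2 := by omega
    rw [h2] at hx
    have h := exists_preimage (cokernel φ) hex (a - 1) hQz U hQac j x hx
    rwa [add_sub_cancel_right]) q
  have hc : ∀ x : cyc K U q,
      (secEquiv J U (I.X q)).symm (((φ.f q).hom.app (op U)).hom x.1) ≫ I.d q (q + 1) = 0 := fun x => by
    rw [secEquiv_symm_comp]
    refine (congrArg (secEquiv J U _).symm ?_).trans (map_zero _)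
    refine (congrArg (fun t => (t.hom.app (op U)).hom x.1) (φ.comm q (q + 1))).trans ?_
    exact (congrArg ((φ.f (q + 1)).hom.app (op U)).hom x.2).trans (map_zero _)
  haveI : IsIso (DerivedCategory.Q.map φ) := inferInstance
  let e : CohCx.HDU (DerivedCategory.Q.obj I) q U ≃+ CohCx.HDU (DerivedCategory.Q.obj K) q U :=
    { toFun := fun z => z ≫ (inv (DerivedCategory.Q.map φ))⟦q⟧'
      invFun := fun z => z ≫ (DerivedCategory.Q.map φ)⟦q⟧'
      left_inv := fun z => by simp [← Functor.map_comp]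
      right_inv := fun z => by simp [← Functor.map_comp]
      map_add' := fun z z' => Preadditive.add_comp _ _ _ _ _ _ }
  let Φ₀ : cyc K U q →+ CohCx.HDU (DerivedCategory.Q.obj I) q U :=
    AddMonoidHom.mk' (fun x => KInjSections.singleCls I q _ (hc x))
      (fun x y => KInjSections.singleCls_add I q (by rw [← map_add, ← map_add]; rfl) _ _ _)
  refine ⟨e.toAddMonoidHom.comp Φ₀, e.surjective.comp ?_, fun x => ?_⟩
  · intro z
    obtain ⟨f, hf, rfl⟩ := KInjSections.exists_singleCls I q (P := CohCx.freeSheaf J U) z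
    obtain ⟨x, y, hx, hxy⟩ := hsurjH (secEquiv J U (I.X q) f) (by rw [← secEquiv_comp, hf, map_zero])
    refine ⟨⟨x, hx⟩, sub_eq_zero.1 ?_⟩
    have hd : ((secEquiv J U (I.X q)).symm (((I.d (q - 1) q).hom.app (op U)).hom y)) ≫ I.d q (q + 1) = 0 := by
      rw [← secEquiv_symm_comp, Category.assoc, I.d_comp_d, comp_zero]
    have h0 : KInjSections.singleCls I q _ hd = 0 :=
      (KInjSections.singleCls_eq_zero_iff I q _ hd).2 ⟨_, secEquiv_symm_comp U y _⟩
    have h1 := KInjSections.singleCls_add I q (k := f) (by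
      rw [← (secEquiv J U (I.X q)).symm.map_add, hxy, AddEquiv.symm_apply_apply]) hf (hc ⟨x, hx⟩) hd
    rw [h0, add_zero] at h1
    exact sub_eq_zero.2 h1.symm
  · refine (map_eq_zero_iff e e.injective).trans ((KInjSections.singleCls_eq_zero_iff I q _ (hc x)).trans ⟨?_, ?_⟩)
    · rintro ⟨g, hg⟩
      exact hinjH x.1 ⟨secEquiv J U _ g, by rw [← secEquiv_comp, hg, AddEquiv.apply_symm_apply]⟩
    · rintro ⟨v, hv⟩
      refine ⟨(secEquiv J U _).symm (((φ.f (q - 1)).hom.app (op U)).hom v), ?_⟩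
      rw [secEquiv_symm_comp, ← hv]
      exact congrArg (secEquiv J U _).symm
        (congrArg (fun t => (t.hom.app (op U)).hom v) (φ.comm (q - 1) q))

end Groth.Agent.Synt29.HyperSections
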