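import Mathlib
import Groth.Prelude.Def_DRing2
import Groth.Agent.CxLib.Homology
import Groth.Agent.EtGlue7.Flat
import Groth.Agent.WLocalLib.WEtale

/-!
# Tor amplitude of two-term complexes
-/

set_option autoImplicit false
set_option linter.style.haveILetI false
set_option backward.isDefEq.respectTransparency.types false

universe u

open CategoryTheory CategoryTheory.Limits

namespace Groth.Agent.Synt29

variable {B : Type u} [CommRing B]

/-- If two maps into a two-term complex have bijective effect on kernel and cokernel and the source `(E₁ → E₀)`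
is flat, with `F` projective, then `C` is flat for the other source `(C → F)`. -/
theorem flat_of_twoTerm {C F E1 E0 Y1 Y0 : Type u} [AddCommGroup C] [Module B C] [AddCommGroup F] [Module B F]
    [AddCommGroup E1] [Module B E1] [AddCommGroup E0] [Module B E0] [AddCommGroup Y1] [Module B Y1]
    [AddCommGroup Y0] [Module B Y0] [Module.Projective B F] [Module.Flat B E1] [Module.Flat B E0]
    (dY : Y1 →ₗ[B] Y0)
    (iC : C →ₗ[B] Y1 × F) (f0 : F →ₗ[B] Y0) (hiC : Function.Injective iC)
    (hC : Function.Exact iC (dY.coprod f0)) (hfs : Function.Surjective (dY.coprod f0))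
    (iE : E1 →ₗ[B] Y1 × E0) (s0 : E0 →ₗ[B] Y0) (hiE : Function.Injective iE)
    (hE : Function.Exact iE (dY.coprod s0)) (hss : Function.Surjective (dY.coprod s0)) :
    Module.Flat B C := by
  let Φ : (Y1 × F) × E0 →ₗ[B] Y0 := (dY.coprod f0).coprod s0
  let Q := LinearMap.ker Φ
  have hΦ : ∀ y v w, Φ ((y, v), w) = dY y + f0 v + s0 w := fun y v w => rfl
  let π : Q →ₗ[B] F := (LinearMap.snd B Y1 F).comp ((LinearMap.fst B (Y1 × F) E0).comp Q.subtype)
  have hπ : Function.Surjective π := fun v => by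
    obtain ⟨⟨y, w⟩, h⟩ := hss (-f0 v)
    refine ⟨⟨((y, v), w), ?_⟩, rfl⟩
    rw [LinearMap.coprod_apply] at h
    rw [LinearMap.mem_ker, hΦ, add_right_comm, h, neg_add_cancel]
  let j : E1 →ₗ[B] Q := LinearMap.codRestrict Q
    ((((LinearMap.fst B Y1 E0).comp iE).prod 0).prod ((LinearMap.snd B Y1 E0).comp iE)) fun e => by
      rw [LinearMap.mem_ker]
      show dY (iE e).1 + f0 0 + s0 (iE e).2 = 0
      rw [map_zero, add_zero]
      exact hE.apply_apply_eq_zero e
  have hj : Function.Injective j := fun a b h => hiE (by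
    have h' := congrArg Subtype.val h
    exact Prod.ext (congrArg (fun z : (Y1 × F) × E0 => z.1.1) h') (congrArg (fun z : (Y1 × F) × E0 => z.2) h'))
  have hjπ : Function.Exact j π := by
    intro z
    constructor
    · intro hz
      obtain ⟨⟨⟨y, v⟩, w⟩, hq⟩ := z
      replace hz : v = 0 := hz
      subst hz
      rw [LinearMap.mem_ker, hΦ, map_zero, add_zero] at hq
      obtain ⟨e, he⟩ := (hE (y, w)).1 hq
      exact ⟨e, Subtype.ext (show (((iE e).1, (0 : F)), (iE e).2) = ((y, (0 : F)), w) by rw [he])⟩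
    · rintro ⟨e, rfl⟩
      rfl
  obtain ⟨σ, hσ⟩ := Module.projective_lifting_property π LinearMap.id hπ
  obtain ⟨e, -, -⟩ := hjπ.splitSurjectiveEquiv hj ⟨σ, hσ⟩
  haveI : Module.Flat B (E1 × F) := WLocalLib.flat_prod
  haveI : Module.Flat B Q := Module.Flat.of_linearEquiv e
  let p : Q →ₗ[B] E0 := (LinearMap.snd B (Y1 × F) E0).comp Q.subtype
  have hp : Function.Surjective p := fun w => by
    obtain ⟨⟨y, v⟩, h⟩ := hfs (-s0 w)
    refine ⟨⟨((y, v), w), ?_⟩, rfl⟩
    rw [LinearMap.coprod_apply] at h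
    rw [LinearMap.mem_ker, hΦ, h, neg_add_cancel]
  let k : C →ₗ[B] Q := LinearMap.codRestrict Q (iC.prod 0) fun c => by
    rw [LinearMap.mem_ker]
    show dY (iC c).1 + f0 (iC c).2 + s0 0 = 0
    rw [map_zero, add_zero]
    exact hC.apply_apply_eq_zero c
  have hk : Function.Injective k := fun a b h => hiC (congrArg (fun z : (Y1 × F) × E0 => z.1) (congrArg Subtype.val h))
  have hkp : Function.Exact k p := by
    intro z
    constructor
    · intro hz
      obtain ⟨⟨⟨y, v⟩, w⟩, hq⟩ := z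
      replace hz : w = 0 := hz
      subst hz
      rw [LinearMap.mem_ker, hΦ, map_zero, add_zero] at hq
      obtain ⟨c, hc⟩ := (hC (y, v)).1 hq
      exact ⟨c, Subtype.ext (show (iC c, (0 : E0)) = ((y, v), (0 : E0)) by rw [hc])⟩
    · rintro ⟨c, rfl⟩
      rfl
  exact EtGlue7.flat_ker k p hkp hp hk

section Complexes

variable (K E : CochainComplex (ModuleCat.{u} B) ℤ)

theorem subsingleton_of_isZero {M : ModuleCat.{u} B} (h : IsZero M) : Subsingleton M :=
  ModuleCat.isZero_iff_subsingleton.1 h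

/-- The mapping cone of a quasi-isomorphism of two-term complexes is exact, elementwise. -/
theorem cone_exact_of_quasiIso {K Y : CochainComplex (ModuleCat.{u} B) ℤ} (f : K ⟶ Y) [QuasiIso f]
    (hK1 : IsZero (K.X 1)) (hK2 : IsZero (K.X (-2))) (hY1 : IsZero (Y.X 1)) (hY2 : IsZero (Y.X (-2))) :
    Function.Injective (((f.f (-1)).hom).prod (-(K.d (-1) 0).hom)) ∧
      Function.Exact (((f.f (-1)).hom).prod (-(K.d (-1) 0).hom)) ((Y.d (-1) 0).hom.coprod (f.f 0).hom) ∧
      Function.Surjective ((Y.d (-1) 0).hom.coprod (f.f 0).hom) := by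
  haveI := subsingleton_of_isZero hK1
  haveI := subsingleton_of_isZero hK2
  haveI := subsingleton_of_isZero hY1
  haveI := subsingleton_of_isZero hY2
  have hcomm : ∀ x, (Y.d (-1) 0).hom ((f.f (-1)).hom x) = (f.f 0).hom ((K.d (-1) 0).hom x) := fun x =>
    congrArg (fun φ => φ.hom x) (f.comm (-1) 0)
  have hm1 := (CxLib.mono_homologyMap_iff f (-1) (-2) 0 (by simp) (by simp)).1 inferInstance
  have he1 := (CxLib.epi_homologyMap_iff f (-1) (-2) 0 (by simp) (by simp)).1 inferInstance
  have hm0 := (CxLib.mono_homologyMap_iff f 0 (-1) 1 (by simp) (by simp)).1 inferInstance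
  have he0 := (CxLib.epi_homologyMap_iff f 0 (-1) 1 (by simp) (by simp)).1 inferInstance
  refine ⟨?_, ?_, ?_⟩
  · rw [injective_iff_map_eq_zero]
    intro x hx
    rw [LinearMap.prod_apply] at hx
    have h1 : (f.f (-1)).hom x = 0 := congrArg Prod.fst hx
    have h2 : (K.d (-1) 0).hom x = 0 := neg_eq_zero.1 (congrArg Prod.snd hx)
    obtain ⟨w, hw⟩ := hm1 x h2 ⟨0, by rw [map_zero, h1]⟩
    rw [← hw, Subsingleton.elim w 0, map_zero]
  · intro z
    constructor
    · obtain ⟨u, v⟩ := z
      intro h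
      rw [LinearMap.coprod_apply] at h
      obtain ⟨w, hw⟩ := hm0 v (Subsingleton.elim _ _) ⟨-u, by rw [map_neg, neg_eq_iff_add_eq_zero]; exact h⟩
      obtain ⟨x, hx, w', hw'⟩ := he1 (u + (f.f (-1)).hom w) (by rw [map_add, hcomm, hw]; exact h)
      rw [Subsingleton.elim w' 0, map_zero, eq_comm, sub_eq_zero] at hw'
      refine ⟨x - w, Prod.ext ?_ ?_⟩
      · show (f.f (-1)).hom (x - w) = u
        rw [map_sub, ← hw', add_sub_cancel_right]
      · show -(K.d (-1) 0).hom (x - w) = v
        rw [map_sub, hx, hw, zero_sub, neg_neg]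
    · rintro ⟨x, rfl⟩
      show (Y.d (-1) 0).hom ((f.f (-1)).hom x) + (f.f 0).hom (-(K.d (-1) 0).hom x) = 0
      rw [map_neg, hcomm, add_neg_cancel]
  · intro y
    obtain ⟨x, -, w, hw⟩ := he0 y (Subsingleton.elim _ _)
    exact ⟨(w, x), by rw [LinearMap.coprod_apply, hw, sub_add_cancel]⟩

attribute [local instance] HasDerivedCategory.standard

/-- A complex `C → F` with `F` projective has tor amplitude in `[-1, 0]` only if `C` is flat. -/
theorem flat_of_hasTorAmplitudeIn {K : DRing.Cx B} (hK : DRing.VanishesOutside K (-1) 0)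
    [Module.Projective B (K.X 0)] (h : DRing.HasTorAmplitudeIn B (-1) 0 (DRing.toD K)) :
    Module.Flat B (K.X (-1)) := by
  obtain ⟨E, hE, hEflat, ⟨e⟩⟩ := h
  haveI : K.IsStrictlyLE 0 := (CochainComplex.isStrictlyLE_iff K 0).2 fun i hi => hK i (Or.inr hi)
  haveI : E.IsStrictlyLE 0 := (CochainComplex.isStrictlyLE_iff E 0).2 fun i hi => hE i (Or.inr hi)
  haveI : E.IsStrictlyGE (-1) := (CochainComplex.isStrictlyGE_iff E (-1)).2 fun i hi => hE i (Or.inl hi)
  obtain ⟨Y, _, _, g, s, hs, hfac⟩ := DerivedCategory.left_fac_of_isStrictlyLE_of_isStrictlyGE (-1) 0 e.inv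
  haveI hqs : QuasiIso s := (DerivedCategory.isIso_Q_map_iff_quasiIso _ s).1 hs
  haveI : IsIso (DerivedCategory.Q.map g) := by
    have : DerivedCategory.Q.map g = e.inv ≫ DerivedCategory.Q.map s := by rw [hfac, Category.assoc, IsIso.inv_hom_id, Category.comp_id]
    rw [this]
    infer_instance
  haveI hqg : QuasiIso g := (DerivedCategory.isIso_Q_map_iff_quasiIso _ g).1 inferInstance
  have hY1 : IsZero (Y.X 1) := Y.isZero_of_isStrictlyLE 0 1 (by lia)
  have hY2 : IsZero (Y.X (-2)) := Y.isZero_of_isStrictlyGE (-1) (-2) (by lia)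
  obtain ⟨a1, a2, a3⟩ := cone_exact_of_quasiIso g (hK 1 (Or.inr (by lia))) (hK (-2) (Or.inl (by lia))) hY1 hY2
  obtain ⟨b1, b2, b3⟩ := cone_exact_of_quasiIso s (hE 1 (Or.inr (by lia))) (hE (-2) (Or.inl (by lia))) hY1 hY2
  haveI := hEflat (-1)
  haveI := hEflat 0
  exact flat_of_twoTerm _ _ _ a1 a2 a3 _ _ b1 b2 b3

/-- A complex of flat modules in degrees `-1, 0` has tor amplitude in `[-1, 0]`. -/
theorem hasTorAmplitudeIn_self {K : DRing.Cx B} (hK : DRing.VanishesOutside K (-1) 0) (hflat : DRing.TermwiseFlat K) :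
    DRing.HasTorAmplitudeIn B (-1) 0 (DRing.toD K) :=
  ⟨K, hK, hflat, ⟨Iso.refl _⟩⟩

end Complexes

end Groth.Agent.Synt29
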