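import Groth.Agent.Synt29.SecMap
import Mathlib.LinearAlgebra.Matrix.Charpoly.LinearMap

/-!
# The module of compatible systems of sections for a regular element
-/

set_option autoImplicit false
set_option linter.style.haveILetI false
set_option linter.unusedSectionVars false
set_option backward.isDefEq.respectTransparency false
set_option backward.isDefEq.respectTransparency.types false
set_option maxHeartbeats 1000000

universe u

open CategoryTheory CategoryTheory.Limits AlgebraicGeometry Opposite TopologicalSpace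
open Groth.Agent Groth.Agent.LocCohDepth.Punct
open Groth.Agent.PnCoh.Finite (mapLin)

noncomputable section

namespace Groth.Agent.Synt29.FormalLimFinite

variable {A : Type u} [CommRing A]

/-- An element acting as a scalar kills a module on which it maps into `I` times the module. -/
theorem exists_kill {C : Type u} [AddCommGroup C] [Module A C] [Module.Finite A C] (f h : A) (k : ℕ)
    (hC : ∀ x : C, ∃ z, h ^ k • x = f • z) :
    ∃ (d : ℕ) (r : A), r - h ^ d ∈ Ideal.span {f} ∧ ∀ x : C, r • x = 0 := by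
  let φ : C →ₗ[A] C := h ^ k • LinearMap.id
  have hr : LinearMap.range φ ≤ Ideal.span {f} • ⊤ := by
    rintro _ ⟨x, rfl⟩
    obtain ⟨z, hz⟩ := hC x
    show h ^ k • x ∈ _
    rw [hz]
    exact Submodule.smul_mem_smul (Ideal.mem_span_singleton_self f) trivial
  obtain ⟨P, hmon, -, hcoef, hP⟩ := LinearMap.exists_monic_and_natDegree_eq_and_coeff_mem_pow_and_aeval_eq_zero A φ (Ideal.span {f}) hr
  refine ⟨k * P.natDegree, P.eval (h ^ k), ?_, fun x => ?_⟩
  · rw [Polynomial.eval_eq_sum_range, Finset.sum_range_succ, hmon.coeff_natDegree, one_mul, ← pow_mul,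
      add_sub_cancel_right]
    refine Ideal.sum_mem _ fun i hi => Ideal.mul_mem_right _ _ ?_
    exact (Ideal.pow_le_self (by have := Finset.mem_range.1 hi; omega)) (hcoef i)
  · have he : φ = algebraMap A (Module.End A C) (h ^ k) := rfl
    rw [he, Polynomial.aeval_algebraMap_apply_eq_algebraMap_eval] at hP
    exact LinearMap.congr_fun hP x

/-- It is enough to test generators. -/
theorem exists_smul_eq_of_span {C : Type u} [AddCommGroup C] [Module A C] (f h : A) (k : ℕ) (S : Set C)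
    (hS : Submodule.span A S = ⊤) (hmem : ∀ x ∈ S, ∃ z, h ^ k • x = f • z) (x : C) :
    ∃ z, h ^ k • x = f • z := by
  have hx : x ∈ Submodule.span A S := hS ▸ trivial
  induction hx using Submodule.span_induction with
  | mem x hx => exact hmem x hx
  | zero => exact ⟨0, by rw [smul_zero, smul_zero]⟩
  | add a b _ _ ha hb =>
    obtain ⟨za, hza⟩ := ha
    obtain ⟨zb, hzb⟩ := hb
    exact ⟨za + zb, by rw [smul_add, hza, hzb, smul_add]⟩
  | smul c a _ ha =>
    obtain ⟨za, hza⟩ := ha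
    exact ⟨c • za, by rw [smul_comm, hza, smul_comm]⟩

/-- A step modulo a submodule. -/
theorem step_quot {G : Type u} [AddCommGroup G] [Module A G] (rg : Submodule A G) (f h : A) {k K : ℕ} (hle : k ≤ K)
    {x w z : G} (hw : w ∈ rg) (hk : h ^ k • x = w + f • z) : ∃ z', h ^ K • rg.mkQ x = f • z' := by
  obtain ⟨e, rfl⟩ := Nat.exists_eq_add_of_le hle
  refine ⟨h ^ e • rg.mkQ z, ?_⟩
  rw [pow_add, mul_comm, mul_smul, ← LinearMap.map_smul rg.mkQ (h ^ k), hk, map_add,
    show rg.mkQ w = 0 from (Submodule.Quotient.mk_eq_zero rg).2 hw, zero_add, LinearMap.map_smul, smul_comm]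

variable [IsNoetherianRing A] (f : A) (𝔞 : Ideal A) (N : ModuleCat.{u} (CommRingCat.of A))

local notation "U" => LocCoh.puncturedOpen A 𝔞

/-- Compatible systems. -/
def sys : Submodule A (∀ i, FormalSectU.Γ₀ U (FormalSectU.Q f N i)) where
  carrier := {y | ∀ i, FormalSectU.m₀ U (FormalSectU.tr f N (Nat.le_succ i)) (y (i + 1)) = y i}
  zero_mem' i := map_zero _
  add_mem' {x y} hx hy i := by rw [Pi.add_apply, map_add, hx i, hy i]; rfl
  smul_mem' c x hx i := by rw [Pi.smul_apply, LinearMap.map_smul, hx i]; rfl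

/-- The map to compatible systems. -/
def R : N →ₗ[A] sys f 𝔞 N where
  toFun m := ⟨fun i => FormalSectU.m₀ U (FormalSectU.q f N i) (GrLib8.PuncturedLC.cmap U N m), fun i => by
    rw [FormalSectU.m₀_comp, FormalSectU.q_tr]⟩
  map_add' a b := Subtype.ext (funext fun i => by
    show FormalSectU.m₀ U _ (GrLib8.PuncturedLC.cmap U N (a + b)) = _
    rw [map_add, map_add]; rfl)
  map_smul' c a := Subtype.ext (funext fun i => by
    show FormalSectU.m₀ U _ (GrLib8.PuncturedLC.cmap U N (c • a)) = _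
    rw [LinearMap.map_smul, LinearMap.map_smul]; rfl)

variable {f 𝔞 N}

/-- Multiplication by `f^n` between the quotients. -/
def μ (f : A) (N : ModuleCat.{u} (CommRingCat.of A)) (n k : ℕ) : FormalSectU.Q f N k ⟶ FormalSectU.Q f N (n + k) :=
  ModuleCat.ofHom (Submodule.mapQ ((Ideal.span {f}) ^ k • ⊤ : Submodule A N)
    ((Ideal.span {f}) ^ (n + k) • ⊤ : Submodule A N) ((f ^ n) • LinearMap.id) (fun x hx => by
      obtain ⟨z, rfl⟩ := (FAdicLim.mem_pow_span f k x).1 hx
      exact (FAdicLim.mem_pow_span f (n + k) _).2 ⟨z, by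
        show f ^ n • f ^ k • z = _
        rw [pow_add, mul_smul]⟩))

theorem μ_comp_tr (f : A) (N : ModuleCat.{u} (CommRingCat.of A)) (n k : ℕ) :
    μ f N n k ≫ FormalSectU.tr f N (Nat.le_add_right n k) = 0 :=
  ModuleCat.hom_ext (Submodule.linearMap_qext _ (LinearMap.ext fun x =>
    (Submodule.Quotient.mk_eq_zero _).2 ((FAdicLim.mem_pow_span f n _).2 ⟨x, rfl⟩)))

/-- The sequence `N/f^k → N/f^(n+k) → N/f^n`. -/
abbrev E (f : A) (N : ModuleCat.{u} (CommRingCat.of A)) (n k : ℕ) : ShortComplex (ModuleCat.{u} (CommRingCat.of A)) :=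
  ShortComplex.mk (μ f N n k) (FormalSectU.tr f N (Nat.le_add_right n k)) (μ_comp_tr f N n k)

theorem shortExact_E (hreg : IsSMulRegular N f) (n k : ℕ) : (E f N n k).ShortExact :=
  have hregn : ∀ a b : N, f ^ n • a = f ^ n • b → a = b := fun a b hab => (hreg.pow n) hab
  { exact := by
      rw [ShortComplex.moduleCat_exact_iff]
      intro y hy
      obtain ⟨y, rfl⟩ := Submodule.Quotient.mk_surjective _ y
      obtain ⟨z, hz⟩ := (FAdicLim.mem_pow_span f n y).1 ((Submodule.Quotient.mk_eq_zero _).1 hy)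
      exact ⟨Submodule.Quotient.mk z, congrArg Submodule.Quotient.mk hz.symm⟩
    mono_f := (ModuleCat.mono_iff_injective _).2 (by
      rw [injective_iff_map_eq_zero]
      intro z hz
      obtain ⟨z, rfl⟩ := Submodule.Quotient.mk_surjective _ z
      obtain ⟨w, hw⟩ := (FAdicLim.mem_pow_span f (n + k) _).1 ((Submodule.Quotient.mk_eq_zero _).1 hz)
      refine (Submodule.Quotient.mk_eq_zero _).2 ((FAdicLim.mem_pow_span f k _).2 ⟨w, hregn _ _ ?_⟩)
      rw [← mul_smul, ← pow_add]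
      exact hw)
    epi_g := (ModuleCat.epi_iff_surjective _).2 (fun y => by
      obtain ⟨y, rfl⟩ := Submodule.Quotient.mk_surjective _ y
      exact ⟨Submodule.Quotient.mk y, rfl⟩) }

theorem htr (y : sys f 𝔞 N) (n e : ℕ) :
    FormalSectU.m₀ U (FormalSectU.tr f N (Nat.le_add_right n e)) (y.1 (n + e)) = y.1 n := by
  induction e with
  | zero =>
    have : FormalSectU.tr f N (Nat.le_add_right n 0) = 𝟙 _ :=
      ModuleCat.hom_ext (Submodule.linearMap_qext _ (LinearMap.ext fun _ => rfl))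
    rw [this, FormalSectU.m₀, CategoryTheory.Functor.map_id]
    exact mapLin_id _ 0 _
  | succ e ih =>
    show FormalSectU.m₀ U (FormalSectU.tr f N ((Nat.le_add_right n e).trans (Nat.le_succ (n + e)))) (y.1 (n + e + 1)) = y.1 n
    refine (LinearMap.congr_fun (congrArg (FormalSectU.m₀ U) (FormalSectU.tr_tr f N (Nat.le_add_right n e) (Nat.le_succ (n + e)))).symm
      (y.1 (n + e + 1))).trans ?_
    rw [← FormalSectU.m₀_comp, y.2 (n + e)]
    exact ih

theorem μ_injective (hreg : IsSMulRegular N f) (n k : ℕ) : Function.Injective (FormalSectU.m₀ U (μ f N n k)) :=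
  (GrLib8.PuncturedLC.mapG_exact₀ U (shortExact_E (f := f) hreg n k)).1

theorem tr_eq (y : sys f 𝔞 N) (k n a : ℕ) (hle : k ≤ a) (ha : a = k + n) :
    y.1 k = FormalSectU.m₀ U (FormalSectU.tr f N hle) (y.1 a) := by
  subst ha
  exact (htr y k n).symm

theorem hdiv (hreg : IsSMulRegular N f) (n : ℕ) (y : sys f 𝔞 N) (hy : y.1 n = 0) :
    ∃ z : sys f 𝔞 N, y = f ^ n • z := by
  have hmem : ∀ k, y.1 (n + k) ∈ LinearMap.range (FormalSectU.m₀ U (μ f N n k)) := fun k =>
    (GrLib8.PuncturedLC.mapG_exact₀ U (shortExact_E (f := f) hreg n k)).2.le (LinearMap.mem_ker.2 ((htr y n k).trans hy))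
  choose z hz using hmem
  refine ⟨⟨z, fun k => μ_injective hreg n k ?_⟩, Subtype.ext (funext fun k => ?_)⟩
  · rw [hz k, FormalSectU.m₀_comp,
      show FormalSectU.tr f N (Nat.le_succ k) ≫ μ f N n k = μ f N n (k + 1) ≫ FormalSectU.tr f N (Nat.le_succ (n + k)) from
        ModuleCat.hom_ext (Submodule.linearMap_qext _ (LinearMap.ext fun _ => rfl)),
      ← FormalSectU.m₀_comp, hz (k + 1)]
    exact y.2 (n + k)
  · show y.1 k = f ^ n • z k
    have hk : ∀ h : k ≤ n + k, μ f N n k ≫ FormalSectU.tr f N h = f ^ n • 𝟙 _ := fun h =>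
      ModuleCat.hom_ext (Submodule.linearMap_qext _ (LinearMap.ext fun _ => rfl))
    rw [← mapLin_smul (FormalSectU.Q f N k) (f ^ n) 0 (z k), ← hk (Nat.le_add_left k n)]
    refine Eq.trans ?_ (FormalSectU.m₀_comp U (μ f N n k) (FormalSectU.tr f N (Nat.le_add_left k n)) (z k))
    rw [hz k]
    exact tr_eq y k n _ _ (Nat.add_comm n k)

theorem finite_sys [IsAdicComplete (Ideal.span {f}) A] [Module.Finite A N] (hreg : IsSMulRegular N f)
    (hfin : Module.Finite A ((localCohomology 𝔞 1).obj (FormalSectU.Q f N 1))) : Module.Finite A (sys f 𝔞 N) := by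
  have hkillQ : ∀ i (x : FormalSectU.Γ₀ U (FormalSectU.Q f N i)), f ^ i • x = 0 := fun i x =>
    FormalSectU.kill_H U i (N := FormalSectU.Q f N i) (fun z => by
      obtain ⟨z, rfl⟩ := Submodule.Quotient.mk_surjective _ z
      exact (Submodule.Quotient.mk_eq_zero _).2 ((FAdicLim.mem_pow_span f i _).2 ⟨z, rfl⟩)) 0 x
  haveI : IsHausdorff (Ideal.span {f}) (sys f 𝔞 N) := ⟨fun y hy => Subtype.ext (funext fun i => by
    obtain ⟨z, hz⟩ := (FAdicLim.mem_pow_span f i y).1 (by
      have := SModEq.sub_mem.1 (hy i)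
      rwa [sub_zero] at this)
    rw [hz]
    exact hkillQ i _)⟩
  let ev1 : sys f 𝔞 N →ₗ[A] FormalSectU.Γ₀ U (FormalSectU.Q f N 1) := (LinearMap.proj 1).comp (sys f 𝔞 N).subtype
  haveI : Module.Finite A (FormalSectU.Q f N 1) :=
    inferInstanceAs (Module.Finite A (N ⧸ ((Ideal.span {f}) ^ 1 • ⊤ : Submodule A N)))
  obtain ⟨e⟩ := GrLib8.PuncturedLC.nonempty_H1 𝔞 (FormalSectU.Q f N 1)
  haveI := hfin
  haveI : Module.Finite A (FormalSectU.Γ₀ U (FormalSectU.Q f N 1) ⧸
      LinearMap.range (GrLib8.PuncturedLC.cmap U (FormalSectU.Q f N 1))) := Module.Finite.equiv e.symm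
  haveI : Module.Finite A (FormalSectU.Γ₀ U (FormalSectU.Q f N 1)) :=
    Module.Finite.of_submodule_quotient (LinearMap.range (GrLib8.PuncturedLC.cmap U (FormalSectU.Q f N 1)))
  obtain ⟨r, gen, hgen⟩ := Submodule.fg_iff_exists_fin_generating_family.1 (IsNoetherian.noetherian (LinearMap.range ev1))
  have hgmem : ∀ j, gen j ∈ LinearMap.range ev1 := fun j => hgen ▸ Submodule.subset_span ⟨j, rfl⟩
  choose G hG using hgmem
  let T : (Fin r → A) →ₗ[A] sys f 𝔞 N := Fintype.linearCombination A G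
  have hstep : ∀ y : sys f 𝔞 N, ∃ c : Fin r → A, ∃ z, y - T c = f • z := fun y => by
    obtain ⟨c, hc⟩ := (Submodule.mem_span_range_iff_exists_fun A).1 (hgen.ge (LinearMap.mem_range_self ev1 y))
    obtain ⟨z, hz⟩ := hdiv hreg 1 (y - T c) (by
      show ev1 (y - T c) = 0
      rw [map_sub, Fintype.linearCombination_apply, map_sum]
      simp only [LinearMap.map_smul, hG]
      rw [hc, sub_self])
    exact ⟨c, z, by rw [hz, pow_one]⟩
  choose c z hz using hstep
  refine Module.Finite.of_surjective T fun y => ?_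
  let Y : ℕ → sys f 𝔞 N := fun n => z^[n] y
  have hY : ∀ n, y = T (∑ l ∈ Finset.range n, f ^ l • c (Y l)) + f ^ n • Y n := fun n => by
    induction n with
    | zero => simp [Y]
    | succ n ih =>
      have hn : Y n = T (c (Y n)) + f • Y (n + 1) := by
        simp only [Y, Function.iterate_succ_apply']
        rw [← hz, add_sub_cancel]
      conv_lhs => rw [ih, hn]
      rw [Finset.sum_range_succ, map_add, smul_add, ← LinearMap.map_smul, smul_smul, ← pow_succ, add_assoc]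
  haveI := Adic7.isAdicComplete_of_finite (I := Ideal.span {f}) (Fin r → A)
  obtain ⟨L, hL⟩ := FAdicLim.exists_sum_limit f fun l => c (Y l)
  refine ⟨L, sub_eq_zero.1 (FAdicLim.eq_zero_of_forall f _ fun i => ?_)⟩
  obtain ⟨w, hw⟩ := hL i
  refine ⟨T w - Y i, ?_⟩
  rw [smul_sub, ← LinearMap.map_smul, ← hw, map_sub]
  conv_lhs => rw [hY i]
  abel

theorem exists_step (hreg : IsSMulRegular N f) {h₀ : A} (hh₀ : h₀ ∈ 𝔞) (y : sys f 𝔞 N) :
    ∃ k : ℕ, ∃ m, ∃ z, h₀ ^ k • y = R f 𝔞 N m + f • z := by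
  obtain ⟨k, hk⟩ := LocCohSec.exists_pow_smul_mem_range (FormalSectU.Q f N 1) 𝔞 (SecMap.toSecU _ (y.1 1))
  obtain ⟨q, hq⟩ := hk (h₀ ^ k) (Ideal.pow_mem_pow hh₀ k)
  obtain ⟨m, rfl⟩ := Submodule.Quotient.mk_surjective _ q
  have hval : (h₀ ^ k • y - R f 𝔞 N m).1 1 = 0 := by
    show h₀ ^ k • y.1 1 - FormalSectU.m₀ U (FormalSectU.q f N 1) (GrLib8.PuncturedLC.cmap U N m) = 0
    rw [GrLib8.PuncturedLC.cmap_natural, sub_eq_zero]
    refine SecMap.toSecU_injective _ ?_
    rw [SecMap.toSecU_smul, SecMap.toSecU_cmap]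
    exact hq.symm
  obtain ⟨z, hz⟩ := hdiv hreg 1 _ hval
  refine ⟨k, m, z, ?_⟩
  rw [pow_one] at hz
  rw [← hz, add_sub_cancel]

theorem exists_step_ker (hreg : IsSMulRegular N f) {h₀ : A} (hh₀ : h₀ ∈ 𝔞) (m : LinearMap.ker (R f 𝔞 N)) :
    ∃ k : ℕ, ∃ z : LinearMap.ker (R f 𝔞 N), h₀ ^ k • m = f • z := by
  have h1 : GrLib8.PuncturedLC.cmap U (FormalSectU.Q f N 1) (Submodule.Quotient.mk (m : N)) = 0 := by
    refine (GrLib8.PuncturedLC.cmap_natural U (FormalSectU.q f N 1) (m : N)).symm.trans ?_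
    exact congrArg (fun y : sys f 𝔞 N => y.1 1) (LinearMap.mem_ker.1 m.2)
  obtain ⟨k, hk⟩ := (GrLib8.PuncturedLC.mem_ker_cmap 𝔞 (FormalSectU.Q f N 1) _).1 (LinearMap.mem_ker.2 h1)
  have := hk (h₀ ^ k) (Ideal.pow_mem_pow hh₀ k)
  obtain ⟨w, hw⟩ := (FAdicLim.mem_pow_span f 1 (h₀ ^ k • (m : N))).1 ((Submodule.Quotient.mk_eq_zero _).1 this)
  rw [pow_one] at hw
  have hwK : w ∈ LinearMap.ker (R f 𝔞 N) := by
    refine LinearMap.mem_ker.2 (Subtype.ext (funext fun i => μ_injective hreg 1 i ?_))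
    have hfR : f • R f 𝔞 N w = 0 := by
      rw [← LinearMap.map_smul, ← hw, LinearMap.map_smul, LinearMap.mem_ker.1 m.2, smul_zero]
    rw [show (0 : sys f 𝔞 N).1 i = 0 from rfl, map_zero]
    have h2 : f • (R f 𝔞 N w).1 (1 + i) = 0 := congrArg (fun y : sys f 𝔞 N => y.1 (1 + i)) hfR
    rw [← h2, ← mapLin_smul (FormalSectU.Q f N (1 + i)) f 0 ((R f 𝔞 N w).1 (1 + i)),
      ← show FormalSectU.tr f N (Nat.le_add_left i 1) ≫ μ f N 1 i = f • 𝟙 _ from
        ModuleCat.hom_ext (Submodule.linearMap_qext _ (LinearMap.ext fun x => by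
          show Submodule.Quotient.mk (f ^ 1 • x) = Submodule.Quotient.mk (f • x)
          rw [pow_one]))]
    refine Eq.trans ?_ (FormalSectU.m₀_comp U _ _ _)
    congr 1
    exact tr_eq (R f 𝔞 N w) i 1 _ _ (Nat.add_comm 1 i)
  exact ⟨k, ⟨w, hwK⟩, Subtype.ext hw⟩

/-- Near a prime of `V(f)` in the open, the module and the compatible systems agree. -/
theorem facts [IsAdicComplete (Ideal.span {f}) A] [Module.Finite A N] (hreg : IsSMulRegular N f)
    (hfin : Module.Finite A ((localCohomology 𝔞 1).obj (FormalSectU.Q f N 1)))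
    (p : Ideal A) (hp : p.IsPrime) (hfp : f ∈ p) (hap : ¬ 𝔞 ≤ p) : ∃ h ∈ 𝔞, h ∉ p ∧
      (∀ y : sys f 𝔞 N, ∃ m, h • y = R f 𝔞 N m) ∧ ∀ m, R f 𝔞 N m = 0 → h • m = 0 := by
  haveI hfinG := finite_sys hreg hfin
  obtain ⟨h₀, hh₀, hh₀p⟩ := SetLike.not_le_iff_exists.1 hap
  have h01 := exists_step (f := f) (N := N) hreg hh₀
  let rg := LinearMap.range (R f 𝔞 N)
  obtain ⟨gs, hgs⟩ := (Module.finite_def.1 hfinG)
  choose kk mm zz hkk using h01
  have hC : ∀ x : (sys f 𝔞 N) ⧸ rg, ∃ z, h₀ ^ gs.sup kk • x = f • z := by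
    refine exists_smul_eq_of_span f h₀ _ (rg.mkQ '' (gs : Set (sys f 𝔞 N))) ?_ ?_
    · rw [Submodule.span_image, hgs, Submodule.map_top, Submodule.range_mkQ]
    · rintro _ ⟨x, hx, rfl⟩
      exact step_quot rg f h₀ (Finset.le_sup (f := kk) hx) (LinearMap.mem_range_self (R f 𝔞 N) (mm x)) (hkk x)
  obtain ⟨d₁, r₁, hr₁, hrC⟩ := exists_kill (C := (sys f 𝔞 N) ⧸ rg) f h₀ (gs.sup kk) hC
  let Kr := LinearMap.ker (R f 𝔞 N)
  have h02 := exists_step_ker (f := f) (N := N) hreg hh₀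
  haveI : IsNoetherian A N := isNoetherian_of_isNoetherianRing_of_finite A N
  obtain ⟨gk, hgk⟩ := Module.finite_def.1 (inferInstance : Module.Finite A Kr)
  choose k2 z2 hk2 using h02
  have hK : ∀ x : Kr, ∃ z, h₀ ^ gk.sup k2 • x = f • z :=
    exists_smul_eq_of_span f h₀ _ (gk : Set Kr) hgk fun x hx => by
      obtain ⟨e, he⟩ := Nat.exists_eq_add_of_le (Finset.le_sup (f := k2) hx)
      exact ⟨h₀ ^ e • z2 x, by rw [he, pow_add, mul_comm, mul_smul, hk2 x, smul_comm]⟩
  obtain ⟨d₂, r₂, hr₂, hrK⟩ := exists_kill (C := Kr) f h₀ (gk.sup k2) hK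
  have hnot : ∀ (d : ℕ) (r : A), r - h₀ ^ d ∈ Ideal.span {f} → r ∉ p := fun d r hr hrp =>
    hh₀p (hp.mem_of_pow_mem d (by
      have := p.sub_mem hrp ((Ideal.span_singleton_le_iff_mem p).2 hfp hr)
      rwa [sub_sub_cancel] at this))
  refine ⟨r₁ * r₂ * h₀, 𝔞.mul_mem_left _ hh₀, ?_, fun y => ?_, fun m hm => ?_⟩
  · intro hc
    rcases hp.mem_or_mem hc with hc | hc
    · rcases hp.mem_or_mem hc with hc | hc
      · exact hnot d₁ r₁ hr₁ hc
      · exact hnot d₂ r₂ hr₂ hc
    · exact hh₀p hc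
  · have h3 := hrC (Submodule.Quotient.mk y)
    rw [← Submodule.Quotient.mk_smul, Submodule.Quotient.mk_eq_zero] at h3
    obtain ⟨m, hm⟩ := h3
    exact ⟨(r₂ * h₀) • m, by rw [LinearMap.map_smul, hm, smul_smul]; congr 1; ring⟩
  · have h3 : r₂ • m = 0 := congrArg Subtype.val (hrK ⟨m, hm⟩)
    rw [show r₁ * r₂ * h₀ = r₁ * h₀ * r₂ by ring, mul_smul, h3, smul_zero]


end Groth.Agent.Synt29.FormalLimFinite
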