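import Groth.Agent.Synt29.HVHigh
import Groth.Agent.Synt29.FormalSectU

/-!
# Bijectivity onto the formal cohomology in positive degrees
-/

set_option autoImplicit false
set_option linter.style.haveILetI false
set_option linter.unusedSectionVars false
set_option backward.isDefEq.respectTransparency false
set_option backward.isDefEq.respectTransparency.types false
set_option maxHeartbeats 1000000

universe u

open CategoryTheory CategoryTheory.Limits AlgebraicGeometry Opposite TopologicalSpace
open Groth.Agent Groth.Agent.LocCohDepth.Punct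
open Groth.Agent.PnCoh.Finite (mapLin deltaLin)
open Abelian (Ext)

noncomputable section

namespace Groth.Agent.Synt29.FormalHigh

variable {A : Type u} [CommRing A] [IsNoetherianRing A] (𝔞 : Ideal A) (f : A)

local notation "U" => LocCoh.puncturedOpen A 𝔞

open HVHigh in
theorem bijective (N : ModuleCat.{u} (CommRingCat.of A)) [Module.Finite A N] (i e : ℕ)
    (h₁ : ∀ x : (localCohomology 𝔞 (i + 2)).obj N, f ^ e • x = 0)
    (h₂ : ∀ x : (localCohomology 𝔞 (i + 3)).obj N, f ^ e • x = 0) :
    (∀ x : H U N (i + 1), (∀ n, m U (FormalSectU.q f N (n + 1)) (i + 1) x = 0) → x = 0) ∧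
      ∀ y : ∀ n, H U (FormalSectU.Q f N (n + 1)) (i + 1),
        (∀ n, m U (FormalSectU.tr f N (Nat.le_succ (n + 1))) (i + 1) (y (n + 1)) = y n) →
          ∃ x : H U N (i + 1), ∀ n, m U (FormalSectU.q f N (n + 1)) (i + 1) x = y n := by
  let K : ℕ →o Submodule A N := ⟨fun n => LinearMap.ker ((f ^ n) • LinearMap.id : N →ₗ[A] N),
    fun k n h x hx => by
      have hx' : f ^ k • x = 0 := hx
      show f ^ n • x = 0
      rw [← Nat.sub_add_cancel h, pow_add, mul_smul, hx', smul_zero]⟩
  obtain ⟨c, hc⟩ := monotone_stabilizes_iff_noetherian.mpr (inferInstance : IsNoetherian A N) K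
  let T : Submodule A N := K c
  let Tn : ModuleCat.{u} (CommRingCat.of A) := ModuleCat.of (CommRingCat.of A) T
  let M' : ModuleCat.{u} (CommRingCat.of A) := ModuleCat.of (CommRingCat.of A) (N ⧸ T)
  let ι₀ : M' ⟶ N := ModuleCat.ofHom (T.liftQ ((f ^ c) • LinearMap.id : N →ₗ[A] N) le_rfl)
  let ι : ℕ → (M' ⟶ N) := fun n => (f ^ (n - c) • 𝟙 M') ≫ ι₀
  have hι : ∀ n, c ≤ n → ∀ x : N, (ι n).hom (Submodule.Quotient.mk x) = f ^ n • x := fun n hn x => by
    show ι₀.hom (f ^ (n - c) • Submodule.Quotient.mk x) = _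
    rw [map_smul]
    show f ^ (n - c) • (f ^ c • x) = _
    rw [← mul_smul, ← pow_add, Nat.sub_add_cancel hn]
  let E : ∀ n, c ≤ n → ShortComplex (ModuleCat.{u} (CommRingCat.of A)) := fun n hn =>
    ShortComplex.mk (ι n) (FormalSectU.q f N n) (by
      refine ModuleCat.hom_ext (Submodule.linearMap_qext _ (LinearMap.ext fun x => ?_))
      show Submodule.Quotient.mk ((ι n).hom (Submodule.Quotient.mk x)) = 0
      rw [hι n hn, Submodule.Quotient.mk_eq_zero, FAdicLim.mem_pow_span]
      exact ⟨x, rfl⟩)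
  have hE : ∀ n hn, (E n hn).ShortExact := fun n hn =>
    { exact := by
        rw [ShortComplex.moduleCat_exact_iff]
        intro x hx
        obtain ⟨z, hz⟩ := (FAdicLim.mem_pow_span f n x).1 ((Submodule.Quotient.mk_eq_zero _).1 hx)
        exact ⟨Submodule.Quotient.mk z, (hι n hn z).trans hz.symm⟩
      mono_f := (ModuleCat.mono_iff_injective _).2 (by
        intro a b hab
        induction a using Submodule.Quotient.induction_on with | _ a => ?_
        induction b using Submodule.Quotient.induction_on with | _ b => ?_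
        replace hab : (ι n).hom (Submodule.Quotient.mk a) = (ι n).hom (Submodule.Quotient.mk b) := hab
        rw [hι n hn, hι n hn] at hab
        refine (Submodule.Quotient.eq T).2 ?_
        show a - b ∈ K c
        rw [hc n hn]
        show f ^ n • (a - b) = 0
        rw [smul_sub, hab, sub_self])
      epi_g := (ModuleCat.epi_iff_surjective _).2 (Submodule.mkQ_surjective _) }
  let S : ShortComplex (ModuleCat.{u} (CommRingCat.of A)) :=
    ShortComplex.mk (ModuleCat.ofHom T.subtype : Tn ⟶ N) (ModuleCat.ofHom T.mkQ : N ⟶ M')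
      (ModuleCat.hom_ext (LinearMap.ext fun x => (Submodule.Quotient.mk_eq_zero _).2 x.2))
  have hS : S.ShortExact :=
    { exact := by
        rw [ShortComplex.moduleCat_exact_iff]
        intro x hx
        exact ⟨⟨x, (Submodule.Quotient.mk_eq_zero _).1 hx⟩, rfl⟩
      mono_f := (ModuleCat.mono_iff_injective _).2 T.injective_subtype
      epi_g := (ModuleCat.epi_iff_surjective _).2 (Submodule.mkQ_surjective _) }
  have hM' : ∀ j, (∀ x : (localCohomology 𝔞 (j + 2)).obj N, f ^ e • x = 0) →
      ∀ x : H U M' (j + 1), m U (f ^ (e + c) • 𝟙 M') (j + 1) x = 0 := fun j hj => by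
    refine kill 𝔞 (f ^ (e + c)) j M' fun x => ?_
    let δ' := deltaLin (CommRingCat.of A) (GrLib8.PuncturedLC.shortExact_G U hS) (j + 1)
    have hδ : δ' (f ^ c • x) = 0 := by
      rw [LinearMap.map_smul]
      exact FormalSectU.kill_H U c (N := Tn) (fun z => Subtype.ext (show f ^ c • (z.1 : N) = 0 from z.2)) (j + 2) _
    obtain ⟨y, hy⟩ := (CurveCohLib.ker_deltaLin (CommRingCat.of A) (GrLib8.PuncturedLC.shortExact_G U hS) (j + 1)).le
      (LinearMap.mem_ker.2 hδ)
    rw [pow_add, mul_smul]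
    refine (congrArg (fun t => f ^ e • t) hy.symm).trans ?_
    obtain ⟨ε⟩ := GrLib8.PuncturedLC.nonempty_HH_succ 𝔞 j N
    have hy0 : f ^ e • y = 0 := ε.injective ((ε.map_smul (f ^ e) y).trans ((hj (ε y)).trans (map_zero ε).symm))
    exact ((LinearMap.map_smul _ (f ^ e) y).symm.trans ((congrArg _ hy0).trans (map_zero _)))
  let d := e + c
  have hfac : ∀ (j k : ℕ), (∀ x : (localCohomology 𝔞 (j + 2)).obj N, f ^ e • x = 0) → d ≤ k →
      ∀ z : H U M' (j + 1), m U (f ^ k • 𝟙 M') (j + 1) z = 0 := fun j k hj hk z => by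
    obtain ⟨r, rfl⟩ := Nat.exists_eq_add_of_le hk
    have h : f ^ (d + r) • 𝟙 M' = (f ^ d • 𝟙 M') ≫ (f ^ r • 𝟙 M') := by
      rw [Linear.smul_comp, Category.id_comp, smul_smul, pow_add]
    rw [h, m_comp, hM' j hj z, map_zero]
  have hker : ∀ n, c + d ≤ n → ∀ x : H U N (i + 1), m U (FormalSectU.q f N n) (i + 1) x = 0 → x = 0 :=
    fun n hn x hx => by
      obtain ⟨z, rfl⟩ := exact₂ U (hE n (le_trans (Nat.le_add_right _ _) hn)) (i + 1) x hx
      show m U ((f ^ (n - c) • 𝟙 M') ≫ ι₀) (i + 1) z = 0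
      rw [m_comp, hfac i (n - c) h₁ (by omega) z, map_zero]
  refine ⟨fun x hx => hker (c + d + 1) (Nat.le_succ _) x (hx _), fun y hy => ?_⟩
  have htr : ∀ n r, m U (FormalSectU.tr f N (Nat.le_add_right (n + 1) r)) (i + 1)
      (show H U (FormalSectU.Q f N (n + 1 + r)) (i + 1) from (Nat.succ_add n r).symm ▸ y (n + r)) = y n := fun n r => by
    induction r with
    | zero =>
      have : FormalSectU.tr f N (Nat.le_add_right (n + 1) 0) = 𝟙 _ :=
        ModuleCat.hom_ext (Submodule.linearMap_qext _ (LinearMap.ext fun _ => rfl))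
      rw [this]
      exact m_id _ _ _ _
    | succ r ih =>
      refine Eq.trans ?_ ih
      have key : ∀ (k k' : ℕ) (hk : k = k') (hle : n + 1 ≤ k) (hle' : n + 1 ≤ k') (v : H U (FormalSectU.Q f N k) (i + 1)),
          m U (FormalSectU.tr f N hle') (i + 1) (hk ▸ v) = m U (FormalSectU.tr f N hle) (i + 1) v := by
        intro k k' hk hle hle' v
        subst hk
        rfl
      refine (key (n + (r + 1) + 1) _ (Nat.succ_add n (r + 1)).symm (by omega) _ _).trans
        (Eq.trans ?_ (key (n + r + 1) _ (Nat.succ_add n r).symm (by omega) _ _).symm)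
      rw [← hy (n + r), ← m_comp, FormalSectU.tr_tr]
      rfl
  have htr' : ∀ (n k : ℕ) (hnk : n ≤ k), m U (FormalSectU.tr f N (Nat.succ_le_succ hnk)) (i + 1) (y k) = y n :=
    fun n k hnk => by
      obtain ⟨r, rfl⟩ := Nat.exists_eq_add_of_le hnk
      refine Eq.trans ?_ (htr n r)
      have key : ∀ (k k' : ℕ) (hk : k = k') (hle : n + 1 ≤ k) (hle' : n + 1 ≤ k') (v : H U (FormalSectU.Q f N k) (i + 1)),
          m U (FormalSectU.tr f N hle') (i + 1) (hk ▸ v) = m U (FormalSectU.tr f N hle) (i + 1) v := by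
        intro k k' hk hle hle' v
        subst hk
        rfl
      exact (key _ _ (Nat.succ_add n r).symm _ _ _).symm
  have hlift : ∀ n, c ≤ n + 1 → ∃ x, m U (FormalSectU.q f N (n + 1)) (i + 1) x = y n := fun n hn => by
    let τ : E (n + d + 1) (by omega) ⟶ E (n + 1) hn :=
      { τ₁ := f ^ d • 𝟙 M'
        τ₂ := 𝟙 N
        τ₃ := FormalSectU.tr f N (Nat.succ_le_succ (Nat.le_add_right n d))
        comm₁₂ := by
          refine ModuleCat.hom_ext (Submodule.linearMap_qext _ (LinearMap.ext fun x => ?_))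
          show (ι (n + 1)).hom (f ^ d • Submodule.Quotient.mk x) = (ι (n + d + 1)).hom (Submodule.Quotient.mk x)
          rw [map_smul, hι (n + 1) hn, hι (n + d + 1) (by omega), ← mul_smul, ← pow_add]
          congr 2
          omega
        comm₂₃ := by
          show 𝟙 N ≫ FormalSectU.q f N (n + 1) = FormalSectU.q f N (n + d + 1) ≫ FormalSectU.tr f N _
          rw [Category.id_comp, FormalSectU.q_tr] }
    refine exact₃ U (hE (n + 1) hn) (i + 1) (y n) ?_
    rw [← htr' n (n + d) (Nat.le_add_right _ _)]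
    refine (δ_natural U (hE (n + d + 1) (by omega)) (hE (n + 1) hn) τ (i + 1) (y (n + d))).trans ?_
    exact hM' (i + 1) h₂ _
  obtain ⟨x₀, hx₀⟩ := hlift (c + d) (by omega)
  refine ⟨x₀, fun n => ?_⟩
  obtain ⟨x₁, hx₁⟩ := hlift (max n (c + d)) (by omega)
  have h01 : x₁ = x₀ := sub_eq_zero.1 (hker (c + d + 1) (Nat.le_succ _) _ (by
    rw [map_sub, hx₀, ← htr' (c + d) (max n (c + d)) (le_max_right _ _), ← hx₁, ← m_comp,
      FormalSectU.q_tr, sub_self]))
  rw [← h01, ← htr' n (max n (c + d)) (le_max_left _ _), ← hx₁, ← m_comp, FormalSectU.q_tr]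

end Groth.Agent.Synt29.FormalHigh
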