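import Groth.Prelude.Def_Formal2
import Groth.Agent.KExact.RlimQCoh
import Groth.Agent.H9Misc.RlimLimOne
import Groth.Agent.QCoh.Bound
import Groth.Agent.QCoh.Support

/-!
# Cohomology of the limit of a system of quasi-coherent modules with surjective transition maps
-/

set_option autoImplicit false
set_option linter.style.haveILetI false
set_option backward.isDefEq.respectTransparency false
set_option backward.isDefEq.respectTransparency.types false
set_option maxHeartbeats 800000

universe u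

open CategoryTheory CategoryTheory.Limits AlgebraicGeometry TopologicalSpace Opposite
open CategoryTheory.Abelian
open Groth.Agent

attribute [local instance] HasDerivedCategory.standard

noncomputable section

namespace Groth.Agent.Synt29.QSysLim

variable {X : Scheme.{u}}

/-- The transition maps. -/
abbrev tr (G : ℕᵒᵖ ⥤ X.Modules) (n : ℕ) : G.obj (op (n + 1)) ⟶ G.obj (op n) := G.map (homOfLE (Nat.le_succ n)).op

/-- The transition maps of a formal system are epimorphisms. -/
theorem epi_tr {A : Type u} [CommRing A] [X.Over (Spec (CommRingCat.of A))] {I : Ideal A} {G : ℕᵒᵖ ⥤ X.Modules}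
    (hG : Formal2.IsQCohFormal I G) (n : ℕ) : Epi (tr G n) := by
  obtain ⟨h, hi⟩ := hG.2.2 n
  haveI := hi
  rw [show tr G n = cokernel.π _ ≫ cokernel.desc _ _ h from (cokernel.π_desc _ _ h).symm]
  exact @epi_comp _ _ _ _ _ _ inferInstance _ (IsIso.epi_of_iso _)

variable (G : ℕᵒᵖ ⥤ X.Modules) (hq : ∀ n, Coh.IsQCoh (G.obj (op n))) (he : ∀ n, Epi (tr G n))

/-- The abelian sheaves. -/
abbrev ab (n : ℕ) : Sheaf (Opens.grothendieckTopology X) AddCommGrpCat.{u} := (SheafOfModules.toSheaf _).obj (G.obj (op n))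

/-- The transitions of the abelian sheaves. -/
abbrev abT (n : ℕ) : ab G (n + 1) ⟶ ab G n := (SheafOfModules.toSheaf _).map (tr G n)

include hq in
theorem subsingleton_HU {U : X.Opens} (hU : IsAffineOpen U) (p n : ℕ) :
    Subsingleton (CohSite.HU (ab G n) (p + 1) U) :=
  QCoh.subsingleton_HU_of_isAffineOpen (hq n) hU p

include hq he in
theorem limOne_ab {U : X.Opens} (hU : IsAffineOpen U) :
    CohCx.LimOneIsZero (fun n => (ab G n).obj.obj (op U)) (fun n => ((abT G n).hom.app (op U)).hom) := fun b => by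
  obtain ⟨w, hw⟩ := DLim.limOne_of_eventually_surjective 0 (fun n => (ab G n).obj.obj (op U))
    (fun n => ((abT G n).hom.app (op U)).hom) (fun n _ => by
      haveI := he n
      exact QCoh.app_surjective_of_epi (hq (n + 1)) (hq n) (tr G n) hU) b
  exact ⟨w, funext hw⟩

theorem exists_limit_iso : ∃ e : (SheafOfModules.toSheaf X.ringCatSheaf).obj (limit G) ≅ limit (CohCx.opSequence (ab G) (abT G)),
    ∀ n, e.hom ≫ H9Misc.RlimLimOne.proj (ab G) (abT G) n = (SheafOfModules.toSheaf _).map (limit.π G (op n)) := by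
  let T := SheafOfModules.toSheaf X.ringCatSheaf
  haveI : PreservesLimitsOfShape ℕᵒᵖ (T ⋙ sheafToPresheaf (Opens.grothendieckTopology X) AddCommGrpCat.{u}) :=
    inferInstanceAs (PreservesLimitsOfShape ℕᵒᵖ (SheafOfModules.forget X.ringCatSheaf ⋙ PresheafOfModules.toPresheaf _))
  haveI : PreservesLimitsOfShape ℕᵒᵖ T :=
    preservesLimitsOfShape_of_reflects_of_preserves T (sheafToPresheaf _ AddCommGrpCat.{u})
  obtain ⟨e, he⟩ := H9Misc.RlimLimOne.exists_iso_opSequence (G ⋙ T)
  refine ⟨preservesLimitIso T G ≪≫ e.symm, fun n => ?_⟩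
  show (preservesLimitIso T G).hom ≫ e.inv ≫ H9Misc.RlimLimOne.proj (fun n => (G ⋙ T).obj (op n))
    (fun n => (G ⋙ T).map (homOfLE (Nat.le_succ n)).op) n = _
  rw [← he n, Iso.inv_hom_id_assoc]
  exact preservesLimitIso_hom_π T G (op n)

include hq he in
/-- No higher cohomology on affine opens. -/
theorem subsingleton_HHon_limit (U : X.Opens) (hU : IsAffineOpen U) (p : ℕ) (hp : 0 < p) :
    Subsingleton (Coh.HHon X (limit G) U p) := by
  obtain ⟨q, rfl⟩ : ∃ r, p = r + 1 := ⟨p - 1, by omega⟩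
  obtain ⟨e, -⟩ := exists_limit_iso G
  letI := H26.HLim.smallD (C := Opens X) (J := Opens.grothendieckTopology X)
  haveI := DLim.hasProduct_nat fun n => (DerivedCategory.singleFunctor (Sheaf (Opens.grothendieckTopology X) AddCommGrpCat.{u}) 0).obj (ab G n)
  have hB : DLim.IsCoveredBy (Opens.grothendieckTopology X) {V : Opens X | IsAffineOpen V} :=
    DLim.isCoveredBy_of_isBasis X.isBasis_affineOpens
  have h := (DLim.isRlim_single (ab G) (abT G) hB
    (fun V hV q n => subsingleton_HU G hq hV q n) (fun V hV => limOne_ab G hq he hV)).2 U hU q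
  have h' : Subsingleton (CohTop.HU (X := X.toPresheafedSpace.carrier) (QCoh.abSheaf (limit G)) (q + 1) U) :=
    (((Sheaf.cohomologyPresheafFunctor (Opens.grothendieckTopology X) (q + 1)).mapIso e).app (op U)).addCommGroupIsoToAddEquiv.toEquiv.subsingleton
  have e' : (U.ι.isOpenEmbedding.isOpenMap.functor.obj ⊤ : X.Opens) = U :=
    Opens.ext (Set.image_univ.trans U.range_ι)
  rw [← e'] at h'
  have h2 := (QCoh.Ab.subsingleton_HU_restr_iff (U.ι.isOpenEmbedding) q (QCoh.abSheaf (limit G)) ⊤).2 h'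
  exact @Equiv.subsingleton _ _ (SiteBase.huTerminalEquiv isTerminalTop _ (q + 1)).symm.toEquiv h2

include hq he in
/-- The sequence of Milnor. -/
theorem exists_milnor (p : ℕ) :
    ∃ (α : Formal2.limOne (fun n => Coh.HH X (G.obj (op n)) p) (Formal2.HHsysMap G p) →+
        Coh.HH X (limit G) (p + 1))
      (β : Coh.HH X (limit G) (p + 1) →+
        Formal2.limZero (fun n => Coh.HH X (G.obj (op n)) (p + 1)) (Formal2.HHsysMap G (p + 1))),
      Function.Injective α ∧ Function.Surjective β ∧ α.range = β.ker ∧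
      ∀ (x : Coh.HH X (limit G) (p + 1)) (n : ℕ),
        (β x : ∀ n, Coh.HH X (G.obj (op n)) (p + 1)) n =
          Sheaf.H.map ((SheafOfModules.toSheaf _).map (limit.π G (op n))) (p + 1) x := by
  obtain ⟨e, hπ⟩ := exists_limit_iso G
  let S := (constantSheaf (Opens.grothendieckTopology X) AddCommGrpCat.{u}).obj (AddCommGrpCat.of (ULift.{u} ℤ))
  let B : Set (Opens X) := {U | IsAffineOpen U}
  have hB : DLim.IsCoveredBy (Opens.grothendieckTopology X) B := DLim.isCoveredBy_of_isBasis X.isBasis_affineOpens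
  have h1 : ∀ U ∈ B, ∀ (q n : ℕ), Subsingleton (CohSite.HU (ab G n) (q + 1) U) := fun U hU q n =>
    subsingleton_HU G hq hU q n
  have h2 : ∀ U ∈ B, CohCx.LimOneIsZero (fun n => (ab G n).obj.obj (op U)) (fun n => ((abT G n).hom.app (op U)).hom) :=
    fun U hU => limOne_ab G hq he hU
  obtain ⟨f⟩ := H9Misc.RlimLimOne.nonempty_ker_equiv (ab G) (abT G) B hB h1 h2 S p
  let κ : Coh.HH X (limit G) (p + 1) →+ (∀ n, Coh.HH X (G.obj (op n)) (p + 1)) :=
    AddMonoidHom.pi fun n => Sheaf.H.map ((SheafOfModules.toSheaf _).map (limit.π G (op n))) (p + 1)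
  have hpe : ∀ (x : Coh.HH X (limit G) (p + 1)) (n : ℕ),
      Sheaf.H.map (H9Misc.RlimLimOne.proj (ab G) (abT G) n) (p + 1) (Sheaf.H.map e.hom (p + 1) x) = κ x n := fun x n =>
    (Sheaf.H.map_comp_apply _ _ x).symm.trans (congrArg (fun q => Sheaf.H.map q (p + 1) x) (hπ n))
  have hκ : ∀ x, κ x ∈ Formal2.limZero (fun n => Coh.HH X (G.obj (op n)) (p + 1)) (Formal2.HHsysMap G (p + 1)) := fun x => by
    refine funext fun n => sub_eq_zero.2 ?_
    show κ x n = Sheaf.H.map _ (p + 1) (Sheaf.H.map _ (p + 1) x)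
    rw [← Sheaf.H.map_comp_apply, ← Functor.map_comp, limit.w]
    rfl
  let β := κ.codRestrict _ hκ
  let K := (AddMonoidHom.pi fun n : ℕ => H9Misc.RlimLimOne.post (S := S) (H9Misc.RlimLimOne.proj (ab G) (abT G) n) (p + 1)).ker
  let α₀ : Formal2.limOne (fun n => Coh.HH X (G.obj (op n)) p) (Formal2.HHsysMap G p) →+
      Sheaf.H (limit (CohCx.opSequence (ab G) (abT G))) (p + 1) := K.subtype.comp f.symm.toAddMonoidHom
  let α := (Sheaf.H.map e.inv (p + 1)).comp α₀
  refine ⟨α, β, ?_, ?_, ?_, fun x n => rfl⟩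
  · intro a b hab
    have h := congrArg (Sheaf.H.map e.hom (p + 1)) hab
    change Sheaf.H.map e.hom (p + 1) (Sheaf.H.map e.inv (p + 1) (α₀ a)) =
      Sheaf.H.map e.hom (p + 1) (Sheaf.H.map e.inv (p + 1) (α₀ b)) at h
    rw [← Sheaf.H.map_comp_apply, ← Sheaf.H.map_comp_apply, e.inv_hom_id, Sheaf.H.map_id_apply,
      Sheaf.H.map_id_apply] at h
    exact f.symm.injective (Subtype.ext h)
  · rintro ⟨y, hy⟩
    obtain ⟨x, hx⟩ := H9Misc.RlimLimOne.exists_lift (ab G) (abT G) B hB h1 h2 S (p + 1) y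
      fun n => (sub_eq_zero.1 (congrFun hy n)).symm
    refine ⟨Sheaf.H.map e.inv (p + 1) x, Subtype.ext (funext fun n => ?_)⟩
    show κ (Sheaf.H.map e.inv (p + 1) x) n = y n
    rw [← hpe, ← Sheaf.H.map_comp_apply (f := e.inv), e.inv_hom_id, Sheaf.H.map_id_apply]
    exact hx n
  · ext x
    rw [AddMonoidHom.mem_ker, AddMonoidHom.mem_range]
    constructor
    · rintro ⟨z, rfl⟩
      refine Subtype.ext (funext fun n => ?_)
      show κ (Sheaf.H.map e.inv (p + 1) (α₀ z)) n = 0
      rw [← hpe, ← Sheaf.H.map_comp_apply (f := e.inv), e.inv_hom_id, Sheaf.H.map_id_apply]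
      exact congrFun (f.symm z).2 n
    · intro hx
      have hm : Sheaf.H.map e.hom (p + 1) x ∈ K := funext fun n => (hpe x n).trans (congrFun (congrArg Subtype.val hx) n)
      refine ⟨f ⟨_, hm⟩, ?_⟩
      show Sheaf.H.map e.inv (p + 1) (K.subtype (f.symm (f ⟨_, hm⟩))) = x
      rw [AddEquiv.symm_apply_apply]
      show Sheaf.H.map e.inv (p + 1) (Sheaf.H.map e.hom (p + 1) x) = x
      rw [← Sheaf.H.map_comp_apply, e.hom_inv_id, Sheaf.H.map_id_apply]

end Groth.Agent.Synt29.QSysLim

end
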