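import Groth.Agent.Synt29.LGProper

/-!
The Grassmannian of a finitely generated module.
-/

set_option autoImplicit false
set_option backward.isDefEq.respectTransparency false
set_option linter.style.haveILetI false

universe u

open TensorProduct CategoryTheory

namespace Groth.Agent.Synt29.FGGrass

open GrassGraph RepOpen LG
open Module (Grassmannian)

variable {R : Type u} [CommRing R] {d k : ℕ} {M : Type u} [AddCommGroup M] [Module R M]
  (π : (Fin d → R) →ₗ[R] M) (hπ : Function.Surjective π)

section Pull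

variable {A : Type u} [CommRing A] [Algebra R A]

include hπ in
theorem baseChange_surjective : Function.Surjective (π.baseChange A) := LinearMap.baseChange_surjective A hπ

/-- The preimage of a point in the free module. -/
noncomputable def pull (N : Grassmannian A (A ⊗[R] M) k) : Grassmannian A (A ⊗[R] (Fin d → R)) k :=
  letI e := (Submodule.quotEquivOfEq _ _
    (show LinearMap.ker (N.toSubmodule.mkQ.comp (π.baseChange A)) = N.toSubmodule.comap (π.baseChange A) by
      rw [LinearMap.ker_comp, Submodule.ker_mkQ])).symm.trans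
    ((N.toSubmodule.mkQ.comp (π.baseChange A)).quotKerEquivOfSurjective
      (N.toSubmodule.mkQ_surjective.comp (baseChange_surjective π hπ)))
  { toSubmodule := N.toSubmodule.comap (π.baseChange A)
    finite_quotient := Module.Finite.equiv e.symm
    projective_quotient := Module.Projective.of_equiv e.symm
    rankAtStalk_eq := fun p => by rw [Module.rankAtStalk_eq_of_equiv e]; exact N.rankAtStalk_eq p }

theorem pull_injective : Function.Injective (pull π hπ : Grassmannian A (A ⊗[R] M) k → _) := fun _ _ h =>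
  Grassmannian.ext (Submodule.comap_injective_of_surjective (baseChange_surjective π hπ)
    (congrArg Grassmannian.toSubmodule h :))

theorem ker_eq_span :
    LinearMap.ker (π.baseChange A) =
      Submodule.span A ((fun x : Fin d → R => (1 : A) ⊗ₜ[R] x) '' (LinearMap.ker π : Set (Fin d → R))) ∨
      ¬ Function.Surjective π := by
  by_cases hπ : Function.Surjective π
  swap
  · exact Or.inr hπ
  refine Or.inl (le_antisymm (fun z hz => ?_) (Submodule.span_le.2 ?_))
  · obtain ⟨v, rfl⟩ := (lTensor_exact (M := LinearMap.ker π) A (LinearMap.exact_subtype_ker_map π) hπ z).1 hz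
    clear hz
    induction v with
    | zero => simp
    | tmul a x =>
      rw [LinearMap.lTensor_tmul, show a ⊗ₜ[R] (LinearMap.ker π).subtype x = a • ((1 : A) ⊗ₜ[R] (x : Fin d → R)) by
        rw [smul_tmul', smul_eq_mul, mul_one]; rfl]
      exact Submodule.smul_mem _ _ (Submodule.subset_span ⟨_, x.2, rfl⟩)
    | add x y hx hy => rw [map_add]; exact add_mem hx hy
  · rintro _ ⟨x, hx, rfl⟩
    simp [LinearMap.mem_ker.1 hx]

include hπ in
theorem exists_pull_eq {N' : Grassmannian A (A ⊗[R] (Fin d → R)) k}
    (h : ∀ x ∈ LinearMap.ker π, (1 : A) ⊗ₜ[R] x ∈ N'.toSubmodule) :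
    ∃ N : Grassmannian A (A ⊗[R] M) k, pull π hπ N = N' := by
  have hle : LinearMap.ker (π.baseChange A) ≤ N'.toSubmodule := by
    rw [(ker_eq_span (A := A) π).resolve_right (fun hn => hn hπ), Submodule.span_le]
    rintro _ ⟨x, hx, rfl⟩
    exact h x hx
  let N := N'.toSubmodule.map (π.baseChange A)
  have hN : N.comap (π.baseChange A) = N'.toSubmodule := by
    rw [Submodule.comap_map_eq, sup_eq_left.2 hle]
  let e := ((Submodule.quotEquivOfEq _ _
    (show LinearMap.ker (N.mkQ.comp (π.baseChange A)) = N'.toSubmodule by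
      rw [LinearMap.ker_comp, Submodule.ker_mkQ, hN])).symm.trans
    ((N.mkQ.comp (π.baseChange A)).quotKerEquivOfSurjective
      (N.mkQ_surjective.comp (baseChange_surjective π hπ)))).symm
  exact ⟨⟨N, Module.Finite.equiv e.symm, Module.Projective.of_equiv e.symm,
    fun p => by rw [Module.rankAtStalk_eq_of_equiv e]; exact N'.rankAtStalk_eq p⟩, Grassmannian.ext hN⟩

theorem mem_pull {N : Grassmannian A (A ⊗[R] M) k} {x : Fin d → R} (hx : x ∈ LinearMap.ker π) :
    (1 : A) ⊗ₜ[R] x ∈ (pull π hπ N).toSubmodule := by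
  show π.baseChange A ((1 : A) ⊗ₜ[R] x) ∈ N.toSubmodule
  rw [LinearMap.baseChange_tmul, LinearMap.mem_ker.1 hx, tmul_zero]
  exact zero_mem _

theorem map_pull {B : Type u} [CommRing B] [Algebra R B] (φ : A →ₐ[R] B) (N : Grassmannian A (A ⊗[R] M) k) :
    Grassmannian.map φ (pull π hπ N) = pull π hπ (Grassmannian.map φ N) := by
  refine Grassmannian.ext ?_
  show _ = (Grassmannian.map φ N).toSubmodule.comap (π.baseChange B)
  rw [Grassmannian.map_toSubmodule, Grassmannian.map_toSubmodule]
  letI : Algebra A B := φ.toAlgebra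
  haveI : IsScalarTower R A B := IsScalarTower.of_algebraMap_eq' φ.comp_algebraMap.symm
  rw [← LinearMap.ker_comp]
  let q : ((A ⊗[R] (Fin d → R)) ⧸ (pull π hπ N).toSubmodule) ≃ₗ[A] (A ⊗[R] M) ⧸ N.toSubmodule :=
    LinearEquiv.ofBijective (Submodule.mapQ _ _ (π.baseChange A) le_rfl)
      ⟨by
        rw [← LinearMap.ker_eq_bot, Submodule.mapQ, Submodule.ker_liftQ, LinearMap.ker_comp, Submodule.ker_mkQ]
        exact Submodule.mkQ_map_self _,
      fun y => by
        obtain ⟨z, rfl⟩ := N.toSubmodule.mkQ_surjective y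
        obtain ⟨x, rfl⟩ := baseChange_surjective π hπ z
        exact ⟨(pull π hπ N).toSubmodule.mkQ x, rfl⟩⟩
  have h : (Grassmannian.baseChangeMkQ B N.toSubmodule).comp (π.baseChange B) =
      (q.baseChange A B).toLinearMap.comp (Grassmannian.baseChangeMkQ B (pull π hπ N).toSubmodule) := by
    refine LinearMap.ext fun z => ?_
    induction z using TensorProduct.induction_on with
    | zero => simp
    | tmul b x =>
      simp only [Grassmannian.baseChangeMkQ, LinearMap.comp_apply, LinearEquiv.coe_coe, LinearMap.baseChange_tmul,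
        AlgebraTensorModule.cancelBaseChange_symm_tmul, Submodule.mkQ_apply, LinearEquiv.baseChange_tmul]
      rfl
    | add x y hx hy => simp only [map_add, hx, hy]
  rw [h, LinearEquiv.ker_comp]

end Pull

variable (R) in
/-- The ideal cutting out a chart. -/
noncomputable def relIdeal (S : Finset (Fin d)) (K : Set (Fin d → R)) :
    Ideal (MvPolynomial ({c // c ∉ S} × {c // c ∈ S}) R) :=
  Ideal.span (Set.range fun p : K × {c // c ∈ S} =>
    proj (R := R) S (fun c c' => (MvPolynomial.X (c, c') : MvPolynomial ({c // c ∉ S} × {c // c ∈ S}) R))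
      ((1 : MvPolynomial ({c // c ∉ S} × {c // c ∈ S}) R) ⊗ₜ[R] p.1.1) p.2)

/-- The ring of a chart. -/
noncomputable abbrev CRing (S : Finset (Fin d)) :=
  MvPolynomial ({c // c ∉ S} × {c // c ∈ S}) R ⧸ relIdeal R S (LinearMap.ker π : Set (Fin d → R))

/-- The universal matrix. -/
noncomputable def uC (S : Finset (Fin d)) (c : {c // c ∉ S}) (c' : {c // c ∈ S}) : CRing π S :=
  Ideal.Quotient.mkₐ R _ (MvPolynomial.X (c, c'))

theorem proj_tmul {A B : Type u} [CommRing A] [Algebra R A] [CommRing B] [Algebra R B] (φ : A →ₐ[R] B)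
    (S : Finset (Fin d)) (u : {c // c ∉ S} → S → A) (x : Fin d → R) (c : S) :
    proj (R := R) S (fun a b => φ (u a b)) ((1 : B) ⊗ₜ[R] x) c = φ (proj (R := R) S u ((1 : A) ⊗ₜ[R] x) c) := by
  rw [← congrFun (proj_ι φ S u _) c, ι_tmul, _root_.map_one]

include hπ in
theorem exists_univ (S : Finset (Fin d)) (hS : S.card = k) :
    ∃ N : Grassmannian (CRing π S) (CRing π S ⊗[R] M) k, pull π hπ N = graph S hS (uC π S) := by
  refine exists_pull_eq π hπ fun x hx => ?_
  rw [graph_toSubmodule, LinearMap.mem_ker]
  funext c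
  rw [show uC π S = fun a b => Ideal.Quotient.mkₐ R (relIdeal R S (LinearMap.ker π : Set (Fin d → R)))
    (MvPolynomial.X (a, b)) from rfl, proj_tmul, Ideal.Quotient.mkₐ_eq_mk, Pi.zero_apply,
    Ideal.Quotient.eq_zero_iff_mem]
  exact Ideal.subset_span ⟨⟨⟨x, hx⟩, c⟩, rfl⟩

/-- The chart of a set of columns. -/
noncomputable def chart (S : Finset (Fin d)) (hS : S.card = k) :
    RepOpen.Chart (Grassmannian.functor (R := R) (M := M) k) where
  P A N := InChart S (pull π hπ N)
  C := CommAlgCat.of R (CRing π S)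
  univ := (exists_univ π hπ S hS).choose
  mem_univ := by
    rw [(exists_univ π hπ S hS).choose_spec]
    exact graph_inChart S hS _
  map_mem {_ _} φ {N} h := by
    show InChart S (pull π hπ (Grassmannian.map φ.hom N))
    rw [← map_pull]
    exact h.map φ.hom hS
  lift {A N} h := by
    obtain ⟨u, hu, huniq⟩ := h.exists_eq hS
    let η : MvPolynomial ({c // c ∉ S} × {c // c ∈ S}) R →ₐ[R] A := MvPolynomial.aeval fun v => u v.1 v.2
    have hηX : (fun a b => η (MvPolynomial.X (a, b))) = u := by funext a b; simp [η]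
    have hη : relIdeal R S (LinearMap.ker π : Set (Fin d → R)) ≤ RingHom.ker η := Ideal.span_le.2 (by
      rintro _ ⟨⟨⟨x, hx⟩, c⟩, rfl⟩
      have h1 := mem_pull π hπ (N := N) hx
      rw [hu, graph_toSubmodule, LinearMap.mem_ker] at h1
      rw [SetLike.mem_coe, RingHom.mem_ker, ← proj_tmul, hηX, h1]; rfl)
    let ρ : CRing π S →ₐ[R] A := Ideal.Quotient.liftₐ _ η hη
    have hρ : ∀ c c', ρ (uC π S c c') = u c c' := fun c c' =>
      (show ρ (uC π S c c') = η (MvPolynomial.X (c, c')) from rfl).trans (MvPolynomial.aeval_X _ _)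
    have hmap : ∀ χ : CRing π S →ₐ[R] A, pull π hπ (Grassmannian.map χ (exists_univ π hπ S hS).choose) =
        graph S hS fun a b => χ (uC π S a b) := fun χ => by
      rw [← map_pull, (exists_univ π hπ S hS).choose_spec, map_graph]
    refine ⟨CommAlgCat.ofHom ρ, pull_injective π hπ ?_, fun ρ' hρ' => ?_⟩
    · show pull π hπ (Grassmannian.map ρ _) = _
      rw [hmap, hu]
      exact congrArg (graph S hS) (funext fun a => funext fun b => hρ a b)
    · refine CommAlgCat.hom_ext (Ideal.Quotient.algHom_ext _ (MvPolynomial.algHom_ext fun v => ?_))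
      obtain ⟨a, b⟩ := v
      have h1 := congrArg (pull π hπ) hρ'
      replace h1 : pull π hπ (Grassmannian.map ρ'.hom (exists_univ π hπ S hS).choose) = pull π hπ N := h1
      rw [hmap] at h1
      exact (congrFun (congrFun (huniq _ h1.symm) a) b).trans (hρ a b).symm
  isOpen {A} N L hL ψ h := by
    letI := hL.toField
    have h' : InChart S (Grassmannian.map ψ.hom (pull π hπ N)) := by rw [map_pull]; exact h
    obtain ⟨a, ha, ha'⟩ := exists_ne_zero_inChart (fun _ : Unit => S) (fun _ => pull π hπ N) ψ.hom (fun _ => h')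
    refine ⟨a, ha, ?_⟩
    show InChart S (pull π hπ (Grassmannian.map (toAway A a).hom N))
    rw [← map_pull]
    exact ha' _ (toAway A a).hom (IsLocalization.Away.algebraMap_isUnit a) ()

/-- The atlas. -/
noncomputable def atlas : Atlas (Grassmannian.functor (R := R) (M := M) k) where
  idx := {S : Finset (Fin d) // S.card = k}
  fin := inferInstance
  chart S := chart π hπ S.1 S.2
  principal S S' A N hN := by
    obtain ⟨u, hu, -⟩ := InChart.exists_eq hN S.2
    obtain ⟨h, hh⟩ := exists_inChart_iff_isUnit (R := R) S.2 u S'.1 S'.2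
    refine ⟨h, fun B φ => ?_⟩
    rw [← hh B φ.hom, ← hu, map_pull]
    rfl
  cover L hL N := by
    letI := hL.toField
    obtain ⟨S, hS, hch⟩ := exists_cols (pull π hπ N)
    exact ⟨⟨S, hS⟩, hch⟩
  sep A s hs N N' h := by
    refine pull_injective π hπ (Grassmannian.ext (le_antisymm ?_ ?_)) <;> intro x hx <;>
      refine mem_of_local s hs fun a ha => ?_ <;>
      have e := congrArg Grassmannian.toSubmodule (congrArg (pull π hπ) (h a ha)) <;>
      replace e : (pull π hπ (Grassmannian.map (toAway A a).hom N)).toSubmodule =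
        (pull π hπ (Grassmannian.map (toAway A a).hom N')).toSubmodule := e <;>
      rw [← map_pull, ← map_pull, map_eq_span, map_eq_span] at e
    · exact e ▸ Submodule.subset_span ⟨x, hx, rfl⟩
    · exact e.symm ▸ Submodule.subset_span ⟨x, hx, rfl⟩
  glue A s hs Ns hcompat := by
    obtain ⟨G, hG⟩ := exists_glue (R := R) (A := (A : Type u)) s hs (fun h hh => pull π hπ (Ns h hh))
      (fun h hh h' hh' B _ _ φ ψ e => by
        have := hcompat h hh h' hh' (CommAlgCat.of R B) (CommAlgCat.ofHom φ) (CommAlgCat.ofHom ψ)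
          (CommAlgCat.hom_ext e)
        rw [map_pull, map_pull]
        exact congrArg (pull π hπ) this)
    obtain ⟨N, hN⟩ := exists_pull_eq π hπ (N' := G) fun x hx => mem_of_local _ hs fun h hh => by
      rw [← map_eq_span, hG h hh, ι_tmul, _root_.map_one]
      exact mem_pull π hπ hx
    refine ⟨N, fun h hh => pull_injective π hπ ?_⟩
    show pull π hπ (Grassmannian.map (toAway A h).hom N) = _
    rw [← map_pull, hN]
    exact hG h hh

theorem exists_representable (M : Type u) [AddCommGroup M] [Module R M] [Module.Finite R M] (k : ℕ) :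
    ∃ (X : Over (AlgebraicGeometry.Spec (CommRingCat.of R)))
      (e : ∀ A : CommAlgCat.{u} R, (sp A ⟶ X) ≃ (Grassmannian.functor (R := R) (M := M) k).obj A),
      IsNat X _ e := by
  obtain ⟨d, π, hπ⟩ := Module.Finite.exists_fin' R M
  exact ⟨(atlas (k := k) π hπ).glued, (atlas (k := k) π hπ).classifyEquiv, (atlas (k := k) π hπ).isNat_classifyEquiv⟩

end Groth.Agent.Synt29.FGGrass
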