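import Mathlib

/-!
A flat algebra over an Artinian local ring with formally smooth closed fibre is formally smooth.
-/

universe u

open TensorProduct

namespace Groth.Agent.Synt29.FlatFS

variable {A B : Type u} [CommRing A] [CommRing B] [Algebra A B]

theorem flat_quotientMap [Module.Flat A B] (I : Ideal A) :
    (Ideal.quotientMap (I.map (algebraMap A B)) (algebraMap A B) Ideal.le_comap_map).Flat := by
  let _ : Algebra (A ⧸ I) (B ⧸ I.map (algebraMap A B)) :=
    (Ideal.quotientMap (I.map (algebraMap A B)) (algebraMap A B) Ideal.le_comap_map).toAlgebra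
  let g : B →ₗ[A] B ⧸ I.map (algebraMap A B) := (IsScalarTower.toAlgHom A B _).toLinearMap
  have : IsScalarTower A (A ⧸ I) (B ⧸ I.map (algebraMap A B)) := IsScalarTower.of_algebraMap_eq fun _ => rfl
  let G : (A ⧸ I) ⊗[A] B →ₗ[A ⧸ I] B ⧸ I.map (algebraMap A B) := g.liftBaseChange (A ⧸ I)
  have hone : ∀ u : (A ⧸ I) ⊗[A] B, ∃ b : B, u = 1 ⊗ₜ b := by
    intro u
    induction u using TensorProduct.induction_on with
    | zero => exact ⟨0, by simp⟩
    | tmul c b =>
      obtain ⟨c, rfl⟩ := Ideal.Quotient.mk_surjective c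
      exact ⟨c • b, by rw [TensorProduct.tmul_smul, TensorProduct.smul_tmul', Algebra.smul_def, mul_one]; rfl⟩
    | add x y hx hy =>
      obtain ⟨a, rfl⟩ := hx; obtain ⟨b, rfl⟩ := hy
      exact ⟨a + b, by rw [TensorProduct.tmul_add]⟩
  have hG : Function.Bijective G := by
    refine ⟨?_, fun y => ?_⟩
    · rw [injective_iff_map_eq_zero]
      intro u hu
      obtain ⟨b, rfl⟩ := hone u
      rw [LinearMap.liftBaseChange_tmul, one_smul] at hu
      have hb : b ∈ I.map (algebraMap A B) := Ideal.Quotient.eq_zero_iff_mem.1 hu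
      clear hu
      have key : ∀ x ∈ I.map (algebraMap A B), ∀ y : B, ((1 : A ⧸ I) ⊗ₜ[A] (y * x)) = 0 := by
        intro x hx
        induction hx using Submodule.span_induction with
        | mem x hx =>
          obtain ⟨c, hc, rfl⟩ := hx
          intro y
          rw [mul_comm, ← Algebra.smul_def, TensorProduct.tmul_smul, TensorProduct.smul_tmul', Algebra.smul_def,
            mul_one, Ideal.Quotient.algebraMap_eq, Ideal.Quotient.eq_zero_iff_mem.2 hc, TensorProduct.zero_tmul]
        | zero => intro y; simp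
        | add p q _ _ hp hq => intro y; rw [mul_add, TensorProduct.tmul_add, hp, hq, add_zero]
        | smul a p _ hp => intro y; rw [smul_eq_mul, ← mul_assoc]; exact hp _
      simpa using key b hb 1
    · obtain ⟨y, rfl⟩ := Ideal.Quotient.mk_surjective y
      exact ⟨1 ⊗ₜ y, by rw [LinearMap.liftBaseChange_tmul, one_smul]; rfl⟩
  exact Module.Flat.of_linearEquiv (LinearEquiv.ofBijective G hG).symm

/-- One infinitesimal step. -/
theorem step [Module.Flat A B] (I J : Ideal A) (hIJ : I ≤ J) (hJI : J * J ≤ I)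
    (h : (Ideal.quotientMap (J.map (algebraMap A B)) (algebraMap A B) Ideal.le_comap_map).FormallySmooth) :
    (Ideal.quotientMap (I.map (algebraMap A B)) (algebraMap A B) Ideal.le_comap_map).FormallySmooth := by
  refine RingHom.FormallySmooth.of_flat_of_ker_eq_map_of_square_zero _ (flat_quotientMap I)
    (Ideal.Quotient.factor hIJ) (Ideal.Quotient.factor (Ideal.map_mono hIJ)) _
    (Ideal.Quotient.factor_surjective hIJ) (Ideal.Quotient.factor_surjective _) ?_ ?_ ?_ h
  · ext x
    rfl
  · rw [Ideal.Quotient.factor_ker hIJ, ← Ideal.map_pow, pow_two, Ideal.map_eq_bot_iff_le_ker, Ideal.mk_ker]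
    exact hJI
  · rw [Ideal.Quotient.factor_ker hIJ, Ideal.Quotient.factor_ker (Ideal.map_mono hIJ), Ideal.map_map,
      Ideal.map_map]
    rfl

/-- Flat with formally smooth reduction modulo a nilpotent ideal is formally smooth. -/
theorem formallySmooth_of_nilpotent [Module.Flat A B] (I : Ideal A) (hI : IsNilpotent I)
    (h : (Ideal.quotientMap (I.map (algebraMap A B)) (algebraMap A B) Ideal.le_comap_map).FormallySmooth) :
    Algebra.FormallySmooth A B := by
  have key : ∀ n : ℕ,
      (Ideal.quotientMap ((I ^ (n + 1)).map (algebraMap A B)) (algebraMap A B) Ideal.le_comap_map).FormallySmooth := by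
    intro n
    induction n with
    | zero =>
      have : I ^ (0 + 1) = I := pow_one I
      convert h
    | succ n ih =>
      refine step (I ^ (n + 1 + 1)) (I ^ (n + 1)) (Ideal.pow_le_pow_right (Nat.le_succ _)) ?_ ih
      rw [← pow_add]
      exact Ideal.pow_le_pow_right (by omega)
  obtain ⟨N, hN⟩ := hI
  have h0 := key N
  have hbot : I ^ (N + 1) = ⊥ := by rw [pow_succ, hN, Ideal.zero_eq_bot, Ideal.bot_mul]
  rw [← RingHom.formallySmooth_algebraMap]
  have hJ : (I ^ (N + 1)).map (algebraMap A B) = ⊥ := by rw [hbot, Ideal.map_bot]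
  let eA : A ≃+* A ⧸ I ^ (N + 1) := (RingEquiv.quotientBot A).symm.trans (Ideal.quotEquivOfEq hbot.symm)
  let eB : B ⧸ (I ^ (N + 1)).map (algebraMap A B) ≃+* B :=
    (Ideal.quotEquivOfEq hJ).trans (RingEquiv.quotientBot B)
  have hcomp : algebraMap A B = (eB.toRingHom.comp
      (Ideal.quotientMap ((I ^ (N + 1)).map (algebraMap A B)) (algebraMap A B) Ideal.le_comap_map)).comp eA.toRingHom := by
    ext a
    rfl
  rw [hcomp]
  exact RingHom.FormallySmooth.respectsIso.2 _ eA (RingHom.FormallySmooth.respectsIso.1 _ eB h0)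

/-- Over an Artinian local `k`-algebra with residue field `k`. -/
theorem formallySmooth_of_closedFibre {k : Type u} [Field k] [Algebra k A] [IsLocalRing A] [IsArtinianRing A]
    (hres : ∀ a : A, ∃ c : k, a - algebraMap k A c ∈ IsLocalRing.maximalIdeal A)
    [Module.Flat A B] [Algebra k B] [IsScalarTower k A B]
    (hsm : Algebra.FormallySmooth k (B ⧸ (IsLocalRing.maximalIdeal A).map (algebraMap A B))) :
    Algebra.FormallySmooth A B := by
  refine formallySmooth_of_nilpotent (IsLocalRing.maximalIdeal A)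
    ((isArtinianRing_iff_isNilpotent_maximalIdeal A).1 inferInstance) ?_
  let e : k ≃+* A ⧸ IsLocalRing.maximalIdeal A :=
    RingEquiv.ofBijective ((Ideal.Quotient.mk _).comp (algebraMap k A))
      ⟨RingHom.injective _, fun x => by
        obtain ⟨a, rfl⟩ := Ideal.Quotient.mk_surjective x
        obtain ⟨c, hc⟩ := hres a
        exact ⟨c, (Ideal.Quotient.eq.2 hc).symm⟩⟩
  have h0 : (algebraMap k (B ⧸ (IsLocalRing.maximalIdeal A).map (algebraMap A B))).FormallySmooth :=
    RingHom.formallySmooth_algebraMap.2 hsm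
  have hcomp : Ideal.quotientMap ((IsLocalRing.maximalIdeal A).map (algebraMap A B)) (algebraMap A B) Ideal.le_comap_map =
      (algebraMap k (B ⧸ (IsLocalRing.maximalIdeal A).map (algebraMap A B))).comp e.symm.toRingHom := by
    refine RingHom.ext fun x => ?_
    obtain ⟨c, rfl⟩ := e.surjective x
    rw [RingHom.comp_apply, RingEquiv.toRingHom_eq_coe, RingEquiv.coe_toRingHom, e.symm_apply_apply]
    show Ideal.Quotient.mk _ (algebraMap A B (algebraMap k A c)) = _
    rw [← IsScalarTower.algebraMap_apply k A B]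
    rfl
  rw [hcomp]
  exact RingHom.FormallySmooth.respectsIso.2 _ e.symm h0

end Groth.Agent.Synt29.FlatFS
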