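import Mathlib
import Groth.Prelude.Def_Exal2
import Groth.Agent.S0543

/-!
# Extensions of a Noetherian local ring and of its completion by a simple module
-/

set_option autoImplicit false

universe u

open IsLocalRing

namespace Groth.Agent.Synt29.ExalCompl

/-- A map of extensions is an equivalence. -/
theorem nonempty_equiv {Λ B L : Type u} [CommRing Λ] [CommRing B] [Algebra Λ B] [AddCommGroup L]
    [Module B L] {X Y : Exal.Ext Λ B L} (f : X.E →ₐ[Λ] Y.E) (hp : ∀ x, Y.proj (f x) = X.proj x)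
    (hi : ∀ z, f (X.incl z) = Y.incl z) : Nonempty (X.Equiv Y) := by
  have hb : Function.Bijective f := by
    refine ⟨(injective_iff_map_eq_zero f).2 fun x hx => ?_, fun y => ?_⟩
    · obtain ⟨z, rfl⟩ := (X.isExtension.exact x).1 (by rw [← hp, hx, map_zero])
      rw [hi] at hx
      rw [Y.isExtension.incl_injective (hx.trans (map_zero Y.incl).symm), map_zero]
    · obtain ⟨x, hx⟩ := X.isExtension.proj_surjective (Y.proj y)
      obtain ⟨z, hz⟩ := (Y.isExtension.exact (y - f x)).1 (by rw [map_sub, hp, hx, sub_self])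
      exact ⟨x + X.incl z, by rw [map_add, hi, hz, add_sub_cancel]⟩
  exact ⟨{ toAlgEquiv := AlgEquiv.ofBijective f hb, proj_apply := hp, apply_incl := hi }⟩

section Sep

variable {Λ B L : Type u} [CommRing Λ] [CommRing B] [Algebra Λ B] [AddCommGroup L] [Module B L]

/-- The preimage of an ideal in the middle ring. -/
def nOf (X : Exal.Ext Λ B L) (I : Ideal B) : Ideal X.E := I.comap X.proj.toRingHom

/-- The `N`-th power of the preimage ideal meets the kernel trivially. -/
def Sep (X : Exal.Ext Λ B L) (I : Ideal B) (N : ℕ) : Prop :=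
  ∀ z, X.incl z ∈ nOf X I ^ N → z = 0

theorem Sep.mono {X : Exal.Ext Λ B L} {I : Ideal B} {N M : ℕ} (h : Sep X I N) (hNM : N ≤ M) :
    Sep X I M := fun z hz => h z (Ideal.pow_le_pow_right hNM hz)

theorem proj_mem_pow (X : Exal.Ext Λ B L) (I : Ideal B) (N : ℕ) {x : X.E} (hx : x ∈ nOf X I ^ N) :
    X.proj x ∈ I ^ N := by
  have h : (nOf X I ^ N).map X.proj.toRingHom = I ^ N := by
    rw [Ideal.map_pow, nOf, Ideal.map_comap_of_surjective (f := X.proj.toRingHom)
      X.isExtension.proj_surjective]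
  exact h.le (Ideal.mem_map_of_mem _ hx)

theorem exists_lift_pow (X : Exal.Ext Λ B L) (I : Ideal B) (N : ℕ) {b : B} (hb : b ∈ I ^ N) :
    ∃ x ∈ nOf X I ^ N, X.proj x = b := by
  have h : (nOf X I ^ N).map X.proj.toRingHom = I ^ N := by
    rw [Ideal.map_pow, nOf, Ideal.map_comap_of_surjective (f := X.proj.toRingHom)
      X.isExtension.proj_surjective]
  exact (Ideal.mem_map_iff_of_surjective X.proj.toRingHom X.isExtension.proj_surjective).1 (h.ge hb)

theorem exists_sep [IsLocalRing B] [IsNoetherianRing B] [IsSimpleModule B L] (X : Exal.Ext Λ B L) :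
    ∃ N, 0 < N ∧ Sep X (maximalIdeal B) N := by
  classical
  let π := X.proj.toRingHom
  have hπ : Function.Surjective π := X.isExtension.proj_surjective
  have := IsSimpleModule.nontrivial B L
  have hgen : ∀ x ∈ RingHom.ker π, x ≠ 0 → RingHom.ker π ≤ Ideal.span {x} := by
    intro x hx hx0 y hy
    obtain ⟨z₀, rfl⟩ := (X.isExtension.exact x).1 hx
    obtain ⟨z, rfl⟩ := (X.isExtension.exact y).1 hy
    obtain ⟨b, hb⟩ := IsSimpleModule.toSpanSingleton_surjective B
      (show z₀ ≠ 0 from fun h => hx0 (by rw [h, map_zero])) z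
    obtain ⟨a, rfl⟩ := hπ b
    refine Ideal.mem_span_singleton'.2 ⟨a, ?_⟩
    rw [X.isExtension.mul_incl]
    exact congrArg X.incl hb
  haveI : IsNoetherianRing X.E := (isNoetherianRing_iff_ideal_fg _).2 fun M => by
    refine Ideal.fg_of_fg_map_of_fg_inf_ker_of_surjective (f := π) (IsNoetherian.noetherian _) ?_ hπ
    by_cases h0 : M ⊓ RingHom.ker π = ⊥
    · exact h0 ▸ Submodule.fg_bot
    · obtain ⟨w, hw, hw0⟩ := Submodule.exists_mem_ne_zero_of_ne_bot h0
      exact ⟨{w}, le_antisymm (by simpa using hw)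
        (by simpa using inf_le_right.trans (hgen w hw.2 hw0))⟩
  have hunit : ∀ x : X.E, IsUnit (X.proj x) → IsUnit x := fun x hx => by
    obtain ⟨y, hy⟩ := X.isExtension.proj_surjective (↑hx.unit⁻¹ : B)
    obtain ⟨w, hw⟩ := (X.isExtension.exact (x * y - 1)).1 (by
      rw [map_sub, map_mul, hy, map_one, IsUnit.mul_val_inv, sub_self])
    have hsq : X.incl w * X.incl w = 0 := by
      rw [X.isExtension.mul_incl, (X.isExtension.exact _).2 ⟨w, rfl⟩, zero_smul, map_zero]
    refine .of_mul_eq_one (y * (1 - X.incl w)) ?_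
    linear_combination -hsq - (1 - X.incl w) * hw
  have hnt : Nontrivial X.E := X.isExtension.incl_injective.nontrivial
  haveI : IsLocalRing X.E := IsLocalRing.of_nonunits_add fun a b ha hb hab => by
    have ha' : X.proj a ∈ maximalIdeal B := fun h => ha (hunit a h)
    have hb' : X.proj b ∈ maximalIdeal B := fun h => hb (hunit b h)
    exact (map_add X.proj a b ▸ Ideal.add_mem _ ha' hb') (hab.map X.proj)
  have hle : nOf X (maximalIdeal B) ≤ maximalIdeal X.E := fun x hx hu => hx (hu.map X.proj)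
  obtain ⟨z₀, hz₀⟩ := exists_ne (0 : L)
  obtain ⟨N, hN⟩ : ∃ N : ℕ, X.incl z₀ ∉ maximalIdeal X.E ^ N := by
    by_contra h
    push Not at h
    have := Ideal.iInf_pow_eq_bot_of_isLocalRing _ (maximalIdeal.isMaximal X.E).ne_top
    exact hz₀ (X.isExtension.incl_injective
      (((Submodule.mem_bot _).1 (this ▸ (Submodule.mem_iInf _).2 h)).trans (map_zero X.incl).symm))
  refine ⟨N + 1, N.succ_pos, fun z hz => by_contra fun hne => hN ?_⟩
  have hz' : X.incl z ∈ maximalIdeal X.E ^ N :=
    Ideal.pow_le_pow_right (Nat.le_succ N) (Ideal.pow_right_mono hle _ hz)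
  have hker : ∀ w, X.incl w ∈ RingHom.ker π := fun w => (X.isExtension.exact _).2 ⟨w, rfl⟩
  have hne' : X.incl z ≠ 0 := fun h => hne (X.isExtension.incl_injective (h.trans (map_zero _).symm))
  exact (Ideal.span_singleton_le_iff_mem _).2 hz' (hgen _ (hker z) hne' (hker z₀))

end Sep

section Completion

variable {Λ R : Type u} [CommRing Λ] [CommRing R] [Algebra Λ R] [IsLocalRing R] [IsNoetherianRing R]


theorem evalA_pow (N : ℕ) {u : (AdicCompletion (maximalIdeal R) R)} :
    AdicCompletion.evalₐ (maximalIdeal R) N u = 0 ↔ u ∈ maximalIdeal (AdicCompletion (maximalIdeal R) R) ^ N := by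
  have key : u ∈ maximalIdeal (AdicCompletion (maximalIdeal R) R) ^ N ↔ AdicCompletion.eval (maximalIdeal R) R N u = 0 := by
    rw [AdicCompletion.maximalIdeal_eq_map, ← Ideal.map_pow, ← Submodule.restrictScalars_mem R,
      ← Ideal.smul_top_eq_map,
      AdicCompletion.pow_smul_top_eq_ker_eval (maximalIdeal R).fg_of_isNoetherianRing,
      LinearMap.mem_ker]
  rw [key]
  have hI : (maximalIdeal R ^ N • ⊤ : Ideal R) = maximalIdeal R ^ N := by simp
  exact map_eq_zero_iff (Ideal.quotientEquivAlgOfEq R hI) (AlgEquiv.injective _)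

variable {L : Type u} [AddCommGroup L] [Module (AdicCompletion (maximalIdeal R) R) L] [Module R L] [IsScalarTower R (AdicCompletion (maximalIdeal R) R) L]
  [IsSimpleModule R L]

theorem isSimpleModule_completion : IsSimpleModule (AdicCompletion (maximalIdeal R) R) L := by
  have := IsSimpleModule.nontrivial R L
  exact isSimpleModule_iff_toSpanSingleton_surjective.2 ⟨inferInstance, fun z hz w => by
    obtain ⟨r, hr⟩ := IsSimpleModule.toSpanSingleton_surjective R hz w
    exact ⟨algebraMap R (AdicCompletion (maximalIdeal R) R) r, (algebraMap_smul (AdicCompletion (maximalIdeal R) R) r z).trans hr⟩⟩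

omit [IsNoetherianRing R] in
theorem smul_eq_zero_of_mem_maximalIdeal {B M : Type u} [CommRing B] [IsLocalRing B] [AddCommGroup M]
    [Module B M] [IsSimpleModule B M] {b : B} (hb : b ∈ maximalIdeal B) (z : M) : b • z = 0 := by
  by_contra hne
  obtain ⟨c, hc⟩ := IsSimpleModule.toSpanSingleton_surjective B hne z
  have hc' : c • b • z = z := hc
  have hu : IsUnit (1 + -(c * b)) := by
    by_contra h
    exact (maximalIdeal.isMaximal B).ne_top ((Ideal.eq_top_iff_one _).2 (by
      have := add_mem (show (1 + -(c * b)) ∈ maximalIdeal B from h) (Ideal.mul_mem_left _ c hb)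
      simpa using this))
  have hz : (1 + -(c * b)) • z = 0 := by
    rw [add_smul, one_smul, neg_smul, mul_smul, hc', add_neg_cancel]
  rw [hu.smul_eq_zero] at hz
  rw [hz, smul_zero] at hne
  exact hne rfl

theorem smul_congr {N : ℕ} (hN : 0 < N) {x : (AdicCompletion (maximalIdeal R) R)} {r : R}
    (h : AdicCompletion.evalₐ (maximalIdeal R) N x = Ideal.Quotient.mk _ r) (z : L) : x • z = r • z := by
  haveI := isSimpleModule_completion (R := R) (L := L)
  have h1 : x - algebraMap R (AdicCompletion (maximalIdeal R) R) r ∈ maximalIdeal (AdicCompletion (maximalIdeal R) R) := by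
    refine Ideal.pow_le_self hN.ne' ((evalA_pow N).1 ?_)
    rw [map_sub, AlgHom.commutes, h]
    exact sub_self _
  have h2 := smul_eq_zero_of_mem_maximalIdeal h1 z
  rwa [sub_smul, sub_eq_zero, algebraMap_smul] at h2

variable (Y : Exal.Ext Λ R L) {N : ℕ}

/-- The quotient of the projection. -/
noncomputable def qproj (N : ℕ) :
    Y.E ⧸ nOf Y (maximalIdeal R) ^ N →ₐ[Λ] R ⧸ maximalIdeal R ^ N :=
  Ideal.quotientMapₐ _ Y.proj fun _ hx => proj_mem_pow Y _ N hx

/-- The carrier of the completed extension. -/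
noncomputable def hatSub (N : ℕ) :
    Subalgebra Λ ((AdicCompletion (maximalIdeal R) R) × (Y.E ⧸ nOf Y (maximalIdeal R) ^ N)) :=
  AlgHom.equalizer
    (((AdicCompletion.evalₐ (maximalIdeal R) N).restrictScalars Λ).comp (AlgHom.fst Λ _ _))
    ((qproj Y N).comp (AlgHom.snd Λ _ _))

theorem mem_hatSub {N : ℕ} (p : (AdicCompletion (maximalIdeal R) R) × (Y.E ⧸ nOf Y (maximalIdeal R) ^ N)) :
    p ∈ hatSub Y N ↔ AdicCompletion.evalₐ (maximalIdeal R) N p.1 = qproj Y N p.2 := Iff.rfl

theorem qproj_mk (y : Y.E) : qproj Y N (Ideal.Quotient.mk _ y) = Ideal.Quotient.mk _ (Y.proj y) := rfl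

/-- The inclusion of the module. -/
noncomputable def inclHat (N : ℕ) : L →+ hatSub Y N :=
    { toFun := fun z => ⟨(0, Ideal.Quotient.mk _ (Y.incl z)), by
        rw [mem_hatSub, map_zero, qproj_mk, (Y.isExtension.exact _).2 ⟨z, rfl⟩, map_zero]⟩
      map_zero' := Subtype.ext (Prod.ext rfl (by simp))
      map_add' := fun z z' => Subtype.ext (Prod.ext (by simp) (by simp)) }

theorem hat_exact {N : ℕ} (hs : Sep Y (maximalIdeal R) N) (p : hatSub Y N) :
    (p : (AdicCompletion (maximalIdeal R) R) × (Y.E ⧸ nOf Y (maximalIdeal R) ^ N)).1 = 0 ↔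
      p ∈ Set.range (inclHat Y N) := by
  constructor
  · intro hp
    obtain ⟨y, hy⟩ := Ideal.Quotient.mk_surjective p.1.2
    have h := (mem_hatSub Y _).1 p.2
    rw [hp, map_zero, ← hy, qproj_mk] at h
    obtain ⟨y₀, hy₀, he⟩ := exists_lift_pow Y _ N (Ideal.Quotient.eq_zero_iff_mem.1 h.symm)
    obtain ⟨z, hz⟩ := (Y.isExtension.exact (y - y₀)).1 (by rw [map_sub, he, sub_self])
    refine ⟨z, Subtype.ext (Prod.ext hp.symm ?_)⟩
    show Ideal.Quotient.mk _ (Y.incl z) = p.1.2
    rw [hz, map_sub, Ideal.Quotient.eq_zero_iff_mem.2 hy₀, sub_zero, hy]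
  · rintro ⟨z, rfl⟩
    rfl

theorem hat_mul {N : ℕ} (hN : 0 < N) (p : hatSub Y N) (z : L) :
    p * inclHat Y N z = inclHat Y N
      ((p : (AdicCompletion (maximalIdeal R) R) × (Y.E ⧸ nOf Y (maximalIdeal R) ^ N)).1 • z) := by
  obtain ⟨y, hy⟩ := Ideal.Quotient.mk_surjective p.1.2
  have h := (mem_hatSub Y _).1 p.2
  rw [← hy, qproj_mk] at h
  refine Subtype.ext (Prod.ext ?_ ?_)
  · exact mul_zero p.1.1
  · show p.1.2 * Ideal.Quotient.mk _ (Y.incl z) = Ideal.Quotient.mk _ (Y.incl (p.1.1 • z))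
    rw [smul_congr hN h, ← Y.isExtension.mul_incl, map_mul, hy]

/-- The extension of the completion attached to an extension. -/
noncomputable def hat (hN : 0 < N) (hs : Sep Y (maximalIdeal R) N) : Exal.Ext Λ (AdicCompletion (maximalIdeal R) R) L where
  E := hatSub Y N
  proj := (AlgHom.fst Λ _ _).comp (hatSub Y N).val
  incl := inclHat Y N
  isExtension :=
    { proj_surjective := fun x => by
        obtain ⟨r, hr⟩ := Ideal.Quotient.mk_surjective (AdicCompletion.evalₐ (maximalIdeal R) N x)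
        obtain ⟨y, rfl⟩ := Y.isExtension.proj_surjective r
        exact ⟨⟨(x, Ideal.Quotient.mk _ y), (mem_hatSub Y _).2 hr.symm⟩, rfl⟩
      incl_injective := fun z z' h => by
        have h' := congrArg (fun p : hatSub Y N => p.1.2) h
        refine sub_eq_zero.1 (hs _ ?_)
        rw [map_sub]
        exact Ideal.Quotient.eq.1 h'
      exact := hat_exact Y hs
      mul_incl := hat_mul Y hN }

theorem pullback_hat (hN : 0 < N) (hs : Sep Y (maximalIdeal R) N) :
    Nonempty (((hat Y hN hs).pullback R).Equiv Y) := by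
  let X := hat Y hN hs
  let τ : Y.E →ₐ[Λ] X.E :=
    (((IsScalarTower.toAlgHom Λ R (AdicCompletion (maximalIdeal R) R)).comp Y.proj).prod (Ideal.Quotient.mkₐ Λ _)).codRestrict
      (hatSub Y N) (fun y => by
        rw [mem_hatSub]
        show AdicCompletion.evalₐ (maximalIdeal R) N (algebraMap R (AdicCompletion (maximalIdeal R) R) (Y.proj y)) =
          qproj Y N (Ideal.Quotient.mk _ y)
        rw [AlgHom.commutes, qproj_mk]
        rfl)
  obtain ⟨e⟩ := nonempty_equiv (X := Y) (Y := X.pullback R)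
    ((τ.prod Y.proj).codRestrict (X.fiberProd R) (fun _ => rfl))
    (fun _ => rfl) (fun z => by
      refine Subtype.ext (Prod.ext (Subtype.ext (Prod.ext ?_ rfl)) ((Y.isExtension.exact _).2 ⟨z, rfl⟩))
      show algebraMap R (AdicCompletion (maximalIdeal R) R) (Y.proj (Y.incl z)) = 0
      rw [(Y.isExtension.exact _).2 ⟨z, rfl⟩, map_zero])
  exact ⟨e.symm⟩

theorem hat_congr {Y Y' : Exal.Ext Λ R L} (e : Y.Equiv Y') (hN : 0 < N)
    (hs : Sep Y (maximalIdeal R) N) (hs' : Sep Y' (maximalIdeal R) N) :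
    Nonempty ((hat Y hN hs).Equiv (hat Y' hN hs')) := by
  have hle : nOf Y (maximalIdeal R) ≤ (nOf Y' (maximalIdeal R)).comap e.toAlgEquiv.toAlgHom := by
    intro y hy
    show Y'.proj (e.toAlgEquiv y) ∈ maximalIdeal R
    rw [e.proj_apply]
    exact hy
  let ψ : Y.E ⧸ nOf Y (maximalIdeal R) ^ N →ₐ[Λ] Y'.E ⧸ nOf Y' (maximalIdeal R) ^ N :=
    Ideal.quotientMapₐ _ e.toAlgEquiv.toAlgHom
      ((Ideal.pow_right_mono hle N).trans (Ideal.le_comap_pow _ N))
  refine nonempty_equiv
    (((AlgHom.fst Λ _ _).comp (hatSub Y N).val).prod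
      (ψ.comp ((AlgHom.snd Λ _ _).comp (hatSub Y N).val)) |>.codRestrict (hatSub Y' N) (fun p => ?_))
    (fun _ => rfl) (fun z => ?_)
  · obtain ⟨y, hy⟩ := Ideal.Quotient.mk_surjective p.1.2
    have h := (mem_hatSub Y _).1 p.2
    rw [← hy, qproj_mk] at h
    rw [mem_hatSub]
    show AdicCompletion.evalₐ (maximalIdeal R) N p.1.1 = qproj Y' N (ψ p.1.2)
    rw [← hy, h]
    show _ = qproj Y' N (Ideal.Quotient.mk _ (e.toAlgEquiv y))
    rw [qproj_mk, e.proj_apply]
  · refine Subtype.ext (Prod.ext rfl ?_)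
    show Ideal.Quotient.mk _ (e.toAlgEquiv (Y.incl z)) = Ideal.Quotient.mk _ (Y'.incl z)
    rw [e.apply_incl]

/-- The projection of the pullback to the extension. -/
noncomputable def fstHom (X : Exal.Ext Λ (AdicCompletion (maximalIdeal R) R) L) : (X.pullback R).E →ₐ[Λ] X.E :=
  (AlgHom.fst Λ X.E R).comp (X.fiberProd R).val

theorem proj_fstHom (X : Exal.Ext Λ (AdicCompletion (maximalIdeal R) R) L) (p : (X.pullback R).E) :
    X.proj (fstHom X p) = algebraMap R (AdicCompletion (maximalIdeal R) R) ((X.pullback R).proj p) := p.2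

theorem fstHom_incl (X : Exal.Ext Λ (AdicCompletion (maximalIdeal R) R) L) (z : L) : fstHom X ((X.pullback R).incl z) = X.incl z := rfl

theorem nOf_le_comap_fstHom (X : Exal.Ext Λ (AdicCompletion (maximalIdeal R) R) L) :
    nOf (X.pullback R) (maximalIdeal R) ≤ (nOf X (maximalIdeal (AdicCompletion (maximalIdeal R) R))).comap (fstHom X) := by
  intro p hp
  show X.proj (fstHom X p) ∈ maximalIdeal (AdicCompletion (maximalIdeal R) R)
  rw [proj_fstHom, AdicCompletion.maximalIdeal_eq_map]
  exact Ideal.mem_map_of_mem _ hp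

theorem sep_pullback {X : Exal.Ext Λ (AdicCompletion (maximalIdeal R) R) L} (hs : Sep X (maximalIdeal (AdicCompletion (maximalIdeal R) R)) N) :
    Sep (X.pullback R) (maximalIdeal R) N := fun z hz => hs z (by
  have h1 := (Ideal.pow_right_mono (nOf_le_comap_fstHom X) N).trans (Ideal.le_comap_pow _ N) hz
  exact h1)

theorem equiv_hat_pullback (X : Exal.Ext Λ (AdicCompletion (maximalIdeal R) R) L) (hN : 0 < N) (hs : Sep X (maximalIdeal (AdicCompletion (maximalIdeal R) R)) N) :
    Nonempty (X.Equiv (hat (X.pullback R) hN (sep_pullback hs))) := by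
  let P := X.pullback R
  let φ : P.E ⧸ nOf P (maximalIdeal R) ^ N →ₐ[Λ] X.E ⧸ nOf X (maximalIdeal (AdicCompletion (maximalIdeal R) R)) ^ N :=
    Ideal.quotientMapₐ _ (fstHom X)
      ((Ideal.pow_right_mono (nOf_le_comap_fstHom X) N).trans (Ideal.le_comap_pow _ N))
  have hφ : Function.Bijective φ := by
    refine ⟨(injective_iff_map_eq_zero φ).2 fun c hc => ?_, fun c => ?_⟩
    · obtain ⟨p, rfl⟩ := Ideal.Quotient.mk_surjective c
      have hp : fstHom X p ∈ nOf X (maximalIdeal (AdicCompletion (maximalIdeal R) R)) ^ N := Ideal.Quotient.eq_zero_iff_mem.1 hc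
      have hr : P.proj p ∈ maximalIdeal R ^ N := by
        have h1 := (evalA_pow N).2 (proj_mem_pow X _ N hp)
        rw [proj_fstHom, AlgHom.commutes] at h1
        exact Ideal.Quotient.eq_zero_iff_mem.1 h1
      obtain ⟨p₀, hp₀, he⟩ := exists_lift_pow P _ N hr
      obtain ⟨z, hz⟩ := (P.isExtension.exact (p - p₀)).1 (by rw [map_sub, he, sub_self])
      have hzm : X.incl z ∈ nOf X (maximalIdeal (AdicCompletion (maximalIdeal R) R)) ^ N := by
        rw [← fstHom_incl, hz, map_sub]
        exact sub_mem hp ((Ideal.pow_right_mono (nOf_le_comap_fstHom X) N).trans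
          (Ideal.le_comap_pow _ N) hp₀)
      rw [hs z hzm, map_zero, eq_comm, sub_eq_zero] at hz
      exact Ideal.Quotient.eq_zero_iff_mem.2 (hz ▸ hp₀)
    · obtain ⟨e, rfl⟩ := Ideal.Quotient.mk_surjective c
      obtain ⟨r, hr⟩ := Ideal.Quotient.mk_surjective (AdicCompletion.evalₐ (maximalIdeal R) N (X.proj e))
      obtain ⟨p, rfl⟩ := P.isExtension.proj_surjective r
      have hd : X.proj (e - fstHom X p) ∈ maximalIdeal (AdicCompletion (maximalIdeal R) R) ^ N := by
        refine (evalA_pow N).1 ?_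
        rw [map_sub, map_sub, proj_fstHom, AlgHom.commutes, ← hr]
        exact sub_self _
      obtain ⟨e₀, he₀, he⟩ := exists_lift_pow X _ N hd
      obtain ⟨z, hz⟩ := (X.isExtension.exact (e - fstHom X p - e₀)).1 (by rw [map_sub, he, sub_self])
      refine ⟨Ideal.Quotient.mk _ (p + P.incl z), ?_⟩
      show Ideal.Quotient.mk _ (fstHom X (p + P.incl z)) = _
      rw [map_add, fstHom_incl, hz, Ideal.Quotient.eq]
      have : fstHom X p + (e - fstHom X p - e₀) - e = -e₀ := by abel
      rw [this]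
      exact neg_mem he₀
  let ψ := (AlgEquiv.ofBijective φ hφ).symm
  refine nonempty_equiv ((X.proj.prod (ψ.toAlgHom.comp (Ideal.Quotient.mkₐ Λ _))).codRestrict
    (hatSub P N) (fun e => ?_)) (fun _ => rfl) (fun z => ?_)
  · rw [mem_hatSub]
    show AdicCompletion.evalₐ (maximalIdeal R) N (X.proj e) = qproj P N (ψ (Ideal.Quotient.mk _ e))
    obtain ⟨p, hp⟩ := Ideal.Quotient.mk_surjective (ψ (Ideal.Quotient.mk _ e))
    rw [← hp, qproj_mk]
    have h1 : φ (Ideal.Quotient.mk _ p) = Ideal.Quotient.mk _ e := by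
      rw [hp]
      exact (AlgEquiv.ofBijective φ hφ).apply_symm_apply _
    have h2 : fstHom X p - e ∈ nOf X (maximalIdeal (AdicCompletion (maximalIdeal R) R)) ^ N := Ideal.Quotient.eq.1 h1
    have h3 := (evalA_pow N).2 (proj_mem_pow X _ N h2)
    rw [map_sub, map_sub, proj_fstHom, AlgHom.commutes, sub_eq_zero] at h3
    exact h3.symm
  · refine Subtype.ext (Prod.ext ((X.isExtension.exact _).2 ⟨z, rfl⟩) ?_)
    show ψ (Ideal.Quotient.mk _ (X.incl z)) = Ideal.Quotient.mk _ (P.incl z)
    exact (AlgEquiv.ofBijective φ hφ).symm_apply_eq.2 rfl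

/-- **Pullback to the ring is bijective on classes of extensions of the completion.** -/
theorem pullback_bijective :
    (∀ X X' : Exal.Ext Λ (AdicCompletion (maximalIdeal R) R) L, Nonempty ((X.pullback R).Equiv (X'.pullback R)) →
        Nonempty (X.Equiv X')) ∧
      ∀ Y : Exal.Ext Λ R L, ∃ X : Exal.Ext Λ (AdicCompletion (maximalIdeal R) R) L, Nonempty ((X.pullback R).Equiv Y) := by
  haveI := isSimpleModule_completion (R := R) (L := L)
  haveI : IsNoetherianRing (AdicCompletion (maximalIdeal R) R) := Groth.Agent.S0543.result R (maximalIdeal R)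
  refine ⟨fun X X' ⟨e⟩ => ?_, fun Y => ?_⟩
  · obtain ⟨N₁, h₁, hs₁⟩ := exists_sep X
    obtain ⟨N₂, -, hs₂⟩ := exists_sep X'
    have hN : 0 < max N₁ N₂ := lt_max_of_lt_left h₁
    have hs := hs₁.mono (le_max_left N₁ N₂)
    have hs' := hs₂.mono (le_max_right N₁ N₂)
    obtain ⟨a⟩ := equiv_hat_pullback X hN hs
    obtain ⟨b⟩ := hat_congr e hN (sep_pullback hs) (sep_pullback hs')
    obtain ⟨c⟩ := equiv_hat_pullback X' hN hs'
    exact ⟨(a.trans b).trans c.symm⟩
  · obtain ⟨N, hN, hs⟩ := exists_sep Y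
    exact ⟨hat Y hN hs, pullback_hat Y hN hs⟩

end Completion

end Groth.Agent.Synt29.ExalCompl
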