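import Mathlib

/-! Square zero extensions and their conormal sequences. -/

set_option autoImplicit false

universe u

open TensorProduct KaehlerDifferential

namespace Groth.Agent.Synt29.ExtSeq

variable {A B : Type u} [CommRing A] [CommRing B] [Algebra A B]

lemma mk_injective (P : Algebra.Extension.{u} A B) (hsq : P.ker ^ 2 = ⊥) :
    Function.Injective (Algebra.Extension.Cotangent.mk (P := P)) := fun x y h => by
  rw [Algebra.Extension.Cotangent.mk_eq_mk_iff_sub_mem, hsq, Ideal.mem_bot, sub_eq_zero] at h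
  exact Subtype.ext h

/-- A section modulo a square-zero ideal kills the elements with vanishing differential. -/
theorem map_eq_zero_of_tmul_D (P : Algebra.Extension.{u} A B) {Q : Type u} [CommRing Q] [Algebra A Q]
    (π : P.Ring →ₐ[A] Q) (g : B →ₐ[A] Q)
    (hnil : ∀ c e : P.Ring, (π c - g (algebraMap P.Ring B c)) * (π e - g (algebraMap P.Ring B e)) = 0)
    (a : P.Ring) (ha : algebraMap P.Ring B a = 0)
    (h : (1 : B) ⊗ₜ[P.Ring] KaehlerDifferential.D A P.Ring a = 0) : π a = 0 := by
  let _ : Algebra P.Ring Q := π.toRingHom.toAlgebra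
  have : IsScalarTower A P.Ring Q := IsScalarTower.of_algebraMap_eq fun r => (π.commutes r).symm
  let s : P.Ring →ₐ[A] Q := g.comp (IsScalarTower.toAlgHom A P.Ring B)
  have hmul : ∀ c e, π (c * e) - s (c * e) = π c * (π e - s e) + π e * (π c - s c) := fun c e => by
    have h1 : (π c - s c) * (π e - s e) = 0 := hnil c e
    rw [map_mul, map_mul]
    linear_combination (-1 : Q) * h1
  let δ : Derivation A P.Ring Q := Derivation.mk' (π.toLinearMap - s.toLinearMap) fun c e => hmul c e
  let L := δ.liftKaehlerDifferential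
  have hL : ∀ c w, (π c - s c) * L w = 0 := fun c w => by
    have hw : w ∈ Submodule.span P.Ring (Set.range (KaehlerDifferential.D A P.Ring)) := by
      rw [KaehlerDifferential.span_range_derivation]; trivial
    induction hw using Submodule.span_induction with
    | mem y hy =>
        obtain ⟨e, rfl⟩ := hy
        rw [show L (KaehlerDifferential.D A P.Ring e) = δ e from δ.liftKaehlerDifferential_comp_D e]
        exact hnil c e
    | zero => rw [map_zero, mul_zero]
    | add y y' _ _ e e' => rw [map_add, mul_add, e, e', add_zero]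
    | smul d y _ e => rw [map_smul, mul_smul_comm, e, smul_zero]
  let Φ : B ⊗[P.Ring] Ω[P.Ring⁄A] →ₗ[P.Ring] Q := TensorProduct.lift (LinearMap.mk₂ P.Ring
    (fun b w => g b * L w)
    (fun b b' w => by rw [map_add, add_mul])
    (fun c b w => by
      rw [Algebra.smul_def, Algebra.smul_def, map_mul, mul_assoc]
      have h1 : (π c - s c) * (g b * L w) = 0 := by rw [mul_left_comm, hL, mul_zero]
      rw [sub_mul, sub_eq_zero] at h1
      exact h1.symm)
    (fun b w w' => by rw [map_add, mul_add])
    (fun c b w => by rw [map_smul, mul_smul_comm]))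
  have h2 : g 1 * L (KaehlerDifferential.D A P.Ring a) = 0 := (congrArg Φ h).trans (map_zero Φ)
  rw [map_one, one_mul, show L (KaehlerDifferential.D A P.Ring a) = π a - s a from
    δ.liftKaehlerDifferential_comp_D a, show s a = 0 from (congrArg g ha).trans (map_zero g),
    sub_zero] at h2
  exact h2

/-- Injectivity of the conormal map of a square-zero extension. -/
theorem cotangentComplex_injective [IsReduced B]
    (hsm : ∀ p : PrimeSpectrum B, p.asIdeal ∈ minimalPrimes B → Algebra.IsSmoothAt A p.asIdeal)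
    (P : Algebra.Extension.{u} A B) (hsq : P.ker ^ 2 = ⊥)
    [Module.Projective B P.Cotangent] : Function.Injective P.cotangentComplex := by
  refine (injective_iff_map_eq_zero _).mpr fun z hz => ?_
  obtain ⟨⟨a, ha⟩, rfl⟩ := Algebra.Extension.Cotangent.mk_surjective z
  rw [Algebra.Extension.cotangentComplex_mk] at hz
  have key : ∀ p : Ideal B, p ∈ minimalPrimes B →
      ∃ s : B, s ∉ p ∧ s • Algebra.Extension.Cotangent.mk (⟨a, ha⟩ : P.ker) = 0 := by
    intro p hp
    have : p.IsPrime := hp.1.1
    let P₀ : Ideal P.Ring := p.comap (algebraMap P.Ring B)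
    let Q := Localization.AtPrime P₀
    let Bp := Localization.AtPrime p
    have hu : ∀ y : P₀.primeCompl, IsUnit ((IsScalarTower.toAlgHom A B Bp).comp
        (IsScalarTower.toAlgHom A P.Ring B) y) := fun y =>
      IsLocalization.map_units Bp (⟨algebraMap P.Ring B y, y.2⟩ : p.primeCompl)
    let q : Q →ₐ[A] Bp := IsLocalization.liftAlgHom (M := P₀.primeCompl) hu
    have hqe : ∀ e, q (algebraMap P.Ring Q e) = algebraMap B Bp (algebraMap P.Ring B e) :=
      fun e => IsLocalization.lift_eq _ e
    have hqmk : ∀ (e : P.Ring) (t : P₀.primeCompl),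
        q (IsLocalization.mk' Q e t) * algebraMap B Bp (algebraMap P.Ring B t) =
          algebraMap B Bp (algebraMap P.Ring B e) := fun e t => by
      rw [← hqe t, ← map_mul, IsLocalization.mk'_spec, hqe]
    have hq : Function.Surjective q := by
      intro x
      obtain ⟨b, t, rfl⟩ := IsLocalization.exists_mk'_eq p.primeCompl x
      refine ⟨IsLocalization.mk' Q (P.σ b) (⟨P.σ t, fun h => t.2 (by simpa [P₀] using h)⟩ : P₀.primeCompl), ?_⟩
      rw [IsLocalization.eq_mk'_iff_mul_eq]
      have := hqmk (P.σ b) ⟨P.σ t, fun h => t.2 (by simpa [P₀] using h)⟩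
      simpa using this
    have hker : ∀ x, q x = 0 → ∃ c, c ∈ P.ker ∧ ∃ u : Q, x = algebraMap P.Ring Q c * u := by
      intro x hx
      obtain ⟨e, t, rfl⟩ := IsLocalization.exists_mk'_eq P₀.primeCompl x
      have h0 : algebraMap B Bp (algebraMap P.Ring B e) = 0 := by rw [← hqmk e t, hx, zero_mul]
      obtain ⟨v, hv⟩ := (IsLocalization.map_eq_zero_iff p.primeCompl Bp _).mp h0
      let w : P₀.primeCompl := ⟨P.σ v, fun h => v.2 (by simpa [P₀] using h)⟩
      refine ⟨(w : P.Ring) * e, RingHom.mem_ker.mpr ?_, IsLocalization.mk' Q 1 (w * t), ?_⟩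
      · rw [map_mul]
        simpa [w] using hv
      · rw [← IsLocalization.mk'_one (M := P₀.primeCompl) Q ((w : P.Ring) * e), ← IsLocalization.mk'_mul,
          IsLocalization.mk'_eq_iff_eq]
        simp [mul_assoc, mul_comm, mul_left_comm]
    have hnil : ∀ x y, q x = 0 → q y = 0 → x * y = 0 := by
      intro x y hx hy
      obtain ⟨c, hc, u, rfl⟩ := hker x hx
      obtain ⟨c', hc', u', rfl⟩ := hker y hy
      have : c * c' = 0 := by
        rw [← Ideal.mem_bot, ← hsq, sq]
        exact Ideal.mul_mem_mul hc hc'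
      rw [mul_mul_mul_comm, ← map_mul, this, map_zero, zero_mul]
    have hN : IsNilpotent (RingHom.ker (q : Q →+* Bp)) := ⟨2, by
      refine ((sq _).trans (le_bot_iff.mp (Ideal.mul_le.mpr fun u hu v hv => ?_))).trans
        Ideal.zero_eq_bot.symm
      exact Ideal.mem_bot.mpr (hnil u v hu hv)⟩
    have : Algebra.FormallySmooth A Bp := hsm ⟨p, hp.1.1⟩ hp
    obtain ⟨g, hg⟩ : ∃ g : Bp →ₐ[A] Q, ∀ b, q (g b) = b :=
      ⟨Algebra.FormallySmooth.liftOfSurjective (AlgHom.id A Bp) q hq hN,
        fun b => Algebra.FormallySmooth.liftOfSurjective_apply (AlgHom.id A Bp) q hq hN b⟩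
    have hzero : algebraMap P.Ring Q a = 0 :=
      map_eq_zero_of_tmul_D P (IsScalarTower.toAlgHom A P.Ring Q)
        (g.comp (IsScalarTower.toAlgHom A B Bp))
        (fun c e => hnil _ _ (by
          rw [map_sub, sub_eq_zero]
          exact (hqe c).trans (hg _).symm) (by
          rw [map_sub, sub_eq_zero]
          exact (hqe e).trans (hg _).symm)) a ha hz
    obtain ⟨t, ht⟩ := (IsLocalization.map_eq_zero_iff P₀.primeCompl Q _).mp hzero
    refine ⟨algebraMap P.Ring B t, t.2, ?_⟩
    rw [algebraMap_smul, ← map_smul, show (t : P.Ring) • (⟨a, ha⟩ : P.ker) = 0 from Subtype.ext ht,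
      map_zero]
  obtain ⟨s, hs⟩ := Module.Projective.out (R := B) (P := P.Cotangent)
  refine (hs (Algebra.Extension.Cotangent.mk (⟨a, ha⟩ : P.ker))).symm.trans ?_
  have : s (Algebra.Extension.Cotangent.mk (⟨a, ha⟩ : P.ker)) = 0 := by
    ext i
    have hmem : s (Algebra.Extension.Cotangent.mk (⟨a, ha⟩ : P.ker)) i ∈ nilradical B := by
      rw [nilradical, ← Ideal.sInf_minimalPrimes, Ideal.mem_sInf]
      intro p hp
      obtain ⟨t, htp, ht⟩ := key p hp
      have h0 : t * s (Algebra.Extension.Cotangent.mk (⟨a, ha⟩ : P.ker)) i = 0 := by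
        rw [← smul_eq_mul, ← Finsupp.smul_apply, ← map_smul, ht, map_zero, Finsupp.zero_apply]
      exact ((hp.1.1).mem_or_mem (by rw [h0]; exact p.zero_mem)).resolve_left htp
    rw [nilradical_eq_zero] at hmem
    simpa using hmem
  rw [this, map_zero]

/-- An isomorphism of conormal sequences comes from one of extensions. -/
theorem exists_hom (P P' : Algebra.Extension.{u} A B) (hsq : P.ker ^ 2 = ⊥) (hsq' : P'.ker ^ 2 = ⊥)
    (hinj : Function.Injective P.cotangentComplex)
    (e₁ : P.Cotangent ≃ₗ[B] P'.Cotangent) (e₂ : P.CotangentSpace ≃ₗ[B] P'.CotangentSpace)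
    (h₁ : ∀ x, e₂ (P.cotangentComplex x) = P'.cotangentComplex (e₁ x))
    (h₂ : ∀ y, P'.toKaehler (e₂ y) = P.toKaehler y) :
    ∃ f : P.Hom P', Function.Bijective f.toRingHom ∧
      Algebra.Extension.Cotangent.map f = e₁.toLinearMap := by
  let dP : P.Ring → P.CotangentSpace := fun e => (1 : B) ⊗ₜ KaehlerDifferential.D A P.Ring e
  let dP' : P'.Ring → P'.CotangentSpace := fun e => (1 : B) ⊗ₜ KaehlerDifferential.D A P'.Ring e
  have hinj' : Function.Injective P'.cotangentComplex := fun x y h => by
    obtain ⟨x, rfl⟩ := e₁.surjective x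
    obtain ⟨y, rfl⟩ := e₁.surjective y
    rw [← h₁, ← h₁] at h
    rw [hinj (e₂.injective h)]
  have hk : ∀ e, P.toKaehler (dP e) = KaehlerDifferential.D A B (algebraMap P.Ring B e) := fun e =>
    (KaehlerDifferential.mapBaseChange_tmul A P.Ring B (1 : B) _).trans
      (by rw [one_smul, KaehlerDifferential.map_D])
  have hk' : ∀ e, P'.toKaehler (dP' e) = KaehlerDifferential.D A B (algebraMap P'.Ring B e) := fun e =>
    (KaehlerDifferential.mapBaseChange_tmul A P'.Ring B (1 : B) _).trans
      (by rw [one_smul, KaehlerDifferential.map_D])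
  have huniq : ∀ u v : P'.Ring, algebraMap P'.Ring B u = algebraMap P'.Ring B v → dP' u = dP' v →
      u = v := by
    intro u v h h'
    have hm : u - v ∈ P'.ker := RingHom.mem_ker.mpr (by rw [map_sub, h, sub_self])
    have h0 : P'.cotangentComplex (Algebra.Extension.Cotangent.mk ⟨u - v, hm⟩) = 0 := by
      rw [Algebra.Extension.cotangentComplex_mk]
      show (1 : B) ⊗ₜ[P'.Ring] KaehlerDifferential.D A P'.Ring (u - v) = 0
      rw [map_sub, TensorProduct.tmul_sub]
      exact sub_eq_zero.mpr h'
    exact sub_eq_zero.mp (congrArg Subtype.val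
      (mk_injective P' hsq' ((hinj' (h0.trans (map_zero _).symm)).trans (map_zero _).symm)))
  have hex : ∀ e : P.Ring, ∃ e' : P'.Ring,
      algebraMap P'.Ring B e' = algebraMap P.Ring B e ∧ dP' e' = e₂ (dP e) := by
    intro e
    let e₀ := P'.σ (algebraMap P.Ring B e)
    have h0 : P'.toKaehler (e₂ (dP e) - dP' e₀) = 0 := by
      rw [map_sub, h₂, hk, hk', P'.algebraMap_σ, sub_self]
    obtain ⟨x, hx⟩ := (P'.exact_cotangentComplex_toKaehler _).mp h0
    obtain ⟨⟨c, hc⟩, rfl⟩ := Algebra.Extension.Cotangent.mk_surjective x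
    refine ⟨e₀ + c, by rw [map_add, RingHom.mem_ker.mp hc, add_zero, P'.algebraMap_σ], ?_⟩
    show (1 : B) ⊗ₜ[P'.Ring] KaehlerDifferential.D A P'.Ring (e₀ + c) = _
    rw [map_add, TensorProduct.tmul_add]
    exact (congrArg (dP' e₀ + ·) hx).trans (add_sub_cancel _ _)
  choose f hf hf' using hex
  have hd_add : ∀ u v, dP' (u + v) = dP' u + dP' v := fun u v => by
    simp only [dP', map_add, TensorProduct.tmul_add]
  have hd_mul : ∀ u v, dP' (u * v) = algebraMap P'.Ring B u • dP' v + algebraMap P'.Ring B v • dP' u :=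
    fun u v => by simp only [dP', Derivation.leibniz, TensorProduct.tmul_add, TensorProduct.tmul_smul, algebraMap_smul]
  have hd_mul₀ : ∀ u v, dP (u * v) = algebraMap P.Ring B u • dP v + algebraMap P.Ring B v • dP u :=
    fun u v => by simp only [dP, Derivation.leibniz, TensorProduct.tmul_add, TensorProduct.tmul_smul, algebraMap_smul]
  let F : P.Ring →+* P'.Ring :=
    { toFun := f
      map_one' := huniq _ _ (by rw [hf, map_one, map_one]) (by
        rw [hf']; simp [dP, dP'])
      map_zero' := huniq _ _ (by rw [hf, map_zero, map_zero]) (by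
        rw [hf']; simp [dP, dP'])
      map_add' := fun u v => huniq _ _ (by rw [hf, map_add, map_add, hf, hf]) (by
        rw [hf', hd_add, hf', hf', ← map_add]
        simp only [dP, map_add, TensorProduct.tmul_add])
      map_mul' := fun u v => huniq _ _ (by rw [hf, map_mul, map_mul, hf, hf]) (by
        rw [hf', hd_mul, hd_mul₀, map_add, map_smul, map_smul, hf, hf, hf', hf']) }
  let hom : P.Hom P' :=
    { toRingHom := F
      toRingHom_algebraMap := fun r => huniq _ _ (by
          show algebraMap P'.Ring B (f _) = _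
          rw [hf, Algebra.algebraMap_self_apply, ← IsScalarTower.algebraMap_apply,
            ← IsScalarTower.algebraMap_apply]) (by
          show dP' (f _) = _
          rw [hf']; simp [dP, dP'])
      algebraMap_toRingHom := fun e => by
        show algebraMap P'.Ring B (f e) = _
        rw [hf, Algebra.algebraMap_self_apply] }
  have hmap : Algebra.Extension.Cotangent.map hom = e₁.toLinearMap := by
    refine LinearMap.ext fun x => hinj' ?_
    obtain ⟨c, rfl⟩ := Algebra.Extension.Cotangent.mk_surjective x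
    rw [LinearEquiv.coe_coe, ← h₁, Algebra.Extension.Cotangent.map_mk,
      Algebra.Extension.cotangentComplex_mk, Algebra.Extension.cotangentComplex_mk]
    exact hf' _
  refine ⟨hom, ⟨(injective_iff_map_eq_zero F).mpr fun e he => ?_, fun e' => ?_⟩, hmap⟩
  · have hm : e ∈ P.ker := RingHom.mem_ker.mpr (by rw [← hf e, show f e = 0 from he, map_zero])
    have h0 : e₂ (dP e) = 0 := by
      rw [← hf', show f e = 0 from he]; simp [dP']
    have h1 : P.cotangentComplex (Algebra.Extension.Cotangent.mk ⟨e, hm⟩) = 0 :=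
      (Algebra.Extension.cotangentComplex_mk (P := P) ⟨e, hm⟩).trans (e₂.injective (h0.trans (map_zero _).symm))
    exact congrArg Subtype.val
      (mk_injective P hsq ((hinj (h1.trans (map_zero _).symm)).trans (map_zero _).symm))
  · let e₀ := P.σ (algebraMap P'.Ring B e')
    have hm : e' - f e₀ ∈ P'.ker := RingHom.mem_ker.mpr (by
      rw [map_sub, hf, P.algebraMap_σ, sub_self])
    obtain ⟨⟨c, hc⟩, hcx⟩ := Algebra.Extension.Cotangent.mk_surjective
      (e₁.symm (Algebra.Extension.Cotangent.mk ⟨_, hm⟩))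
    refine ⟨e₀ + c, huniq _ _ ?_ ?_⟩
    · show algebraMap P'.Ring B (f (e₀ + c)) = _
      rw [hf, map_add, RingHom.mem_ker.mp hc, add_zero, P.algebraMap_σ]
    · show dP' (f (e₀ + c)) = _
      have e3 : dP' (e' - f e₀) = e₂ (dP c) := by
        have := h₁ (e₁.symm (Algebra.Extension.Cotangent.mk ⟨_, hm⟩))
        rw [LinearEquiv.apply_symm_apply, ← hcx, Algebra.Extension.cotangentComplex_mk,
          Algebra.Extension.cotangentComplex_mk] at this
        exact this.symm
      rw [hf', show dP (e₀ + c) = dP e₀ + dP c by simp only [dP, map_add, TensorProduct.tmul_add],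
        map_add, ← hf' e₀, ← e3, ← hd_add, add_sub_cancel]

end Groth.Agent.Synt29.ExtSeq
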