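import Mathlib

/-! Square zero extensions from extensions of the module of differentials. -/

set_option autoImplicit false

universe u

open TensorProduct KaehlerDifferential

namespace Groth.Agent.Synt29.ExtOfSeq

variable (A : Type u) {B : Type u} [CommRing A] [CommRing B] [Algebra A B]

/-- pairs `(b, n)` with `q n = d b` -/
@[ext]
structure Car {N : Type u} [AddCommGroup N] [Module B N] (q : N →ₗ[B] Ω[B⁄A]) where
  fst : B
  snd : N
  eq : q snd = KaehlerDifferential.D A B fst

variable {A} {N : Type u} [AddCommGroup N] [Module B N] (q : N →ₗ[B] Ω[B⁄A])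

namespace Car

variable {q}

instance : Add (Car A q) := ⟨fun x y => ⟨x.fst + y.fst, x.snd + y.snd, by simp [x.eq, y.eq]⟩⟩
instance : Mul (Car A q) := ⟨fun x y => ⟨x.fst * y.fst, x.fst • y.snd + y.fst • x.snd,
  by simp [x.eq, y.eq, Derivation.leibniz]⟩⟩
instance : Zero (Car A q) := ⟨⟨0, 0, by simp⟩⟩
instance : One (Car A q) := ⟨⟨1, 0, by simp⟩⟩
instance : Neg (Car A q) := ⟨fun x => ⟨-x.fst, -x.snd, by simp [x.eq]⟩⟩

@[simp] lemma add_fst (x y : Car A q) : (x + y).fst = x.fst + y.fst := rfl
@[simp] lemma add_snd (x y : Car A q) : (x + y).snd = x.snd + y.snd := rfl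
@[simp] lemma mul_fst (x y : Car A q) : (x * y).fst = x.fst * y.fst := rfl
@[simp] lemma mul_snd (x y : Car A q) : (x * y).snd = x.fst • y.snd + y.fst • x.snd := rfl
@[simp] lemma zero_fst : (0 : Car A q).fst = 0 := rfl
@[simp] lemma zero_snd : (0 : Car A q).snd = 0 := rfl
@[simp] lemma one_fst : (1 : Car A q).fst = 1 := rfl
@[simp] lemma one_snd : (1 : Car A q).snd = 0 := rfl
@[simp] lemma neg_fst (x : Car A q) : (-x).fst = -x.fst := rfl
@[simp] lemma neg_snd (x : Car A q) : (-x).snd = -x.snd := rfl

noncomputable instance : CommRing (Car A q) where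
  add_assoc x y z := by ext <;> simp [add_assoc]
  zero_add x := by ext <;> simp
  add_zero x := by ext <;> simp
  add_comm x y := by ext <;> simp [add_comm]
  neg_add_cancel x := by ext <;> simp
  nsmul := nsmulRec
  zsmul := zsmulRec
  mul_assoc x y z := by
    ext
    · simp [mul_assoc]
    · simp only [mul_snd, mul_fst, smul_add, smul_smul]
      rw [mul_comm z.fst x.fst, mul_comm z.fst y.fst]
      abel
  one_mul x := by ext <;> simp
  mul_one x := by ext <;> simp
  mul_comm x y := by
    ext
    · simp [mul_comm]
    · simp [add_comm]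
  zero_mul x := by ext <;> simp
  mul_zero x := by ext <;> simp
  left_distrib x y z := by
    ext
    · simp [mul_add]
    · simp only [mul_snd, add_snd, add_fst, smul_add, add_smul]
      abel
  right_distrib x y z := by
    ext
    · simp [add_mul]
    · simp only [mul_snd, add_snd, add_fst, smul_add, add_smul]
      abel

/-- projection -/
def proj : Car A q →+* B where
  toFun := fst
  map_one' := rfl
  map_mul' _ _ := rfl
  map_zero' := rfl
  map_add' _ _ := rfl

/-- constants -/
def const : A →+* Car A q where
  toFun a := ⟨algebraMap A B a, 0, by simp⟩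
  map_one' := by ext <;> simp
  map_mul' _ _ := by ext <;> simp
  map_zero' := by ext <;> simp
  map_add' _ _ := by ext <;> simp

noncomputable instance : Algebra A (Car A q) := (const (q := q)).toAlgebra

lemma algebraMap_snd (a : A) : (algebraMap A (Car A q) a).snd = 0 := rfl

end Car

open Car

/-- the extension -/
noncomputable def ext (hq : Function.Surjective q) : Algebra.Extension.{u} A B :=
  letI := (Car.proj (q := q)).toAlgebra
  haveI : IsScalarTower A (Car A q) B := IsScalarTower.of_algebraMap_eq fun _ => rfl
  { Ring := Car A q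
    σ := fun b => ⟨b, (hq (KaehlerDifferential.D A B b)).choose, (hq _).choose_spec⟩
    algebraMap_σ := fun _ => rfl }

variable {M : Type u} [AddCommGroup M] [Module B M]

theorem exists_extension (i : M →ₗ[B] N) (hi : Function.Injective i) (hq : Function.Surjective q)
    (hex : Function.Exact i q) :
    ∃ P : Algebra.Extension.{u} A B, P.ker ^ 2 = ⊥ ∧
      ∃ (e₁ : P.Cotangent ≃ₗ[B] M) (e₂ : P.CotangentSpace ≃ₗ[B] N),
        (∀ x, e₂ (P.cotangentComplex x) = i (e₁ x)) ∧ (∀ y, q (e₂ y) = P.toKaehler y) := by
  let P := ext q hq
  let fstP : P.Ring → B := fun c => (show Car A q from c).fst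
  let sndP : P.Ring → N := fun c => (show Car A q from c).snd
  have hker : ∀ c : P.Ring, c ∈ P.ker ↔ fstP c = 0 := fun c => Iff.rfl
  have hsq : P.ker ^ 2 = ⊥ := by
    refine (sq _).trans (le_bot_iff.mp (Ideal.mul_le.mpr fun c hc d hd => Ideal.mem_bot.mpr ?_))
    apply Car.ext (A := A) (q := q)
    · exact mul_eq_zero_of_left ((hker c).mp hc) _
    · show fstP c • sndP d + fstP d • sndP c = 0
      rw [(hker c).mp hc, (hker d).mp hd, zero_smul, zero_smul, add_zero]
  refine ⟨P, hsq, ?_⟩
  let _ : Module P.Ring N := Module.compHom N (algebraMap P.Ring B)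
  have : IsScalarTower P.Ring B N := IsScalarTower.of_algebraMap_smul fun _ _ => rfl
  let _ : Module A N := Module.compHom N (algebraMap A B)
  have : IsScalarTower A P.Ring N := IsScalarTower.of_algebraMap_smul fun a n => by
    show algebraMap P.Ring B (algebraMap A P.Ring a) • n = algebraMap A B a • n
    rw [← IsScalarTower.algebraMap_apply]
  let δ : Derivation A P.Ring N := Derivation.mk'
    { toFun := sndP
      map_add' := fun _ _ => rfl
      map_smul' := fun a c => by
        show sndP (a • c) = algebraMap A B a • sndP c
        rw [Algebra.smul_def]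
        show algebraMap A B a • sndP c + fstP c • (0 : N) = algebraMap A B a • sndP c
        rw [smul_zero, add_zero] }
    (fun c d => rfl)
  let Φ : P.CotangentSpace →ₗ[B] N :=
    (LinearMap.liftBaseChange B δ.liftKaehlerDifferential)
  have hΦ : ∀ c, Φ ((1 : B) ⊗ₜ KaehlerDifferential.D A P.Ring c) = sndP c := fun c => by
    show LinearMap.liftBaseChange B δ.liftKaehlerDifferential _ = _
    rw [LinearMap.liftBaseChange_tmul, one_smul]
    exact δ.liftKaehlerDifferential_comp_D c
  have hqΦ : ∀ y, q (Φ y) = P.toKaehler y := by
    intro y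
    induction y using TensorProduct.induction_on with
    | zero => simp
    | tmul b w =>
        have hw : w ∈ Submodule.span P.Ring (Set.range (KaehlerDifferential.D A P.Ring)) := by
          rw [KaehlerDifferential.span_range_derivation]; trivial
        induction hw using Submodule.span_induction generalizing b with
        | mem w hw =>
            obtain ⟨c, rfl⟩ := hw
            rw [show b ⊗ₜ[P.Ring] KaehlerDifferential.D A P.Ring c =
              b • ((1 : B) ⊗ₜ[P.Ring] KaehlerDifferential.D A P.Ring c) by
                rw [TensorProduct.smul_tmul', smul_eq_mul, mul_one],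
              map_smul, map_smul, map_smul, hΦ]
            refine congrArg (b • ·) ((show Car A q from c).eq.trans ?_)
            refine Eq.symm ((KaehlerDifferential.mapBaseChange_tmul A P.Ring B (1 : B) _).trans ?_)
            rw [one_smul, KaehlerDifferential.map_D]
            rfl
        | zero => simp
        | add w w' _ _ e e' => simp only [TensorProduct.tmul_add, map_add, e, e']
        | smul c w _ e => rw [← TensorProduct.smul_tmul, e]
    | add y y' e e' => simp only [map_add, e, e']
  -- the kernel
  let val : M → P.ker := fun m => ⟨(show P.Ring from (⟨0, i m, by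
    rw [hex.apply_apply_eq_zero, map_zero]⟩ : Car A q)), rfl⟩
  let j : M →ₗ[B] P.Cotangent :=
    { toFun := fun m => Algebra.Extension.Cotangent.mk (val m)
      map_add' := fun m m' => by
        rw [← map_add]
        refine congrArg _ (Subtype.ext ?_)
        exact Car.ext (A := A) (q := q) (add_zero _).symm (map_add i m m')
      map_smul' := fun b m => by
        refine Eq.trans ?_ (congrArg (· • Algebra.Extension.Cotangent.mk (val m)) (P.algebraMap_σ b))
        rw [algebraMap_smul, ← map_smul]
        refine congrArg _ (Subtype.ext ?_)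
        refine Car.ext (A := A) (q := q) ?_ ?_
        · exact (mul_zero (fstP (P.σ b))).symm
        · show i (b • m) = fstP (P.σ b) • i m + (0 : B) • sndP (P.σ b)
          rw [zero_smul, add_zero, map_smul]
          rfl }
  have hj : Function.Bijective j := by
    constructor
    · intro m m' h
      have h' : Algebra.Extension.Cotangent.mk (val m) = Algebra.Extension.Cotangent.mk (val m') := h
      rw [Algebra.Extension.Cotangent.mk_eq_mk_iff_sub_mem, hsq, Ideal.mem_bot, sub_eq_zero] at h'
      exact hi (congrArg sndP h')
    · intro x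
      obtain ⟨⟨c, hc⟩, rfl⟩ := Algebra.Extension.Cotangent.mk_surjective x
      have h0 : q (sndP c) = 0 := by
        refine (show Car A q from c).eq.trans ?_
        rw [show (show Car A q from c).fst = 0 from (hker c).mp hc, map_zero]
      obtain ⟨m, hm⟩ := (hex _).mp h0
      exact ⟨m, congrArg _ (Subtype.ext (Car.ext (A := A) (q := q) ((hker c).mp hc).symm hm))⟩
  let e₁ := (LinearEquiv.ofBijective j hj).symm
  have hcc : ∀ x, Φ (P.cotangentComplex x) = i (e₁ x) := by
    intro x
    obtain ⟨m, rfl⟩ := hj.2 x
    rw [show e₁ (j m) = m from (LinearEquiv.ofBijective j hj).symm_apply_apply m]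
    exact (congrArg Φ (Algebra.Extension.cotangentComplex_mk (P := P) (val m))).trans (hΦ _)
  have hΦb : Function.Bijective Φ := by
    constructor
    · refine (injective_iff_map_eq_zero Φ).mpr fun y hy => ?_
      obtain ⟨x, rfl⟩ := (P.exact_cotangentComplex_toKaehler y).mp (by rw [← hqΦ, hy, map_zero])
      rw [hcc] at hy
      rw [e₁.injective ((hi (hy.trans (map_zero i).symm)).trans (map_zero e₁).symm), map_zero]
    · intro n
      obtain ⟨y, hy⟩ := P.toKaehler_surjective (q n)
      obtain ⟨m, hm⟩ := (hex (n - Φ y)).mp (by rw [map_sub, hqΦ, hy, sub_self])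
      refine ⟨y + P.cotangentComplex (e₁.symm m), ?_⟩
      rw [map_add, hcc, e₁.apply_symm_apply, hm, add_sub_cancel]
  exact ⟨e₁, LinearEquiv.ofBijective Φ hΦb, hcc, hqΦ⟩

end Groth.Agent.Synt29.ExtOfSeq
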