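import Mathlib
import Groth.Prelude.Def_Exal

/-!
Square-zero extensions of a quotient ring by a restriction of a lift.
-/

set_option autoImplicit false

universe u

namespace Groth.Agent.Synt29.ExalClass

attribute [local instance] Exal.opModule Exal.isCentralScalar_opModule

variable {Λ A : Type u} [CommRing Λ] [CommRing A] [Algebra Λ A] {J : Ideal A} {L : Type u} [AddCommGroup L]
  [Module (A ⧸ J) L] [Module A L] [IsScalarTower A (A ⧸ J) L]

theorem mk_smul (p : A) (z : L) : Ideal.Quotient.mk J p • z = p • z :=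
  algebraMap_smul (A ⧸ J) p z

theorem smul_eq_zero {j : A} (hj : j ∈ J) (z : L) : j • z = 0 := by
  rw [← mk_smul (J := J), Ideal.Quotient.eq_zero_iff_mem.2 hj, zero_smul]

/-- The map of the trivial extension of `A` to an extension of `A ⧸ J` given by a lift. -/
noncomputable def cover (X : Exal.Ext Λ (A ⧸ J) L) (u : A →ₐ[Λ] X.E)
    (hu : ∀ p, X.proj (u p) = Ideal.Quotient.mk J p) : TrivSqZeroExt A L →+* X.E where
  toFun t := u t.fst + X.incl t.snd
  map_one' := by simp
  map_zero' := by simp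
  map_add' s t := by
    simp only [TrivSqZeroExt.fst_add, TrivSqZeroExt.snd_add, map_add]
    abel
  map_mul' s t := by
    have hzz : X.incl s.snd * X.incl t.snd = 0 := by
      rw [X.isExtension.mul_incl, (X.isExtension.exact _).2 ⟨_, rfl⟩, zero_smul, map_zero]
    rw [TrivSqZeroExt.fst_mul, TrivSqZeroExt.snd_mul, map_mul, map_add, op_smul_eq_smul,
      ← mk_smul (J := J) s.fst, ← mk_smul (J := J) t.fst, ← hu s.fst, ← hu t.fst, ← X.isExtension.mul_incl,
      ← X.isExtension.mul_incl]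
    linear_combination -hzz

theorem cover_surjective (X : Exal.Ext Λ (A ⧸ J) L) (u : A →ₐ[Λ] X.E)
    (hu : ∀ p, X.proj (u p) = Ideal.Quotient.mk J p) : Function.Surjective (cover X u hu) := by
  intro x
  obtain ⟨p, hp⟩ := Ideal.Quotient.mk_surjective (X.proj x)
  obtain ⟨z, hz⟩ := (X.isExtension.exact (x - u p)).1 (by rw [map_sub, hu, hp, sub_self])
  exact ⟨TrivSqZeroExt.inl p + TrivSqZeroExt.inr z, by simp [cover, hz]⟩

theorem mem_ker_cover (X : Exal.Ext Λ (A ⧸ J) L) (u : A →ₐ[Λ] X.E)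
    (hu : ∀ p, X.proj (u p) = Ideal.Quotient.mk J p) (t : TrivSqZeroExt A L) :
    t ∈ RingHom.ker (cover X u hu) ↔ t.fst ∈ J ∧ u t.fst = X.incl (-t.snd) := by
  rw [RingHom.mem_ker, map_neg, ← add_eq_zero_iff_eq_neg]
  refine ⟨fun h => ⟨?_, h⟩, fun h => h.2⟩
  have := congrArg X.proj (show u t.fst + X.incl t.snd = 0 from h)
  rwa [map_add, map_zero, hu, (X.isExtension.exact _).2 ⟨_, rfl⟩, add_zero, Ideal.Quotient.eq_zero_iff_mem] at this

/-- Extensions whose lifts restrict to the same map on `J` are equivalent. -/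
theorem nonempty_equiv (X X' : Exal.Ext Λ (A ⧸ J) L) (u : A →ₐ[Λ] X.E) (u' : A →ₐ[Λ] X'.E)
    (hu : ∀ p, X.proj (u p) = Ideal.Quotient.mk J p) (hu' : ∀ p, X'.proj (u' p) = Ideal.Quotient.mk J p)
    (h : ∀ j ∈ J, ∃ z : L, X.incl z = u j ∧ X'.incl z = u' j) : Nonempty (X.Equiv X') := by
  have hker : RingHom.ker (cover X u hu) = RingHom.ker (cover X' u' hu') := by
    ext t
    rw [mem_ker_cover, mem_ker_cover]
    refine and_congr_right fun ht => ?_
    obtain ⟨z, hz, hz'⟩ := h _ ht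
    rw [← hz, ← hz']
    exact ⟨fun e => congrArg _ (X.isExtension.incl_injective e), fun e => congrArg _ (X'.isExtension.incl_injective e)⟩
  let e : X.E ≃+* X'.E := ((RingHom.quotientKerEquivOfSurjective (cover_surjective X u hu)).symm.trans
    (Ideal.quotEquivOfEq hker)).trans (RingHom.quotientKerEquivOfSurjective (cover_surjective X' u' hu'))
  have he : ∀ t, e (cover X u hu t) = cover X' u' hu' t := fun t => by
    simp only [e, RingEquiv.trans_apply]
    rw [show (RingHom.quotientKerEquivOfSurjective (cover_surjective X u hu)).symm (cover X u hu t) =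
      Ideal.Quotient.mk _ t from (RingEquiv.symm_apply_eq _).2 rfl, Ideal.quotEquivOfEq_mk]
    rfl
  have heu : ∀ p, e (u p) = u' p := fun p => by simpa [cover] using he (TrivSqZeroExt.inl p)
  refine ⟨⟨AlgEquiv.ofRingEquiv (f := e) fun a => by rw [← u.commutes, heu, u'.commutes], fun x => ?_, fun z => ?_⟩⟩
  · obtain ⟨t, rfl⟩ := cover_surjective X u hu x
    show X'.proj (e _) = _
    rw [he]
    show X'.proj (u' t.fst + X'.incl t.snd) = X.proj (u t.fst + X.incl t.snd)
    rw [map_add, map_add, hu, hu', (X.isExtension.exact _).2 ⟨_, rfl⟩, (X'.isExtension.exact _).2 ⟨_, rfl⟩]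
  · simpa [cover] using he (TrivSqZeroExt.inr z)

/-- Every linear map on `J` is the restriction of a lift. -/
theorem exists_ext (δ : J →ₗ[A] L) : ∃ (X : Exal.Ext Λ (A ⧸ J) L) (u : A →ₐ[Λ] X.E),
    (∀ p, X.proj (u p) = Ideal.Quotient.mk J p) ∧ ∀ j : J, X.incl (δ j) = u j := by
  let K : Ideal (TrivSqZeroExt A L) :=
    { carrier := {t | ∃ h : t.fst ∈ J, t.snd = -δ ⟨t.fst, h⟩}
      zero_mem' := ⟨J.zero_mem, by
        show (0 : L) = -δ ⟨0, _⟩
        rw [show (⟨(0 : A), J.zero_mem⟩ : J) = 0 from rfl, map_zero, neg_zero]⟩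
      add_mem' := by
        rintro s t ⟨hs, hs'⟩ ⟨ht, ht'⟩
        refine ⟨by rw [TrivSqZeroExt.fst_add]; exact J.add_mem hs ht, ?_⟩
        rw [TrivSqZeroExt.snd_add, hs', ht', ← neg_add, ← map_add]
        rfl
      smul_mem' := by
        rintro c t ⟨ht, ht'⟩
        refine ⟨J.mul_mem_left _ ht, ?_⟩
        show c.fst • t.snd + MulOpposite.op t.fst • c.snd = _
        rw [op_smul_eq_smul, smul_eq_zero ht, add_zero, ht', smul_neg, ← map_smul]
        rfl }
  let E := TrivSqZeroExt A L ⧸ K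
  let inl : A →+* E := (Ideal.Quotient.mk K).comp (TrivSqZeroExt.inlHom A L)
  letI : Algebra Λ E := (inl.comp (algebraMap Λ A)).toAlgebra
  let π : E →+* A ⧸ J := Ideal.Quotient.lift K
    ((Ideal.Quotient.mk J).comp
      { toFun := TrivSqZeroExt.fst, map_one' := TrivSqZeroExt.fst_one, map_mul' := TrivSqZeroExt.fst_mul,
        map_zero' := TrivSqZeroExt.fst_zero, map_add' := TrivSqZeroExt.fst_add })
    fun t ⟨ht, _⟩ => Ideal.Quotient.eq_zero_iff_mem.2 ht
  refine ⟨{ E := E
            proj := { π with commutes' := fun _ => rfl }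
            incl := (Ideal.Quotient.mk K).toAddMonoidHom.comp (TrivSqZeroExt.inrHom A L).toAddMonoidHom
            isExtension := ⟨?_, ?_, ?_, ?_⟩ }, { inl with commutes' := fun _ => rfl }, fun p => rfl, fun j => ?_⟩
  · intro b
    obtain ⟨p, rfl⟩ := Ideal.Quotient.mk_surjective b
    exact ⟨inl p, rfl⟩
  · refine (injective_iff_map_eq_zero _).2 fun z hz => ?_
    obtain ⟨h, h'⟩ := Ideal.Quotient.eq_zero_iff_mem.1 (show Ideal.Quotient.mk K (TrivSqZeroExt.inr z) = 0 from hz)
    have h0 : δ ⟨(TrivSqZeroExt.inr z : TrivSqZeroExt A L).fst, h⟩ = 0 :=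
      (congrArg δ (Subtype.ext rfl : (⟨_, h⟩ : J) = 0)).trans δ.map_zero
    rw [h0, neg_zero] at h'
    exact h'
  · intro x
    obtain ⟨t, rfl⟩ := Ideal.Quotient.mk_surjective x
    refine ⟨fun h => ?_, ?_⟩
    · have ht : t.fst ∈ J := Ideal.Quotient.eq_zero_iff_mem.1 h
      exact ⟨t.snd + δ ⟨t.fst, ht⟩, Eq.symm ((Ideal.Quotient.mk_eq_mk_iff_sub_mem t
        (TrivSqZeroExt.inr (t.snd + δ ⟨t.fst, ht⟩))).2 (show ∃ _, _ from ⟨by simpa using ht, by simp⟩))⟩
    · rintro ⟨z, hz⟩
      exact (congrArg π hz).symm.trans (map_zero (Ideal.Quotient.mk J))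
  · intro x z
    obtain ⟨t, rfl⟩ := Ideal.Quotient.mk_surjective x
    show Ideal.Quotient.mk K (t * TrivSqZeroExt.inr z) =
      Ideal.Quotient.mk K (TrivSqZeroExt.inr (Ideal.Quotient.mk J t.fst • z))
    rw [mk_smul]
    congr 1
    ext <;> simp
  · show Ideal.Quotient.mk K (TrivSqZeroExt.inr (δ j)) = Ideal.Quotient.mk K (TrivSqZeroExt.inl (j : A))
    exact ((Ideal.Quotient.mk_eq_mk_iff_sub_mem (TrivSqZeroExt.inl (j : A))
      (TrivSqZeroExt.inr (δ j))).2 (show ∃ _, _ from ⟨by simp, by simp⟩)).symm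

end Groth.Agent.Synt29.ExalClass
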