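import Mathlib
import Groth.Prelude.Def_Exal
import Groth.Agent.PSLib.Basic
import Groth.Agent.AdicLib.Basic

/-!
Extensions of a quotient of a power series ring by a simple module.
-/

set_option autoImplicit false

universe u v

namespace Groth.Agent.Synt29.ExalPS

/-- A square-zero thickening of a complete ring is complete, once the kernel is separated. -/
theorem isAdicComplete_of_extension {E R : Type*} [CommRing E] [CommRing R] (π : E →+* R)
    (hπ : Function.Surjective π) (I : Ideal E) [IsHausdorff I E] [IsPrecomplete (I.map π) R]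
    (N₀ : ℕ) (h : RingHom.ker π ⊓ I ^ N₀ = ⊥) : IsAdicComplete I E := by
  have hp : IsPrecomplete I E := by
    refine ⟨fun f hf => ?_⟩
    have hf' : ∀ {m n}, m ≤ n → f m - f n ∈ I ^ m := fun {m n} hmn => by
      have := hf hmn
      rwa [SModEq.sub_mem, smul_eq_mul, Ideal.mul_top] at this
    obtain ⟨r, hr⟩ := IsPrecomplete.prec (I := I.map π) (M := R) inferInstance (f := fun n => π (f n))
      (fun {m n} hmn => by
        rw [SModEq.sub_mem, smul_eq_mul, Ideal.mul_top, ← map_sub, ← Ideal.map_pow]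
        exact Ideal.mem_map_of_mem _ (hf' hmn))
    have hy : ∀ N, ∃ y ∈ I ^ N, π y = r - π (f N) := fun N => by
      have := hr N
      rw [SModEq.sub_mem, smul_eq_mul, Ideal.mul_top, ← Ideal.map_pow] at this
      obtain ⟨y, hy, hy'⟩ := (Ideal.mem_map_iff_of_surjective π hπ).1 (neg_mem this)
      exact ⟨y, hy, by rw [hy', neg_sub]⟩
    choose y hyI hyπ using hy
    refine ⟨f N₀ + y N₀, fun m => ?_⟩
    rw [SModEq.sub_mem, smul_eq_mul, Ideal.mul_top]
    rcases le_total N₀ m with hm | hm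
    · have hz : f N₀ + y N₀ - (f m + y m) ∈ RingHom.ker π ⊓ I ^ N₀ := by
        refine ⟨by rw [SetLike.mem_coe, RingHom.mem_ker, map_sub, map_add, map_add, hyπ, hyπ]; ring, ?_⟩
        rw [add_sub_add_comm]
        exact add_mem (hf' hm) (sub_mem (hyI N₀) (Ideal.pow_le_pow_right hm (hyI m)))
      rw [h, Ideal.mem_bot, sub_eq_zero] at hz
      rw [hz, sub_add_cancel_left]
      exact neg_mem (hyI m)
    · rw [← sub_sub]
      exact sub_mem (hf' hm) (Ideal.pow_le_pow_right hm (hyI N₀))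
  exact { }

variable {Λ A : Type u} [CommRing Λ] [CommRing A] [Algebra Λ A] [IsNoetherianRing A] (V : Ideal A)
  [IsAdicComplete V A] {J : Ideal A} {L : Type u} [AddCommGroup L] [Module (A ⧸ J) L]
  [IsSimpleModule (A ⧸ J) L]

omit [Algebra Λ A] [IsNoetherianRing A] [IsSimpleModule (A ⧸ J) L] in
theorem isUnit_one_add {p : A} (hp : p ∈ V.map (RingHom.id A)) : IsUnit (1 + p) := by
  rw [Ideal.map_id] at hp
  simpa [add_comm] using Ideal.mem_jacobson_bot.1 (IsAdicComplete.le_jacobson_bot V hp) 1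

omit [Algebra Λ A] [IsNoetherianRing A] in
/-- The ideal of definition kills a simple module. -/
theorem smul_eq_zero_of_mem {p : A} (hp : p ∈ V) (z : L) : Ideal.Quotient.mk J p • z = 0 := by
  by_contra hne
  obtain ⟨b, hb⟩ := IsSimpleModule.toSpanSingleton_surjective (A ⧸ J) hne z
  obtain ⟨q, rfl⟩ := Ideal.Quotient.mk_surjective b
  have hb' : Ideal.Quotient.mk J q • Ideal.Quotient.mk J p • z = z := hb
  have hu : IsUnit (Ideal.Quotient.mk J (1 + -(q * p))) :=
    (isUnit_one_add V (by rw [Ideal.map_id]; exact neg_mem (V.mul_mem_left q hp))).map _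
  have hz : Ideal.Quotient.mk J (1 + -(q * p)) • z = 0 := by
    rw [map_add, map_neg, map_mul, map_one, add_smul, one_smul, neg_smul, mul_smul, hb', add_neg_cancel]
  rw [hu.smul_eq_zero] at hz
  rw [hz, smul_zero] at hne
  exact hne rfl

/-- An extension of a complete ring by a simple module is complete. -/
theorem isAdicComplete_ext (X : Exal.Ext Λ (A ⧸ J) L) :
    IsAdicComplete ((V.map (Ideal.Quotient.mk J)).comap X.proj.toRingHom) X.E := by
  classical
  let π := X.proj.toRingHom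
  have hπ : Function.Surjective π := X.isExtension.proj_surjective
  set I : Ideal X.E := (V.map (Ideal.Quotient.mk J)).comap π with hI
  have hker : ∀ x, x ∈ RingHom.ker π ↔ x ∈ Set.range X.incl := fun x => X.isExtension.exact x
  have := IsSimpleModule.nontrivial (A ⧸ J) L
  have hgen : ∀ x ∈ RingHom.ker π, x ≠ 0 → RingHom.ker π ≤ Ideal.span {x} := by
    intro x hx hx0 y hy
    obtain ⟨z₀, rfl⟩ := (hker x).1 hx
    obtain ⟨z, rfl⟩ := (hker y).1 hy
    obtain ⟨b, rfl⟩ := IsSimpleModule.toSpanSingleton_surjective (A ⧸ J)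
      (show z₀ ≠ 0 from fun h => hx0 (by rw [h, map_zero])) z
    obtain ⟨a, rfl⟩ := hπ b
    refine Ideal.mem_span_singleton'.2 ⟨a, ?_⟩
    rw [X.isExtension.mul_incl]
    rfl
  have : IsNoetherianRing X.E := by
    refine (isNoetherianRing_iff_ideal_fg _).2 fun N => ?_
    obtain ⟨s, hs⟩ := (inferInstance : IsNoetherianRing (A ⧸ J)).noetherian (N.map π)
    have hl : ∀ r : s, ∃ x ∈ N, π x = r.1 := fun r =>
      (Ideal.mem_map_iff_of_surjective π hπ).1 (hs ▸ Submodule.subset_span r.2)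
    choose x hxN hx using hl
    have hk : ∃ w : X.E, w ∈ N ∧ N ⊓ RingHom.ker π ≤ Ideal.span {w} := by
      by_cases h0 : N ⊓ RingHom.ker π = ⊥
      · exact ⟨0, N.zero_mem, h0 ▸ bot_le⟩
      · obtain ⟨w, hw, hw0⟩ := Submodule.exists_mem_ne_zero_of_ne_bot h0
        exact ⟨w, hw.1, inf_le_right.trans (hgen w hw.2 hw0)⟩
    obtain ⟨w, hwN, hw⟩ := hk
    refine ⟨insert w (Finset.univ.image x), le_antisymm (Ideal.span_le.2 fun y hy => ?_) fun y hy => ?_⟩
    · simp only [Finset.coe_insert, Finset.coe_image, Set.mem_insert_iff, Set.mem_image] at hy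
      rcases hy with rfl | ⟨r, -, rfl⟩
      exacts [hwN, hxN r]
    · have hyπ : π y ∈ (Ideal.span (Set.range x)).map π := by
        rw [Ideal.map_span]
        refine Ideal.span_mono ?_ (hs.ge (Ideal.mem_map_of_mem π hy) : π y ∈ Ideal.span (s : Set _))
        exact fun r hr => ⟨x ⟨r, hr⟩, ⟨_, rfl⟩, hx ⟨r, hr⟩⟩
      obtain ⟨y', hy', hyy⟩ := (Ideal.mem_map_iff_of_surjective π hπ).1 hyπ
      have hy'N : y' ∈ N := Ideal.span_le.2 (Set.range_subset_iff.2 hxN) hy'
      rw [← sub_add_cancel y y']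
      refine add_mem (Ideal.span_mono ?_ (hw ⟨sub_mem hy hy'N, by rw [SetLike.mem_coe, RingHom.mem_ker, map_sub, hyy, sub_self]⟩))
        (Ideal.span_mono ?_ hy')
      · simp
      · rintro _ ⟨r, rfl⟩
        simp
  have hjac : I ≤ Ideal.jacobson ⊥ := by
    intro x hx
    rw [Ideal.mem_jacobson_bot]
    intro y
    obtain ⟨p, hp, hp'⟩ := (Ideal.mem_map_iff_of_surjective _ Ideal.Quotient.mk_surjective).1
      (show π (x * y) ∈ V.map (Ideal.Quotient.mk J) by rw [map_mul]; exact Ideal.mul_mem_right _ _ hx)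
    have hu : IsUnit (π (x * y + 1)) := by
      rw [map_add, map_one, ← hp', ← map_one (Ideal.Quotient.mk J), ← map_add, add_comm]
      exact (isUnit_one_add V (by rwa [Ideal.map_id])).map _
    obtain ⟨b, hb⟩ := hu.exists_right_inv
    obtain ⟨a, rfl⟩ := hπ b
    rw [← map_mul] at hb
    obtain ⟨z, hz⟩ := (hker ((x * y + 1) * a - 1)).1 (by rw [RingHom.mem_ker, map_sub, hb, map_one, sub_self])
    refine IsUnit.of_mul_eq_one (a * (1 - X.incl z)) ?_
    have hzz : X.incl z * X.incl z = 0 := by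
      rw [X.isExtension.mul_incl, (X.isExtension.exact _).2 ⟨z, rfl⟩, zero_smul, map_zero]
    rw [← mul_assoc, ← sub_add_cancel ((x * y + 1) * a) 1, ← hz]
    linear_combination -hzz
  have : IsHausdorff I X.E := IsHausdorff.of_le_jacobson I X.E hjac
  have : IsPrecomplete (I.map π) (A ⧸ J) := by
    rw [hI, Ideal.map_comap_of_surjective π hπ, ← Ideal.Quotient.algebraMap_eq]
    have := AdicLib.isAdicComplete_of_finite V (A ⧸ J)
    exact ((IsAdicComplete.map_algebraMap_iff (R := A) (S := A ⧸ J) (I := V) (M := A ⧸ J)).2 this).toIsPrecomplete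
  obtain ⟨N₀, hN₀⟩ : ∃ N₀, RingHom.ker π ⊓ I ^ N₀ = ⊥ := by
    by_contra hne
    push_neg at hne
    obtain ⟨z, hz⟩ := exists_ne (0 : L)
    refine hz (X.isExtension.incl_injective ?_)
    rw [map_zero]
    refine IsHausdorff.haus (I := I) (M := X.E) inferInstance _ fun N => ?_
    rw [SModEq.zero, smul_eq_mul, Ideal.mul_top]
    obtain ⟨w, hw, hw0⟩ := Submodule.exists_mem_ne_zero_of_ne_bot (hne N)
    exact ((hgen w hw.1 hw0).trans ((Ideal.span_singleton_le_iff_mem _).2 hw.2)) ((hker _).2 ⟨z, rfl⟩)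
  exact isAdicComplete_of_extension π hπ I N₀ hN₀

section Classify

omit [IsNoetherianRing A] in
/-- Two lifts of the quotient map agree on products of elements killing the module. -/
theorem eq_on_sq (X : Exal.Ext Λ (A ⧸ J) L) (u₁ u₂ : A →ₐ[Λ] X.E) (h₁ : ∀ p, X.proj (u₁ p) = Ideal.Quotient.mk J p)
    (h₂ : ∀ p, X.proj (u₂ p) = Ideal.Quotient.mk J p) {j : A} (hj : j ∈ V * V) : u₁ j = u₂ j := by
  refine Submodule.mul_induction_on (C := fun j => u₁ j = u₂ j) hj (fun a ha b hb => ?_)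
    (fun a b ha hb => by rw [map_add, map_add, ha, hb])
  obtain ⟨za, hza⟩ := (X.isExtension.exact (u₁ a - u₂ a)).1 (by rw [map_sub, h₁, h₂, sub_self])
  obtain ⟨zb, hzb⟩ := (X.isExtension.exact (u₁ b - u₂ b)).1 (by rw [map_sub, h₁, h₂, sub_self])
  rw [map_mul, map_mul, ← sub_eq_zero,
    show u₁ a * u₁ b - u₂ a * u₂ b = u₁ a * (u₁ b - u₂ b) + u₂ b * (u₁ a - u₂ a) by ring, ← hza, ← hzb,
    X.isExtension.mul_incl, X.isExtension.mul_incl, h₁, h₂, smul_eq_zero_of_mem V ha, smul_eq_zero_of_mem V hb,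
    map_zero, add_zero]

end Classify

end Groth.Agent.Synt29.ExalPS
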