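import Groth.Agent.Synt29.SmoothFree
import Groth.Agent.FlatLoc6.FiberRing
import Groth.Agent.FlatDvr.FibreStalk
import Groth.Agent.CotTLib.SmoothField
import Groth.Agent.LC.GorRows
import Groth.Agent.LC.GorHull
import Groth.Agent.RegLoc6.Basic
import Groth.Agent.S2082

/-!
Smoothness from differentials over a regular base with the dimension formula.
-/

universe u

open TensorProduct AlgebraicGeometry CategoryTheory IsLocalRing

set_option linter.style.haveILetI false

namespace Groth.Agent.Synt29.SmoothReg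

/-- Regular base, regular closed fibre, dimension formula: regular. -/
theorem isRegularLocalRing_of_fibre_dim {A B : Type u} [CommRing A] [CommRing B] [Algebra A B] [IsLocalRing A]
    [IsLocalRing B] [IsLocalHom (algebraMap A B)] [IsNoetherianRing B] [IsRegularLocalRing A]
    (h : IsRegularLocalRing (B ⧸ (maximalIdeal A).map (algebraMap A B)))
    (hdim : ringKrullDim B = ringKrullDim A + ringKrullDim (B ⧸ (maximalIdeal A).map (algebraMap A B))) :
    IsRegularLocalRing B := by
  set I := (maximalIdeal A).map (algebraMap A B) with hI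
  haveI := h
  refine IsRegularLocalRing.of_spanFinrank_maximalIdeal_le B ?_
  rw [hdim, ← (isRegularLocalRing_iff A).mp ‹_›, ← (isRegularLocalRing_iff (B ⧸ I)).mp h, ← WithBot.coe_natCast,
    ← WithBot.coe_natCast, ← WithBot.coe_natCast, ← WithBot.coe_add, WithBot.coe_le_coe, ← Nat.cast_add,
    Nat.cast_le]
  have hA : Submodule.FG (maximalIdeal A) := (maximalIdeal A).fg_of_isNoetherianRing
  have hF : Submodule.FG (maximalIdeal (B ⧸ I)) := (maximalIdeal (B ⧸ I)).fg_of_isNoetherianRing
  set gA := Submodule.generators (maximalIdeal A) with hgA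
  set gF := Submodule.generators (maximalIdeal (B ⧸ I)) with hgF
  have hA' : gA.Finite := hA.finite_generators
  have hF' : gF.Finite := hF.finite_generators
  let l : B ⧸ I → B := Function.surjInv Ideal.Quotient.mk_surjective
  have hl : ∀ z, Ideal.Quotient.mk I (l z) = z := Function.surjInv_eq Ideal.Quotient.mk_surjective
  have hspan : maximalIdeal B = Ideal.span (algebraMap A B '' gA ∪ l '' gF) := by
    rw [Ideal.span_union, ← Ideal.map_span, show Ideal.span gA = maximalIdeal A from Submodule.span_generators _,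
      ← hI]
    have hmap : (maximalIdeal B).map (Ideal.Quotient.mk I) = (Ideal.span (l '' gF)).map (Ideal.Quotient.mk I) := by
      rw [RegLoc6.map_maximalIdeal_quot I, Ideal.map_span, ← Set.image_comp]
      rw [show ((Ideal.Quotient.mk I) ∘ l) = id from funext hl, Set.image_id]
      exact (Submodule.span_generators _).symm
    have hIB : I ≤ maximalIdeal B := map_maximalIdeal_le (algebraMap A B)
    have := congrArg (Ideal.comap (Ideal.Quotient.mk I)) hmap
    rw [Ideal.comap_map_of_surjective' _ Ideal.Quotient.mk_surjective,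
      Ideal.comap_map_of_surjective' _ Ideal.Quotient.mk_surjective, Ideal.mk_ker, sup_eq_left.mpr hIB] at this
    rw [this, sup_comm]
  rw [hspan]
  refine (Submodule.spanFinrank_span_le_ncard_of_finite ((hA'.image _).union (hF'.image _))).trans
    ((Set.ncard_union_le _ _).trans (add_le_add ?_ ?_))
  · exact (Set.ncard_image_le hA').trans hA.generators_ncard.le
  · exact (Set.ncard_image_le hF').trans hF.generators_ncard.le

/-- The local ring of the fibre through `x`. -/
theorem exists_fiber_stalk_equiv {X Y : Scheme.{u}} (f : X ⟶ Y) (x : X) :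
    Nonempty (((f.fiber (f x)).presheaf.stalk (f.asFiber x)) ≃+*
      (X.presheaf.stalk x ⧸ (maximalIdeal (Y.presheaf.stalk (f x))).map (f.stalkMap x).hom)) := by
  suffices H : ∀ (y : Y) (w : ↥(f.fiber y)) (x : X), f.fiberι y w = x →
      Nonempty (((f.fiber y).presheaf.stalk w) ≃+*
        (X.presheaf.stalk x ⧸ (maximalIdeal (Y.presheaf.stalk (f x))).map (f.stalkMap x).hom)) from
    H _ _ x (Scheme.Hom.fiberι_asFiber f x)
  rintro y w _ rfl
  exact ⟨((Ideal.quotEquivOfEq (Groth.Agent.FlatDvr.ker_stalkMap_fiberι f w).symm).trans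
    (RingHom.quotientKerEquivOfSurjective ((f.fiberι y).stalkMap_surjective w))).symm⟩

theorem fibre_transport {R A OY OX : Type u} [CommRing R] [CommRing A] [Algebra R A] [CommRing OY] [CommRing OX]
    [Algebra R OY] [Algebra A OX] [IsLocalRing OY] [IsLocalRing OX]
    (q : Ideal A) [q.IsPrime] (r : Ideal R) [r.IsPrime] [IsLocalization.AtPrime OY r] [IsLocalization.AtPrime OX q]
    {p : Ideal R} [p.IsPrime] (Q : Ideal (p.Fiber A)) [Q.IsPrime] [IsRegularLocalRing (Localization.AtPrime Q)]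
    (hQ : q = Q.comap (Algebra.TensorProduct.includeRight : A →ₐ[R] p.Fiber A).toRingHom)
    (E : Localization.AtPrime Q ≃+* EGA4.FibLocRing R A (Q.comap Algebra.TensorProduct.includeRight))
    (φ : OY →+* OX) [IsLocalHom φ]
    (hsq : ∀ a, φ (algebraMap R OY a) = algebraMap A OX (algebraMap R A a)) :
    IsRegularLocalRing (OX ⧸ (maximalIdeal OY).map φ) := by
  subst hQ
  set q := Q.comap (Algebra.TensorProduct.includeRight : A →ₐ[R] p.Fiber A).toRingHom with hq
  have hrq : r = q.comap (algebraMap R A) := by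
    ext a
    rw [Ideal.mem_comap, ← IsLocalization.AtPrime.to_map_mem_maximal_iff OY r,
      ← IsLocalization.AtPrime.to_map_mem_maximal_iff OX q, ← hsq]
    simp [IsLocalRing.mem_maximalIdeal, mem_nonunits_iff, isUnit_map_iff]
  have hmap : (maximalIdeal OY).map φ = r.map ((algebraMap A OX).comp (algebraMap R A)) := by
    rw [← IsLocalization.AtPrime.map_eq_maximalIdeal r OY, Ideal.map_map]
    exact congrArg (fun ψ => r.map ψ) (RingHom.ext hsq)
  let σ := (IsLocalization.algEquiv q.primeCompl (Localization.AtPrime q) OX).toRingEquiv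
  haveI := Groth.Agent.FlatLoc6.isLocalRing_fibLocRing (A := R) q
  haveI : IsRegularLocalRing (EGA4.FibLocRing R A q) :=
    IsRegularLocalRing.of_ringEquiv (R := Localization.AtPrime Q) E
  refine IsRegularLocalRing.of_ringEquiv (R := EGA4.FibLocRing R A q) (Ideal.quotientEquiv _ _ σ ?_)
  rw [hmap, Ideal.map_map, ← hrq]
  refine congrArg (fun ψ => r.map ψ) (RingHom.ext fun a => ?_)
  show _ = σ (algebraMap R (Localization.AtPrime q) a)
  rw [IsScalarTower.algebraMap_apply R A (Localization.AtPrime q)]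
  exact ((IsLocalization.algEquiv q.primeCompl (Localization.AtPrime q) OX).commutes _).symm

/-- The closed fibre of the stalk map is regular when differentials are free of rank the fibre dimension. -/
theorem isRegularLocalRing_fibre_of_free {X Y : Scheme.{u}} (f : X ⟶ Y) [LocallyOfFinitePresentation f]
    (Ω' : X.Modules) (d : OmegaSh.Der f Ω') (hd : OmegaSh.IsUniversal d) (x : X)
    (U : X.Opens) (n : ℕ) (hxU : x ∈ U) (e : Ω'.restrict U.ι ≅ FlatMod.freeMod (U : Scheme.{u}) n)
    (hdim : FlatMor.fibreDimAt f x = (n : WithBot ℕ∞)) :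
    IsRegularLocalRing (X.presheaf.stalk x ⧸ (maximalIdeal (Y.presheaf.stalk (f x))).map (f.stalkMap x).hom) := by
  obtain ⟨_, ⟨V, hV, rfl⟩, hxV, -⟩ :=
    Y.isBasis_affineOpens.exists_subset_of_mem_open (Set.mem_univ (f x)) isOpen_univ
  obtain ⟨_, ⟨W, hW, rfl⟩, hxW, hWle⟩ :=
    X.isBasis_affineOpens.exists_subset_of_mem_open (show x ∈ U ⊓ f ⁻¹ᵁ V from ⟨hxU, hxV⟩) (U ⊓ f ⁻¹ᵁ V).2
  have hWV : W ≤ f ⁻¹ᵁ V := fun z hz => (hWle hz).2
  letI := (f.appLE V W hWV).hom.toAlgebra
  haveI : Algebra.FinitePresentation Γ(Y, V) Γ(X, W) := f.finitePresentation_appLE hV hW hWV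
  obtain ⟨l⟩ := Groth.Agent.QCoh.free_sections hW (fun z hz => (hWle hz).1) e
  obtain ⟨l'⟩ := Groth.Agent.Synt29.OmegaStalk.exists_linearEquiv_sections hd hW hV hWV
  let q := hW.primeIdealOf ⟨x, hxW⟩
  have hq : hW.fromSpec q = x := hW.fromSpec_primeIdealOf ⟨x, hxW⟩
  have hcomp : hW.fromSpec ≫ f = Spec.map (CommRingCat.ofHom (algebraMap Γ(Y, V) Γ(X, W))) ≫ hV.fromSpec :=
    (hV.SpecMap_appLE_fromSpec f hW hWV).symm
  haveI : LocallyOfFiniteType (Spec.map (CommRingCat.ofHom (algebraMap Γ(Y, V) Γ(X, W)))) :=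
    (HasRingHomProperty.Spec_iff (P := @LocallyOfFiniteType)).2 (RingHom.finiteType_algebraMap.2 inferInstance)
  haveI : IsOpenImmersion hV.fromSpec := hV.isOpenImmersion_fromSpec
  haveI : IsOpenImmersion hW.fromSpec := hW.isOpenImmersion_fromSpec
  haveI : Mono hV.fromSpec := IsOpenImmersion.mono _
  have hn : FlatMor.fibreDimAt (Spec.map (CommRingCat.ofHom (algebraMap Γ(Y, V) Γ(X, W)))) q = (n : WithBot ℕ∞) := by
    rw [← Groth.Agent.FibDim.fibreDimAt_comp_mono (Spec.map (CommRingCat.ofHom (algebraMap Γ(Y, V) Γ(X, W)))) hV.fromSpec q,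
      ← hcomp, Groth.Agent.FibDim.fibreDimAt_openImmersion_comp hW.fromSpec f q, hq, hdim]
  obtain ⟨Q, hQ, hsm⟩ := Groth.Agent.Synt29.SmoothFree.isSmoothAt_fiber_of_free Γ(Y, V) Γ(X, W) q n
    (Module.Basis.ofRepr (l'.symm.trans l)) hn
  haveI : Algebra.FiniteType (q.asIdeal.under Γ(Y, V)).ResidueField ((q.asIdeal.under Γ(Y, V)).Fiber Γ(X, W)) :=
    inferInstanceAs (Algebra.FiniteType _ ((q.asIdeal.under Γ(Y, V)).ResidueField ⊗[Γ(Y, V)] Γ(X, W)))
  haveI := Groth.Agent.CotTLib.isRegularLocalRing_of_isSmoothAt (k := (q.asIdeal.under Γ(Y, V)).ResidueField) Q.asIdeal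
  obtain ⟨E⟩ := Groth.Agent.FlatLoc6.exists_fibLocEquiv (q.asIdeal.under Γ(Y, V)) Q.asIdeal
  -- compare with the stalk
  letI aY : Algebra Γ(Y, V) (Y.presheaf.stalk (f x)) := (Y.presheaf.germ V (f x) hxV).hom.toAlgebra
  letI aX : Algebra Γ(X, W) (X.presheaf.stalk x) := (X.presheaf.germ W x hxW).hom.toAlgebra
  haveI : IsLocalization.AtPrime (Y.presheaf.stalk (f x)) (hV.primeIdealOf ⟨f x, hxV⟩).asIdeal :=
    hV.isLocalization_stalk ⟨f x, hxV⟩
  haveI : IsLocalization.AtPrime (X.presheaf.stalk x) q.asIdeal := hW.isLocalization_stalk ⟨x, hxW⟩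
  refine fibre_transport q.asIdeal (hV.primeIdealOf ⟨f x, hxV⟩).asIdeal Q.asIdeal hQ.symm E (f.stalkMap x).hom ?_
  intro a
  show (f.stalkMap x).hom ((Y.presheaf.germ V (f x) hxV).hom a) =
    (X.presheaf.germ W x hxW).hom ((f.appLE V W hWV).hom a)
  erw [Scheme.Hom.germ_stalkMap_apply]
  rw [Scheme.Hom.appLE, CommRingCat.comp_apply]
  exact (X.presheaf.germ_res_apply (homOfLE hWV) x hxW _).symm

/-- Flatness of the stalk map. -/
theorem flat_of_free_dim {X S : Scheme.{u}} (f : X ⟶ S) (x : X) [IsLocallyNoetherian S] [LocallyOfFinitePresentation f]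
    [IsRegularLocalRing (S.presheaf.stalk (f x))]
    (Ω' : X.Modules) (d : OmegaSh.Der f Ω') (hd : OmegaSh.IsUniversal d)
    (U : X.Opens) (n : ℕ) (hxU : x ∈ U) (e : Ω'.restrict U.ι ≅ FlatMod.freeMod (U : Scheme.{u}) n)
    (hn : FlatMor.fibreDimAt f x = (n : WithBot ℕ∞))
    (hdim : ringKrullDim (X.presheaf.stalk x) =
      ringKrullDim ((f.fiber (f x)).presheaf.stalk (f.asFiber x)) + ringKrullDim (S.presheaf.stalk (f x))) :
    (f.stalkMap x).hom.Flat := by
  haveI : IsLocallyNoetherian X := LocallyOfFiniteType.isLocallyNoetherian f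
  haveI hreg := isRegularLocalRing_fibre_of_free f Ω' d hd x U n hxU e hn
  obtain ⟨E⟩ := exists_fiber_stalk_equiv f x
  rw [ringKrullDim_eq_of_ringEquiv E, add_comm] at hdim
  letI := (f.stalkMap x).hom.toAlgebra
  haveI : IsLocalHom (algebraMap (S.presheaf.stalk (f x)) (X.presheaf.stalk x)) :=
    inferInstanceAs (IsLocalHom (f.stalkMap x).hom)
  haveI := isRegularLocalRing_of_fibre_dim hreg hdim
  haveI : LocCoh.IsCohenMacaulayLocalRing (X.presheaf.stalk x) :=
    haveI := Groth.Agent.LC.gorenstein_of_isRegularLocalRing (R := X.presheaf.stalk x)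
    Groth.Agent.LC.isCohenMacaulayLocalRing_of_gorenstein
  exact Groth.Agent.S2082.result hdim

end Groth.Agent.Synt29.SmoothReg
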