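import Groth.Agent.Synt29.MinorsLift
import Groth.Agent.LC.PdRegular
import Groth.Agent.RegLoc6.Pd
import Groth.Agent.S0322
import Groth.Agent.Alg6.LocLoc

/-!
The theorem of Hilbert and Burch for regular local rings.
-/

universe u

open Matrix IsLocalRing

set_option linter.style.haveILetI false

namespace Groth.Agent.Synt29.HilbertBurch

open MinorsLift

variable {A : Type u} [CommRing A]

theorem minors_det_cons {r : ℕ} (φ : Matrix (Fin (r + 1)) (Fin r) A) (w : Fin (r + 1) → A) :
    (Matrix.of fun i => Fin.cons (w i) (φ i) : Matrix (Fin (r + 1)) (Fin (r + 1)) A).det = ∑ i, w i * minors φ i := by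
  rw [Matrix.det_succ_column_zero]
  refine Finset.sum_congr rfl fun i _ => ?_
  have h2 : (Matrix.of fun i => Fin.cons (w i) (φ i) : Matrix (Fin (r + 1)) (Fin (r + 1)) A).submatrix
      i.succAbove Fin.succ = φ.submatrix i.succAbove id := by
    ext a b; simp
  rw [h2]
  simp [minors]
  ring

theorem cross_eq {r : ℕ} (φ : Matrix (Fin (r + 1)) (Fin r) A) (g : Fin (r + 1) → A)
    (hg : ∀ j, ∑ i, g i * φ i j = 0) (k l : Fin (r + 1)) : g k * minors φ l = g l * minors φ k := by
  classical
  let N : Matrix (Fin (r + 1)) (Fin (r + 1)) A := Matrix.of fun i => Fin.cons (if i = l then 1 else 0) (φ i)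
  have hN : N.det = minors φ l := by
    rw [show N.det = ∑ i, (if i = l then 1 else 0) * minors φ i from minors_det_cons φ _]
    simp
  have hgN : g ᵥ* N = fun j => if j = 0 then g l else 0 := by
    funext j
    induction j using Fin.cases with
    | zero => simp [N, Matrix.vecMul, dotProduct]
    | succ j => simpa [N, Matrix.vecMul, dotProduct, Fin.succ_ne_zero] using hg j
  have h := congrArg (fun v => v ᵥ* N.adjugate) hgN
  simp only [Matrix.vecMul_vecMul, Matrix.mul_adjugate, hN] at h
  have hk := congrFun h k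
  simp [Matrix.vecMul, dotProduct, Matrix.one_apply] at hk
  rw [hk]
  refine congrArg (g l * ·) ?_
  rw [Matrix.adjugate_fin_succ_eq_det_submatrix]
  have h2 : N.submatrix k.succAbove (Fin.succAbove 0) = φ.submatrix k.succAbove id := by
    ext a b; simp [N]
  rw [h2]
  simp [minors]

/-- The ideal lies in the radical of the minors. -/
theorem pow_mem_minors {r : ℕ} (φ : Matrix (Fin (r + 1)) (Fin r) A) (g : Fin (r + 1) → A)
    (hex : ∀ z : Fin (r + 1) → A, ∑ i, g i * z i = 0 → ∃ x, φ *ᵥ x = z) (v : Fin (r + 1) → A) :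
    (∑ i, g i * v i) ^ (r + 1) ∈ Ideal.span (Set.range (minors φ)) := by
  classical
  set u := ∑ i, g i * v i with hu
  choose x hx using fun k => hex (fun i => u * (if i = k then 1 else 0) - g k * v i) (by
    simp only [mul_sub, Finset.sum_sub_distrib]
    rw [Finset.sum_eq_single k (fun b _ hb => by simp [hb]) (by simp), hu, Finset.sum_mul, Finset.mul_sum, sub_eq_zero]
    exact Finset.sum_congr rfl fun i _ => by simp; ring)
  let N : Matrix (Fin (r + 1)) (Fin (r + 1)) A := Matrix.of fun i => Fin.cons (v i) (φ i)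
  let B : Matrix (Fin (r + 1)) (Fin (r + 1)) A := Matrix.of fun j k => Fin.cases (g k) (fun j => x k j) j
  have hNB : N * B = u • (1 : Matrix (Fin (r + 1)) (Fin (r + 1)) A) := by
    ext i k
    have h := congrFun (hx k) i
    simp only [Matrix.mulVec, dotProduct] at h
    rw [Matrix.mul_apply, Fin.sum_univ_succ]
    simp [N, B, Matrix.one_apply, h]
    ring
  have hd := congrArg Matrix.det hNB
  rw [Matrix.det_mul, Matrix.det_smul, Matrix.det_one, mul_one, Fintype.card_fin, minors_det_cons] at hd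
  rw [← hd]
  exact Ideal.mul_mem_right _ _ (Ideal.sum_mem _ fun i _ => Ideal.mul_mem_left _ _ (Ideal.subset_span ⟨i, rfl⟩))

theorem exists_pair_of_le_idealDepth [IsNoetherianRing A] {I : Ideal A} (hI : I ≠ ⊤)
    (h2 : (2 : ℕ∞) ≤ LocCoh.idealDepth I A) :
    ∃ x ∈ I, ∃ y ∈ I, IsSMulRegular A x ∧ ∀ b, x ∣ y * b → x ∣ b := by
  obtain ⟨rs, hrs, hmem, hlen⟩ := Groth.Agent.Alg6.exists_length_ge_of_le_idealDepth
    (M := A) (I := I) (by rwa [Ideal.smul_eq_mul, Ideal.mul_top]) (n := 2) (by exact_mod_cast h2)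
  match rs, hlen with
  | x :: y :: rest, _ =>
    obtain ⟨hx, hrest⟩ := (RingTheory.Sequence.isWeaklyRegular_cons_iff A x (y :: rest)).1 hrs
    obtain ⟨hy, -⟩ := (RingTheory.Sequence.isWeaklyRegular_cons_iff _ y rest).1 hrest
    refine ⟨x, hmem _ (by simp), y, hmem _ (by simp), hx, fun b hb => ?_⟩
    have hmemiff : ∀ z : A, (Submodule.Quotient.mk z : QuotSMulTop x A) = 0 ↔ x ∣ z := fun z => by
      rw [Submodule.Quotient.mk_eq_zero, Submodule.mem_smul_pointwise_iff_exists]
      exact ⟨fun ⟨w, _, hw⟩ => ⟨w, hw.symm⟩, fun ⟨w, hw⟩ => ⟨w, trivial, hw.symm⟩⟩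
    rw [← hmemiff]
    refine hy ?_
    show y • (Submodule.Quotient.mk b : QuotSMulTop x A) = y • 0
    rw [smul_zero, ← Submodule.Quotient.mk_smul, hmemiff]
    exact hb

theorem finrank_ideal [IsDomain A] [IsNoetherianRing A] (I : Ideal A) (hI : I ≠ ⊥) : Module.finrank A I = 1 := by
  refine le_antisymm ((Submodule.finrank_le I).trans (Module.finrank_self A).le) ?_
  obtain ⟨x, hx, hx0⟩ := Submodule.exists_mem_ne_zero_of_ne_bot hI
  have hli : LinearIndependent A (fun _ : Fin 1 => (⟨x, hx⟩ : I)) := by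
    refine Fintype.linearIndependent_iff.2 fun c hc i => ?_
    have h := congrArg Subtype.val hc
    simp at h
    rw [Subsingleton.elim i 0]
    exact h.resolve_right hx0
  simpa using hli.fintype_card_le_finrank

/-- Hilbert–Burch. -/
theorem exists_matrix (A : Type u) [CommRing A] [IsRegularLocalRing A] (I : Ideal A)
    [LocCoh.IsCohenMacaulayLocalRing (A ⧸ I)] (hcodim : ringKrullDim (A ⧸ I) + 2 = ringKrullDim A) :
    ∃ (r : ℕ) (φ : Matrix (Fin (r + 1)) (Fin r) A),
      Ideal.span (Set.range (minors φ)) = I ∧ I.spanFinrank = r + 1 ∧ Function.Injective φ.mulVecLin ∧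
      LinearMap.range φ.mulVecLin = LinearMap.ker (Fintype.linearCombination A (minors φ)) := by
  classical
  haveI : IsDomain A := Groth.Agent.RegLoc6.isDomain_of_isRegularLocalRing A
  haveI hAcm : LocCoh.IsCohenMacaulayLocalRing A :=
    haveI := Groth.Agent.LC.gorenstein_of_isRegularLocalRing (R := A)
    Groth.Agent.LC.isCohenMacaulayLocalRing_of_gorenstein
  have hItop : I ≠ ⊤ := Ideal.Quotient.nontrivial_iff.1 inferInstance
  obtain ⟨d, hd⟩ : ∃ d : ℕ, ringKrullDim A = d := ⟨_, ((isRegularLocalRing_iff A).1 inferInstance).symm⟩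
  obtain ⟨e, he⟩ : ∃ e : ℕ, ringKrullDim (A ⧸ I) = e := by
    rw [hd] at hcodim
    generalize ringKrullDim (A ⧸ I) = q at hcodim
    induction q using WithBot.recBotCoe with
    | bot => simp at hcodim
    | coe t =>
      induction t using ENat.recTopCoe with
      | top =>
        exfalso
        rw [show (2 : WithBot ℕ∞) = ((2 : ℕ∞) : WithBot ℕ∞) from rfl,
          show ((d : WithBot ℕ∞)) = ((d : ℕ∞) : WithBot ℕ∞) from rfl, ← WithBot.coe_add, top_add, WithBot.coe_inj] at hcodim
        exact ENat.top_ne_coe d hcodim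
      | coe t => exact ⟨t, rfl⟩
  have hde : e + 2 = d := by
    rw [he, hd] at hcodim
    exact_mod_cast hcodim
  have hCMmod : LocCoh.IsCohenMacaulayModule A A := hAcm.supportDim_eq_depth
  -- height two, as depths
  have hdepthJ : ∀ J : Ideal A, J ≠ ⊤ → ringKrullDim (A ⧸ J) ≤ ringKrullDim (A ⧸ I) →
      (2 : ℕ∞) ≤ LocCoh.idealDepth J A := fun J hJ hle => by
    have h := Groth.Agent.S0322.result A J hJ A hCMmod
    rw [Module.supportDim_self_eq_ringKrullDim, hd] at h
    have hq : Module.supportDim A (A ⧸ (J • (⊤ : Submodule A A))) = ringKrullDim (A ⧸ J) := by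
      rw [Ideal.smul_eq_mul, Ideal.mul_top, Module.supportDim_quotient_eq_ringKrullDim]
    rw [hq] at h
    rw [he] at hle
    by_contra hlt
    rw [not_le] at hlt
    lift LocCoh.idealDepth J A to ℕ using ne_top_of_lt hlt with c
    have : (d : WithBot ℕ∞) ≤ (e : WithBot ℕ∞) + (c : WithBot ℕ∞) := h.le.trans (add_le_add_left hle _)
    norm_cast at this
    have hc : c < 2 := by exact_mod_cast hlt
    omega
  -- projective dimension of the ideal
  have hpd : Groth.Agent.RegLoc6.PdLE A 1 I := by
    have h2 : Groth.Agent.RegLoc6.PdLE A 2 (A ⧸ I) := by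
      refine Groth.Agent.LC.pdLE_of_le_depth A d hd (A ⧸ I) 2 ?_
      have h := (inferInstance : LocCoh.IsCohenMacaulayLocalRing (A ⧸ I)).supportDim_eq_depth
      rw [Module.supportDim_self_eq_ringKrullDim, he] at h
      have hdep : LocCoh.depth A (A ⧸ I) = LocCoh.depth (A ⧸ I) (A ⧸ I) :=
        Groth.Agent.Alg6.depth_eq_of_semilinear (Ideal.Quotient.mk I) Ideal.Quotient.mk_surjective
          (AddEquiv.refl (A ⧸ I)) fun r x => by
            obtain ⟨x, rfl⟩ := Ideal.Quotient.mk_surjective x
            rfl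
      rw [hdep, ← hde]
      have h' : LocCoh.depth (A ⧸ I) (A ⧸ I) = (e : ℕ∞) := (WithBot.coe_inj.1 h).symm
      rw [h']
      push_cast
      rfl
    have h3 := Groth.Agent.RegLoc6.pdLE_ker (Submodule.mkQ I) (Submodule.mkQ_surjective I) h2
      (Groth.Agent.RegLoc6.pdLE_of_projective 1)
    exact Groth.Agent.RegLoc6.pdLE_of_equiv (LinearEquiv.ofEq _ _ (Submodule.ker_mkQ I)) h3
  -- minimal generators
  have hfg : Submodule.FG I := I.fg_of_isNoetherianRing
  haveI : Finite I.generators := hfg.finite_generators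
  haveI := Fintype.ofFinite I.generators
  let n := Fintype.card I.generators
  have hn : I.spanFinrank = n := by
    rw [← hfg.generators_ncard, ← Nat.card_coe_set_eq, Nat.card_eq_fintype_card]
  let eg := (Fintype.equivFin I.generators).symm
  let g : Fin n → A := fun i => (eg i : A)
  have hgspan : Ideal.span (Set.range g) = I := by
    rw [show Set.range g = I.generators from ?_]
    · exact Submodule.span_generators I
    · ext z; exact ⟨fun ⟨i, hi⟩ => hi ▸ (eg i).2, fun hz => ⟨eg.symm ⟨z, hz⟩, by simp [g]⟩⟩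
  let G : (Fin n → A) →ₗ[A] I := (Fintype.linearCombination A g).codRestrict I fun c => by
    have h := LinearMap.mem_range_self (Fintype.linearCombination A g) c
    rw [Fintype.range_linearCombination] at h
    exact hgspan.le h
  have hG : Function.Surjective G := fun z => by
    have hz : (z : A) ∈ LinearMap.range (Fintype.linearCombination A g) := by
      rw [Fintype.range_linearCombination]
      exact hgspan.ge z.2
    obtain ⟨c, hc⟩ := hz
    exact ⟨c, Subtype.ext hc⟩
  haveI : Module.Projective A (LinearMap.ker G) :=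
    Groth.Agent.RegLoc6.pdLE_zero_iff.1 ((Groth.Agent.RegLoc6.pdLE_succ_iff G hG).1 hpd)
  haveI : Module.Free A (LinearMap.ker G) := Module.free_of_flat_of_isLocalRing
  have hInz : I ≠ ⊥ := by
    intro h
    rw [ringKrullDim_eq_of_ringEquiv ((Ideal.quotEquivOfEq h).trans (RingEquiv.quotientBot A)), hd] at hcodim
    norm_cast at hcodim
    omega
  have hrank : Module.finrank A (LinearMap.ker G) + 1 = n := by
    have h := Submodule.finrank_quotient_add_finrank (LinearMap.ker G)
    rw [(G.quotKerEquivOfSurjective hG).finrank_eq, Module.finrank_fin_fun, finrank_ideal I hInz] at h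
    omega
  obtain ⟨r, hr⟩ : ∃ r, Module.finrank A (LinearMap.ker G) = r := ⟨_, rfl⟩
  have hnr : n = r + 1 := by omega
  obtain ⟨g', hg', hg'n⟩ : ∃ g' : Fin (r + 1) → A, Set.range g' = Set.range g ∧ g' = g ∘ finCongr hnr.symm :=
    ⟨_, by simp [EquivLike.range_comp], rfl⟩
  let b := Module.finBasisOfFinrankEq A (LinearMap.ker G) hr
  let φ : Matrix (Fin (r + 1)) (Fin r) A := Matrix.of fun i j => (b j : Fin n → A) (finCongr hnr.symm i)
  have hmv : ∀ x i, (φ *ᵥ x) i = ((∑ j, x j • b j : LinearMap.ker G) : Fin n → A) (finCongr hnr.symm i) := fun x i => by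
    simp [φ, Matrix.mulVec, dotProduct, mul_comm]
  have hinj : Function.Injective φ.mulVecLin := fun x y hxy => by
    have h : (∑ j, x j • b j : LinearMap.ker G) = ∑ j, y j • b j := Subtype.ext (funext fun i => by
      obtain ⟨i, rfl⟩ := (finCongr hnr.symm).surjective i
      rw [← hmv, ← hmv]
      exact congrFun hxy i)
    funext j
    have hj := congrArg (fun z => b.repr z j) h
    simpa [Finsupp.single_apply] using hj
  have hexg : ∀ z : Fin (r + 1) → A, (∑ i, g' i * z i = 0 ↔ ∃ x, φ *ᵥ x = z) := fun z => by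
    have hGz : ∀ c : Fin n → A, ((G c : A)) = ∑ i, g' i * c (finCongr hnr.symm i) := fun c => by
      show Fintype.linearCombination A g c = _
      rw [linearCombination_eq, ← Equiv.sum_comp (finCongr hnr.symm)]
      simp [hg'n]
    constructor
    · intro hz
      have hk : (fun i => z (finCongr hnr i) : Fin n → A) ∈ LinearMap.ker G := by
        refine Subtype.ext ?_
        rw [hGz]
        simpa using hz
      refine ⟨fun j => b.repr ⟨_, hk⟩ j, funext fun i => ?_⟩
      rw [hmv, b.sum_repr]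
      simp
    · rintro ⟨x, rfl⟩
      simp only [hmv, ← hGz]
      exact congrArg Subtype.val (∑ j, x j • b j : LinearMap.ker G).2
  have hgφ : ∀ j, ∑ i, g' i * φ i j = 0 := fun j =>
    (hexg _).2 ⟨Pi.single j 1, funext fun i => by simp⟩
  have hg'span : Ideal.span (Set.range g') = I := by rw [hg', hgspan]
  -- the minors have depth two
  set D := Ideal.span (Set.range (minors φ)) with hD
  have hrad : I ≤ D.radical := fun u hu => by
    obtain ⟨v, rfl⟩ := Ideal.mem_span_range_iff_exists_fun.1 (hg'span.symm ▸ hu)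
    refine ⟨r + 1, ?_⟩
    rw [Finset.sum_congr rfl fun i _ => mul_comm (v i) (g' i)]
    exact pow_mem_minors φ g' (fun z hz => (hexg z).1 hz) v
  obtain ⟨x, hx, y, hy, hxr, hyr⟩ : ∃ x ∈ D, ∃ y ∈ D, IsSMulRegular A x ∧ ∀ b, x ∣ y * b → x ∣ b := by
    by_cases hDtop : D = ⊤
    · exact ⟨1, hDtop ▸ trivial, 1, hDtop ▸ trivial, IsSMulRegular.one A, fun b hb => by rwa [one_mul] at hb⟩
    · refine exists_pair_of_le_idealDepth hDtop (hdepthJ D hDtop ?_)
      rw [ringKrullDim_quotient, ringKrullDim_quotient]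
      refine Order.krullDim_le_of_strictMono (fun q => ⟨q.1, fun z hz => ?_⟩) (fun a b h => h)
      exact q.1.2.radical_le_iff.2 q.2 (hrad hz)
  -- the factor
  obtain ⟨c, rfl⟩ := Ideal.mem_span_range_iff_exists_fun.1 hx
  obtain ⟨e', rfl⟩ := Ideal.mem_span_range_iff_exists_fun.1 hy
  have key : ∀ (c : Fin (r + 1) → A) j, (∑ i, c i * minors φ i) * g' j = minors φ j * ∑ i, g' i * c i := fun c j => by
    rw [Finset.sum_mul, Finset.mul_sum]
    refine Finset.sum_congr rfl fun i _ => ?_
    calc c i * minors φ i * g' j = c i * (g' j * minors φ i) := by ring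
      _ = c i * (g' i * minors φ j) := by rw [cross_eq φ g' hgφ j i]
      _ = _ := by ring
  set x := ∑ i, c i * minors φ i
  set y := ∑ i, e' i * minors φ i
  have hxy : x * (∑ i, g' i * e' i) = y * (∑ i, g' i * c i) := by
    simp only [Finset.mul_sum]
    calc ∑ i, x * (g' i * e' i) = ∑ i, e' i * (x * g' i) := Finset.sum_congr rfl fun i _ => by ring
      _ = ∑ i, e' i * (minors φ i * ∑ m, g' m * c m) := Finset.sum_congr rfl fun i _ => by rw [key c i]
      _ = _ := by
        rw [← Finset.mul_sum]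
        simp only [← mul_assoc, ← Finset.sum_mul]
        rfl
  obtain ⟨a, ha⟩ := hyr _ ⟨_, hxy.symm⟩
  have hga : ∀ j, g' j = a * minors φ j := fun j => hxr (by
    show x * g' j = x * (a * minors φ j)
    rw [key c j, ha]
    ring)
  have hau : IsUnit a := by
    obtain ⟨p, hp, q, hq, hpr, hqr⟩ := exists_pair_of_le_idealDepth hItop (hdepthJ I hItop le_rfl)
    have hIa : I ≤ Ideal.span {a} := by
      rw [← hg'span, Ideal.span_le]
      rintro _ ⟨j, rfl⟩
      exact Ideal.mem_span_singleton.2 ⟨_, hga j⟩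
    obtain ⟨s, rfl⟩ := Ideal.mem_span_singleton.1 (hIa hp)
    obtain ⟨t, rfl⟩ := Ideal.mem_span_singleton.1 (hIa hq)
    obtain ⟨w, hw⟩ := hqr s ⟨t, by ring⟩
    refine IsUnit.of_mul_eq_one w (hpr ?_)
    show a * s * (a * w) = a * s * 1
    calc a * s * (a * w) = a * (a * s * w) := by ring
      _ = a * s * 1 := by rw [← hw, mul_one]
  obtain ⟨u, rfl⟩ := hau
  refine ⟨r, φ, ?_, hn.trans hnr, hinj, le_antisymm ?_ fun z hz => ?_⟩
  · refine le_antisymm (Ideal.span_le.2 ?_) (hg'span ▸ Ideal.span_le.2 ?_)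
    · rintro _ ⟨j, rfl⟩
      have : minors φ j = ↑u⁻¹ * g' j := by rw [hga, ← mul_assoc, Units.inv_mul, one_mul]
      rw [this, ← hg'span]
      exact Ideal.mul_mem_left _ _ (Ideal.subset_span ⟨j, rfl⟩)
    · rintro _ ⟨j, rfl⟩
      rw [hga]
      exact Ideal.mul_mem_left _ _ (Ideal.subset_span ⟨j, rfl⟩)
  · rintro _ ⟨z, rfl⟩
    rw [LinearMap.mem_ker, linearCombination_eq]
    exact minors_dot_mulVec φ z
  · rw [LinearMap.mem_ker, linearCombination_eq] at hz
    exact (hexg z).1 (by simp only [hga, mul_assoc, ← Finset.mul_sum, hz, mul_zero])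

end Groth.Agent.Synt29.HilbertBurch
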