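import Mathlib

/-!
Regularity from formal coordinates: a local ring whose jets are those of affine space.
-/

universe u v

open MvPolynomial IsLocalRing

namespace Groth.Agent.Synt29.JetLift

variable {k : Type v} [Field k]

/-- A substitution congruent to the identity modulo squares is injective on every jet. -/
theorem mem_pow_of_subst {d : ℕ} (G : Fin d → MvPolynomial (Fin d) k)
    (hG : ∀ i, G i - X i ∈ idealOfVars (Fin d) k ^ 2) (N : ℕ) (F : MvPolynomial (Fin d) k)
    (h : aeval G F ∈ idealOfVars (Fin d) k ^ N) : F ∈ idealOfVars (Fin d) k ^ N := by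
  classical
  set I := idealOfVars (Fin d) k with hI
  have hspan : I = Ideal.span (Set.range (X : Fin d → MvPolynomial (Fin d) k)) := rfl
  have hXI : ∀ i, X i ∈ I := fun i => hspan ▸ Ideal.subset_span ⟨i, rfl⟩
  have h0 : ∀ c : MvPolynomial (Fin d) k, aeval G c - c ∈ I := by
    intro c
    induction c using MvPolynomial.induction_on with
    | C a => simp
    | add p q hp hq =>
      rw [map_add, add_sub_add_comm]
      exact add_mem hp hq
    | mul_X p i hp =>
      rw [map_mul, aeval_X, show aeval G p * G i - p * X i = (aeval G p - p) * G i + p * (G i - X i) by ring]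
      exact add_mem (Ideal.mul_mem_right _ _ hp) (Ideal.mul_mem_left _ _ (Ideal.pow_le_self two_ne_zero (hG i)))
  have h1 : ∀ c ∈ I, aeval G c - c ∈ I ^ 2 := by
    intro c hc
    rw [hspan] at hc
    induction hc using Submodule.span_induction with
    | mem _ hm =>
      obtain ⟨i, rfl⟩ := hm
      rw [aeval_X]
      exact hG i
    | zero => simp
    | add p q _ _ hp hq =>
      rw [map_add, add_sub_add_comm]
      exact add_mem hp hq
    | smul a p hp' hp =>
      rw [smul_eq_mul, map_mul, show aeval G a * aeval G p - a * p =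
        (aeval G a - a) * p + aeval G a * (aeval G p - p) by ring, pow_two]
      exact add_mem (Ideal.mul_mem_mul (h0 a) (hspan ▸ hp')) (Ideal.mul_mem_left _ _ (pow_two I ▸ hp))
  have hj : ∀ (j : ℕ) (c : MvPolynomial (Fin d) k), c ∈ I ^ j → aeval G c - c ∈ I ^ (j + 1) := by
    intro j
    induction j with
    | zero => intro c _; rw [zero_add, pow_one]; exact h0 c
    | succ j ih =>
      intro c hc
      rw [pow_succ'] at hc
      refine Submodule.mul_induction_on hc (fun p hp q hq => ?_) (fun p q hp hq => ?_)
      · have hp2 : aeval G p ∈ I := by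
          have := add_mem (h0 p) hp
          rwa [sub_add_cancel] at this
        rw [map_mul, show aeval G p * aeval G q - p * q =
          aeval G p * (aeval G q - q) + (aeval G p - p) * q by ring]
        refine add_mem ?_ ?_
        · rw [pow_succ' I (j + 1)]
          exact Ideal.mul_mem_mul hp2 (ih q hq)
        · rw [show j + 1 + 1 = 2 + j by omega, pow_add]
          exact Ideal.mul_mem_mul (h1 p hp) hq
      · rw [map_add, add_sub_add_comm]
        exact add_mem hp hq
  have key : ∀ j ≤ N, F ∈ I ^ j := by
    intro j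
    induction j with
    | zero => intro _; simp
    | succ j ih =>
      intro hle
      have := sub_mem (Ideal.pow_le_pow_right hle h) (hj j F (ih (by omega)))
      rwa [sub_sub_cancel] at this
  exact key N le_rfl

/-- Formal coordinates bound the dimension from below. -/
theorem le_ringKrullDim : ∀ (d : ℕ) {R : Type u} [CommRing R] [Algebra k R] [IsLocalRing R] [IsNoetherianRing R]
    (x : Fin d → R) (_ : ∀ i, x i ∈ maximalIdeal R)
    (_ : ∀ (n : ℕ) (a : R), ∃ F : MvPolynomial (Fin d) k, a - aeval x F ∈ maximalIdeal R ^ n)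
    (_ : ∀ (n : ℕ) (F : MvPolynomial (Fin d) k), aeval x F ∈ maximalIdeal R ^ n → F ∈ idealOfVars (Fin d) k ^ n),
    (d : WithBot ℕ∞) ≤ ringKrullDim R := by
  intro d
  induction d with
  | zero => intro R _ _ _ _ x _ _ _; simp [ringKrullDim_nonneg_of_nontrivial]
  | succ d ih =>
    intro R _ _ _ _ x hx hsurj hinj
    classical
    have hmulX : ∀ (n : ℕ) (F : MvPolynomial (Fin (d + 1)) k),
        X 0 * F ∈ idealOfVars (Fin (d + 1)) k ^ (n + 1) → F ∈ idealOfVars (Fin (d + 1)) k ^ n := by
      intro n F h
      rw [mem_pow_idealOfVars_iff'] at h ⊢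
      intro s hs
      have h2 := h (Finsupp.single 0 1 + s) (by simp only [map_add, Finsupp.degree_single]; omega)
      rwa [X, coeff_monomial_mul, one_mul] at h2
    have hnzd : x 0 ∈ nonZeroDivisors R := by
      rw [mem_nonZeroDivisors_iff_right]
      intro a ha
      have hpow : ∀ n : ℕ, a ∈ maximalIdeal R ^ n := by
        intro n
        obtain ⟨F, hF⟩ := hsurj n a
        have h2 : aeval x (X 0 * F) ∈ maximalIdeal R ^ (n + 1) := by
          have := Ideal.mul_mem_mul hF (hx 0)
          rw [← pow_succ, sub_mul, ha, zero_sub, neg_mem_iff] at this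
          rwa [map_mul, aeval_X, mul_comm]
        have h3 : aeval x F ∈ maximalIdeal R ^ n := by
          have hle : (idealOfVars (Fin (d + 1)) k ^ n).map (aeval (R := k) x) ≤ maximalIdeal R ^ n := by
            rw [Ideal.map_pow]
            refine Ideal.pow_right_mono ?_ n
            rw [show idealOfVars (Fin (d + 1)) k = Ideal.span (Set.range X) from rfl, Ideal.map_span, Ideal.span_le]
            rintro _ ⟨_, ⟨i, rfl⟩, rfl⟩
            simpa using hx i
          exact hle (Ideal.mem_map_of_mem _ (hmulX n F (hinj _ _ h2)))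
        have := add_mem hF h3
        rwa [sub_add_cancel] at this
      have h0 := Ideal.iInf_pow_eq_bot_of_isLocalRing (maximalIdeal R) (maximalIdeal.isMaximal R).ne_top
      have : a ∈ ⨅ i : ℕ, maximalIdeal R ^ i := Ideal.mem_iInf.2 hpow
      rwa [h0, Ideal.mem_bot] at this
    let I : Ideal R := Ideal.span {x 0}
    have hI : I ≠ ⊤ := ne_top_of_le_ne_top (maximalIdeal.isMaximal R).ne_top
      ((Ideal.span_singleton_le_iff_mem _).2 (hx 0))
    have : Nontrivial (R ⧸ I) := Ideal.Quotient.nontrivial_iff.2 hI
    have : IsLocalRing (R ⧸ I) := .of_surjective' (Ideal.Quotient.mk I) Ideal.Quotient.mk_surjective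
    have hloc : IsLocalHom (Ideal.Quotient.mk I) := IsLocalHom.of_surjective _ Ideal.Quotient.mk_surjective
    have hmax : ∀ n, maximalIdeal (R ⧸ I) ^ n = (maximalIdeal R ^ n).map (Ideal.Quotient.mk I) := fun n => by
      rw [Ideal.map_pow, IsLocalRing.map_maximalIdeal_of_surjective _ Ideal.Quotient.mk_surjective]
    let x' : Fin d → R ⧸ I := fun i => Ideal.Quotient.mk I (x i.succ)
    let ev0 : MvPolynomial (Fin (d + 1)) k →ₐ[k] MvPolynomial (Fin d) k := aeval (Fin.cons 0 X)
    have hev0 : ∀ F, aeval x' (ev0 F) = Ideal.Quotient.mkₐ k I (aeval x F) := by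
      intro F
      refine (congrArg (fun φ : MvPolynomial (Fin (d + 1)) k →ₐ[k] R ⧸ I => φ F)
        (MvPolynomial.algHom_ext (f := (aeval x').comp ev0) (g := (Ideal.Quotient.mkₐ k I).comp (aeval x)) fun i => ?_))
      refine Fin.cases ?_ (fun j => ?_) i
      · have h0 : Ideal.Quotient.mk I (x 0) = 0 := Ideal.Quotient.eq_zero_iff_mem.2 (Ideal.mem_span_singleton_self _)
        simp [ev0, h0]
      · simp [ev0, x']
    refine le_trans ?_ (ringKrullDim_quotient_succ_le_of_nonZeroDivisor hnzd)
    have h1 := ih (R := R ⧸ I) x' (fun i => map_nonunit (Ideal.Quotient.mk I) _ (hx i.succ))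
      (fun n a => by
        obtain ⟨a, rfl⟩ := Ideal.Quotient.mk_surjective a
        obtain ⟨F, hF⟩ := hsurj n a
        refine ⟨ev0 F, ?_⟩
        rw [hev0, Ideal.Quotient.mkₐ_eq_mk, ← map_sub, hmax]
        exact Ideal.mem_map_of_mem _ hF)
      (fun n F hF => by
        let F₁ : MvPolynomial (Fin (d + 1)) k := rename Fin.succ F
        have hev : ev0 F₁ = F := by
          simp only [F₁, ev0, aeval_rename]
          rw [show (Fin.cons 0 X : Fin (d + 1) → MvPolynomial (Fin d) k) ∘ Fin.succ = X from funext fun i => by simp,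
            aeval_X_left_apply]
        rw [← hev, hev0, Ideal.Quotient.mkₐ_eq_mk, hmax] at hF
        obtain ⟨z, hz, hzF⟩ := (Ideal.mem_map_iff_of_surjective _ Ideal.Quotient.mk_surjective).1 hF
        obtain ⟨a, ha⟩ := Ideal.mem_span_singleton.1 (Ideal.Quotient.eq.1 hzF.symm)
        obtain ⟨G, hG⟩ := hsurj n a
        have h2 : aeval x (F₁ - X 0 * G) ∈ maximalIdeal R ^ n := by
          rw [map_sub, map_mul, aeval_X]
          have := add_mem hz (Ideal.mul_mem_left _ (x 0) hG)
          rwa [mul_sub, ← ha, show z + (aeval x F₁ - z - x 0 * aeval x G) = aeval x F₁ - x 0 * aeval x G by ring] at this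
        have hle : (idealOfVars (Fin (d + 1)) k ^ n).map ev0 ≤ idealOfVars (Fin d) k ^ n := by
          rw [Ideal.map_pow]
          refine Ideal.pow_right_mono ?_ n
          rw [show idealOfVars (Fin (d + 1)) k = Ideal.span (Set.range X) from rfl, Ideal.map_span, Ideal.span_le]
          rintro _ ⟨_, ⟨i, rfl⟩, rfl⟩
          refine Fin.cases ?_ (fun j => ?_) i
          · simp [ev0]
          · simp [ev0]
            exact Ideal.subset_span ⟨j, rfl⟩
        have h3 := hle (Ideal.mem_map_of_mem ev0 (hinj _ _ h2))
        rwa [map_sub, map_mul, show ev0 (X 0) = 0 by simp [ev0], zero_mul, sub_zero, hev] at h3)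
    push_cast
    exact add_le_add h1 le_rfl

end Groth.Agent.Synt29.JetLift
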