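import Mathlib
import Groth.Agent.LocalCrit.Flatness

/-!
Flat lifts of an ideal along a square-zero ideal `J ⊆ A` form a torsor under
`Hom_B(I, (B₀ ⧸ I) ⊗ J)`.
-/

universe u

open TensorProduct

namespace Groth.Agent.Synt29.IdealLift

variable {A B : Type u} [CommRing A] [CommRing B] [Algebra A B] (J : Ideal A)

/-- Multiplication `B ⊗ J → B`. -/
noncomputable abbrev ev : B ⊗[A] ↥J →ₗ[A] B :=
  (TensorProduct.rid A B).toLinearMap ∘ₗ LinearMap.lTensor B (Submodule.subtype J)

/-- Reduction `B ⊗ J → (B₀ ⧸ I) ⊗ J`. -/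
noncomputable abbrev red (I : Ideal (B ⧸ J.map (algebraMap A B))) :
    B ⊗[A] ↥J →ₗ[A] ((B ⧸ J.map (algebraMap A B)) ⧸ I) ⊗[A] ↥J :=
  LinearMap.rTensor ↥J (IsScalarTower.toAlgHom A B ((B ⧸ J.map (algebraMap A B)) ⧸ I)).toLinearMap

variable {J}

lemma ev_tmul (b : B) (c : ↥J) : ev J (b ⊗ₜ[A] c) = algebraMap A B c * b := by
  simp [ev, Algebra.smul_def]

lemma ev_smul (b : B) (z : B ⊗[A] ↥J) : ev J (b • z) = b * ev J z := by
  induction z using TensorProduct.induction_on with
  | zero => simp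
  | tmul a c => rw [TensorProduct.smul_tmul', ev_tmul, ev_tmul, smul_eq_mul]; ring
  | add x y hx hy => rw [smul_add, map_add, map_add, hx, hy, mul_add]

lemma red_smul (I : Ideal (B ⧸ J.map (algebraMap A B))) (b : B) (z : B ⊗[A] ↥J) :
    red J I (b • z) = b • red J I z := by
  induction z using TensorProduct.induction_on with
  | zero => simp
  | tmul a c =>
    simp only [red, TensorProduct.smul_tmul', LinearMap.rTensor_tmul, smul_eq_mul]
    congr 1
  | add x y hx hy => rw [smul_add, map_add, map_add, hx, hy, smul_add]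

lemma ev_mem (z : B ⊗[A] ↥J) : ev J z ∈ J.map (algebraMap A B) := by
  induction z using TensorProduct.induction_on with
  | zero => simp
  | tmul a c => rw [ev_tmul]; exact Ideal.mul_mem_right _ _ (Ideal.mem_map_of_mem _ c.2)
  | add x y hx hy => rw [map_add]; exact add_mem hx hy

lemma exists_ev {x : B} (hx : x ∈ J.map (algebraMap A B)) : ∃ z, ev J z = x := by
  refine Submodule.span_induction ?_ ⟨0, map_zero _⟩ ?_ ?_ hx
  · rintro _ ⟨c, hc, rfl⟩
    exact ⟨(1 : B) ⊗ₜ (⟨c, hc⟩ : ↥J), by rw [ev_tmul, mul_one]⟩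
  · rintro x y _ _ ⟨z, rfl⟩ ⟨w, rfl⟩
    exact ⟨z + w, map_add _ _ _⟩
  · rintro b x _ ⟨z, rfl⟩
    exact ⟨b • z, by rw [ev_smul, smul_eq_mul]⟩

lemma ev_injective [Module.Flat A B] : Function.Injective (ev (B := B) J) :=
  (TensorProduct.rid A B).injective.comp
    (Module.Flat.lTensor_preserves_injective_linearMap _ J.injective_subtype)

lemma tmul_eq_zero_of_mem_map (hJ : J * J = ⊥) {d : B} (hd : d ∈ J.map (algebraMap A B)) (c : ↥J) :
    d ⊗ₜ[A] c = 0 := by
  refine Submodule.span_induction ?_ (TensorProduct.zero_tmul B c) ?_ ?_ hd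
  · rintro _ ⟨a, ha, rfl⟩
    have h0 : a • c = 0 := Subtype.ext (by
      have := Ideal.mul_mem_mul ha c.2
      rwa [hJ] at this)
    rw [Algebra.algebraMap_eq_smul_one, TensorProduct.smul_tmul, h0, TensorProduct.tmul_zero]
  · intro x y _ _ hx hy
    rw [TensorProduct.add_tmul, hx, hy, add_zero]
  · intro b x _ hx
    rw [← TensorProduct.smul_tmul', hx, smul_zero]

/-- The kernel of the reduction comes from any lift of `I`. -/
lemma red_eq_zero (hJ : J * J = ⊥) {I : Ideal (B ⧸ J.map (algebraMap A B))} {K : Ideal B}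
    (hK : K.map (Ideal.Quotient.mk (J.map (algebraMap A B))) = I) {z : B ⊗[A] ↥J} (hz : red J I z = 0) :
    ∃ w : (K.restrictScalars A) ⊗[A] ↥J, LinearMap.rTensor ↥J (K.restrictScalars A).subtype w = z := by
  let f := (IsScalarTower.toAlgHom A B ((B ⧸ J.map (algebraMap A B)) ⧸ I)).toLinearMap
  have hf : Function.Surjective f := fun y => by
    obtain ⟨y, rfl⟩ := Ideal.Quotient.mk_surjective y
    obtain ⟨y, rfl⟩ := Ideal.Quotient.mk_surjective y
    exact ⟨y, rfl⟩
  obtain ⟨w, rfl⟩ := (rTensor_exact ↥J (LinearMap.exact_subtype_ker_map f) hf z).1 hz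
  clear hz
  induction w using TensorProduct.induction_on with
  | zero => exact ⟨0, by simp⟩
  | tmul k c =>
    have hk : Ideal.Quotient.mk (J.map (algebraMap A B)) k.1 ∈ I := Ideal.Quotient.eq_zero_iff_mem.1 k.2
    obtain ⟨y, hy, hyk⟩ := (Ideal.mem_map_iff_of_surjective _ Ideal.Quotient.mk_surjective).1 (hK.symm.le hk)
    refine ⟨(⟨y, hy⟩ : K.restrictScalars A) ⊗ₜ c, ?_⟩
    rw [LinearMap.rTensor_tmul, LinearMap.rTensor_tmul, ← sub_eq_zero, ← TensorProduct.sub_tmul]
    exact tmul_eq_zero_of_mem_map hJ (Ideal.Quotient.eq.1 hyk) c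
  | add x y hx hy =>
    obtain ⟨p, hp⟩ := hx; obtain ⟨q, hq⟩ := hy
    exact ⟨p + q, by rw [map_add, hp, hq, map_add]⟩

lemma red_eq_zero_of_mem {I : Ideal (B ⧸ J.map (algebraMap A B))} {K : Ideal B}
    (hK : K.map (Ideal.Quotient.mk (J.map (algebraMap A B))) = I)
    (w : (K.restrictScalars A) ⊗[A] ↥J) :
    red J I (LinearMap.rTensor ↥J (K.restrictScalars A).subtype w) = 0 := by
  induction w using TensorProduct.induction_on with
  | zero => simp
  | tmul k c =>
    rw [LinearMap.rTensor_tmul, red, LinearMap.rTensor_tmul]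
    have : (IsScalarTower.toAlgHom A B ((B ⧸ J.map (algebraMap A B)) ⧸ I)).toLinearMap (k : B) = 0 :=
      Ideal.Quotient.eq_zero_iff_mem.2 (hK ▸ Ideal.mem_map_of_mem _ k.2)
    rw [show (K.restrictScalars A).subtype k = (k : B) from rfl, this, TensorProduct.zero_tmul]
  | add x y hx hy => rw [map_add, map_add, hx, hy, add_zero]

lemma ev_mem_of_range {K : Ideal B} (w : (K.restrictScalars A) ⊗[A] ↥J) :
    ev J (LinearMap.rTensor ↥J (K.restrictScalars A).subtype w) ∈ K := by
  induction w using TensorProduct.induction_on with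
  | zero => simp
  | tmul k c => rw [LinearMap.rTensor_tmul, ev_tmul]; exact K.mul_mem_left _ k.2
  | add x y hx hy => rw [map_add, map_add]; exact add_mem hx hy

/-- In a flat lift, elements of `K ∩ J B` reduce to zero. -/
lemma red_eq_zero_of_ev_mem (hJ : J * J = ⊥) [Module.Flat A B] {I : Ideal (B ⧸ J.map (algebraMap A B))}
    {K : Ideal B} [Module.Flat A (B ⧸ K)] (hK : K.map (Ideal.Quotient.mk (J.map (algebraMap A B))) = I)
    {z : B ⊗[A] ↥J} (hz : ev J z ∈ K) : red J I z = 0 := by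
  let q : B →ₗ[A] B ⧸ K := (Submodule.mkQ K).restrictScalars A
  have hq : Function.Surjective q := Submodule.mkQ_surjective K
  have hex : Function.Exact (K.restrictScalars A).subtype q := LinearMap.exact_subtype_mkQ K
  have h0 : q.rTensor ↥J z = 0 := by
    apply Module.Flat.lTensor_preserves_injective_linearMap (M := B ⧸ K) J.subtype J.injective_subtype
    apply (TensorProduct.rid A (B ⧸ K)).injective
    have : ∀ w, TensorProduct.rid A (B ⧸ K) (LinearMap.lTensor (B ⧸ K) J.subtype (q.rTensor ↥J w)) =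
        q (ev J w) := by
      intro w
      induction w using TensorProduct.induction_on with
      | zero => simp
      | tmul a c => simp [ev, q]
      | add x y hx hy => simp only [map_add, hx, hy]
    rw [this, map_zero, map_zero]
    exact (Submodule.Quotient.mk_eq_zero K).2 hz
  obtain ⟨w, rfl⟩ := (rTensor_exact ↥J hex hq z).1 h0
  exact red_eq_zero_of_mem hK w

/-- Two flat lifts differ by a unique homomorphism `I → (B₀ ⧸ I) ⊗ J`. -/
theorem existsUnique_hom (hJ : J * J = ⊥) [Module.Flat A B] (I : Ideal (B ⧸ J.map (algebraMap A B)))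
    (I' I'' : Ideal B) [Module.Flat A (B ⧸ I')] [Module.Flat A (B ⧸ I'')]
    (hI' : I'.map (Ideal.Quotient.mk (J.map (algebraMap A B))) = I)
    (hI'' : I''.map (Ideal.Quotient.mk (J.map (algebraMap A B))) = I) :
    ∃! φ : ↥I →ₗ[B] (((B ⧸ J.map (algebraMap A B)) ⧸ I) ⊗[A] ↥J),
      (∀ (x : (B ⧸ J.map (algebraMap A B))) (hx : x ∈ I) (x' x'' : B), x' ∈ I' → x'' ∈ I'' →
          Ideal.Quotient.mk (J.map (algebraMap A B)) x' = x → Ideal.Quotient.mk (J.map (algebraMap A B)) x'' = x →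
          ∀ z : B ⊗[A] ↥J, TensorProduct.rid A B (LinearMap.lTensor B (Submodule.subtype J) z) = x'' - x' →
            LinearMap.rTensor ↥J (IsScalarTower.toAlgHom A B ((B ⧸ J.map (algebraMap A B)) ⧸ I)).toLinearMap z = φ ⟨x, hx⟩) := by
  let π := Ideal.Quotient.mk (J.map (algebraMap A B))
  have hπ : Function.Surjective π := Ideal.Quotient.mk_surjective
  have hex : ∀ x : ↥I, ∃ p : B × B × (B ⊗[A] ↥J),
      p.1 ∈ I' ∧ p.2.1 ∈ I'' ∧ π p.1 = x ∧ π p.2.1 = x ∧ ev J p.2.2 = p.2.1 - p.1 := by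
    intro x
    obtain ⟨a, ha, hax⟩ := (Ideal.mem_map_iff_of_surjective π hπ).1 (hI'.symm.le x.2)
    obtain ⟨b, hb, hbx⟩ := (Ideal.mem_map_iff_of_surjective π hπ).1 (hI''.symm.le x.2)
    obtain ⟨z, hz⟩ := exists_ev (Ideal.Quotient.eq.1 (hbx.trans hax.symm))
    exact ⟨⟨a, b, z⟩, ha, hb, hax, hbx, hz⟩
  choose p hp using hex
  have wd : ∀ (x' x'' y' y'' : B) (z w : B ⊗[A] ↥J), x' ∈ I' → x'' ∈ I'' → y' ∈ I' → y'' ∈ I'' →
      π x' = π y' → π x'' = π y'' → ev J z = x'' - x' → ev J w = y'' - y' → red J I z = red J I w := by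
    intro x' x'' y' y'' z w hx' hx'' hy' hy'' he he' hz hw
    obtain ⟨a, ha⟩ := exists_ev (Ideal.Quotient.eq.1 he)
    obtain ⟨b, hb⟩ := exists_ev (Ideal.Quotient.eq.1 he')
    have h : z = w + (b - a) := ev_injective (by
      rw [map_add, map_sub, ha, hb, hz, hw]; ring)
    rw [h, map_add, map_sub, red_eq_zero_of_ev_mem hJ hI' (z := a) (by rw [ha]; exact sub_mem hx' hy'),
      red_eq_zero_of_ev_mem hJ hI'' (z := b) (by rw [hb]; exact sub_mem hx'' hy''), sub_zero, add_zero]
  let G : ↥I →ₗ[B] (((B ⧸ J.map (algebraMap A B)) ⧸ I) ⊗[A] ↥J) :=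
  { toFun := fun x => red J I (p x).2.2
    map_add' := fun x y => by
      obtain ⟨h1, h2, h3, h4, h5⟩ := hp x
      obtain ⟨g1, g2, g3, g4, g5⟩ := hp y
      obtain ⟨f1, f2, f3, f4, f5⟩ := hp (x + y)
      rw [← map_add]
      refine wd _ _ _ _ _ _ f1 f2 (I'.add_mem h1 g1) (I''.add_mem h2 g2) ?_ ?_ f5
        (by rw [map_add, h5, g5]; ring)
      · rw [map_add, f3, h3, g3]; rfl
      · rw [map_add, f4, h4, g4]; rfl
    map_smul' := fun b x => by
      obtain ⟨h1, h2, h3, h4, h5⟩ := hp x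
      obtain ⟨f1, f2, f3, f4, f5⟩ := hp (b • x)
      rw [RingHom.id_apply, ← red_smul]
      refine wd _ _ _ _ _ _ f1 f2 (I'.mul_mem_left b h1) (I''.mul_mem_left b h2) ?_ ?_ f5
        (by rw [ev_smul, h5]; ring)
      · rw [map_mul, f3, h3]; exact Algebra.smul_def b (x : B ⧸ J.map (algebraMap A B))
      · rw [map_mul, f4, h4]; exact Algebra.smul_def b (x : B ⧸ J.map (algebraMap A B)) }
  refine ⟨G, ?_, ?_⟩
  · intro x hx x' x'' hx' hx'' e e' z hz
    obtain ⟨f1, f2, f3, f4, f5⟩ := hp ⟨x, hx⟩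
    exact wd _ _ _ _ _ _ hx' hx'' f1 f2 (e.trans f3.symm) (e'.trans f4.symm) hz f5
  · intro ψ hψ
    refine LinearMap.ext fun x => ?_
    obtain ⟨f1, f2, f3, f4, f5⟩ := hp x
    exact (hψ x x.2 _ _ f1 f2 f3 f4 _ f5).symm

/-- Translating a flat lift by a homomorphism gives a unique flat lift. -/
theorem existsUnique_ideal (hJ : J * J = ⊥) [Module.Flat A B] (I : Ideal (B ⧸ J.map (algebraMap A B)))
    [Module.Flat (A ⧸ J) ((B ⧸ J.map (algebraMap A B)) ⧸ I)]
    (I' : Ideal B) [Module.Flat A (B ⧸ I')]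
    (hI' : I'.map (Ideal.Quotient.mk (J.map (algebraMap A B))) = I)
    (φ : ↥I →ₗ[B] (((B ⧸ J.map (algebraMap A B)) ⧸ I) ⊗[A] ↥J)) :
    ∃! I'' : Ideal B, Module.Flat A (B ⧸ I'') ∧
      I''.map (Ideal.Quotient.mk (J.map (algebraMap A B))) = I ∧
      (∀ (x : (B ⧸ J.map (algebraMap A B))) (hx : x ∈ I) (x' x'' : B), x' ∈ I' → x'' ∈ I'' →
          Ideal.Quotient.mk (J.map (algebraMap A B)) x' = x → Ideal.Quotient.mk (J.map (algebraMap A B)) x'' = x →
          ∀ z : B ⊗[A] ↥J, TensorProduct.rid A B (LinearMap.lTensor B (Submodule.subtype J) z) = x'' - x' →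
            LinearMap.rTensor ↥J (IsScalarTower.toAlgHom A B ((B ⧸ J.map (algebraMap A B)) ⧸ I)).toLinearMap z = φ ⟨x, hx⟩) := by
  let π := Ideal.Quotient.mk (J.map (algebraMap A B))
  have hπ : Function.Surjective π := Ideal.Quotient.mk_surjective
  have hπev : ∀ z, π (ev J z) = 0 := fun z => Ideal.Quotient.eq_zero_iff_mem.2 (ev_mem z)
  have hlift : ∀ x ∈ I, ∃ x' ∈ I', π x' = x := fun x hx =>
    (Ideal.mem_map_iff_of_surjective π hπ).1 (show x ∈ I'.map π from hI'.symm ▸ hx)
  have hsurj : Function.Surjective (red J I) := LinearMap.rTensor_surjective _ (fun y => by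
    obtain ⟨y, rfl⟩ := Ideal.Quotient.mk_surjective y
    obtain ⟨y, rfl⟩ := Ideal.Quotient.mk_surjective y
    exact ⟨y, rfl⟩)
  let L : Ideal B :=
  { carrier := {x'' | ∃ (x : ↥I) (x' : B) (z : B ⊗[A] ↥J), x' ∈ I' ∧ π x' = x ∧ x'' = x' + ev J z ∧ red J I z = φ x}
    zero_mem' := ⟨0, 0, 0, zero_mem _, map_zero _, by simp, by rw [map_zero, map_zero]⟩
    add_mem' := by
      rintro a b ⟨x, x', z, h1, h2, h3, h4⟩ ⟨y, y', w, g1, g2, g3, g4⟩
      refine ⟨x + y, x' + y', z + w, add_mem h1 g1, ?_, ?_, by rw [map_add, map_add, h4, g4]⟩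
      · rw [map_add, h2, g2]; rfl
      · rw [h3, g3, map_add]; ring
    smul_mem' := by
      rintro b a ⟨x, x', z, h1, h2, h3, h4⟩
      refine ⟨b • x, b * x', b • z, I'.mul_mem_left b h1, ?_, ?_, by rw [red_smul, h4, map_smul]⟩
      · rw [map_mul, h2]; exact (Algebra.smul_def b (x : B ⧸ J.map (algebraMap A B))).symm
      · rw [h3, smul_eq_mul, ev_smul]; ring }
  have hL : ∀ x'', x'' ∈ L ↔
      ∃ (x : ↥I) (x' : B) (z : B ⊗[A] ↥J), x' ∈ I' ∧ π x' = x ∧ x'' = x' + ev J z ∧ red J I z = φ x :=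
    fun _ => Iff.rfl
  have hLmap : L.map π = I := by
    refine le_antisymm (Ideal.map_le_iff_le_comap.2 fun a ha => ?_) (fun x hx => ?_)
    · obtain ⟨x, x', z, h1, h2, rfl, h4⟩ := (hL a).1 ha
      show π (x' + ev J z) ∈ I
      rw [map_add, hπev, add_zero, h2]
      exact x.2
    · obtain ⟨x', hx', hxx⟩ := hlift x hx
      obtain ⟨z, hz⟩ := hsurj (φ ⟨x, hx⟩)
      have : π (x' + ev J z) = x := by rw [map_add, hπev, add_zero, hxx]
      rw [← this]
      exact Ideal.mem_map_of_mem _ ((hL _).2 ⟨⟨x, hx⟩, x', z, hx', hxx, rfl, hz⟩)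
  have hLcond : ∀ (x : (B ⧸ J.map (algebraMap A B))) (hx : x ∈ I) (x' x'' : B), x' ∈ I' → x'' ∈ L →
      π x' = x → π x'' = x → ∀ z : B ⊗[A] ↥J, ev J z = x'' - x' → red J I z = φ ⟨x, hx⟩ := by
    intro x hx x' x'' hx' hx'' e e' z hz
    obtain ⟨y, y', w, h1, h2, rfl, h4⟩ := (hL x'').1 hx''
    rw [map_add, hπev, add_zero, h2] at e'
    have hy : y = ⟨x, hx⟩ := Subtype.ext e'
    have h0 : red J I (z - w) = 0 := red_eq_zero_of_ev_mem hJ hI' (by
      rw [map_sub, hz, show y' + ev J w - x' - ev J w = y' - x' by ring]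
      exact sub_mem h1 hx')
    rw [map_sub, sub_eq_zero] at h0
    rw [h0, h4, hy]
  have hflat : Module.Flat A (B ⧸ L) := by
    have hinj : Function.Injective (J.subtype.rTensor (B ⧸ L)) := by
      rw [← LinearMap.lTensor_inj_iff_rTensor_inj, injective_iff_map_eq_zero]
      intro u hu
      let q : B →ₗ[A] B ⧸ L := (Submodule.mkQ L).restrictScalars A
      obtain ⟨z, rfl⟩ := LinearMap.rTensor_surjective ↥J (show Function.Surjective q from Submodule.mkQ_surjective L) u
      have hzL : ev J z ∈ L := by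
        rw [← Submodule.Quotient.mk_eq_zero]
        have : ∀ w, TensorProduct.rid A (B ⧸ L) (LinearMap.lTensor (B ⧸ L) J.subtype (q.rTensor ↥J w)) =
            q (ev J w) := by
          intro w
          induction w using TensorProduct.induction_on with
          | zero => simp
          | tmul a c => simp [ev, q]
          | add x y hx hy => simp only [map_add, hx, hy]
        have h := this z
        rw [hu, map_zero] at h
        exact h.symm
      have h0 : red J I z = 0 := by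
        rw [hLcond 0 I.zero_mem 0 (ev J z) I'.zero_mem hzL (map_zero _) (hπev z) z (by rw [sub_zero])]
        exact map_zero φ
      obtain ⟨w, rfl⟩ := red_eq_zero hJ hLmap h0
      rw [← LinearMap.comp_apply, ← LinearMap.rTensor_comp]
      have : q ∘ₗ (L.restrictScalars A).subtype = 0 :=
        LinearMap.ext fun k => (Submodule.Quotient.mk_eq_zero L).2 k.2
      rw [this, LinearMap.rTensor_zero, LinearMap.zero_apply]
    let g : (B ⧸ L) →ₗ[A] ((B ⧸ J.map (algebraMap A B)) ⧸ I) :=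
      (Submodule.liftQ (L.restrictScalars A)
        (IsScalarTower.toAlgHom A B ((B ⧸ J.map (algebraMap A B)) ⧸ I)).toLinearMap
        (fun b hb => Ideal.Quotient.eq_zero_iff_mem.2 (hLmap ▸ Ideal.mem_map_of_mem π hb))).comp
      (Submodule.Quotient.restrictScalarsEquiv A L).symm.toLinearMap
    have hg : ∀ b : B, g (Submodule.Quotient.mk b) = Ideal.Quotient.mk I (π b) := fun b => rfl
    let G : (A ⧸ J) ⊗[A] (B ⧸ L) →ₗ[A ⧸ J] ((B ⧸ J.map (algebraMap A B)) ⧸ I) := g.liftBaseChange (A ⧸ J)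
    have hG : Function.Bijective G := by
      refine ⟨?_, fun y => ?_⟩
      · rw [injective_iff_map_eq_zero]
        intro u hu
        have h1 : ∀ u : (A ⧸ J) ⊗[A] (B ⧸ L), ∃ b : B, u = 1 ⊗ₜ Submodule.Quotient.mk b := by
          intro u
          induction u using TensorProduct.induction_on with
          | zero => exact ⟨0, by simp⟩
          | tmul c m =>
            obtain ⟨c, rfl⟩ := Ideal.Quotient.mk_surjective c
            obtain ⟨b, rfl⟩ := Submodule.mkQ_surjective L m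
            refine ⟨c • b, ?_⟩
            rw [Submodule.Quotient.mk_smul, TensorProduct.tmul_smul, TensorProduct.smul_tmul', Algebra.smul_def,
              mul_one]
            rfl
          | add x y hx hy =>
            obtain ⟨a, rfl⟩ := hx; obtain ⟨b, rfl⟩ := hy
            exact ⟨a + b, by rw [← TensorProduct.tmul_add]; rfl⟩
        obtain ⟨b, rfl⟩ := h1 u
        rw [LinearMap.liftBaseChange_tmul, one_smul, hg, Ideal.Quotient.eq_zero_iff_mem] at hu
        rw [← hLmap] at hu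
        obtain ⟨l, hl, hlb⟩ := (Ideal.mem_map_iff_of_surjective π hπ).1 hu
        obtain ⟨z, hz⟩ := exists_ev (Ideal.Quotient.eq.1 hlb.symm)
        have hb : (Submodule.Quotient.mk b : B ⧸ L) = Submodule.Quotient.mk (ev J z) :=
          (Submodule.Quotient.eq L).2 (by rw [hz, sub_sub_cancel]; exact hl)
        rw [hb]
        clear hz hb
        induction z using TensorProduct.induction_on with
        | zero => simp
        | tmul a c =>
          rw [ev_tmul, ← Algebra.smul_def, Submodule.Quotient.mk_smul, TensorProduct.tmul_smul,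
            TensorProduct.smul_tmul', Algebra.smul_def, mul_one, Ideal.Quotient.algebraMap_eq,
            Ideal.Quotient.eq_zero_iff_mem.2 c.2, TensorProduct.zero_tmul]
        | add x y hx hy => rw [map_add, Submodule.Quotient.mk_add, TensorProduct.tmul_add, hx, hy, add_zero]
      · obtain ⟨y, rfl⟩ := Ideal.Quotient.mk_surjective y
        obtain ⟨y, rfl⟩ := hπ y
        exact ⟨1 ⊗ₜ Submodule.Quotient.mk y, by rw [LinearMap.liftBaseChange_tmul, one_smul]; exact hg y⟩
    have : Module.Flat (A ⧸ J) ((A ⧸ J) ⊗[A] (B ⧸ L)) :=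
      Module.Flat.of_linearEquiv (LinearEquiv.ofBijective G hG)
    exact Groth.Agent.LocalCrit.flat_of_isNilpotent J (B ⧸ L) ⟨2, by rw [pow_two, hJ]; rfl⟩ hinj
      (Groth.Agent.LocalCrit.keepsInjective_of_flat J (B ⧸ L))
  refine ⟨L, ⟨hflat, hLmap, hLcond⟩, ?_⟩
  rintro K ⟨-, hKmap, hKcond⟩
  refine le_antisymm (fun a ha => ?_) (fun a ha => ?_)
  · have hx : π a ∈ I := hKmap ▸ Ideal.mem_map_of_mem π ha
    obtain ⟨x', hx', hxx⟩ := hlift _ hx
    obtain ⟨z, hz⟩ := exists_ev (Ideal.Quotient.eq.1 hxx.symm)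
    exact (hL a).2 ⟨⟨π a, hx⟩, x', z, hx', hxx, by rw [hz]; ring, hKcond _ hx x' a hx' ha hxx rfl z hz⟩
  · obtain ⟨x, x', z, h1, h2, rfl, h4⟩ := (hL a).1 ha
    obtain ⟨y, hy, hyx⟩ := (Ideal.mem_map_iff_of_surjective π hπ).1 (hKmap.symm.le x.2)
    obtain ⟨w, hw⟩ := exists_ev (Ideal.Quotient.eq.1 (hyx.trans h2.symm))
    have h5 : red J I (z - w) = 0 := by
      rw [map_sub, h4, hKcond _ x.2 x' y h1 hy h2 hyx w hw, sub_self]
    obtain ⟨v, hv⟩ := red_eq_zero hJ hKmap h5
    have h6 : ev J (z - w) ∈ K := hv ▸ ev_mem_of_range v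
    rw [map_sub, hw] at h6
    have := add_mem h6 hy
    convert this using 1
    ring

end Groth.Agent.Synt29.IdealLift
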