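import Mathlib

/-!
Automorphisms of a flat module over an artinian base that are the identity modulo a small ideal.
-/

set_option autoImplicit false

universe u

open TensorProduct

namespace Groth.Agent.Synt29.FlatAut

variable {C : Type u} [CommRing C] (m J : Ideal C) {A : Type u} [CommRing A] [Algebra C A] {M : Type u}
  [AddCommGroup M] [Module A M] [Module C M] [IsScalarTower C A M]

/-- The multiplication map. -/
noncomputable def ν : M ⊗[C] J →ₗ[A] M :=
  (AlgebraTensorModule.rid C A M).toLinearMap.comp (AlgebraTensorModule.map (LinearMap.id : M →ₗ[A] M) J.subtype)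

theorem ν_tmul (x : M) (j : J) : ν J (A := A) (x ⊗ₜ[C] j) = (j : C) • x := by
  simp [ν]

theorem ν_eq (z : M ⊗[C] J) : ν J (A := A) z = TensorProduct.rid C M (LinearMap.lTensor M J.subtype z) := by
  induction z with
  | zero => simp
  | tmul x j => simp [ν_tmul]
  | add a b ha hb => simp [map_add, ha, hb]

theorem ν_injective [Module.Flat C M] : Function.Injective (ν J (A := A) (M := M)) := fun a b h => by
  rw [ν_eq, ν_eq] at h
  exact Module.Flat.lTensor_preserves_injective_linearMap J.subtype Subtype.val_injective
    ((TensorProduct.rid C M).injective h)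

theorem range_ν : LinearMap.range (ν J (A := A) (M := M)) = J.map (algebraMap C A) • ⊤ := by
  refine le_antisymm ?_ (Submodule.smul_le.2 fun a ha x _ => ?_)
  · rintro _ ⟨z, rfl⟩
    induction z with
    | zero => simp
    | tmul x j =>
      rw [ν_tmul, ← algebraMap_smul A (j : C) x]
      exact Submodule.smul_mem_smul (Ideal.mem_map_of_mem _ j.2) trivial
    | add a b ha hb => rw [map_add]; exact add_mem ha hb
  · revert x
    induction ha using Submodule.span_induction with
    | mem a ha =>
      intro x _
      obtain ⟨j, hj, rfl⟩ := ha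
      exact ⟨x ⊗ₜ ⟨j, hj⟩, by rw [ν_tmul, algebraMap_smul]⟩
    | zero => intro x _; simp
    | add a b _ _ ha hb => intro x hx; rw [add_smul]; exact add_mem (ha x hx) (hb x hx)
    | smul t a _ ha => intro x hx; rw [smul_eq_mul, mul_smul]; exact Submodule.smul_mem _ t (ha x hx)

/-- The submodule killed in the special fibre. -/
abbrev mM : Submodule A M := m.map (algebraMap C A) • ⊤

/-- The reduction. -/
noncomputable def red : M ⊗[C] J →ₗ[A] (M ⧸ mM m (A := A) (M := M)) ⊗[C] J :=
  AlgebraTensorModule.map (mM m).mkQ LinearMap.id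

theorem red_eq (z : M ⊗[C] J) :
    red m J (A := A) z = LinearMap.rTensor J ((mM m (A := A) (M := M)).mkQ.restrictScalars C) z := by
  induction z with
  | zero => simp
  | tmul x j => rfl
  | add a b ha hb => simp [map_add, ha, hb]

variable {m J} (hmJ : m * J = ⊥)

theorem rTensor_mkQ_injective {P : Type u} [AddCommGroup P] [Module C P] (W : Submodule A M)
    (hW : ∀ y ∈ W, ∀ z : P, y ⊗ₜ[C] z = (0 : M ⊗[C] P)) :
    Function.Injective (LinearMap.rTensor P (W.mkQ.restrictScalars C)) := by
  intro a b h
  rw [← sub_eq_zero, ← map_sub] at h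
  have hex : Function.Exact (W.subtype.restrictScalars C) (W.mkQ.restrictScalars C) := fun y =>
    LinearMap.exact_subtype_mkQ W y
  obtain ⟨w, hw⟩ := (rTensor_exact P hex W.mkQ_surjective (a - b)).1 h
  suffices h0 : ∀ w, LinearMap.rTensor P (W.subtype.restrictScalars C) w = 0 by
    rw [h0] at hw
    exact sub_eq_zero.1 hw.symm
  intro w
  induction w with
  | zero => simp
  | add a b ha hb => simp [map_add, ha, hb]
  | tmul y z => exact hW y y.2 z

include hmJ in
theorem tmul_eq_zero_of_mem {y : M} (hy : y ∈ mM m (A := A) (M := M)) (j : J) : y ⊗ₜ[C] j = (0 : M ⊗[C] J) := by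
  refine Submodule.smul_induction_on (p := fun y => y ⊗ₜ[C] j = (0 : M ⊗[C] J)) hy (fun a ha x _ => ?_)
    fun x y hx hy => by rw [add_tmul, hx, hy, add_zero]
  clear hy
  revert x
  induction ha using Submodule.span_induction with
  | mem a ha =>
    intro x _
    obtain ⟨c, hc, rfl⟩ := ha
    have : c • j = 0 := Subtype.ext (by
      have : c * (j : C) ∈ m * J := Ideal.mul_mem_mul hc j.2
      rw [hmJ] at this
      exact this)
    rw [algebraMap_smul, smul_tmul, this, tmul_zero]
  | zero => intro x _; simp
  | add a b _ _ ha hb => intro x hx; rw [add_smul, add_tmul, ha x hx, hb x hx, add_zero]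
  | smul t a _ ha =>
    intro x hx
    rw [smul_eq_mul, mul_smul, show (t • a • x) ⊗ₜ[C] j = t • ((a • x) ⊗ₜ[C] j) from rfl, ha x hx, smul_zero]

include hmJ in
theorem red_bijective : Function.Bijective (red m J (A := A) (M := M)) := by
  refine ⟨fun a b h => ?_, fun y => ?_⟩
  · rw [red_eq, red_eq] at h
    exact rTensor_mkQ_injective (C := C) (A := A) (P := J) (mM m (A := A) (M := M))
      (fun y hy j => tmul_eq_zero_of_mem (A := A) hmJ hy j) h
  · obtain ⟨z, hz⟩ := LinearMap.rTensor_surjective J
      (g := (mM m (A := A) (M := M)).mkQ.restrictScalars C) (mM m (A := A) (M := M)).mkQ_surjective y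
    exact ⟨z, (red_eq m J z).trans hz⟩

variable [Module.Flat C M] (hJm : J ≤ m)

include hmJ hJm in
theorem main :
    (∀ σ : M →ₗ[A] M, (∀ x : M, σ x - x ∈ J.map (algebraMap C A) • (⊤ : Submodule A M)) →
      Function.Bijective σ ∧
        ∃! τ : (M ⧸ mM m (A := A) (M := M)) →ₗ[A] ((M ⧸ mM m (A := A) (M := M)) ⊗[C] J),
          (∀ (x : M) (z : M ⊗[C] J), ν J (A := A) z = σ x - x → red m J z = τ (Submodule.mkQ _ x))) ∧
    (∀ τ : (M ⧸ mM m (A := A) (M := M)) →ₗ[A] ((M ⧸ mM m (A := A) (M := M)) ⊗[C] J),
      ∃ σ : M →ₗ[A] M, (∀ x : M, σ x - x ∈ J.map (algebraMap C A) • (⊤ : Submodule A M)) ∧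
        (∀ (x : M) (z : M ⊗[C] J), ν J (A := A) z = σ x - x → red m J z = τ (Submodule.mkQ _ x))) := by
  let R := LinearEquiv.ofBijective (red m J (A := A) (M := M)) (red_bijective hmJ)
  constructor
  · intro σ hσ
    let D := σ - LinearMap.id
    have hD : ∀ x, D x ∈ LinearMap.range (ν J (A := A) (M := M)) := fun x => by rw [range_ν]; exact hσ x
    let D' : M →ₗ[A] M ⊗[C] J :=
      (LinearEquiv.ofInjective _ (ν_injective J)).symm.toLinearMap.comp (D.codRestrict _ hD)
    have hD' : ∀ x, ν J (D' x) = σ x - x := fun x =>
      congrArg Subtype.val ((LinearEquiv.ofInjective _ (ν_injective J)).apply_symm_apply (D.codRestrict _ hD x))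
    have hDD : ∀ x, D (D x) = 0 := fun x => by
      obtain ⟨z, hz⟩ := hD x
      rw [← hz]
      clear hz
      induction z with
      | zero => simp
      | add a b ha hb => simp [map_add, ha, hb]
      | tmul y j =>
        rw [ν_tmul, LinearMap.map_smul_of_tower]
        obtain ⟨w, hw⟩ := hD y
        rw [← hw]
        clear hw
        induction w with
        | zero => simp
        | add a b ha hb => simp [map_add, smul_add, ha, hb]
        | tmul v i =>
          rw [ν_tmul, smul_smul]
          have : (j : C) * (i : C) ∈ m * J := Ideal.mul_mem_mul (hJm j.2) i.2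
          rw [hmJ, Ideal.mem_bot] at this
          rw [this, zero_smul]
    have hid : ∀ x, σ x = x + D x := fun x => by simp [D]
    refine ⟨⟨fun a b h => ?_, fun y => ⟨y - D y, ?_⟩⟩, ?_⟩
    · have h1 := congrArg D h
      rw [hid, hid, map_add, map_add, hDD, hDD, add_zero, add_zero] at h1
      rw [hid, hid, h1] at h
      exact add_right_cancel h
    · rw [hid, map_sub, hDD, sub_zero, sub_add_cancel]
    have hker : mM m (A := A) (M := M) ≤ LinearMap.ker ((red m J).comp D') := Submodule.smul_le.2 fun a ha x hx => by
      rw [LinearMap.mem_ker, map_smul]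
      clear hx
      generalize (red m J).comp D' x = w
      clear x
      revert w
      induction ha using Submodule.span_induction with
      | mem a ha =>
        intro w
        obtain ⟨c, hc, rfl⟩ := ha
        induction w with
        | zero => simp
        | add p q hp hq => rw [smul_add, hp, hq, add_zero]
        | tmul v i =>
          have : c • i = 0 := Subtype.ext (by
            have : c * (i : C) ∈ m * J := Ideal.mul_mem_mul hc i.2
            rw [hmJ] at this
            exact this)
          rw [algebraMap_smul, ← tmul_smul, this, tmul_zero]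
      | zero => intro w; rw [zero_smul]
      | add a b _ _ ha hb => intro w; rw [add_smul, ha, hb, add_zero]
      | smul t a _ ha => intro w; rw [smul_eq_mul, mul_smul, ha, smul_zero]
    refine ⟨Submodule.liftQ _ _ hker, fun x z hz => ?_, fun τ hτ => ?_⟩
    · rw [Submodule.mkQ_apply, Submodule.liftQ_apply, LinearMap.comp_apply]
      exact congrArg _ (ν_injective J (hz.trans (hD' x).symm))
    · refine LinearMap.ext fun q => ?_
      obtain ⟨x, rfl⟩ := (mM m (A := A) (M := M)).mkQ_surjective q
      rw [← hτ x (D' x) (hD' x), Submodule.mkQ_apply, Submodule.liftQ_apply]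
      rfl
  · intro τ
    let E : M →ₗ[A] M ⊗[C] J := R.symm.toLinearMap.comp (τ.comp (mM m).mkQ)
    refine ⟨LinearMap.id + (ν J).comp E, fun x => ?_, fun x z hz => ?_⟩
    · rw [← range_ν]
      exact ⟨E x, by simp⟩
    · have : z = E x := ν_injective J (hz.trans (by simp))
      rw [this]
      exact R.apply_symm_apply _

end Groth.Agent.Synt29.FlatAut
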