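import Groth.Agent.Synt29.HyperH0
import Groth.Agent.S11486
import Groth.Agent.S8148
import Groth.Agent.Lib.NegVanStalk
import Groth.Agent.Lib.RegDescent
import Groth.Agent.LC.GorHull
import Groth.Agent.Nakai.Section

/-!
# The restriction sequence of a hyperplane and splitting from a plane
-/

set_option autoImplicit false
set_option backward.isDefEq.respectTransparency false
set_option backward.isDefEq.respectTransparency.types false
set_option linter.style.haveILetI false
set_option linter.unusedSectionVars false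
set_option maxHeartbeats 1000000
set_option synthInstance.maxHeartbeats 400000

universe u

open CategoryTheory CategoryTheory.Limits AlgebraicGeometry TopologicalSpace Opposite
open scoped Groth.Agent.H23.PicMul

noncomputable section

namespace Groth.Agent.Synt29.PlaneSplit

open Groth.Agent Groth.Agent.H23.PicMul Groth.Agent.AModX

/-- The restriction sequence of a divisor, tensored with a bundle. -/
theorem exists_shortExact {X : Scheme.{u}} [IsIntegral X] [IsLocallyNoetherian X] {L : X.Modules} (hL : PicF.IsInvertible L)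
    {s : Coh.structureModule X ⟶ L} (hs : s ≠ 0) {M : X.Modules} (hMlf : FlatMod.IsFinLocFree M)
    {Z : Scheme.{u}} (j : Z ⟶ X) [IsClosedImmersion j] (hker : j.ker = PicF2.zeroScheme L s) :
    ∃ S : ShortComplex X.Modules, S.ShortExact ∧ Nonempty (S.X₁ ≅ M) ∧
      S.X₂ = (DCoh.tensorBi.obj M).obj L ∧
      S.X₃ = (Coh.push j).obj ((Scheme.Modules.pullback j).obj ((DCoh.tensorBi.obj M).obj L)) := by
  let N := (DCoh.tensorBi.obj M).obj L
  let O1 := (DCoh.tensorBi.obj M).obj (Coh.structureModule X)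
  let α : O1 ⟶ N := (DCoh.tensorBi.obj M).map s
  let η := (Scheme.Modules.pullbackPushforwardAdjunction j).unit.app N
  have hM : Coh.IsQCoh M := QCoh.isQCoh_of_isFinLocFree hMlf
  have hLq : Coh.IsQCoh L := ZeroSchX.isQCoh_inv hL
  have hLlf : FlatMod.IsFinLocFree L := H28.KvbModel.lf_of_rank (H28.PBCores.isInvertible_iff_rank.1 hL)
  have hN : Coh.IsQCoh N := QCoh.isQCoh_of_isFinLocFree (PnEuler.isFinLocFree_tensorMod hMlf hLlf)
  have hOq : Coh.IsQCoh (Coh.structureModule X) := QCoh.isCoh_structureModule'.1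
  haveI : Mono α := by
    haveI : Mono s := UnitMono.mono_of_ne_zero hLlf s hs
    have hι : (ShortComplex.mk s (cokernel.π s) (cokernel.condition s)).ShortExact :=
      { exact := ShortComplex.exact_cokernel s }
    exact (CurveTensor.shortExact_tensor hMlf _ _ _ hι).mono_f
  have loc : ∀ x : X, ∃ (W : X.Opens) (_ : IsAffineOpen W) (e : Γ(L, W)) (c : Γ(X, W)), x ∈ W ∧
      InvX.IsFrame e ∧ ZeroSchX.sv s W = c • e ∧ ∀ (V : X.Opens) (_ : IsAffineOpen V) (h : V ≤ W),
        j.ker.ideal ⟨V, by assumption⟩ = Ideal.span {resR h c} := by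
    intro x
    obtain ⟨U, hU, e, he⟩ := InvX.exists_frame hL x
    obtain ⟨_, ⟨W, hW, rfl⟩, hxW, hWU⟩ := X.isBasis_affineOpens.exists_subset_of_mem_open hU U.2
    obtain ⟨c, hc⟩ := ((he.res hWU) W le_rfl).2 (ZeroSchX.sv s W)
    have hc' : ZeroSchX.sv s W = c • res L hWU e :=
      hc.symm.trans (congrArg (c • ·) (res_self _))
    refine ⟨W, hW, res L hWU e, c, hxW, he.res hWU, hc', fun V hV h => ?_⟩
    have hcV : ZeroSchX.sv s V = resR h c • res L h (res L hWU e) := by
      rw [← res_smul, ← hc']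
      exact (ZeroSchX.res_sv s h).symm
    rw [hker, ZeroSchX.ideal_zeroScheme hL, ZeroSchX.zeroIdealOn_eq_span s ((he.res hWU).res h) hcV]
  have hval : ∀ (V : X.Opens) (e : Γ(L, V)) (c : Γ(X, V)), ZeroSchX.sv s V = c • e → ∀ m : Γ(M, V),
      α.app V (QCoh.tmS M (Coh.structureModule X) m (show Γ(X, V) from 1)) = c • QCoh.tmS M L m e := by
    intro V e c hc m
    refine (KFlatLib.tmSh_naturality_right M s (U := V) m _).trans ?_
    refine Eq.trans ?_ (QCoh.tmS_smul_right M L c m e)
    exact congrArg (QCoh.tmS M L m) hc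
  have w : α ≫ η = 0 := by
    refine QCoh.hom_eq_zero_of_affine _ fun U hU z => ?_
    refine AModX.eq_of_locally (M := (Scheme.Modules.pushforward j).obj ((Scheme.Modules.pullback j).obj N)) _ _
      fun x hx => ?_
    obtain ⟨W, hW, e, c, hxW, he, hc, hid⟩ := loc x
    obtain ⟨_, ⟨V, hV, rfl⟩, hxV, hVW⟩ :=
      X.isBasis_affineOpens.exists_subset_of_mem_open (show x ∈ U ⊓ W from ⟨hx, hxW⟩) (U ⊓ W).2
    have hVU : V ≤ U := fun y hy => (hVW hy).1
    have hVW' : V ≤ W := fun y hy => (hVW hy).2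
    refine ⟨V, hVU, hxV, ?_⟩
    rw [map_zero]
    obtain ⟨m, hm⟩ := (Euler.bijective_tmS_frame hM hOq hV
      (show InvX.IsFrame (M := Coh.structureModule X) (show Γ(X, V) from 1) from InvX.isFrame_one V)).2 (res O1 hVU z)
    have hcV : ZeroSchX.sv s V = resR hVW' c • res L hVW' e := by
      rw [← res_smul, ← hc]
      exact (ZeroSchX.res_sv s hVW').symm
    refine (app_res (α ≫ η) hVU z).symm.trans ?_
    show η.app V (α.app V (res O1 hVU z)) = 0
    rw [← show QCoh.tmS M (Coh.structureModule X) m (show Γ(X, V) from 1) = res O1 hVU z from hm,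
      hval V _ _ hcV m]
    refine ((QCoh.unit_app_closed j hN hV).2 _).2 ?_
    rw [hid V hV hVW']
    exact Submodule.smul_mem_smul (Ideal.mem_span_singleton_self _) trivial
  let S := ShortComplex.mk α η w
  haveI : Epi S.g := Nakai.epi_unit j hN
  haveI : Mono S.f := inferInstanceAs (Mono α)
  have hex : S.Exact := by
    rw [S.exact_iff_kernel_ι_comp_cokernel_π_zero]
    refine QCoh.hom_eq_zero_of_affine _ fun U hU z => ?_
    refine AModX.eq_of_locally (M := cokernel α) _ _ fun x hx => ?_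
    obtain ⟨W, hW, e, c, hxW, he, hc, hid⟩ := loc x
    obtain ⟨_, ⟨V, hV, rfl⟩, hxV, hVW⟩ :=
      X.isBasis_affineOpens.exists_subset_of_mem_open (show x ∈ U ⊓ W from ⟨hx, hxW⟩) (U ⊓ W).2
    have hVU : V ≤ U := fun y hy => (hVW hy).1
    have hVW' : V ≤ W := fun y hy => (hVW hy).2
    refine ⟨V, hVU, hxV, ?_⟩
    rw [map_zero]
    refine (app_res (kernel.ι η ≫ cokernel.π α) hVU z).symm.trans ?_
    show (cokernel.π α).app V ((kernel.ι η).app V (res _ hVU z)) = 0
    set t := (kernel.ι η).app V (res _ hVU z) with ht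
    have h0 : η.app V t = 0 := congr($(kernel.condition η).app V (res _ hVU z))
    have h2 := ((QCoh.unit_app_closed j hN hV).2 t).1 h0
    rw [hid V hV hVW', Submodule.ideal_span_singleton_smul, Submodule.mem_smul_pointwise_iff_exists] at h2
    obtain ⟨y, -, hy⟩ := h2
    obtain ⟨m, hm⟩ := (Euler.bijective_tmS_frame hM hLq hV (he.res hVW')).2 y
    have hcV : ZeroSchX.sv s V = resR hVW' c • res L hVW' e := by
      rw [← res_smul, ← hc]
      exact (ZeroSchX.res_sv s hVW').symm
    rw [← hy, ← show QCoh.tmS M L m (res L hVW' e) = y from hm, ← hval V _ _ hcV m]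
    exact congr($(cokernel.condition α).app V (QCoh.tmS M (Coh.structureModule X) m (show Γ(X, V) from 1)))
  exact ⟨S, { exact := hex }, ⟨KFlatLib.tensorUnitIso M⟩, rfl, rfl⟩

variable {k : Type u} [Field k]

/-- The image of a closed immersion of `P^n` into itself is everything. -/
theorem surjective_self {n : ℕ} (i : CohB1.ProjSpace n k ⟶ CohB1.ProjSpace n k) [IsClosedImmersion i] :
    Function.Surjective i.base := by
  have hrg : IsClosed (Set.range i.base) := i.isClosedEmbedding.isClosed_range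
  let f : ProjectiveSpectrum (CohB1.polyGrading n k) → ProjectiveSpectrum (CohB1.polyGrading n k) := i.base
  have hmono : StrictMono f := fun a b hab => by
    refine lt_of_le_of_ne ?_ fun h => hab.ne (i.isClosedEmbedding.injective h)
    exact (ProjectiveSpectrum.le_iff_mem_closure _ _ _).2
      (specializes_iff_mem_closure.1 ((specializes_iff_mem_closure.2
        ((ProjectiveSpectrum.le_iff_mem_closure _ _ _).1 hab.le)).map i.continuous))
  obtain ⟨x₀, hx₀⟩ := VarDim.ProjN.exists_bot_point (k := k) (n := n)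
  have h1 := Order.coheight_le_coheight_apply_of_strictMono f hmono x₀
  rw [VarDim.ProjN.coheight_eq_pdim, VarDim.ProjN.coheight_eq_pdim, VarDim.ProjN.pdim_eq_of_eq_bot hx₀] at h1
  have h1' : n ≤ VarDim.ProjN.pdim (f x₀) := by exact_mod_cast h1
  have he : f x₀ = x₀ := by
    by_contra hne
    have h2 := VarDim.ProjN.pdim_strictAnti
      (lt_of_le_of_ne (VarDim.ProjN.pp_le_pp.1 (hx₀ ▸ bot_le)) (Ne.symm hne))
    rw [VarDim.ProjN.pdim_eq_of_eq_bot hx₀] at h2
    omega
  intro y
  exact VarDim.ProjN.mem_of_le hrg ⟨x₀, he⟩ (VarDim.ProjN.pp_le_pp.1 (hx₀ ▸ bot_le))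

theorem depth_stalk {n r : ℕ} {F : (CohB1.ProjSpace n k).Modules} (hF : FlatMod.IsFinLocFreeOfRank r F)
    (x : CohB1.ProjSpace n k) (hx : IsClosed ({x} : Set ↥(CohB1.ProjSpace n k))) (c : ℕ) (hc : c ≤ n) :
    (c : ℕ∞) ≤ LocCoh.depth ((CohB1.ProjSpace n k).presheaf.stalk x) (F.presheaf.stalk x) := by
  haveI := NegVanStalk.isRegular_stalk x
  haveI := NegVanStalk.gorenstein_stalk x
  haveI : LocCoh.IsCohenMacaulayLocalRing ((CohB1.ProjSpace n k).presheaf.stalk x) :=
    LC.isCohenMacaulayLocalRing_of_gorenstein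
  have h := LocCoh.IsCohenMacaulayLocalRing.supportDim_eq_depth (R := (CohB1.ProjSpace n k).presheaf.stalk x)
  rw [Module.supportDim_self_eq_ringKrullDim, NegVanStalk.dim_stalk x hx] at h
  have h' : (n : ℕ∞) = LocCoh.depth ((CohB1.ProjSpace n k).presheaf.stalk x) ((CohB1.ProjSpace n k).presheaf.stalk x) :=
    WithBot.coe_inj.1 h
  haveI := QCoh.free_stalk_of_isFinLocFree (H28.KvbModel.lf_of_rank hF) x
  haveI : IsLocallyNoetherian (CohB1.ProjSpace n k) := PnCoh.Finite.isLocallyNoetherian_projSpace n k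
  have hFc : Coh.IsCoh F := QCoh.isCoh_iff_isFP.2
    (QCoh.isFP_of_isFinLocFree (ConsPropLib.isFinLocFreeOfRank_iff.1 hF).1)
  haveI := QCoh.finite_stalk_of_isFT hFc.1 hFc.2 x
  exact S8148.depth_free c (le_trans (by exact_mod_cast hc) h'.le) _

/-- `H¹` of very negative twists of a bundle vanishes, `n ≥ 2`. -/
theorem exists_vanish_neg [IsAlgClosed k] {n : ℕ} (hn : 2 ≤ n) {r : ℕ} {F : (CohB1.ProjSpace n k).Modules}
    (hF : FlatMod.IsFinLocFreeOfRank r F) :
    ∃ e₀ : ℤ, ∀ d : ℤ, d ≤ e₀ →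
      Subsingleton (Coh.HH (CohB1.ProjSpace n k) (CohB1.tensorMod F (Twist.twistProjSpace n k d)) 1) := by
  haveI : IsLocallyNoetherian (CohB1.ProjSpace n k) := PnCoh.Finite.isLocallyNoetherian_projSpace n k
  have hFc : Coh.IsCoh F := QCoh.isCoh_iff_isFP.2
    (QCoh.isFP_of_isFinLocFree (ConsPropLib.isFinLocFreeOfRank_iff.1 hF).1)
  have h1 := NegVanClosed.negVan_closed_iff (k := k) (X := CohB1.ProjSpace n k) (𝟙 (CohB1.ProjSpace n k)) hFc 2
  have h2 := h1.mpr (fun x hx => depth_stalk hF x hx 2 hn)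
  have h3 := h2 1 Nat.one_lt_two
  rw [Filter.eventually_atBot] at h3
  obtain ⟨e₀, he₀⟩ := h3
  refine ⟨e₀, fun d hd => ?_⟩
  have h4 := he₀ d hd
  let e := (cl_eq_iff.1 (HyperH0.cl_twist_id F d)).some
  exact QCoh.subsingleton_HH_of_iso e.symm 1 h4

/-- Serre vanishing for a bundle. -/
theorem exists_vanish_pos {n : ℕ} {r : ℕ} {F : (CohB1.ProjSpace n k).Modules}
    (hF : FlatMod.IsFinLocFreeOfRank r F) (q : ℕ) (hq : 0 < q) :
    ∃ e₀ : ℤ, ∀ d : ℤ, e₀ ≤ d →
      Subsingleton (Coh.HH (CohB1.ProjSpace n k) (CohB1.tensorMod F (Twist.twistProjSpace n k d)) q) := by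
  haveI : IsLocallyNoetherian (CohB1.ProjSpace n k) := PnCoh.Finite.isLocallyNoetherian_projSpace n k
  have hFc : Coh.IsCoh F := QCoh.isCoh_iff_isFP.2
    (QCoh.isFP_of_isFinLocFree (ConsPropLib.isFinLocFreeOfRank_iff.1 hF).1)
  exact RegDescent.exists_vanishing_twF (F := F) hFc q hq

/-- Cohomology of the push forward along a closed immersion over `k`. -/
theorem subsingleton_push {n : ℕ} {Z : Scheme.{u}} (j : Z ⟶ CohB1.ProjSpace n k) [IsClosedImmersion j]
    {M : Z.Modules} (hM : Coh.IsQCoh M) (q : ℕ) (h : Subsingleton (Coh.HH Z M q)) :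
    Subsingleton (Coh.HH (CohB1.ProjSpace n k) ((Coh.push j).obj M) q) := by
  letI : (CohB1.ProjSpace n k).Over (Spec (CommRingCat.of k)) := ⟨CohB1.ProjSpace.toSpec n k⟩
  letI : Z.Over (Spec (CommRingCat.of k)) := ⟨j ≫ CohB1.ProjSpace.toSpec n k⟩
  obtain ⟨el⟩ := PnCoh.exists_linearEquiv_push k j rfl hM q
  exact el.symm.toEquiv.subsingleton

/-- All middle cohomology of twists vanishes when the restriction to a plane splits. -/
theorem mid_vanish [IsAlgClosed k] [CharZero k] {r : ℕ} : ∀ (n : ℕ), 2 ≤ n → ∀ (E : (CohB1.ProjSpace n k).Modules),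
    FlatMod.IsFinLocFreeOfRank r E → ∀ (i : CohB1.ProjSpace 2 k ⟶ CohB1.ProjSpace n k), IsClosedImmersion i →
    i ≫ CohB1.ProjSpace.toSpec n k = CohB1.ProjSpace.toSpec 2 k →
    Nonempty ((Scheme.Modules.pullback i).obj (Twist.twistProjSpace n k 1) ≅ Twist.twistProjSpace 2 k 1) →
    (∃ a : Fin r → ℤ, Nonempty ((Scheme.Modules.pullback i).obj E ≅ ∐ fun j : Fin r => Twist.twistProjSpace 2 k (a j))) →
    ∀ (q : ℕ) (d : ℤ), 0 < q → q < n →
      Subsingleton (Coh.HH (CohB1.ProjSpace n k) (CohB1.tensorMod E (Twist.twistProjSpace n k d)) q) := by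
  intro n
  induction n using Nat.strong_induction_on with
  | h n ih =>
    intro hn E hE i hci hi hO hsplit q d hq hqn
    haveI := hci
    haveI : IsIntegral (CohB1.ProjSpace n k) := H23.PnChart.isIntegral_projSpace n k
    haveI : IsLocallyNoetherian (CohB1.ProjSpace n k) := PnCoh.Finite.isLocallyNoetherian_projSpace n k
    rcases Nat.lt_or_ge 2 n with hn3 | hn3
    swap
    · obtain rfl : n = 2 := by omega
      haveI : IsIso i := by
        haveI : Surjective i := ⟨surjective_self i⟩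
        exact isIso_of_isClosedImmersion_of_surjective i
      have hPi := (S11486.result k 2 r _ (TFOneX.isFinLocFreeOfRank_pullback i hE)).1 hsplit q d hq hqn
      obtain ⟨e⟩ := HyperH0.pullback_twist_free i hO (Iso.refl ((Scheme.Modules.pullback i).obj E)) d
      let T := CohB1.tensorMod E (Twist.twistProjSpace 2 k d)
      have hT : Coh.IsQCoh T := QCoh.isQCoh_of_isFinLocFree (PnEuler.isFinLocFree_tensorMod
        (H28.KvbModel.lf_of_rank hE) (H28.KvbModel.lf_of_rank (Rank2Pn.rank_O _)))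
      let η := (Scheme.Modules.pullbackPushforwardAdjunction i).unit.app T
      haveI : Epi η := Nakai.epi_unit i hT
      haveI : Mono η := by
        refine Preadditive.mono_of_cancel_zero _ fun {R} g hg => QCoh.hom_eq_zero_of_affine g fun U hU z => ?_
        have h2 := ((QCoh.unit_app_closed i hT hU).2 (g.app U z)).1 congr(($hg).app U z)
        rw [Scheme.Hom.ker_eq_bot_of_isIso, Scheme.IdealSheafData.ideal_bot] at h2
        simpa using h2
      haveI : IsIso η := isIso_of_mono_of_epi η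
      exact QCoh.subsingleton_HH_of_iso (asIso η).symm q
        (subsingleton_push i (QCoh.isQCoh_pullback i hT) q (QCoh.subsingleton_HH_of_iso e.symm q hPi))
    obtain ⟨n, rfl⟩ : ∃ n', n = n' + 1 := ⟨n - 1, by omega⟩
    obtain ⟨s, hs, hs0⟩ := HyperH0.exists_form' (by omega) i hi hO
    obtain ⟨φ, hφq, ⟨τ⟩⟩ := HyperIso.exists_iso k n s hs
    let Zs := PicF2.zeroScheme (Twist.twistProjSpace (n + 1) k 1) s
    have hL : PicF.IsInvertible (Twist.twistProjSpace (n + 1) k 1) := HyperplaneLib.isInvertible_O1 _ _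
    let a : CohB1.ProjSpace 2 k ⟶ Zs.subscheme := IsClosedImmersion.lift Zs.subschemeι i (by
      rw [Scheme.IdealSheafData.ker_subschemeι]
      exact HyperplaneLib.zeroScheme_le_ker hL s i hs0)
    let i' : CohB1.ProjSpace 2 k ⟶ CohB1.ProjSpace n k := a ≫ φ.inv
    let j := φ.hom ≫ Zs.subschemeι
    have hij : i' ≫ j = i := by
      simp only [i', j, Category.assoc, Iso.inv_hom_id_assoc]
      exact IsClosedImmersion.lift_fac _ _ _
    haveI : IsClosedImmersion i' := by
      haveI : IsClosedImmersion (i' ≫ j) := hij ▸ hci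
      exact IsClosedImmersion.of_comp i' j
    have hker : j.ker = Zs := by
      show (φ.hom ≫ Zs.subschemeι).ker = _
      rw [Scheme.Hom.ker_comp_of_isIso, Scheme.IdealSheafData.ker_subschemeι]
    have hjq : j ≫ CohB1.ProjSpace.toSpec (n + 1) k = CohB1.ProjSpace.toSpec n k := hφq
    have hi' : i' ≫ CohB1.ProjSpace.toSpec n k = CohB1.ProjSpace.toSpec 2 k := by
      rw [← hjq, ← Category.assoc, hij, hi]
    have hO' : Nonempty ((Scheme.Modules.pullback i').obj (Twist.twistProjSpace n k 1) ≅ Twist.twistProjSpace 2 k 1) :=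
      ⟨(Scheme.Modules.pullback i').mapIso τ.symm ≪≫ (Scheme.Modules.pullbackComp i' j).app _ ≪≫
        (Scheme.Modules.pullbackCongr hij).app _ ≪≫ hO.some⟩
    let E' := (Scheme.Modules.pullback j).obj E
    obtain ⟨av, ⟨eav⟩⟩ := hsplit
    have hH := ih n (by omega) (by omega) E' (TFOneX.isFinLocFreeOfRank_pullback j hE) i' inferInstance hi' hO'
      ⟨av, ⟨(Scheme.Modules.pullbackComp i' j).app E ≪≫ (Scheme.Modules.pullbackCongr hij).app _ ≪≫ eav⟩⟩
    have step : ∀ (d : ℤ), ∃ S : ShortComplex (CohB1.ProjSpace (n + 1) k).Modules, S.ShortExact ∧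
        Nonempty (S.X₁ ≅ CohB1.tensorMod E (Twist.twistProjSpace (n + 1) k (d - 1))) ∧
        Nonempty (S.X₂ ≅ CohB1.tensorMod E (Twist.twistProjSpace (n + 1) k d)) ∧
        ∀ p, 0 < p → p < n → Subsingleton (Coh.HH (CohB1.ProjSpace (n + 1) k) S.X₃ p) := by
      intro d
      have hMlf := PnEuler.isFinLocFree_tensorMod (H28.KvbModel.lf_of_rank hE)
        (H28.KvbModel.lf_of_rank (Rank2Pn.rank_O (n := n + 1) (k := k) (d - 1)))
      obtain ⟨S, hS, ⟨e₁⟩, h₂, h₃⟩ := exists_shortExact hL hs hMlf j hker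
      have hcl : PicF.cl ((DCoh.tensorBi.obj (CohB1.tensorMod E (Twist.twistProjSpace (n + 1) k (d - 1)))).obj
          (Twist.twistProjSpace (n + 1) k 1)) =
          PicF.cl (CohB1.tensorMod E (Twist.twistProjSpace (n + 1) k d)) := by
        rw [PnEuler.cl_tens, cl_tensor, cl_tensor, mul_assoc, PnEuler.tw_add, sub_add_cancel]
      obtain ⟨e⟩ := cl_eq_iff.1 hcl
      obtain ⟨eH⟩ := HyperH0.pullback_twist_free j ⟨τ⟩ (Iso.refl E') d
      refine ⟨S, hS, ⟨e₁⟩, ⟨eqToIso h₂ ≪≫ e⟩, fun p hp hpn => ?_⟩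
      rw [h₃]
      have hNq : Coh.IsQCoh ((DCoh.tensorBi.obj (CohB1.tensorMod E (Twist.twistProjSpace (n + 1) k (d - 1)))).obj
          (Twist.twistProjSpace (n + 1) k 1)) :=
        QCoh.isQCoh_of_isFinLocFree (PnEuler.isFinLocFree_tensorMod hMlf
          (H28.KvbModel.lf_of_rank (Rank2Pn.rank_O _)))
      exact subsingleton_push j (QCoh.isQCoh_pullback j hNq) p
        (QCoh.subsingleton_HH_of_iso ((Scheme.Modules.pullback j).mapIso e ≪≫ eH).symm p (hH p d hp hpn))
    rcases Nat.lt_or_ge 1 q with hq2 | hq2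
    · obtain ⟨q, rfl⟩ : ∃ q', q = q' + 1 := ⟨q - 1, by omega⟩
      obtain ⟨e₀, he₀⟩ := exists_vanish_pos hE (q + 1) hq
      suffices key : ∀ m : ℕ, ∀ d : ℤ, e₀ ≤ d + m →
          Subsingleton (Coh.HH (CohB1.ProjSpace (n + 1) k) (CohB1.tensorMod E (Twist.twistProjSpace (n + 1) k d)) (q + 1)) from
        key (e₀ - d).toNat d (by omega)
      intro m
      induction m with
      | zero => exact fun d hd => he₀ d (by simpa using hd)
      | succ m ihm =>
        intro d hd
        obtain ⟨S, hS, ⟨e₁⟩, ⟨e₂⟩, h₃⟩ := step (d + 1)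
        have h1 := PnHodge.subsingleton_left k hS q
          (QCoh.subsingleton_HH_of_iso e₂.symm (q + 1) (ihm (d + 1) (by push_cast at hd; omega))) (h₃ q (by omega) (by omega))
        have e₁' : S.X₁ ≅ CohB1.tensorMod E (Twist.twistProjSpace (n + 1) k d) :=
          e₁ ≪≫ eqToIso (by rw [add_sub_cancel_right])
        exact QCoh.subsingleton_HH_of_iso e₁' (q + 1) h1
    · obtain rfl : q = 1 := by omega
      obtain ⟨e₀, he₀⟩ := exists_vanish_neg (by omega) hE
      suffices key : ∀ m : ℕ, ∀ d : ℤ, d ≤ e₀ + m →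
          Subsingleton (Coh.HH (CohB1.ProjSpace (n + 1) k) (CohB1.tensorMod E (Twist.twistProjSpace (n + 1) k d)) 1) from
        key (d - e₀).toNat d (by omega)
      intro m
      induction m with
      | zero => exact fun d hd => he₀ d (by simpa using hd)
      | succ m ihm =>
        intro d hd
        obtain ⟨S, hS, ⟨e₁⟩, ⟨e₂⟩, h₃⟩ := step d
        exact QCoh.subsingleton_HH_of_iso e₂ 1 (QCoh.subsingleton_HH_X₂ hS 1
          (QCoh.subsingleton_HH_of_iso e₁.symm 1 (ihm (d - 1) (by push_cast at hd; omega))) (h₃ 1 one_pos (by omega)))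

end Groth.Agent.Synt29.PlaneSplit
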