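import Mathlib
import Groth.Agent.Synt29.GenSections
import Groth.Agent.Synt29.Rank2Pn
import Groth.Agent.S10829

/-! Trivial subbundles on projective space. -/

set_option autoImplicit false
set_option linter.style.haveILetI false
set_option backward.isDefEq.respectTransparency false
set_option backward.isDefEq.respectTransparency.types false

universe u

open CategoryTheory CategoryTheory.Limits AlgebraicGeometry TopologicalSpace Opposite

noncomputable section

namespace Groth.Agent.Synt29.GenPn

open Groth.Agent

variable {n : ℕ} {k : Type u} [Field k] [Infinite k]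

local instance : (CohB1.ProjSpace n k).Over (Spec (CommRingCat.of k)) :=
  ⟨CohB1.ProjSpace.toSpec n k⟩

/-- A generated bundle of rank above `n` on `P^n` has a trivial subbundle with quotient of rank `n`. -/
theorem exists_subbundle {r : ℕ} (hrn : n < r) {E : (CohB1.ProjSpace n k).Modules}
    (hE : FlatMod.IsFinLocFreeOfRank r E) {N : ℕ} (ψ : FlatMod.freeMod (CohB1.ProjSpace n k) N ⟶ E) [Epi ψ] :
    ∃ φ : FlatMod.freeMod (CohB1.ProjSpace n k) (r - n) ⟶ E, Mono φ ∧ FlatMod.IsFinLocFreeOfRank n (cokernel φ) := by
  haveI := H23.PnChart.isIntegral_projSpace n k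
  haveI := PnCoh.Finite.isLocallyNoetherian_projSpace n k
  haveI hp := PnCoh.Chow.isProper_toSpec n k
  haveI : CompactSpace (CohB1.ProjSpace n k) := QuasiCompact.compactSpace_of_compactSpace (CohB1.ProjSpace.toSpec n k)
  haveI : LocallyOfFiniteType ((CohB1.ProjSpace n k) ↘ Spec (CommRingCat.of k)) :=
    inferInstanceAs (LocallyOfFiniteType (CohB1.ProjSpace.toSpec n k))
  exact GenSections.exists_subbundle (k := k) (S10829.result k n).le hrn hE ψ

end Groth.Agent.Synt29.GenPn
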