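import Mathlib
import Groth.Agent.Synt29.StalkMat
import Groth.Agent.Synt29.NullCorr
import Groth.Agent.Synt29.Rank2Pn

/-! A simple bundle of rank `n - 1` on projective `n`-space. -/

set_option autoImplicit false
set_option linter.style.haveILetI false
set_option linter.unusedSectionVars false
set_option backward.isDefEq.respectTransparency false
set_option backward.isDefEq.respectTransparency.types false
set_option maxHeartbeats 1600000

universe u

open CategoryTheory CategoryTheory.Limits AlgebraicGeometry TopologicalSpace Opposite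
open CategoryTheory.Abelian
open Groth.Agent.PnCoh.Finite (mapLin)

noncomputable section

namespace Groth.Agent.Synt29.SimpleBundle

open Groth.Agent Groth.Agent.H23.PicMul

section Algebra

variable {k : Type u} [Field k] {n N : ℕ} {A : Type u} [CommRing A]

/-- The coefficient of `t ^ s` in the Wronskian of `t ^ i` and `t ^ j`. -/
def w (n N : ℕ) (i j : Fin (n + 1)) (s : Fin N) : k :=
  if (i : ℕ) + j = s + 1 then (j : k) - i else 0

theorem w_antisymm (i j : Fin (n + 1)) (s : Fin N) : (w n N i j s : k) = -w n N j i s := by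
  unfold w
  rw [add_comm (j : ℕ) i]
  split_ifs <;> simp

/-- The Wronskian of coefficient vectors. -/
def W (φ : k →+* A) (u v : Fin (n + 1) → A) (s : Fin N) : A :=
  ∑ i, ∑ j, u i * v j * φ (w n N i j s)

theorem W_self [CharZero k] (φ : k →+* A) (v : Fin (n + 1) → A) (s : Fin N) : W φ v v s = 0 := by
  have h : W φ v v s = -W φ v v s := by
    unfold W
    conv_lhs => rw [Finset.sum_comm]
    rw [← Finset.sum_neg_distrib]
    refine Finset.sum_congr rfl fun i _ => ?_
    rw [← Finset.sum_neg_distrib]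
    refine Finset.sum_congr rfl fun j _ => ?_
    rw [w_antisymm j i, map_neg]
    ring
  have h2 : φ 2 * W φ v v s = 0 := by
    rw [map_ofNat, two_mul]
    exact add_eq_zero_iff_eq_neg.2 h
  exact ((IsUnit.map φ (IsUnit.mk0 (2 : k) two_ne_zero)).mul_right_eq_zero).1 h2

theorem W_add_smul (φ : k →+* A) (u u' v : Fin (n + 1) → A) (c : A) (s : Fin N) :
    W φ (u + c • u') v s = W φ u v s + c * W φ u' v s := by
  unfold W
  simp only [Pi.add_apply, Pi.smul_apply, smul_eq_mul, Finset.mul_sum, ← Finset.sum_add_distrib]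
  exact Finset.sum_congr rfl fun i _ => Finset.sum_congr rfl fun j _ => by ring

/-- Two vectors with vanishing Wronskian are proportional. -/
theorem W_eq_zero [CharZero k] {K : Type u} [Field K] (φ : k →+* K) {u v : Fin (n + 1) → K} (hv : v ≠ 0)
    (h : ∀ s : Fin (2 * n - 1), W φ u v s = 0) : ∃ c : K, u = c • v := by
  classical
  haveI : CharZero K := charZero_of_injective_ringHom φ.injective
  obtain ⟨m, hm, hmin⟩ : ∃ m, v m ≠ 0 ∧ ∀ j < m, v j = 0 := by
    have hne : (Finset.univ.filter fun j => v j ≠ 0).Nonempty := by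
      obtain ⟨j, hj⟩ := Function.ne_iff.1 hv
      exact ⟨j, by simpa using hj⟩
    exact ⟨_, (Finset.mem_filter.1 (Finset.min'_mem _ hne)).2, fun j hj => not_not.1 fun h' =>
      absurd (Finset.min'_le _ j (by simpa using h')) (not_le.2 hj)⟩
  refine ⟨u m / v m, ?_⟩
  let z : Fin (n + 1) → K := u + (-(u m / v m)) • v
  suffices hz : z = 0 by
    have : u + (-(u m / v m)) • v = 0 := hz
    simpa [sub_eq_zero, ← sub_eq_add_neg] using this
  by_contra hz
  have hzm : z m = 0 := by simp [z, hm]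
  have hne : (Finset.univ.filter fun j => z j ≠ 0).Nonempty := by
    obtain ⟨j, hj⟩ := Function.ne_iff.1 hz
    exact ⟨j, by simpa using hj⟩
  obtain ⟨l, hl, hlmin⟩ : ∃ l, z l ≠ 0 ∧ ∀ j < l, z j = 0 :=
    ⟨_, (Finset.mem_filter.1 (Finset.min'_mem _ hne)).2, fun j hj => not_not.1 fun h' =>
      absurd (Finset.min'_le _ j (by simpa using h')) (not_le.2 hj)⟩
  have hlm : (l : ℕ) ≠ m := fun e => hl (by rw [Fin.ext e]; exact hzm)
  let s : Fin (2 * n - 1) := ⟨(l : ℕ) + m - 1, by omega⟩
  have hs : W φ z v s = 0 := by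
    rw [W_add_smul, h, W_self, mul_zero, add_zero]
  have hval : W φ z v s = z l * v m * φ ((m : k) - l) := by
    unfold W
    rw [Finset.sum_eq_single l]
    · rw [Finset.sum_eq_single m]
      · rw [w, if_pos (show (l : ℕ) + m = (l : ℕ) + m - 1 + 1 by omega)]
      · intro j _ hj
        rw [w, if_neg (fun e => hj (Fin.ext (by
          have : (s : ℕ) = (l : ℕ) + m - 1 := rfl
          omega))), map_zero, mul_zero]
      · simp
    · intro i _ hi
      refine Finset.sum_eq_zero fun j _ => ?_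
      unfold w
      split_ifs with e
      · by_cases hij : i < l
        · simp [hlmin i hij]
        · have hjm : j < m := by
            have : (s : ℕ) = (l : ℕ) + m - 1 := rfl
            have h1 : (l : ℕ) < i := lt_of_le_of_ne (not_lt.1 hij) fun e' => hi (Fin.ext e'.symm)
            exact Fin.lt_def.2 (by omega)
          simp [hmin j hjm]
      · simp
    · simp
  rw [hval, mul_eq_zero, mul_eq_zero, map_eq_zero, sub_eq_zero, Nat.cast_inj] at hs
  rcases hs with (h1 | h1) | h1
  exacts [hl h1, hm h1, hlm h1.symm]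

theorem W_single (φ : k →+* A) (i : Fin (n + 1)) (v : Fin (n + 1) → A) (s : Fin N) :
    W φ (Pi.single i 1) v s = ∑ j, v j * φ (w n N i j s) := by
  unfold W
  rw [Finset.sum_eq_single i]
  · simp
  · intro l _ hl; simp [hl]
  · simp

theorem W_eq_sum (φ : k →+* A) (u v : Fin (n + 1) → A) :
    (W φ u v : Fin N → A) = ∑ i, u i • fun s => ∑ j, v j * φ (w n N i j s) := by
  funext s
  simp only [W, Finset.sum_apply, Pi.smul_apply, smul_eq_mul, Finset.mul_sum, mul_assoc]

/-- The columns indexed away from a unit coordinate are residually independent. -/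
theorem columns [CharZero k] [IsLocalRing A] (φ : k →+* A) (x : Fin (n + 1) → A) (j₀ : Fin (n + 1))
    (hj : IsUnit (x j₀)) :
    Submodule.span A (Set.range fun i (s : Fin (2 * n - 1)) => ∑ j, x j * φ (w n (2 * n - 1) i j s)) =
        Submodule.span A (Set.range fun (i : Fin n) (s : Fin (2 * n - 1)) =>
          ∑ j, x j * φ (w n (2 * n - 1) (j₀.succAbove i) j s)) ∧
      LinearIndependent (IsLocalRing.ResidueField A) fun i : Fin n =>
        IsLocalRing.residue A ∘ fun s : Fin (2 * n - 1) => ∑ j, x j * φ (w n (2 * n - 1) (j₀.succAbove i) j s) := by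
  let col : Fin (n + 1) → Fin (2 * n - 1) → A := fun i s => ∑ j, x j * φ (w n (2 * n - 1) i j s)
  refine ⟨le_antisymm (Submodule.span_le.2 ?_) (Submodule.span_mono ?_), ?_⟩
  · rintro _ ⟨i, rfl⟩
    show col i ∈ Submodule.span A (Set.range fun i : Fin n => col (j₀.succAbove i))
    rcases Fin.eq_self_or_eq_succAbove j₀ i with rfl | ⟨i, rfl⟩
    · have h0 : ∑ l, x l • col l = 0 := (W_eq_sum φ x x).symm.trans (funext fun s => W_self φ x s)
      rw [Fin.sum_univ_succAbove _ i, add_eq_zero_iff_eq_neg] at h0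
      refine (Submodule.smul_mem_iff_of_isUnit _ hj).1 ?_
      rw [h0]
      exact neg_mem (sum_mem fun l _ => Submodule.smul_mem _ _ (Submodule.subset_span ⟨l, rfl⟩))
    · exact Submodule.subset_span ⟨i, rfl⟩
  · rintro _ ⟨i, rfl⟩
    exact ⟨_, rfl⟩
  · rw [Fintype.linearIndependent_iff]
    intro g hg
    let K := IsLocalRing.ResidueField A
    let ψ : k →+* K := (IsLocalRing.residue A).comp φ
    let xb : Fin (n + 1) → K := IsLocalRing.residue A ∘ x
    have hxb : xb j₀ ≠ 0 := (hj.map (IsLocalRing.residue A)).ne_zero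
    let c : Fin (n + 1) → K := j₀.insertNth 0 g
    obtain ⟨t, ht⟩ := W_eq_zero (n := n) ψ (u := c) (v := xb) (fun e => hxb (congrFun e j₀)) fun s => by
      rw [W_eq_sum, Finset.sum_apply, Fin.sum_univ_succAbove _ j₀]
      simp only [c, Fin.insertNth_apply_same, Fin.insertNth_apply_succAbove, Pi.smul_apply, smul_eq_mul,
        zero_mul, zero_add]
      have := congrFun hg s
      simp only [Finset.sum_apply, Pi.smul_apply, smul_eq_mul, Function.comp_apply, map_sum, map_mul,
        Pi.zero_apply] at this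
      exact this
    have ht0 : t = 0 := by
      have h0 := congrFun ht j₀
      simp only [c, Fin.insertNth_apply_same, Pi.smul_apply, smul_eq_mul] at h0
      exact (mul_eq_zero.1 h0.symm).resolve_right hxb
    intro i
    have h1 := congrFun ht (j₀.succAbove i)
    simpa [c, ht0] using h1

/-- An endomorphism compatible with the Wronskian is a scalar. -/
theorem scalar_of_compat [CharZero k] (hn : 1 ≤ n) (f : Fin (2 * n - 1) → Fin (2 * n - 1) → k)
    (B : Fin (n + 1) → Fin (n + 1) → k)
    (h : ∀ i j t, ∑ s, w n (2 * n - 1) i j s * f s t = ∑ l, B i l * w n (2 * n - 1) l j t) :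
    ∃ c : k, ∀ s t, f s t = if s = t then c else 0 := by
  let T : (Fin (n + 1) → k) →ₗ[k] (Fin (n + 1) → k) := (Matrix.of B).vecMulLinear
  have hT : ∀ u l, T u l = ∑ i, u i * B i l := fun u l => rfl
  have hW : ∀ (u : Fin (n + 1) → k) (t : Fin (2 * n - 1)), W (RingHom.id k) (T u) u t = (0 : k) := by
    intro u t
    have e1 : W (RingHom.id k) (T u) u t = ∑ i, ∑ j, u i * u j * ∑ l, B i l * w n (2 * n - 1) l j t := by
      simp only [W, hT, RingHom.id_apply, Finset.sum_mul, Finset.mul_sum]
      rw [Finset.sum_comm]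
      conv_rhs => rw [Finset.sum_comm]
      refine Finset.sum_congr rfl fun j _ => ?_
      rw [Finset.sum_comm]
      exact Finset.sum_congr rfl fun i _ => Finset.sum_congr rfl fun l _ => by ring
    rw [e1]
    simp only [← h]
    have e2 : ∑ i, ∑ j, u i * u j * ∑ s, w n (2 * n - 1) i j s * f s t =
        ∑ s, W (RingHom.id k) u u s * f s t := by
      simp only [W, RingHom.id_apply, Finset.sum_mul, Finset.mul_sum]
      conv_rhs => rw [Finset.sum_comm]
      refine Finset.sum_congr rfl fun i _ => ?_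
      conv_rhs => rw [Finset.sum_comm]
      exact Finset.sum_congr rfl fun j _ => Finset.sum_congr rfl fun s _ => by ring
    rw [e2]
    exact Finset.sum_eq_zero fun s _ => by rw [W_self, zero_mul]
  have hev : ∀ u, u ≠ 0 → ∃ c : k, T u = c • u := fun u hu => W_eq_zero (RingHom.id k) hu (hW u)
  have hsingle : ∀ i : Fin (n + 1), (Pi.single i (1 : k) : Fin (n + 1) → k) ≠ 0 := fun i e => by
    simpa using congrFun e i
  choose c hc using fun i => hev _ (hsingle i)
  have hcc : ∀ i, c i = c 0 := by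
    intro i
    by_cases hi : i = 0
    · rw [hi]
    have hne : (Pi.single i (1 : k) + Pi.single 0 1 : Fin (n + 1) → k) ≠ 0 := fun e => by
      simpa [Pi.single_eq_of_ne hi] using congrFun e i
    obtain ⟨d, hd⟩ := hev _ hne
    rw [map_add, hc, hc] at hd
    have h1 := congrFun hd i
    have h2 := congrFun hd 0
    simp [Pi.single_eq_of_ne hi, Pi.single_eq_of_ne (Ne.symm hi)] at h1 h2
    rw [h1, h2]
  have hB : ∀ i l, B i l = if i = l then c 0 else 0 := fun i l => by
    have h1 := congrFun (hc i) l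
    rw [hT, hcc, Finset.sum_eq_single i (fun j _ hj => by simp [hj]) (by simp)] at h1
    simpa [Pi.single_apply, eq_comm] using h1
  refine ⟨c 0, fun s t => ?_⟩
  obtain ⟨i, j, hij, hne⟩ : ∃ i j : Fin (n + 1), (i : ℕ) + j = s + 1 ∧ i ≠ j := by
    by_cases hs : (s : ℕ) + 1 ≤ n
    · exact ⟨⟨s + 1, by omega⟩, ⟨0, by omega⟩, rfl, fun e => by simpa using congrArg Fin.val e⟩
    · refine ⟨⟨n, by omega⟩, ⟨s + 1 - n, by omega⟩, by simp only; omega, fun e => ?_⟩
      have := congrArg Fin.val e
      simp only at this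
      omega
  have hw : ∀ t : Fin (2 * n - 1), (w n (2 * n - 1) i j t : k) = if t = s then (j : k) - i else 0 := fun t => by
    rw [w]
    by_cases hts : t = s
    · rw [if_pos hts, hts, if_pos hij]
    · rw [if_neg hts, if_neg (fun e => hts (Fin.ext (by omega)))]
  have h1 := h i j t
  simp only [hw, hB, ite_mul, zero_mul, Finset.sum_ite_eq', Finset.mem_univ, if_true, Finset.sum_ite_eq] at h1
  have hne' : (j : k) - i ≠ 0 := sub_ne_zero.2 fun e => hne (Fin.ext (Nat.cast_injective e).symm)
  refine mul_left_cancel₀ hne' (h1.trans ?_)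
  by_cases hst : t = s
  · rw [if_pos hst, if_pos hst.symm, mul_comm]
  · rw [if_neg hst, if_neg (Ne.symm hst), mul_zero, mul_zero]

end Algebra

attribute [local instance] Groth.Agent.QCoh.hasFiniteBiproducts

variable {n : ℕ} {k : Type u} [Field k] [QuasiSeparated (CohB1.ProjSpace.toSpec n k)]

local instance : (CohB1.ProjSpace n k).Over (Spec (CommRingCat.of k)) :=
  ⟨CohB1.ProjSpace.toSpec n k⟩

local notation "P" => CohB1.ProjSpace n k
local notation "𝒪" => Coh.structureModule (CohB1.ProjSpace n k)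
local notation "free" => FlatMod.freeMod (CohB1.ProjSpace n k)

theorem isEquivalence_twist :
    (DCoh.tensorBi.flip.obj (Twist.twistProjSpace n k (-1))).IsEquivalence :=
  (PnDual.twistEquivalence (PnDual.coordsR k n) PnDual.coordsR_mem PnDual.coordsR_cover (-1) (1 : ℤ) (by ring)).isEquivalence_functor

open Groth.Agent.PnDual Groth.Agent.PnCoh Groth.Agent.PnCoh.Finite in
theorem map_smul_twist (c : k) {A B : (CohB1.ProjSpace n k).Modules} (f : A ⟶ B) :
    (DCoh.tensorBi.flip.obj (Twist.twistProjSpace n k (-1))).map (c • f) =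
      c • (DCoh.tensorBi.flip.obj (Twist.twistProjSpace n k (-1))).map f := by
  have h1 : ∀ {C : (CohB1.ProjSpace n k).Modules} (g : C ⟶ B), c • g = g ≫ (c • 𝟙 B) := fun g => by
    rw [Linear.comp_smul, Category.comp_id]
  rw [h1 f, Functor.map_comp, show c • (DCoh.tensorBi.flip.obj (Twist.twistProjSpace n k (-1))).map f =
    (DCoh.tensorBi.flip.obj (Twist.twistProjSpace n k (-1))).map f ≫ (c • 𝟙 _) by
      rw [Linear.comp_smul, Category.comp_id]]
  congr 1
  rw [KLin.smul_id, KLin.smul_id]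
  exact NullCorr.tensor_map_smul' (X := CohB1.ProjSpace n k) _ _ _

/-- Maps `O(-1) → O` without common zero, linearly independent over the ground field. -/
theorem exists_taut :
    ∃ (T L : (CohB1.ProjSpace n k).Modules) (a : Fin (n + 1) → (T ⟶ L)) (b : Fin (n + 1) → (L ⟶ T))
      (ι : Fin (n + 1) → (L ⟶ 𝒪)),
      (∑ i, a i ≫ b i = 𝟙 T) ∧ (∀ i j, b i ≫ a j = if i = j then 𝟙 L else 0) ∧
      Nonempty (L ≅ Twist.twistProjSpace n k (-1)) ∧ FlatMod.IsFinLocFree T ∧
      (∀ x : P, ∀ y, ∃ t : Fin (n + 1) → L.presheaf.stalk x, y = ∑ i, StalkMat.st x (ι i) (t i)) ∧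
      (∀ c : Fin (n + 1) → k, ∑ i, c i • ι i = 0 → c = 0) := by
  classical
  obtain ⟨S, hS, hK, -, hS3, ⟨eK⟩, ⟨eF⟩⟩ := PnEuler.exists_taut_ses n k
  haveI := hS.epi_g
  let G : (CohB1.ProjSpace n k).Modules ⥤ (CohB1.ProjSpace n k).Modules :=
    DCoh.tensorBi.flip.obj (Twist.twistProjSpace n k (-1))
  haveI : G.IsEquivalence := isEquivalence_twist
  haveI : G.Additive := Functor.additive_of_preserves_binary_products _
  have hG : ∀ M : (CohB1.ProjSpace n k).Modules, PicF.cl (G.obj M) = PicF.cl M * PnEuler.tw n k (-1) :=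
    fun M => PnEuler.cl_tens M (Twist.twistProjSpace n k (-1))
  obtain ⟨eL⟩ : Nonempty (G.obj 𝒪 ≅ Twist.twistProjSpace n k (-1)) :=
    cl_eq_iff.1 ((hG _).trans (by rw [← one_def, one_mul]))
  obtain ⟨eU⟩ : Nonempty (G.obj S.X₃ ≅ 𝒪) := cl_eq_iff.1 ((hG _).trans (by
    rw [hS3, PnEuler.tw_add, show (1 : ℤ) + -1 = 0 by norm_num, PnEuler.tw_zero, one_def]))
  let pr : free (n + 1) ⟶ S.X₃ := eF.inv ≫ S.g
  let q : Fin (n + 1) → (𝒪 ⟶ S.X₃) := fun j => H23.Frame.incl P (n + 1) j ≫ pr
  refine ⟨G.obj (free (n + 1)), G.obj 𝒪, fun i => G.map (H23.Frame.proj P (n + 1) i),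
    fun i => G.map (H23.Frame.incl P (n + 1) i), fun j => G.map (q j) ≫ eU.hom, ?_, fun i j => ?_, ⟨eL⟩, ?_,
    fun x y => ?_, fun c hc => ?_⟩
  · simp only [← Functor.map_comp, ← Functor.map_sum, H23.Frame.total, G.map_id]
  · rw [← Functor.map_comp, H23.Frame.incl_proj]
    by_cases h : i = j
    · rw [if_pos h, if_pos h, G.map_id]
    · rw [if_neg h, if_neg h, G.map_zero]
  · exact KFlatLib.isFinLocFree_tensor (PnEuler.isFinLocFree_freeMod (n + 1))
      (PnEuler.isFinLocFree_of_rank (InvEnd.isFinLocFreeOfRank_one (PnEuler.isInvertible_O n k (-1))))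
  · haveI : Epi (G.map pr ≫ eU.hom) := epi_comp _ _
    obtain ⟨t, ht⟩ := (ModuleCat.epi_iff_surjective ((DerSch.stalkFunctor P x).map (G.map pr ≫ eU.hom))).1
      inferInstance y
    refine ⟨fun i => StalkMat.st x (G.map (H23.Frame.proj P (n + 1) i)) t, ?_⟩
    have hsum : ∑ i, G.map (H23.Frame.proj P (n + 1) i) ≫ (G.map (q i) ≫ eU.hom) = G.map pr ≫ eU.hom := by
      simp only [q, ← G.map_comp_assoc, ← Category.assoc (H23.Frame.proj P (n + 1) _), ← Preadditive.sum_comp,
        ← Functor.map_sum, H23.Frame.total, Category.id_comp]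
    rw [← hsum] at ht
    refine ht.symm.trans ((StalkMat.st_sum x Finset.univ _ t).trans ?_)
    exact Finset.sum_congr rfl fun i _ => StalkMat.st_comp x _ _ t
  · have h1 : G.map (∑ i, c i • q i) ≫ eU.hom = 0 := by
      rw [Functor.map_sum, Preadditive.sum_comp]
      refine Eq.trans (Finset.sum_congr rfl fun i _ => ?_) hc
      exact (congrArg (· ≫ eU.hom) (map_smul_twist (c i) (q i))).trans (Linear.smul_comp _ _ _ _ _ _)
    have h2 : ∑ i, c i • q i = 0 := by
      apply G.map_injective
      rw [G.map_zero, ← cancel_mono eU.hom, h1, zero_comp]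
    let v : 𝒪 ⟶ free (n + 1) := ∑ i, c i • H23.Frame.incl P (n + 1) i
    have hv : (v ≫ eF.inv) ≫ S.g = 0 := by
      simpa [v, q, pr, Preadditive.sum_comp, Linear.smul_comp] using h2
    haveI := hS.mono_f
    obtain ⟨z, hz⟩ := KernelFork.IsLimit.lift' hS.fIsKernel _ hv
    obtain ⟨e0⟩ := cl_eq_iff.1 ((PnEuler.tw_zero n k).trans one_def)
    have hz0 : e0.hom ≫ z = 0 := PnRigid.hom_twist_eq_zero n k 0 _ fun M hM => by
      refine PnHodge.vanish_pos n k 1 one_pos n 1 0 (by omega) (fun _ => le_rfl) _ ?_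
      change PicF.cl M = PicF.cl S.X₁ * _ at hM
      rw [hM, neg_zero, PnEuler.tw_zero, mul_one, cl_eq_iff.2 ⟨eK⟩, cl_tensor, NullCorr.cl_omega,
        PnEuler.hodge, PnEuler.hodge, PnEuler.tw_zero, mul_comm, one_mul]
      exact mul_comm _ _
    have hz1 : z = 0 := by rwa [← cancel_epi e0.hom, comp_zero]
    rw [hz1, zero_comp] at hz
    have hv0 : v = 0 := by rw [← cancel_mono eF.inv, zero_comp]; exact hz.symm
    funext j
    have h3 : v ≫ H23.Frame.proj P (n + 1) j = c j • 𝟙 𝒪 := by
      simp [v, Preadditive.sum_comp, Linear.smul_comp, H23.Frame.incl_proj]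
    rw [hv0, zero_comp] at h3
    by_contra hcj
    have hid : 𝟙 𝒪 = 0 := by
      rw [← inv_smul_smul₀ hcj (𝟙 𝒪), ← h3, smul_zero]
    exact PnRigid.not_subsingleton_h0 n k (Euler.subsingleton_HH_of_isZero ((IsZero.iff_id_eq_zero _).2 hid) 0)

/-- There is a simple bundle of rank `n - 1`. -/
theorem exists_simple [CharZero k] (hn : 3 ≤ n) :
    ∃ F : (CohB1.ProjSpace n k).Modules, FlatMod.IsFinLocFreeOfRank (n - 1) F ∧
      ∀ φ : F ⟶ F, ∃ c : k, φ = c • 𝟙 F := by
  classical
  obtain ⟨T, L, a, b, ι, hab, hba, ⟨eL⟩, hT, huni, hind⟩ := exists_taut (n := n) (k := k)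
  let N := 2 * n - 1
  let m : Fin (n + 1) → (L ⟶ free N) :=
    fun i => ∑ j, ι j ≫ ∑ s, (w n N i j s : k) • H23.Frame.incl P N s
  let Φ : T ⟶ free N := ∑ i, a i ≫ m i
  have hbΦ : ∀ i, b i ≫ Φ = m i := fun i => by
    simp only [Φ, Preadditive.comp_sum, ← Category.assoc, hba]
    rw [Finset.sum_eq_single i]
    · simp
    · intro l _ hl; simp [Ne.symm hl]
    · simp
  have hLrk : FlatMod.IsFinLocFreeOfRank 1 L := fun x =>
    let ⟨U, hx, ⟨e⟩⟩ := Rank2Pn.rank_O (n := n) (k := k) (-1) x
    ⟨U, hx, ⟨(Scheme.Modules.restrictFunctor U.ι).mapIso eL ≪≫ e⟩⟩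
  have hgen : ∀ x : P, ∃ g : L.presheaf.stalk x, ∀ z, ∃ r : (P).presheaf.stalk x, z = r • g := fun x => by
    obtain ⟨hLl, hL1⟩ := ConsPropLib.isFinLocFreeOfRank_iff.1 hLrk
    haveI := QCoh.free_stalk_of_isFinLocFree hLl x
    haveI : Module.Finite ((P).presheaf.stalk x) (L.presheaf.stalk x) :=
      Module.finite_of_finrank_eq_succ (hL1 x)
    let bb := Module.finBasisOfFinrankEq ((P).presheaf.stalk x) (L.presheaf.stalk x) (hL1 x)
    exact ⟨bb 0, fun z => ⟨bb.repr z 0, by conv_lhs => rw [← bb.sum_repr z, Fin.sum_univ_one]⟩⟩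
  have hrank : ∀ x : P, ∃ v : Fin n → (Fin N → (P).presheaf.stalk x),
      (LinearMap.range (StalkMat.st x Φ)).map ((StalkMat.coordEquiv x).toLinearMap) = Submodule.span _ (Set.range v) ∧
      LinearIndependent (IsLocalRing.ResidueField ((P).presheaf.stalk x))
        fun i => IsLocalRing.residue ((P).presheaf.stalk x) ∘ v i := fun x => by
    obtain ⟨g, hg⟩ := hgen x
    let u1 := H9Misc.StalkHomExt.unitEquiv (x := x)
    let φk := Algz.toStalk k (P) x
    let xv : Fin (n + 1) → (P).presheaf.stalk x := fun j => u1.symm (StalkMat.st x (ι j) g)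
    obtain ⟨j₀, hj₀⟩ : ∃ j, IsUnit (xv j) := by
      by_contra hnot
      push Not at hnot
      obtain ⟨t, ht⟩ := huni x (u1 1)
      choose r hr using fun i => hg (t i)
      have h1 : (1 : (P).presheaf.stalk x) = ∑ i, r i * xv i := by
        have := congrArg u1.symm ht
        rw [LinearEquiv.symm_apply_apply] at this
        rw [this, map_sum]
        exact Finset.sum_congr rfl fun i _ => by rw [hr i, map_smul, map_smul]; rfl
      refine (IsLocalRing.maximalIdeal.isMaximal ((P).presheaf.stalk x)).ne_top ((Ideal.eq_top_iff_one _).2 ?_)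
      rw [h1]
      exact sum_mem fun i _ => Ideal.mul_mem_left _ _ ((IsLocalRing.mem_maximalIdeal _).2 (hnot i))
    have hcol : ∀ i, StalkMat.coordEquiv x (StalkMat.st x (m i) g) =
        fun s => ∑ j, xv j * φk (w n N i j s) := fun i => by
      funext s
      simp only [m, StalkMat.st_sum, StalkMat.st_comp, map_sum, Finset.sum_apply]
      refine Finset.sum_congr rfl fun j _ => ?_
      rw [Finset.sum_eq_single s]
      · rw [StalkMat.st_smul, map_smul, Pi.smul_apply, StalkMat.coordEquiv_apply, StalkMat.coord_incl, if_pos rfl,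
          smul_eq_mul, mul_comm]
      · intro s' _ hs
        rw [StalkMat.st_smul, map_smul, Pi.smul_apply, StalkMat.coordEquiv_apply, StalkMat.coord_incl, if_neg hs,
          smul_zero]
      · simp
    obtain ⟨hspan, hli⟩ := columns (n := n) φk xv j₀ hj₀
    refine ⟨_, Eq.trans ?_ hspan, hli⟩
    refine le_antisymm ?_ (Submodule.span_le.2 ?_)
    · rintro _ ⟨_, ⟨t, rfl⟩, rfl⟩
      have hΦ : StalkMat.st x Φ t = ∑ i, StalkMat.st x (m i) (StalkMat.st x (a i) t) := by
        simp only [Φ, StalkMat.st_sum, StalkMat.st_comp]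
      show StalkMat.coordEquiv x (StalkMat.st x Φ t) ∈ _
      rw [hΦ, map_sum]
      refine sum_mem fun i _ => ?_
      obtain ⟨r, hr⟩ := hg (StalkMat.st x (a i) t)
      rw [hr, map_smul, map_smul, hcol]
      exact Submodule.smul_mem _ _ (Submodule.subset_span ⟨i, rfl⟩)
    · rintro _ ⟨i, rfl⟩
      exact ⟨_, ⟨StalkMat.st x (b i) g, rfl⟩, by
        rw [← StalkMat.st_comp, hbΦ]
        exact hcol i⟩
  have hF := StalkMat.rank_cokernel hT Φ hrank
  rw [show N - n = n - 1 by omega] at hF
  refine ⟨cokernel Φ, hF, fun φ => ?_⟩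
  haveI : IsLocallyNoetherian (CohB1.ProjSpace n k) := PnCoh.Finite.isLocallyNoetherian_projSpace n k
  let π := cokernel.π Φ
  have hTrk : FlatMod.IsFinLocFreeOfRank (n + 1) T := ConsPropLib.isFinLocFreeOfRank_iff.2 ⟨hT, fun x => by
    obtain ⟨e, -⟩ := StalkMat.exists_equiv x a b hab hba
    obtain ⟨hLl, hL1⟩ := ConsPropLib.isFinLocFreeOfRank_iff.1 hLrk
    haveI := QCoh.free_stalk_of_isFinLocFree hLl x
    haveI : Module.Finite ((P).presheaf.stalk x) (L.presheaf.stalk x) := Module.finite_of_finrank_eq_succ (hL1 x)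
    rw [e.finrank_eq, Module.finrank_pi_fintype]
    simp [hL1 x]⟩
  have hfree : FlatMod.IsFinLocFreeOfRank N (free N) := fun _ =>
    ⟨⊤, trivial, H23.Frame.exists_iso_of_frame _ (H23.Frame.incl_isFrame (X := P) (n := N))⟩
  have hI : FlatMod.IsFinLocFreeOfRank n (kernel π) := by
    have := StalkMat.rank_kernel π hfree hF
    rwa [show N - (n - 1) = n by omega] at this
  let Ψ : T ⟶ kernel π := kernel.lift π Φ (cokernel.condition Φ)
  haveI : Epi Ψ := (ShortComplex.exact_iff_epi_kernel_lift (ShortComplex.mk Φ π (cokernel.condition Φ))).1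
    (ShortComplex.exact_of_g_is_cokernel _ (cokernelIsCokernel Φ))
  have hK : FlatMod.IsFinLocFreeOfRank 1 (kernel Ψ) := by
    have := StalkMat.rank_kernel Ψ hTrk hI
    rwa [show n + 1 - n = 1 by omega] at this
  obtain ⟨d, ⟨eK⟩⟩ := Rank2Pn.exists_iso_O hK
  have hSK : (ShortComplex.mk (kernel.ι Ψ) Ψ (kernel.condition Ψ)).ShortExact :=
    { exact := ShortComplex.exact_kernel Ψ }
  have hSI : (ShortComplex.mk (kernel.ι π) π (kernel.condition π)).ShortExact :=
    { exact := ShortComplex.exact_kernel π }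
  have hline : ∀ (e : ℤ) (q : ℕ), 1 ≤ q → q < n →
      Subsingleton (Coh.HH (CohB1.ProjSpace n k) (Twist.twistProjSpace n k e) q) := fun e q h1 h2 =>
    NullCorr.vanish_twist_line e q (by omega) (by omega)
  have hT1 : Subsingleton (Coh.HH (CohB1.ProjSpace n k) T 1) := by
    haveI := QCoh.subsingleton_HH_of_iso eL.symm 1 (hline (-1) 1 le_rfl (by omega))
    refine subsingleton_of_forall_eq 0 fun x => ?_
    have hx : x = ∑ i, mapLin k (a i ≫ b i) 1 x := by
      have key : ∀ s : Finset (Fin (n + 1)), mapLin k (∑ i ∈ s, a i ≫ b i) 1 x = ∑ i ∈ s, mapLin k (a i ≫ b i) 1 x := by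
        intro s
        induction s using Finset.induction with
        | empty =>
          simp only [Finset.sum_empty]
          show Sheaf.H.map ((QCoh.toAbFunctor (CohB1.ProjSpace n k)).map 0) 1 x = 0
          rw [Functor.map_zero]
          show ((Sheaf.functorH _ 1).map 0).hom x = 0
          rw [Functor.map_zero]
          rfl
        | insert i s hi ih =>
          rw [Finset.sum_insert hi, Finset.sum_insert hi, ← ih]
          show Sheaf.H.map ((QCoh.toAbFunctor (CohB1.ProjSpace n k)).map (_ + _)) 1 x = _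
          rw [Functor.map_add, Sheaf.H.map_add_apply]
          rfl
      conv_lhs => rw [← PnHodge.mapLin_id_apply k (M := T) 1 x, ← hab]
      exact key _
    rw [hx]
    exact Finset.sum_eq_zero fun i _ => by
      rw [← PnHodge.mapLin_comp_apply, Subsingleton.elim (mapLin k (a i) 1 x) 0, map_zero]
  have hI1 : Subsingleton (Coh.HH (CohB1.ProjSpace n k) (kernel π) 1) :=
    PnHodge.subsingleton_right k hSK 1 hT1 (QCoh.subsingleton_HH_of_iso eK.symm 2 (hline d 2 (by omega) (by omega)))
  choose l hl using fun s => PnRestrict.exists_lift hSI hI1 (H23.Frame.incl P N s ≫ π ≫ φ)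
  let A : free N ⟶ free N := ∑ s, H23.Frame.proj P N s ≫ l s
  have hA : A ≫ π = π ≫ φ := by
    have : ∀ s, (H23.Frame.proj P N s ≫ l s) ≫ π = (H23.Frame.proj P N s ≫ H23.Frame.incl P N s) ≫ π ≫ φ :=
      fun s => by rw [Category.assoc, Category.assoc]; exact congrArg _ (hl s)
    simp only [A, Preadditive.sum_comp, this]
    rw [← Preadditive.sum_comp, H23.Frame.total, Category.id_comp]
  obtain ⟨f, hf⟩ := PnRestrict.exists_mat A
  let fm : Fin N → Fin N → k := fun s t => f (Pi.single s 1) t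
  haveI := PnRigid.hasExt n k
  have hB : ∀ i, ∃ B : Fin (n + 1) → k, m i ≫ A = ∑ l, B l • m l := fun i => by
    have h0 : (m i ≫ A) ≫ π = 0 := by
      rw [Category.assoc, hA, ← hbΦ i, Category.assoc, cokernel.condition_assoc, zero_comp, comp_zero]
    let z : L ⟶ kernel π := kernel.lift π (m i ≫ A) h0
    have hE : Subsingleton (Ext.{u} (Twist.twistProjSpace n k (-1)) (kernel Ψ) 1) :=
      PnRigid.ext_twist n k (-1) _ 1 fun M hM => by
        rw [cl_eq_iff.2 ⟨eK⟩, PnEuler.tw_add] at hM
        obtain ⟨eM⟩ := cl_eq_iff.1 hM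
        exact QCoh.subsingleton_HH_of_iso eM.symm 1 (hline _ 1 le_rfl (by omega))
    obtain ⟨y, hy⟩ := Ext.covariant_sequence_exact₃ _ hSK (Ext.mk₀ (eL.inv ≫ z)) (zero_add 1) (hE.elim _ _)
    obtain ⟨y, rfl⟩ := (Ext.mk₀_bijective _ _).2 y
    rw [Ext.mk₀_comp_mk₀] at hy
    have hy' : (eL.hom ≫ y) ≫ Φ = m i ≫ A := by
      have h1 : y ≫ Ψ = eL.inv ≫ z := (Ext.mk₀_bijective _ _).1 hy
      have h2 : Ψ ≫ kernel.ι π = Φ := kernel.lift_ι _ _ _
      calc (eL.hom ≫ y) ≫ Φ = (eL.hom ≫ y) ≫ Ψ ≫ kernel.ι π := congrArg ((eL.hom ≫ y) ≫ ·) h2.symm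
        _ = z ≫ kernel.ι π := by rw [Category.assoc, reassoc_of% h1, eL.hom_inv_id_assoc]
        _ = _ := kernel.lift_ι _ _ _
    choose B hB using fun l => NullCorr.exists_smul_line (-1) eL ((eL.hom ≫ y) ≫ a l)
    refine ⟨B, ?_⟩
    rw [← hy']
    simp only [Φ, Preadditive.comp_sum, ← Category.assoc (eL.hom ≫ y), hB, Linear.smul_comp, Category.id_comp]
  choose B hB using hB
  have hcompat : ∀ i j t, ∑ s, w n N i j s * fm s t = ∑ l, B i l * w n N l j t := by
    intro i j t
    have hsingle : ∀ s, H23.Frame.incl P N s ≫ H23.Frame.proj P N t = if s = t then 𝟙 𝒪 else 0 :=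
      fun s => H23.Frame.incl_proj P N t s
    have hm : ∀ l, m l ≫ H23.Frame.proj P N t = ∑ j, (w n N l j t : k) • ι j := fun l => by
      simp [m, Preadditive.sum_comp, Preadditive.comp_sum, Linear.smul_comp, Linear.comp_smul, hsingle, comp_ite,
        smul_ite]
    have hl1 : (m i ≫ A) ≫ H23.Frame.proj P N t = ∑ j, (∑ s, w n N i j s * fm s t) • ι j := by
      simp only [m, hf, Preadditive.sum_comp, Category.assoc, Linear.smul_comp, reassoc_of% PnRestrict.incl_mat,
        hsingle]
      simp [fm, Preadditive.comp_sum, Linear.comp_smul, Finset.sum_smul, smul_smul, hsingle]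
    have hr1 : (m i ≫ A) ≫ H23.Frame.proj P N t = ∑ j, (∑ l, B i l * w n N l j t) • ι j := by
      rw [hB i]
      simp only [Preadditive.sum_comp, Linear.smul_comp, hm, Finset.smul_sum, smul_smul, Finset.sum_smul]
      exact Finset.sum_comm
    have h3 := hind (fun j => ∑ s, w n N i j s * fm s t - ∑ l, B i l * w n N l j t) (by
      simp only [sub_smul, Finset.sum_sub_distrib]
      rw [← hl1, ← hr1, sub_self])
    exact sub_eq_zero.1 (congrFun h3 j)
  obtain ⟨c, hc⟩ := scalar_of_compat (n := n) (by omega) fm B hcompat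
  have hAc : A = c • 𝟙 _ := by
    rw [hf]
    refine PnRestrict.hom_ext fun s => ?_
    rw [PnRestrict.incl_mat, Linear.comp_smul, Category.comp_id]
    have : ∀ t, f (Pi.single s 1) t = if s = t then c else 0 := hc s
    simp [this, ite_smul]
  refine ⟨c, ?_⟩
  rw [← cancel_epi π, ← hA, hAc]
  simp

end Groth.Agent.Synt29.SimpleBundle
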