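import Mathlib
import Groth.Agent.Synt29.SimpleBundle
import Groth.Agent.Synt29.ConormalExact
import Groth.Agent.KFlatLib.Scheme.TensorStalk

/-! Null-correlation maps on odd-dimensional projective space. -/

set_option autoImplicit false
set_option linter.style.haveILetI false
set_option linter.unusedSectionVars false
set_option backward.isDefEq.respectTransparency false
set_option backward.isDefEq.respectTransparency.types false
set_option maxHeartbeats 1600000

universe u

open CategoryTheory CategoryTheory.Limits AlgebraicGeometry TopologicalSpace Opposite MonoidalCategory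
open scoped TensorProduct

noncomputable section

namespace Groth.Agent.Synt29.NullExist

/-- Rank along an isomorphism. -/
theorem rankOfIso {X : Scheme.{u}} {M N : X.Modules} (φ : M ≅ N) {r : ℕ} (h : FlatMod.IsFinLocFreeOfRank r M) :
    FlatMod.IsFinLocFreeOfRank r N := fun x =>
  let ⟨U, hx, ⟨e⟩⟩ := h x
  ⟨U, hx, ⟨(Scheme.Modules.restrictFunctor U.ι).mapIso φ.symm ≪≫ e⟩⟩

open Groth.Agent Groth.Agent.H23.PicMul

section General

variable {X : Scheme.{u}}

/-- A line bundle has a generator on each stalk. -/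
theorem exists_gen {L : X.Modules} (hL : FlatMod.IsFinLocFreeOfRank 1 L) (x : X) :
    ∃ g : L.presheaf.stalk x, (∀ z, ∃ r : X.presheaf.stalk x, z = r • g) ∧
      ∀ r : X.presheaf.stalk x, r • g = 0 → r = 0 := by
  obtain ⟨hLl, hL1⟩ := ConsPropLib.isFinLocFreeOfRank_iff.1 hL
  haveI := QCoh.free_stalk_of_isFinLocFree hLl x
  haveI : Module.Finite (X.presheaf.stalk x) (L.presheaf.stalk x) := Module.finite_of_finrank_eq_succ (hL1 x)
  let b := Module.finBasisOfFinrankEq (X.presheaf.stalk x) (L.presheaf.stalk x) (hL1 x)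
  refine ⟨b 0, fun z => ⟨b.repr z 0, by conv_lhs => rw [← b.sum_repr z, Fin.sum_univ_one]⟩, fun r hr => ?_⟩
  have h := congrArg (fun z => b.repr z 0) hr
  simpa using h

/-- Two maps `O → B` commute past each other after twisting. -/
theorem swap {B W : X.Modules} (hB : FlatMod.IsFinLocFreeOfRank 1 B)
    (e : (DCoh.tensorBi.flip.obj W).obj B ≅ Coh.structureModule X) (p q : Coh.structureModule X ⟶ B) :
    ((DCoh.tensorBi.flip.obj W).map p ≫ e.hom) ≫ q = ((DCoh.tensorBi.flip.obj W).map q ≫ e.hom) ≫ p := by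
  let G := DCoh.tensorBi.flip.obj W
  refine ConormalExact.hom_ext_stalk _ _ fun x m => ?_
  obtain ⟨h, hh, -⟩ := exists_gen hB x
  let S := DerSch.stalkFunctor X x
  let u1 := H9Misc.StalkHomExt.unitEquiv (x := x)
  obtain ⟨a, ha⟩ := hh (StalkMat.st x p (u1 1))
  obtain ⟨b, hb⟩ := hh (StalkMat.st x q (u1 1))
  have hu1 : ∀ z, z = u1.symm z • u1 1 := fun z => by
    rw [← map_smul, smul_eq_mul, mul_one, LinearEquiv.apply_symm_apply]
  let τ := fun M : X.Modules => KFlatLib.stalkTensorIso x M W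
  let θ : S.obj (Coh.structureModule X) ⟶ S.obj B :=
    ModuleCat.ofHom ((LinearMap.toSpanSingleton (X.presheaf.stalk x) _ h).comp u1.symm.toLinearMap)
  have key : ∀ (f : Coh.structureModule X ⟶ B) (c : X.presheaf.stalk x), StalkMat.st x f (u1 1) = c • h →
      ∀ t, (S.map (G.map f)).hom ((τ (Coh.structureModule X)).hom t) =
        c • (τ B).hom ((θ ⊗ₘ 𝟙 (S.obj W)) t) := by
    intro f c hc t
    have hnat := ConcreteCategory.congr_hom
      (KFlatLib.stalkTensorIso_naturality (x := x) f (𝟙 W)) t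
    simp only [CategoryTheory.Functor.map_id, Category.comp_id] at hnat
    refine hnat.symm.trans ?_
    show (τ B).hom ((S.map f ⊗ₘ 𝟙 (S.obj W)) t) = c • (τ B).hom ((θ ⊗ₘ 𝟙 (S.obj W)) t)
    rw [← map_smul]
    refine congrArg (fun z => (τ B).hom z) ?_
    clear hnat
    induction t using TensorProduct.induction_on with
    | zero => simp only [map_zero, smul_zero]
    | tmul z w =>
      show (S.map f).hom z ⊗ₜ[X.presheaf.stalk x] w = c • ((θ.hom z) ⊗ₜ[X.presheaf.stalk x] w)
      rw [TensorProduct.smul_tmul']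
      congr 1
      show StalkMat.st x f z = c • (u1.symm z • h)
      conv_lhs => rw [hu1 z, map_smul, hc, smul_comm]
    | add y z hy hz =>
      simp only [map_add, smul_add]
      exact congrArg₂ (· + ·) hy hz
  obtain ⟨t, rfl⟩ : ∃ t, (τ (Coh.structureModule X)).hom t = m :=
    ⟨(τ (Coh.structureModule X)).inv m, congr($((τ (Coh.structureModule X)).inv_hom_id) m)⟩
  show StalkMat.st x ((G.map p ≫ e.hom) ≫ q) _ = StalkMat.st x ((G.map q ≫ e.hom) ≫ p) _
  simp only [StalkMat.st_comp]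
  rw [show StalkMat.st x (G.map p) ((τ (Coh.structureModule X)).hom t) = _ from key p a ha t,
    show StalkMat.st x (G.map q) ((τ (Coh.structureModule X)).hom t) = _ from key q b hb t]
  simp only [map_smul]
  generalize StalkMat.st x e.hom ((τ B).hom ((θ ⊗ₘ 𝟙 (S.obj W)) t)) = z
  rw [hu1 z, map_smul, map_smul, ha, hb, smul_smul, smul_smul, smul_smul, smul_smul]
  congr 1
  ring

/-- A stalkwise injective map is mono. -/
theorem mono_of_stalks {M N : X.Modules} (f : M ⟶ N) (h : ∀ x : X, Function.Injective (StalkMat.st x f)) :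
    Mono f := by
  refine Preadditive.mono_of_cancel_zero f fun {Z} g hg => ?_
  refine ConormalExact.hom_ext_stalk _ _ fun x m => h x ?_
  have h1 : StalkMat.st x (g ≫ f) m = 0 := by rw [hg, StalkMat.st_zero]
  rw [StalkMat.st_comp] at h1
  show StalkMat.st x f (StalkMat.st x g m) = StalkMat.st x f (StalkMat.st x (0 : Z ⟶ M) m)
  rw [StalkMat.st_zero, map_zero]
  exact h1

/-- Comparison of cokernels along a short exact sequence. -/
theorem exists_ses {S : ShortComplex X.Modules} (hS : S.ShortExact) {L : X.Modules} (v : L ⟶ S.X₁) :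
    ∃ (w : cokernel v ⟶ cokernel (v ≫ S.f)) (p : cokernel (v ≫ S.f) ⟶ S.X₃), Epi p ∧
      Nonempty (cokernel v ≅ kernel p) := by
  haveI := hS.mono_f
  haveI := hS.epi_g
  let w : cokernel v ⟶ cokernel (v ≫ S.f) := cokernel.desc v (S.f ≫ cokernel.π _)
    ((Category.assoc _ _ _).symm.trans (cokernel.condition (v ≫ S.f)))
  let p : cokernel (v ≫ S.f) ⟶ S.X₃ := cokernel.desc _ S.g (by simp)
  have hw : cokernel.π v ≫ w = S.f ≫ cokernel.π (v ≫ S.f) := cokernel.π_desc _ _ _
  have hp : cokernel.π (v ≫ S.f) ≫ p = S.g := cokernel.π_desc _ _ _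
  haveI : Epi p := by
    haveI : Epi (cokernel.π (v ≫ S.f) ≫ p) := by rw [hp]; infer_instance
    exact epi_of_epi (cokernel.π (v ≫ S.f)) p
  have hwp : w ≫ p = 0 := by
    rw [← cancel_epi (cokernel.π v), reassoc_of% hw, hp, S.zero, comp_zero]
  haveI : Mono w := Preadditive.mono_of_cancel_zero w fun {A} a ha => by
    obtain ⟨A', π', hπ', y, hy⟩ := surjective_up_to_refinements_of_epi (cokernel.π v) a
    have h0 : (y ≫ S.f) ≫ cokernel.π (v ≫ S.f) = 0 := by
      rw [Category.assoc, ← hw, ← Category.assoc, ← hy, Category.assoc, ha, comp_zero]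
    obtain ⟨A'', π'', hπ'', b, hb⟩ := (ShortComplex.exact_of_g_is_cokernel
      (ShortComplex.mk (v ≫ S.f) _ (cokernel.condition (v ≫ S.f))) (cokernelIsCokernel _)).exact_up_to_refinements
        (y ≫ S.f) h0
    have hb' : π'' ≫ y = b ≫ v := by
      rw [← cancel_mono S.f]
      simpa using hb
    rw [← cancel_epi π', ← cancel_epi π'', hy, reassoc_of% hb']
    simp
  let l : cokernel v ⟶ kernel p := kernel.lift p w hwp
  have hl : l ≫ kernel.ι p = w := kernel.lift_ι _ _ _
  haveI : Mono l := by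
    haveI : Mono (l ≫ kernel.ι p) := by rw [hl]; infer_instance
    exact mono_of_mono l (kernel.ι p)
  haveI : Epi l := by
    rw [epi_iff_surjective_up_to_refinements]
    intro A a
    obtain ⟨A', π', hπ', y, hy⟩ := surjective_up_to_refinements_of_epi (cokernel.π (v ≫ S.f)) (a ≫ kernel.ι p)
    have h0 : y ≫ S.g = 0 := by
      rw [← hp, ← Category.assoc, ← hy]
      simp
    obtain ⟨A'', π'', hπ'', z, hz⟩ := hS.exact.exact_up_to_refinements y h0
    refine ⟨A'', π'' ≫ π', inferInstance, z ≫ cokernel.π v, ?_⟩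
    rw [← cancel_mono (kernel.ι p)]
    simp only [Category.assoc, hl, hw]
    rw [hy, reassoc_of% hz]
  exact ⟨w, p, inferInstance, ⟨asIso' l⟩⟩
where
  asIso' {A B : X.Modules} (l : A ⟶ B) [Mono l] [Epi l] : A ≅ B :=
    haveI := isIso_of_mono_of_epi l
    asIso l

end General

section Index

variable {n : ℕ}

/-- The pairing of indices. -/
def σ (hn : Odd n) (i : Fin (n + 1)) : Fin (n + 1) :=
  if h : (i : ℕ) % 2 = 0 then ⟨i + 1, by obtain ⟨m, rfl⟩ := hn; omega⟩ else ⟨i - 1, by omega⟩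

theorem σ_val (hn : Odd n) (i : Fin (n + 1)) :
    ((σ hn i : Fin (n + 1)) : ℕ) = if (i : ℕ) % 2 = 0 then (i : ℕ) + 1 else (i : ℕ) - 1 := by
  unfold σ; split_ifs <;> rfl

theorem σ_σ (hn : Odd n) (i : Fin (n + 1)) : σ hn (σ hn i) = i := by
  refine Fin.ext ?_
  rw [σ_val, σ_val]
  split_ifs <;> omega

theorem σ_ne (hn : Odd n) (i : Fin (n + 1)) : σ hn i ≠ i := fun e => by
  have := congrArg Fin.val e
  rw [σ_val] at this
  split_ifs at this <;> omega

theorem parity (hn : Odd n) (i : Fin (n + 1)) : ((σ hn i : Fin (n + 1)) : ℕ) % 2 = 1 - (i : ℕ) % 2 := by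
  rw [σ_val]; split_ifs <;> omega

end Index

attribute [local instance] Groth.Agent.QCoh.hasFiniteBiproducts

variable {n : ℕ} {k : Type u} [Field k] [QuasiSeparated (CohB1.ProjSpace.toSpec n k)]

local instance : (CohB1.ProjSpace n k).Over (Spec (CommRingCat.of k)) :=
  ⟨CohB1.ProjSpace.toSpec n k⟩

local notation "P" => CohB1.ProjSpace n k
local notation "𝒪" => Coh.structureModule (CohB1.ProjSpace n k)
local notation "free" => FlatMod.freeMod (CohB1.ProjSpace n k)

/-- A null-correlation map. -/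
theorem exists_mono (hn : Odd n) :
    ∃ u : Twist.twistProjSpace n k (-1) ⟶
        CohB1.tensorMod (Omega.sheaf (CohB1.ProjSpace.toSpec n k)) (Twist.twistProjSpace n k 1),
      Mono u ∧ FlatMod.IsFinLocFreeOfRank (n - 1) (cokernel u) := by
  classical
  obtain ⟨S, hS, hK, hS31, hS3, ⟨eK⟩, ⟨eF⟩⟩ := PnEuler.exists_taut_ses n k
  haveI := hS.epi_g
  haveI := hS.mono_f
  haveI : IsLocallyNoetherian (CohB1.ProjSpace n k) := PnCoh.Finite.isLocallyNoetherian_projSpace n k
  let G : (CohB1.ProjSpace n k).Modules ⥤ (CohB1.ProjSpace n k).Modules :=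
    DCoh.tensorBi.flip.obj (Twist.twistProjSpace n k (-1))
  haveI : G.IsEquivalence := SimpleBundle.isEquivalence_twist
  haveI : G.Additive := Functor.additive_of_preserves_binary_products _
  have hG : ∀ M : (CohB1.ProjSpace n k).Modules, PicF.cl (G.obj M) = PicF.cl M * PnEuler.tw n k (-1) :=
    fun M => PnEuler.cl_tens M (Twist.twistProjSpace n k (-1))
  obtain ⟨eL⟩ : Nonempty (G.obj 𝒪 ≅ Twist.twistProjSpace n k (-1)) :=
    cl_eq_iff.1 ((hG _).trans (by rw [← one_def, one_mul]))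
  obtain ⟨eU⟩ : Nonempty (G.obj S.X₃ ≅ 𝒪) := cl_eq_iff.1 ((hG _).trans (by
    rw [hS3, PnEuler.tw_add, show (1 : ℤ) + -1 = 0 by norm_num, PnEuler.tw_zero, one_def]))
  let π : free (n + 1) ⟶ S.X₃ := eF.inv ≫ S.g
  let q : Fin (n + 1) → (𝒪 ⟶ S.X₃) := fun j => H23.Frame.incl P (n + 1) j ≫ π
  let ι : Fin (n + 1) → (G.obj 𝒪 ⟶ 𝒪) := fun j => G.map (q j) ≫ eU.hom
  have hswap : ∀ i j, ι i ≫ q j = ι j ≫ q i := fun i j => swap hS31 eU (q i) (q j)
  let ε : Fin (n + 1) → k := fun j => if (j : ℕ) % 2 = 0 then 1 else -1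
  let u0 : G.obj 𝒪 ⟶ free (n + 1) := ∑ j, ε j • (ι j ≫ H23.Frame.incl P (n + 1) (σ hn j))
  have hu0 : u0 ≫ π = 0 := by
    simp only [u0, Preadditive.sum_comp, Linear.smul_comp, Category.assoc]
    refine Finset.sum_involution (fun j _ => σ hn j) (fun j _ => ?_) (fun j _ _ => σ_ne hn j)
      (fun j _ => Finset.mem_univ _) (fun j _ => σ_σ hn j)
    show ε j • (ι j ≫ q (σ hn j)) + ε (σ hn j) • (ι (σ hn j) ≫ q (σ hn (σ hn j))) = 0
    have hε : ε (σ hn j) = -ε j := by
      simp only [ε, parity hn j]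
      rcases Nat.mod_two_eq_zero_or_one (j : ℕ) with h | h <;> simp [h]
    rw [σ_σ, hswap (σ hn j) j, hε, neg_smul, add_neg_cancel]
  obtain ⟨v, hv⟩ := KernelFork.IsLimit.lift' hS.fIsKernel (u0 ≫ eF.inv) (by simpa [π] using hu0)
  have hv' : v ≫ S.f = u0 ≫ eF.inv := hv
  have hLrk : FlatMod.IsFinLocFreeOfRank 1 (G.obj 𝒪) := fun x =>
    let ⟨U, hx, ⟨e⟩⟩ := Rank2Pn.rank_O (n := n) (k := k) (-1) x
    ⟨U, hx, ⟨(Scheme.Modules.restrictFunctor U.ι).mapIso eL ≪≫ e⟩⟩
  have hstalk : ∀ x : P, ∃ (g : (G.obj 𝒪).presheaf.stalk x) (w : Fin (n + 1) → (P).presheaf.stalk x) (i₀ : Fin (n + 1)),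
      IsUnit (w i₀) ∧ (∀ z, ∃ r : (P).presheaf.stalk x, z = r • g) ∧ StalkMat.coordEquiv x (StalkMat.st x u0 g) = w := by
    intro x
    obtain ⟨g, hg, -⟩ := exists_gen hLrk x
    let u1 := H9Misc.StalkHomExt.unitEquiv (x := x)
    let xv : Fin (n + 1) → (P).presheaf.stalk x := fun j => u1.symm (StalkMat.st x (ι j) g)
    obtain ⟨j₀, hj₀⟩ : ∃ j, IsUnit (xv j) := by
      by_contra hnot
      push Not at hnot
      haveI : Epi (G.map π ≫ eU.hom) := epi_comp _ _
      obtain ⟨t, ht⟩ := (ModuleCat.epi_iff_surjective ((DerSch.stalkFunctor P x).map (G.map π ≫ eU.hom))).1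
        inferInstance (u1 1)
      have hsum : ∑ i, G.map (H23.Frame.proj P (n + 1) i) ≫ ι i = G.map π ≫ eU.hom := by
        simp only [ι, q, ← G.map_comp_assoc, ← Category.assoc (H23.Frame.proj P (n + 1) _), ← Preadditive.sum_comp,
          ← Functor.map_sum, H23.Frame.total, Category.id_comp]
      choose r hr using fun i => hg (StalkMat.st x (G.map (H23.Frame.proj P (n + 1) i)) t)
      have h1 : (1 : (P).presheaf.stalk x) = ∑ i, r i * xv i := by
        have ht' : StalkMat.st x (G.map π ≫ eU.hom) t = u1 1 := ht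
        rw [← hsum, StalkMat.st_sum] at ht'
        have := congrArg u1.symm ht'
        rw [LinearEquiv.symm_apply_apply] at this
        rw [← this, map_sum]
        exact Finset.sum_congr rfl fun i _ => by rw [StalkMat.st_comp, hr i, map_smul, map_smul]; rfl
      refine (IsLocalRing.maximalIdeal.isMaximal ((P).presheaf.stalk x)).ne_top ((Ideal.eq_top_iff_one _).2 ?_)
      rw [h1]
      exact sum_mem fun i _ => Ideal.mul_mem_left _ _ ((IsLocalRing.mem_maximalIdeal _).2 (hnot i))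
    refine ⟨g, _, σ hn j₀, ?_, hg, rfl⟩
    have hcoord : StalkMat.coordEquiv x (StalkMat.st x u0 g) (σ hn j₀) = Algz.toStalk k (P) x (ε j₀) * xv j₀ := by
      simp only [u0, StalkMat.st_sum, map_sum, Finset.sum_apply]
      rw [Finset.sum_eq_single j₀]
      · rw [StalkMat.st_smul, StalkMat.st_comp, map_smul, Pi.smul_apply, StalkMat.coordEquiv_apply,
          StalkMat.coord_incl, if_pos rfl, smul_eq_mul]
      · intro j _ hj
        rw [StalkMat.st_smul, StalkMat.st_comp, map_smul, Pi.smul_apply, StalkMat.coordEquiv_apply,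
          StalkMat.coord_incl, if_neg (fun e => hj (by rw [← σ_σ hn j, e, σ_σ])), smul_zero]
      · simp
    rw [hcoord]
    refine (IsUnit.map _ (IsUnit.mk0 (ε j₀) ?_)).mul hj₀
    simp only [ε]
    split_ifs <;> simp
  haveI hm0 : Mono u0 := mono_of_stalks u0 fun x => by
    obtain ⟨g, w, i₀, hu, hg, hw⟩ := hstalk x
    refine (injective_iff_map_eq_zero _).2 fun z hz => ?_
    obtain ⟨r, rfl⟩ := hg z
    have h1 : r • w = 0 := by rw [← hw, ← map_smul, ← map_smul, hz, map_zero]
    rw [(IsUnit.mul_left_eq_zero hu).1 (congrFun h1 i₀), zero_smul]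
  have hC0 : FlatMod.IsFinLocFreeOfRank (n + 1 - 1) (cokernel u0) :=
    StalkMat.rank_cokernel (ConsPropLib.isFinLocFreeOfRank_iff.1 hLrk).1 u0 fun x => by
      obtain ⟨g, w, i₀, hu, hg, hw⟩ := hstalk x
      refine ⟨fun _ : Fin 1 => w, ?_, linearIndependent_unique_iff.2 fun e => ?_⟩
      · rw [Set.range_const]
        refine le_antisymm ?_ (Submodule.span_le.2 ?_)
        · rintro _ ⟨_, ⟨z, rfl⟩, rfl⟩
          obtain ⟨r, rfl⟩ := hg z
          refine Submodule.mem_span_singleton.2 ⟨r, ?_⟩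
          show r • w = StalkMat.coordEquiv x (StalkMat.st x u0 (r • g))
          rw [map_smul, map_smul, hw]
        · rintro _ rfl
          exact ⟨_, ⟨g, rfl⟩, hw⟩
      · exact (hu.map (IsLocalRing.residue _)).ne_zero (congrFun e i₀)
  haveI : Mono (v ≫ S.f) := by rw [hv']; infer_instance
  haveI : Mono v := mono_of_mono v S.f
  obtain ⟨-, p, hp, ⟨eW⟩⟩ := exists_ses hS v
  have hC : FlatMod.IsFinLocFreeOfRank (n + 1 - 1) (cokernel (v ≫ S.f)) :=
    rankOfIso (cokernel.mapIso u0 (v ≫ S.f) (Iso.refl _) eF.symm (by simp [hv'])) hC0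
  haveI := hp
  have hQ : FlatMod.IsFinLocFreeOfRank (n - 1) (cokernel v) := by
    have := rankOfIso eW.symm (StalkMat.rank_kernel p hC hS31)
    rwa [show n + 1 - 1 - 1 = n - 1 by omega] at this
  obtain ⟨eW'⟩ : Nonempty (S.X₁ ≅ CohB1.tensorMod (Omega.sheaf (CohB1.ProjSpace.toSpec n k))
      (Twist.twistProjSpace n k 1)) := cl_eq_iff.1 (by
    rw [cl_eq_iff.2 ⟨eK⟩, cl_tensor, cl_tensor, mul_comm])
  refine ⟨eL.inv ≫ v ≫ eW'.hom, inferInstance, ?_⟩
  exact rankOfIso (cokernel.mapIso v (eL.inv ≫ v ≫ eW'.hom) eL eW' (by simp)) hQ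

end Groth.Agent.Synt29.NullExist
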