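import Mathlib
import Groth.Agent.Synt29.Rank2Pn

/-! Sections of twists of an extension of a twisted ideal by the structure sheaf. -/

set_option autoImplicit false
set_option linter.style.haveILetI false
set_option linter.unusedSectionVars false
set_option backward.isDefEq.respectTransparency false
set_option backward.isDefEq.respectTransparency.types false
set_option maxHeartbeats 1000000

universe u

open CategoryTheory CategoryTheory.Limits AlgebraicGeometry TopologicalSpace Opposite

noncomputable section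

namespace Groth.Agent.Synt29.SerreH0

open Groth.Agent Groth.Agent.H23.PicMul Groth.Agent.Synt29.Rank2Pn

variable {n : ℕ} {k : Type u} [Field k]

local instance : (CohB1.ProjSpace n k).Over (Spec (CommRingCat.of k)) :=
  ⟨CohB1.ProjSpace.toSpec n k⟩

local instance : IsIntegral (CohB1.ProjSpace n k) := H23.PnChart.isIntegral_projSpace n k

local instance : IsLocallyNoetherian (CohB1.ProjSpace n k) :=
  PnCoh.Finite.isLocallyNoetherian_projSpace n k

theorem mono_map_tensor (I : (CohB1.ProjSpace n k).IdealSheafData) {d d' : ℤ}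
    (f : O (n := n) (k := k) d ⟶ O d') [Mono f] :
    Mono ((DCoh.tensorBi.map f).app (ClSub.idealMod I)) := by
  let ι := ClSub.idealModι I
  haveI : Mono ι := inferInstanceAs (Mono (kernel.ι (ClSub.toSubscheme I)))
  have hι : (ShortComplex.mk ι (cokernel.π ι) (cokernel.condition ι)).ShortExact :=
    { exact := ShortComplex.exact_cokernel ι }
  haveI : Mono ((DCoh.tensorBi.obj (O (n := n) (k := k) d)).map ι) :=
    (CurveTensor.shortExact_tensor (H28.KvbModel.lf_of_rank (rank_O d)) _ _ _ hι).mono_f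
  let e := KFlatLib.tensorStructureIso (CohB1.ProjSpace n k)
  haveI : Mono ((DCoh.tensorBi.map f).app (Coh.structureModule (CohB1.ProjSpace n k))) := by
    have h := e.hom.naturality f
    have h' : (DCoh.tensorBi.map f).app (Coh.structureModule (CohB1.ProjSpace n k)) =
        e.hom.app (O d) ≫ f ≫ e.inv.app (O d') := by
      rw [← Category.assoc, ← show _ = e.hom.app (O d) ≫ f from h, Category.assoc, ← NatTrans.comp_app,
        e.hom_inv_id, NatTrans.id_app]
      exact (Category.comp_id _).symm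
    rw [h']
    infer_instance
  have hsq := (DCoh.tensorBi.map f).naturality ι
  haveI : Mono ((DCoh.tensorBi.map f).app (ClSub.idealMod I) ≫ (DCoh.tensorBi.obj (O (n := n) (k := k) d')).map ι) := by
    rw [← hsq]; infer_instance
  exact mono_of_mono _ ((DCoh.tensorBi.obj (O (n := n) (k := k) d')).map ι)

theorem subsingleton_of_le (I : (CohB1.ProjSpace n k).IdealSheafData) {d d' : ℤ} (h : d ≤ d')
    (hs : Subsingleton (Coh.HH (CohB1.ProjSpace n k) (CohB1.tensorMod (ClSub.idealMod I) (O d')) 0)) :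
    Subsingleton (Coh.HH (CohB1.ProjSpace n k) (CohB1.tensorMod (ClSub.idealMod I) (O d)) 0) := by
  obtain ⟨f, hf⟩ := exists_ne_zero (n := n) (k := k) h
  haveI := Rank2.mono_of_ne_zero (rank_O d) (H28.KvbModel.lf_of_rank (rank_O d')) f hf
  haveI := mono_map_tensor I f
  let g := (DCoh.tensorBi.map f).app (ClSub.idealMod I)
  let T : ShortComplex (CohB1.ProjSpace n k).Modules := ShortComplex.mk g (cokernel.π g) (cokernel.condition g)
  have hT : T.ShortExact := { exact := ShortComplex.exact_cokernel g }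
  obtain ⟨e'⟩ := cl_eq_iff.1 ((PnEuler.cl_tens (O d') (ClSub.idealMod I)).trans
    ((mul_comm _ _).trans (cl_tensor (ClSub.idealMod I) (O d')).symm))
  obtain ⟨e⟩ := cl_eq_iff.1 ((PnEuler.cl_tens (O d) (ClSub.idealMod I)).trans
    ((mul_comm _ _).trans (cl_tensor (ClSub.idealMod I) (O d)).symm))
  exact QCoh.subsingleton_HH_of_iso e 0
    (PnHodge.subsingleton_left_zero k hT (QCoh.subsingleton_HH_of_iso e'.symm 0 hs))

theorem iff_h0 (hn : 2 ≤ n) (I : (CohB1.ProjSpace n k).IdealSheafData) (c j : ℤ)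
    (S : ShortComplex (CohB1.ProjSpace n k).Modules) (hS : S.ShortExact)
    (h₁ : Nonempty (S.X₁ ≅ Coh.structureModule (CohB1.ProjSpace n k)))
    (h₃ : Nonempty (S.X₃ ≅ CohB1.tensorMod (ClSub.idealMod I) (O c))) :
    Subsingleton (Coh.HH (CohB1.ProjSpace n k) (CohB1.tensorMod S.X₂ (O j)) 0) ↔
      (j < 0 ∧ ∀ d : ℤ, d ≤ c + j →
        Subsingleton (Coh.HH (CohB1.ProjSpace n k) (CohB1.tensorMod (ClSub.idealMod I) (O d)) 0)) := by
  obtain ⟨e₁⟩ := h₁
  obtain ⟨e₃⟩ := h₃
  have hT := CurveTensor.shortExact_tensor (H28.KvbModel.lf_of_rank (rank_O (n := n) (k := k) j)) S.f S.g S.zero hS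
  obtain ⟨a₁⟩ := cl_eq_iff.1 (show PicF.cl ((DCoh.tensorBi.obj (O (n := n) (k := k) j)).obj S.X₁) = PnEuler.tw n k j by
    rw [PnEuler.cl_tens, (cl_eq_iff.2 ⟨e₁⟩ : PicF.cl S.X₁ = _), ← one_def, mul_one])
  obtain ⟨a₂⟩ := cl_eq_iff.1 ((PnEuler.cl_tens (O j) S.X₂).trans ((mul_comm _ _).trans (cl_tensor S.X₂ (O j)).symm))
  obtain ⟨a₃⟩ := cl_eq_iff.1 (show PicF.cl ((DCoh.tensorBi.obj (O (n := n) (k := k) j)).obj S.X₃) =
      PicF.cl (CohB1.tensorMod (ClSub.idealMod I) (O (c + j))) by
    rw [PnEuler.cl_tens, (cl_eq_iff.2 ⟨e₃⟩ : PicF.cl S.X₃ = _), cl_tensor, cl_tensor, mul_left_comm, PnEuler.tw_add,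
      add_comm c j])
  have hH1 : Subsingleton (Coh.HH (CohB1.ProjSpace n k) ((DCoh.tensorBi.obj (O (n := n) (k := k) j)).obj S.X₁) 1) :=
    QCoh.subsingleton_HH_of_iso a₁.symm 1 (S0844.result k n j 1 (fun h => by omega) (fun h => by omega))
  constructor
  · intro h
    have h2 := QCoh.subsingleton_HH_of_iso a₂.symm 0 h
    refine ⟨?_, fun d hd => subsingleton_of_le I hd ?_⟩
    · by_contra hj
      exact not_subsingleton_line (n := n) (k := k) (by omega)
        (QCoh.subsingleton_HH_of_iso a₁ 0 (PnHodge.subsingleton_left_zero k hT h2))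
    · exact QCoh.subsingleton_HH_of_iso a₃ 0 (PnHodge.subsingleton_right k hT 0 h2 hH1)
  · rintro ⟨hj, h⟩
    exact QCoh.subsingleton_HH_of_iso a₂ 0 (NullCorr.subsingleton_left_zero_of_mid hT
      (QCoh.subsingleton_HH_of_iso a₃.symm 0 (h _ le_rfl))
      (QCoh.subsingleton_HH_of_iso a₁.symm 0 (S0844.result k n j 0 (fun h => by omega) (fun h => by omega))))

end Groth.Agent.Synt29.SerreH0
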