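import Mathlib
import Groth.Agent.S2790
import Groth.Agent.MorLib.SmoothLocus
import Groth.Agent.FibDim.RingLoc
import Groth.Agent.FibDim.LocDim
import Groth.Agent.Synt29.OmegaAffine
import Groth.Agent.QCoh.LocFree

/-!
Smoothness at a point from flatness and differentials generated by as many elements as the fibre dimension.
-/

universe u

open TensorProduct AlgebraicGeometry CategoryTheory KaehlerDifferential

set_option linter.style.haveILetI false

namespace Groth.Agent.Synt29.SmoothFree

/-- Elements whose differentials generate at `q` do so at a point of the fibre over `q`. -/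
theorem span_fiber {R A k F : Type u} [CommRing R] [CommRing A] [Algebra R A] [CommRing k] [CommRing F]
    [Algebra R k] [Algebra k F] [Algebra R F] [IsScalarTower R k F] (inc : A →ₐ[R] F)
    (hinc : Submodule.span k (Set.range inc) = ⊤) (q : Ideal A) [q.IsPrime] (Q : Ideal F) [Q.IsPrime]
    (hQ : q = Q.comap inc.toRingHom)
    {ι : Type*} (v : ι → A)
    (hv : Submodule.span (Localization.AtPrime q)
      (Set.range fun i => KaehlerDifferential.D R (Localization.AtPrime q) (algebraMap A _ (v i))) = ⊤) :
    Submodule.span (Localization.AtPrime Q) (Set.range fun i => KaehlerDifferential.D k (Localization.AtPrime Q)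
      (algebraMap (F) _ (inc (v i)))) = ⊤ := by
  letI : Algebra (Localization.AtPrime q) (Localization.AtPrime Q) :=
    (Localization.localRingHom q Q inc.toRingHom hQ).toAlgebra
  have hST : ∀ x : A, algebraMap (Localization.AtPrime q) (Localization.AtPrime Q) (algebraMap A _ x) =
      algebraMap (F) (Localization.AtPrime Q) (inc x) := fun x =>
    Localization.localRingHom_to_map _ _ _ hQ x
  haveI : IsScalarTower R (Localization.AtPrime q) (Localization.AtPrime Q) := IsScalarTower.of_algebraMap_eq fun r => by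
    rw [IsScalarTower.algebraMap_apply R A (Localization.AtPrime q), hST, AlgHom.commutes,
      ← IsScalarTower.algebraMap_apply R (F) (Localization.AtPrime Q)]
  let m := KaehlerDifferential.map R k (Localization.AtPrime q) (Localization.AtPrime Q)
  have hm : ∀ x : A, m (KaehlerDifferential.D R _ (algebraMap A _ x)) =
      KaehlerDifferential.D k (Localization.AtPrime Q) (algebraMap (F) _ (inc x)) := fun x => by
    rw [KaehlerDifferential.map_D, hST]
  set W := Submodule.span (Localization.AtPrime Q) (Set.range fun i => KaehlerDifferential.D k (Localization.AtPrime Q)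
      (algebraMap (F) _ (inc (v i)))) with hW
  have hD : ∀ x : A, KaehlerDifferential.D k (Localization.AtPrime Q) (algebraMap (F) _ (inc x)) ∈ W := by
    intro x
    rw [← hm]
    have h1 : KaehlerDifferential.D R (Localization.AtPrime q) (algebraMap A _ x) ∈ Submodule.comap m
        (W.restrictScalars (Localization.AtPrime q)) := by
      refine (Submodule.span_le.2 ?_) (hv.ge Submodule.mem_top)
      rintro _ ⟨i, rfl⟩
      show m _ ∈ W
      rw [hm]
      exact Submodule.subset_span ⟨i, rfl⟩
    exact h1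
  rw [eq_top_iff, ← KaehlerDifferential.span_range_map_derivation_of_isLocalization k (F)
    (Localization.AtPrime Q) Q.primeCompl, Submodule.span_le]
  rintro _ ⟨y, rfl⟩
  simp only [Function.comp_apply, SetLike.mem_coe]
  rw [KaehlerDifferential.map_D]
  have hy : y ∈ Submodule.span k (Set.range inc) := hinc ▸ Submodule.mem_top
  induction hy using Submodule.span_induction with
  | mem z hz =>
    obtain ⟨x, rfl⟩ := hz
    exact hD x
  | zero => simp
  | add y z _ _ hy hz => rw [map_add, map_add]; exact Submodule.add_mem _ hy hz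
  | smul r y _ hy =>
    have : algebraMap F (Localization.AtPrime Q) (r • y) = r • algebraMap F _ y := by
      rw [Algebra.smul_def, map_mul, ← IsScalarTower.algebraMap_apply, ← Algebra.smul_def]
    rw [this, Derivation.map_smul, ← algebraMap_smul (Localization.AtPrime Q) r]
    exact Submodule.smul_mem _ _ hy

theorem isSmoothAt_fiber_of_free (R A : Type u) [CommRing R] [CommRing A] [Algebra R A] [Algebra.FinitePresentation R A]
    (q : PrimeSpectrum A) (n : ℕ) (b : Module.Basis (ULift.{u} (Fin n)) A Ω[A⁄R])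
    (hn : FlatMor.fibreDimAt (Spec.map (CommRingCat.ofHom (algebraMap R A))) q = (n : WithBot ℕ∞))
    :
    ∃ (Q : PrimeSpectrum ((q.asIdeal.under R).Fiber A)),
      Q.asIdeal.comap (Algebra.TensorProduct.includeRight : A →ₐ[R] _).toRingHom = q.asIdeal ∧
        Algebra.IsSmoothAt (q.asIdeal.under R).ResidueField Q.asIdeal := by
  let p := q.asIdeal.under R
  let κ := p.ResidueField
  obtain ⟨Q, hQ⟩ := Groth.Agent.FibDim.exists_fiber_point (A := R) q
  let F := p.Fiber A
  let inc : A →ₐ[R] F := Algebra.TensorProduct.includeRight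
  have hQ' : q.asIdeal = Q.asIdeal.comap inc.toRingHom := hQ.symm
  let S := Localization.AtPrime q.asIdeal
  -- coordinates
  have hbase : IsBaseChange S (KaehlerDifferential.map R R A S) :=
    IsLocalizedModule.isBaseChange q.asIdeal.primeCompl S _
  let bS : Module.Basis (ULift.{u} (Fin n)) S Ω[S⁄R] := (b.baseChange S).map hbase.equiv
  haveI : Module.Free S Ω[S⁄R] := Module.Free.of_basis bS
  haveI : Module.Finite S Ω[S⁄R] := Module.Finite.of_basis bS
  haveI : Module.FinitePresentation S Ω[S⁄R] := Module.finitePresentation_of_projective S _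
  obtain ⟨κ', a, c, hc⟩ := Module.exists_basis_of_span_of_flat _
    (KaehlerDifferential.span_range_map_derivation_of_isLocalization R A S q.asIdeal.primeCompl)
  let e : κ' ≃ Fin n := (c.indexEquiv bS).trans Equiv.ulift
  haveI : Fintype κ' := Fintype.ofEquiv _ e.symm
  let v : Fin n → F := fun i => inc (a (e.symm i))
  letI algP : Algebra (MvPolynomial (Fin n) κ) F := (MvPolynomial.aeval (R := κ) v).toRingHom.toAlgebra
  haveI : IsScalarTower κ (MvPolynomial (Fin n) κ) F :=
    .of_algebraMap_eq' (MvPolynomial.aeval (R := κ) v).comp_algebraMap.symm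
  have hloc : FlatMor.localDim (PrimeSpectrum F) ⟨Q.asIdeal, Q.isPrime⟩ = (n : WithBot ℕ∞) :=
    (Groth.Agent.FibDim.localDim_fiber_eq_fibreDimAt q Q hQ).trans hn
  haveI : Algebra.FiniteType κ F := inferInstanceAs (Algebra.FiniteType κ (κ ⊗[R] A))
  have het : Algebra.IsEtaleAt (MvPolynomial (Fin n) κ) Q.asIdeal := by
    refine (Groth.Agent.S2790.result κ F n Q.asIdeal hloc).2 ?_
    have h := span_fiber (k := κ) inc (by
      rw [eq_top_iff]
      intro y _
      induction y using TensorProduct.induction_on with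
      | zero => exact Submodule.zero_mem _
      | add y z hy hz => exact Submodule.add_mem _ (hy trivial) (hz trivial)
      | tmul r x =>
        rw [show (r ⊗ₜ[R] x : F) = r • inc x by
          show r ⊗ₜ[R] x = r • ((1 : κ) ⊗ₜ[R] x)
          rw [TensorProduct.smul_tmul', smul_eq_mul, mul_one]]
        exact Submodule.smul_mem _ _ (Submodule.subset_span ⟨x, rfl⟩)) q.asIdeal Q.asIdeal hQ' (fun i => a (e.symm i)) (by
      rw [← c.span_eq]
      refine congrArg _ ?_
      rw [← e.symm.surjective.range_comp c]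
      refine congrArg _ (funext fun i => ?_)
      rw [Function.comp_apply, hc, Function.comp_apply]
      erw [KaehlerDifferential.map_D])
    refine Eq.trans (congrArg _ (congrArg _ (funext fun i => ?_))) h
    show KaehlerDifferential.D κ _ (algebraMap F _ (MvPolynomial.aeval v (MvPolynomial.X i))) = _
    rw [MvPolynomial.aeval_X]
  have hsm : Algebra.IsSmoothAt κ Q.asIdeal := by
    haveI : Algebra.FormallyEtale (MvPolynomial (Fin n) κ) (Localization.AtPrime Q.asIdeal) := het
    exact Algebra.FormallySmooth.comp κ (MvPolynomial (Fin n) κ) (Localization.AtPrime Q.asIdeal)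
  exact ⟨Q, hQ, hsm⟩

theorem isSmoothAt_of_free (R A : Type u) [CommRing R] [CommRing A] [Algebra R A] [Algebra.FinitePresentation R A]
    (q : PrimeSpectrum A) (n : ℕ) (b : Module.Basis (ULift.{u} (Fin n)) A Ω[A⁄R])
    (hn : FlatMor.fibreDimAt (Spec.map (CommRingCat.ofHom (algebraMap R A))) q = (n : WithBot ℕ∞))
    (hflat : ((Spec.map (CommRingCat.ofHom (algebraMap R A))).stalkMap q).hom.Flat) :
    Algebra.IsSmoothAt R q.asIdeal := by
  obtain ⟨Q, hQ, hsm⟩ := isSmoothAt_fiber_of_free R A q n b hn
  exact Groth.Agent.MorLib.SmoothAlg.isSmoothAt_of_fiber (q.asIdeal.under R) q.asIdeal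
    (Groth.Agent.MorLib.SmoothLoc.flat_Spec_stalk q hflat) Q.asIdeal hQ hsm

/-- The scheme form: flat, differentials free of rank the fibre dimension. -/
theorem mem_smoothLocus_of_free {X Y : Scheme.{u}} (f : X ⟶ Y) [LocallyOfFinitePresentation f]
    (Ω' : X.Modules) (d : OmegaSh.Der f Ω') (hd : OmegaSh.IsUniversal d) (x : X)
    (hflat : (f.stalkMap x).hom.Flat) (U : X.Opens) (n : ℕ) (hxU : x ∈ U)
    (e : Ω'.restrict U.ι ≅ FlatMod.freeMod (U : Scheme.{u}) n)
    (hdim : FlatMor.fibreDimAt f x = (n : WithBot ℕ∞)) : x ∈ f.smoothLocus := by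
  obtain ⟨_, ⟨V, hV, rfl⟩, hxV, -⟩ :=
    Y.isBasis_affineOpens.exists_subset_of_mem_open (Set.mem_univ (f x)) isOpen_univ
  obtain ⟨_, ⟨W, hW, rfl⟩, hxW, hWle⟩ :=
    X.isBasis_affineOpens.exists_subset_of_mem_open (show x ∈ U ⊓ f ⁻¹ᵁ V from ⟨hxU, hxV⟩) (U ⊓ f ⁻¹ᵁ V).2
  have hWV : W ≤ f ⁻¹ᵁ V := fun z hz => (hWle hz).2
  letI := (f.appLE V W hWV).hom.toAlgebra
  haveI : Algebra.FinitePresentation Γ(Y, V) Γ(X, W) := f.finitePresentation_appLE hV hW hWV
  obtain ⟨l⟩ := Groth.Agent.QCoh.free_sections hW (fun z hz => (hWle hz).1) e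
  obtain ⟨l'⟩ := Groth.Agent.Synt29.OmegaStalk.exists_linearEquiv_sections hd hW hV hWV
  let q := hW.primeIdealOf ⟨x, hxW⟩
  have hq : hW.fromSpec q = x := hW.fromSpec_primeIdealOf ⟨x, hxW⟩
  have hcomp : hW.fromSpec ≫ f = Spec.map (CommRingCat.ofHom (algebraMap Γ(Y, V) Γ(X, W))) ≫ hV.fromSpec :=
    (hV.SpecMap_appLE_fromSpec f hW hWV).symm
  haveI : LocallyOfFiniteType (Spec.map (CommRingCat.ofHom (algebraMap Γ(Y, V) Γ(X, W)))) :=
    (HasRingHomProperty.Spec_iff (P := @LocallyOfFiniteType)).2 (RingHom.finiteType_algebraMap.2 inferInstance)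
  have hn : FlatMor.fibreDimAt (Spec.map (CommRingCat.ofHom (algebraMap Γ(Y, V) Γ(X, W)))) q = (n : WithBot ℕ∞) := by
    rw [← Groth.Agent.FibDim.fibreDimAt_comp_mono (Spec.map (CommRingCat.ofHom (algebraMap Γ(Y, V) Γ(X, W)))) hV.fromSpec q,
      ← hcomp, Groth.Agent.FibDim.fibreDimAt_openImmersion_comp hW.fromSpec f q, hq, hdim]
  have hfl : ((Spec.map (CommRingCat.ofHom (algebraMap Γ(Y, V) Γ(X, W)))).stalkMap q).hom.Flat := by
    have h0 : ((hW.fromSpec ≫ f).stalkMap q).hom.Flat := by
      rw [Scheme.Hom.stalkMap_comp]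
      refine (RingHom.Flat.respectsIso.cancel_right_isIso _ _).mpr ?_
      rw [← hq] at hflat
      exact hflat
    rw [hcomp, Scheme.Hom.stalkMap_comp] at h0
    exact (RingHom.Flat.respectsIso.cancel_left_isIso _ _).mp h0
  have h := isSmoothAt_of_free Γ(Y, V) Γ(X, W) q n (Module.Basis.ofRepr (l'.symm.trans l)) hn hfl
  exact (formallySmooth_stalkMap_iff V hV W hW hWV hxW).2 h

end Groth.Agent.Synt29.SmoothFree
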