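import Groth.Agent.Synt29.BlowPtsMulti
import Groth.Agent.H23.PnChart
import Groth.Agent.RegBlow6.Geometry
import Groth.Agent.PointBlow.Main
import Groth.Agent.PointBlow.Basic
import Mathlib.RingTheory.Nullstellensatz

/-!
A form of degree less than `b` cannot vanish to order `b` along the exceptional divisor: it would
restrict to zero on the `b - 1`-st neighbourhood of the point in every line through it.
-/

set_option linter.style.haveILetI false
set_option linter.unusedSectionVars false
set_option backward.isDefEq.respectTransparency false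
set_option backward.isDefEq.respectTransparency.types false
set_option maxHeartbeats 400000

universe u

open CategoryTheory CategoryTheory.Limits AlgebraicGeometry TopologicalSpace Opposite
open HomogeneousLocalization (Away)

noncomputable section

namespace Groth.Agent.Synt29.BlowForms

open Groth.Agent Groth.Agent.ZetaLib

variable {n : ℕ} {k : Type u} [Field k]

local notation "𝒜" => CohB1.polyGrading n k
local notation "T" => (MvPolynomial.X : Fin (n + 1) → MvPolynomial (Fin (n + 1)) k)

theorem eval_smul {d : ℕ} {g : MvPolynomial (Fin (n + 1)) k} (hg : g.IsHomogeneous d) (c : k)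
    (z : Fin (n + 1) → k) :
    MvPolynomial.eval (fun i => c * z i) g = c ^ d * MvPolynomial.eval z g := by
  rw [MvPolynomial.eval_eq, MvPolynomial.eval_eq, Finset.mul_sum]
  refine Finset.sum_congr rfl fun m hm => ?_
  have hd : ∑ i ∈ m.support, m i = d := by
    rw [← hg (MvPolynomial.mem_support_iff.1 hm)]
    simp [Finsupp.weight_apply, Finsupp.sum]
  simp only [mul_pow, Finset.prod_mul_distrib, Finset.prod_pow_eq_pow_sum, hd]
  ring

/-- The line through `a` in the direction `w`. -/
def line (a w : Fin (n + 1) → k) : Fin (n + 1) → Polynomial k :=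
  fun j => Polynomial.C (a j) + Polynomial.C (w j) * Polynomial.X

theorem eval_line (a w : Fin (n + 1) → k) (F : MvPolynomial (Fin (n + 1)) k) (s : k) :
    (MvPolynomial.aeval (line a w) F).eval s = MvPolynomial.eval (fun j => a j + w j * s) F := by
  induction F using MvPolynomial.induction_on with
  | C c => simp
  | add p q hp hq => simp [hp, hq]
  | mul_X p j hp => simp [hp, line]

/-- A form vanishing on all lines through a point vanishes. -/
theorem eq_zero_of_lines [Infinite k] (hn : 1 ≤ n) {c : ℕ} {F : MvPolynomial (Fin (n + 1)) k}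
    (hF : F.IsHomogeneous c) (i : Fin (n + 1)) (a : Fin (n + 1) → k) (hai : a i = 1)
    (h : ∀ w : Fin (n + 1) → k, w i = 0 → w ≠ 0 → MvPolynomial.aeval (line a w) F = 0) : F = 0 := by
  classical
  have key : T i * F = 0 := by
    refine MvPolynomial.funext fun x => ?_
    rw [map_mul, map_zero, MvPolynomial.eval_X]
    rcases eq_or_ne (x i) 0 with hxi | hxi
    · rw [hxi, zero_mul]
    let y : Fin (n + 1) → k := fun j => (x i)⁻¹ * x j
    let w : Fin (n + 1) → k := fun j => y j - a j
    have hy : MvPolynomial.eval y F = 0 := by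
      by_cases hw : w = 0
      · obtain ⟨j, hj⟩ : ∃ j : Fin (n + 1), j ≠ i := by
          haveI : Nontrivial (Fin (n + 1)) := Fin.nontrivial_iff_two_le.2 (by omega)
          exact exists_ne i
        have h0 := eval_line a (Pi.single j (1 : k)) F 0
        rw [h _ (Pi.single_eq_of_ne hj.symm (1 : k)) (fun h' => (one_ne_zero : (1 : k) ≠ 0)
          (by simpa using congrFun h' j)), Polynomial.eval_zero] at h0
        have hya : y = a := funext fun l => sub_eq_zero.1 (congrFun hw l)
        simpa [hya] using h0.symm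
      · have h1 := eval_line a w F 1
        rw [h w (by simp [w, y, hai, hxi]) hw, Polynomial.eval_zero] at h1
        simpa [w] using h1.symm
    have : x = fun j => x i * y j := funext fun j => by simp [y, hxi]
    rw [this, eval_smul hF, hy, mul_zero, mul_zero]
  exact (mul_eq_zero.1 key).resolve_left (MvPolynomial.X_ne_zero i)

/-- The line as a map of coordinate rings. -/
def lineHom (i : Fin (n + 1)) (a w : Fin (n + 1) → k) : Away 𝒜 (T i) →+* Polynomial k :=
  (MvPolynomial.aeval fun l : H23.PnChart.Idx.{u} n i => line a w l.down.1).toRingHom.comp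
    (RingEquiv.ofBijective (H23.PnChart.fromChart n k i)
      ⟨H23.PnChart.fromChart_injective n k i, H23.PnChart.fromChart_surjective n k i⟩).symm.toRingHom

theorem lineHom_fromChart (i : Fin (n + 1)) (a w : Fin (n + 1) → k) (x : MvPolynomial (H23.PnChart.Idx.{u} n i) k) :
    lineHom i a w (H23.PnChart.fromChart n k i x) =
      MvPolynomial.aeval (fun l : H23.PnChart.Idx.{u} n i => line a w l.down.1) x := by
  show MvPolynomial.aeval _ ((RingEquiv.ofBijective (H23.PnChart.fromChart n k i) _).symm
    (H23.PnChart.fromChart n k i x)) = _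
  rw [show H23.PnChart.fromChart n k i x = RingEquiv.ofBijective (H23.PnChart.fromChart n k i)
    ⟨H23.PnChart.fromChart_injective n k i, H23.PnChart.fromChart_surjective n k i⟩ x from rfl,
    RingEquiv.symm_apply_apply]

theorem lineHom_base (i : Fin (n + 1)) (a w : Fin (n + 1) → k) (c : k) :
    lineHom i a w (base n k i c) = Polynomial.C c := by
  have h : base n k i c = H23.PnChart.fromChart n k i (MvPolynomial.C c) := by
    simp [H23.PnChart.fromChart]
  rw [h, lineHom_fromChart]
  simp

theorem lineHom_coord (i : Fin (n + 1)) (a w : Fin (n + 1) → k) (hai : a i = 1) (hwi : w i = 0)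
    (j : Fin (n + 1)) : lineHom i a w (coord n k i j) = line a w j := by
  rcases eq_or_ne j i with rfl | hj
  · rw [H23.PnChart.coord_self, map_one]
    simp [line, hai, hwi]
  · have h : coord n k i j = H23.PnChart.fromChart n k i (MvPolynomial.X (ULift.up ⟨j, hj⟩)) := by
      simp [H23.PnChart.fromChart]
    rw [h, lineHom_fromChart]
    simp

theorem lineHom_dehom (i : Fin (n + 1)) (a w : Fin (n + 1) → k) (hai : a i = 1) (hwi : w i = 0)
    (F : MvPolynomial (Fin (n + 1)) k) :
    lineHom i a w (dehom n k i F) = MvPolynomial.aeval (line a w) F := by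
  refine RingHom.congr_fun (f := (lineHom i a w).comp (dehom n k i))
    (g := (MvPolynomial.aeval (line a w)).toRingHom) (MvPolynomial.ringHom_ext (fun c => ?_) fun j => ?_) F
  · simp [dehom, lineHom_base]
  · simp [dehom, lineHom_coord i a w hai hwi]

/-- A closed point of a chart: its ideal goes to the ideal of the origin on every line through it. -/
theorem exists_point [IsAlgClosed k] (i : Fin (n + 1)) (M : Ideal (Away 𝒜 (T i))) [M.IsMaximal] :
    ∃ a : Fin (n + 1) → k, a i = 1 ∧ ∀ w : Fin (n + 1) → k, w i = 0 → w ≠ 0 →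
      M.map (lineHom i a w) = Ideal.span {Polynomial.X} := by
  let e : MvPolynomial (H23.PnChart.Idx.{u} n i) k →+* Away 𝒜 (T i) := H23.PnChart.fromChart n k i
  have hes : Function.Surjective e := H23.PnChart.fromChart_surjective n k i
  haveI : (M.comap e).IsMaximal := Ideal.comap_isMaximal_of_surjective e hes
  obtain ⟨x, hx⟩ := MvPolynomial.isMaximal_iff_eq_vanishingIdeal_singleton.1 (this : (M.comap e).IsMaximal)
  let a : Fin (n + 1) → k := fun j => if h : j = i then 1 else x (ULift.up ⟨j, h⟩)
  refine ⟨a, by simp [a], fun w hwi hw => le_antisymm ?_ ?_⟩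
  · refine Ideal.map_le_iff_le_comap.2 fun m hm => ?_
    obtain ⟨q, rfl⟩ := hes m
    rw [Ideal.mem_comap, Ideal.mem_span_singleton, Polynomial.X_dvd_iff, lineHom_fromChart,
      Polynomial.coeff_zero_eq_eval_zero]
    have hq : q ∈ M.comap e := hm
    rw [hx, MvPolynomial.mem_vanishingIdeal_singleton_iff] at hq
    refine Eq.trans ?_ hq
    rw [← Polynomial.coe_aeval_eq_eval, MvPolynomial.comp_aeval_apply]
    congr 2
    refine funext fun l => ?_
    simp [line, a, l.down.2]
  · obtain ⟨j, hj⟩ := Function.ne_iff.1 hw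
    have hji : j ≠ i := fun h => hj (by rw [h, hwi]; rfl)
    rw [Ideal.span_singleton_le_iff_mem]
    have h1 : MvPolynomial.X (ULift.up ⟨j, hji⟩) - MvPolynomial.C (a j) ∈ M.comap e := by
      rw [hx, MvPolynomial.mem_vanishingIdeal_singleton_iff]
      simp [a, hji]
    have h2 := Ideal.mem_map_of_mem (lineHom i a w) (Ideal.mem_comap.1 h1)
    rw [lineHom_fromChart, map_sub, MvPolynomial.aeval_X, MvPolynomial.aeval_C] at h2
    have h3 : line a w j - algebraMap k (Polynomial k) (a j) = Polynomial.C (w j) * Polynomial.X := by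
      simp [line]
    rw [h3] at h2
    have h4 := Ideal.mul_mem_left (M.map (lineHom i a w)) (Polynomial.C (w j)⁻¹) h2
    rwa [← mul_assoc, ← Polynomial.C_mul, inv_mul_cancel₀ (by simpa using hj), Polynomial.C_1, one_mul] at h4

/-- The centre of a nonzero element of a domain is an effective Cartier divisor. -/
theorem isEff_centre {R : Type u} [CommRing R] [IsDomain R] {f : R} (hf : f ≠ 0) :
    BlowUp.IsEffCartierIdeal (BlowUpLib.centre (Ideal.span {f})) := by
  intro x
  refine ⟨⟨⊤, isAffineOpen_top _⟩, trivial, (Scheme.ΓSpecIso (CommRingCat.of R)).inv.hom f, ?_, ?_⟩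
  · let e : Γ(Spec (CommRingCat.of R), ⊤) ≃+* R :=
      (Scheme.ΓSpecIso (CommRingCat.of R)).commRingCatIsoToRingEquiv
    refine mem_nonZeroDivisors_of_injective (f := e) e.injective ?_
    refine mem_nonZeroDivisors_of_ne_zero ?_
    show (Scheme.ΓSpecIso (CommRingCat.of R)).hom.hom ((Scheme.ΓSpecIso (CommRingCat.of R)).inv.hom f) ≠ 0
    rwa [Iso.inv_hom_id_apply]
  · rw [BlowUpLib.centre_top, Ideal.map_span, Set.image_singleton]

variable {X : Scheme.{u}} {π : X ⟶ CohB1.ProjSpace n k} {p : ↥(CohB1.ProjSpace n k)}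
  (hp : IsClosed ({p} : Set ↥(CohB1.ProjSpace n k)))

/-- Restriction of forms to a closed subscheme lying in a chart. -/
def resHom {Z : Scheme.{u}} {i : Fin (n + 1)} (δ : Z ⟶ Spec (CommRingCat.of (Away 𝒜 (T i)))) :
    Away 𝒜 (T i) →+* Γ(Z, ⊤) :=
  δ.appTop.hom.comp (Scheme.ΓSpecIso (CommRingCat.of (Away 𝒜 (T i)))).inv.hom

theorem forms_injective [IsAlgClosed k] (hn : 1 ≤ n)
    (hπ : BlowUp.IsBlowUp π (Scheme.IdealSheafData.vanishingIdeal ⟨{p}, hp⟩))
    {b c : ℕ} (hcb : c < b) (i : Fin (n + 1))
    (hpi : p ∈ Set.range (chart n k i))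
    (δ : ((BlowUp.exceptional π (Scheme.IdealSheafData.vanishingIdeal ⟨{p}, hp⟩)) ^ b).subscheme ⟶
      Spec (CommRingCat.of (Away 𝒜 (T i))))
    (hδ : δ ≫ chart n k i =
      ((BlowUp.exceptional π (Scheme.IdealSheafData.vanishingIdeal ⟨{p}, hp⟩)) ^ b).subschemeι ≫ π)
    {F : MvPolynomial (Fin (n + 1)) k} (hF : F.IsHomogeneous c)
    (hres : resHom δ (dehom n k i F) = 0) : F = 0 := by
  obtain ⟨y, hy⟩ := hpi
  let J := Scheme.IdealSheafData.vanishingIdeal (⟨{p}, hp⟩ : Closeds ↥(CohB1.ProjSpace n k))
  let I := BlowUp.exceptional π J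
  let M : Ideal (Away 𝒜 (T i)) := y.asIdeal
  have hyc : IsClosed ({y} : Set (Spec (CommRingCat.of (Away 𝒜 (T i))))) := by
    have h1 : ({y} : Set _) = chart n k i ⁻¹' {p} := Set.ext fun z => by
      simp [← hy, (chart n k i).isOpenEmbedding.injective.eq_iff]
    rw [h1]
    exact hp.preimage (chart n k i).continuous
  haveI : M.IsMaximal := (PrimeSpectrum.isClosed_singleton_iff_isMaximal y).1 hyc
  have hJ : J.comap (chart n k i) = BlowUpLib.centre M := by
    rw [BlowPts.comap_vanishing_open]
    refine Scheme.IdealSheafData.ext_of_isAffine ?_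
    rw [BlowUpLib.centre_top, Scheme.IdealSheafData.vanishingIdeal_ideal]
    let e : Γ(Spec (CommRingCat.of (Away 𝒜 (T i))), ⊤) ≃+* Away 𝒜 (T i) :=
      (Scheme.ΓSpecIso (CommRingCat.of (Away 𝒜 (T i)))).commRingCatIsoToRingEquiv
    ext r
    rw [PrimeSpectrum.mem_vanishingIdeal]
    have hm : M.map (Scheme.ΓSpecIso (CommRingCat.of (Away 𝒜 (T i)))).inv.hom = M.comap e.toRingHom :=
      Ideal.map_comap_of_equiv e.symm
    rw [hm, Ideal.mem_comap]
    have key : ∀ q, (isAffineOpen_top (Spec (CommRingCat.of (Away 𝒜 (T i))))).fromSpec q =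
        PrimeSpectrum.comap e.symm.toRingHom q := fun q => by
      rw [IsAffineOpen.fromSpec_top, Scheme.isoSpec_Spec_inv]
      rfl
    constructor
    · intro h
      have := h (PrimeSpectrum.comap e.toRingHom y) (by
        show chart n k i ((isAffineOpen_top _).fromSpec _) = p
        rw [key]
        exact (congrArg _ (PrimeSpectrum.ext (Ideal.ext fun z => (show e.toRingHom (e.symm z) ∈ y.asIdeal ↔ _ by simp)))).trans hy)
      exact this
    · intro h q hq
      have h1 : PrimeSpectrum.comap e.symm.toRingHom q = y := by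
        rw [← key]
        exact (chart n k i).isOpenEmbedding.injective (Eq.trans hq hy.symm)
      have h2 : e.toRingHom r ∈ (PrimeSpectrum.comap e.symm.toRingHom q).asIdeal := h1 ▸ h
      simpa using h2
  obtain ⟨a, hai, hM⟩ := exists_point i M
  haveI : Infinite k := IsAlgClosed.instInfinite
  refine eq_zero_of_lines hn hF i a hai fun w hwi hw => ?_
  let γ : Spec (CommRingCat.of (Polynomial k)) ⟶ CohB1.ProjSpace n k :=
    Spec.map (CommRingCat.ofHom (lineHom i a w)) ≫ chart n k i
  have hγ : J.comap γ = BlowUpLib.centre (Ideal.span {(Polynomial.X : Polynomial k)}) := by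
    rw [Scheme.IdealSheafData.comap_comp, hJ, RegBlow6.comap_centre_specMap, hM w hwi hw]
  obtain ⟨γ', hγ', -⟩ := hπ.2 _ γ (by rw [hγ]; exact isEff_centre Polynomial.X_ne_zero)
  let q := Ideal.Quotient.mk (Ideal.span {(Polynomial.X : Polynomial k) ^ b})
  have hle : (I ^ b).subschemeι.ker ≤ (Spec.map (CommRingCat.ofHom q) ≫ γ').ker := by
    rw [Scheme.IdealSheafData.ker_subschemeι, ← Scheme.IdealSheafData.map_ker,
      Scheme.IdealSheafData.le_map_iff_comap_le, RegBlow6.ker_specMk, PointBlow.comap_pow,
      show I.comap γ' = J.comap γ by rw [← hγ', Scheme.IdealSheafData.comap_comp], hγ,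
      PointBlow.centre_pow (R := CommRingCat.of (Polynomial k)), Ideal.span_singleton_pow]
  let h := IsClosedImmersion.lift (I ^ b).subschemeι _ hle
  have hh : h ≫ (I ^ b).subschemeι = Spec.map (CommRingCat.ofHom q) ≫ γ' :=
    IsClosedImmersion.lift_fac _ _ _
  have hfac : h ≫ δ = Spec.map (CommRingCat.ofHom (q.comp (lineHom i a w))) := by
    rw [← cancel_mono (chart n k i), Category.assoc, hδ, reassoc_of% hh, hγ',
      CommRingCat.ofHom_comp, Spec.map_comp, Category.assoc]
  have hzero : (h ≫ δ).appTop.hom ((Scheme.ΓSpecIso (CommRingCat.of (Away 𝒜 (T i)))).inv.hom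
      (dehom n k i F)) = 0 := by
    rw [Scheme.Hom.comp_appTop]
    show h.appTop.hom (resHom δ (dehom n k i F)) = 0
    rw [hres, map_zero]
  rw [hfac] at hzero
  have hnat := congr(($(Scheme.ΓSpecIso_inv_naturality
    (CommRingCat.ofHom (q.comp (lineHom i a w))))).hom (dehom n k i F))
  have hq0 : q (lineHom i a w (dehom n k i F)) = 0 := by
    refine (Scheme.ΓSpecIso (CommRingCat.of (Polynomial k ⧸ Ideal.span {(Polynomial.X : Polynomial k) ^ b}))
      ).commRingCatIsoToRingEquiv.symm.injective ?_
    rw [map_zero]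
    exact hnat.trans hzero
  rw [Ideal.Quotient.eq_zero_iff_mem, Ideal.mem_span_singleton, lineHom_dehom i a w hai hwi] at hq0
  by_contra hne
  have h1 := Polynomial.natDegree_le_of_dvd hq0 hne
  rw [Polynomial.natDegree_X_pow] at h1
  have h2 : (MvPolynomial.aeval (line a w) F).natDegree ≤ c * 1 :=
    MvPolynomial.aeval_natDegree_le F hF.totalDegree_le _ fun j => by
      simp only [line]
      exact (Polynomial.natDegree_add_le _ _).trans (max_le (by simp)
        ((Polynomial.natDegree_C_mul_le _ _).trans (by simp)))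
  omega

end Groth.Agent.Synt29.BlowForms

end
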