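import Groth.Agent.Synt29.BlowPtACM
import Groth.Agent.Synt29.BlowForms
import Groth.Agent.Lib.EulerOneDeg
import Groth.Agent.CurveCohLib.Proper
import Groth.Agent.CurveCohLib.Rank
import Groth.Agent.GeomField.GlobalFunctions
import Groth.Agent.PnCoh.PushNat
import Groth.Agent.S12640
import Groth.Agent.S18464

/-!
The plane blown up at a point: cohomology and Euler characteristics of `aH - bE`.
-/

set_option linter.style.haveILetI false
set_option linter.unusedSectionVars false
set_option backward.isDefEq.respectTransparency false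
set_option backward.isDefEq.respectTransparency.types false
set_option maxHeartbeats 800000

universe u

open CategoryTheory CategoryTheory.Limits AlgebraicGeometry TopologicalSpace Opposite

noncomputable section

namespace Groth.Agent.Synt29.PlaneBlow

open Groth.Agent Groth.Agent.H23.PicMul Groth.Agent.H28 Groth.Agent.Synt29.BlowPts

variable {k : Type u} [Field k] {p : ↥(CohB1.ProjSpace 2 k)} (hp : IsClosed ({p} : Set ↥(CohB1.ProjSpace 2 k)))
  {X : Scheme.{u}} (π : X ⟶ CohB1.ProjSpace 2 k)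

/-- The multiples of the exceptional line. -/
abbrev Ib (b : ℕ) : X.IdealSheafData :=
  (BlowUp.exceptional π (Scheme.IdealSheafData.vanishingIdeal ⟨{p}, hp⟩)) ^ b

/-- `aH - bE`. -/
abbrev Lb (a : ℤ) (b : ℕ) : X.Modules := CohB1.tensorMod (pO π a) (ClSub.idealMod (Ib hp π b))

variable {π} (hπ : BlowUp.IsBlowUp π (Scheme.IdealSheafData.vanishingIdeal ⟨{p}, hp⟩))

include hπ in
theorem isInvertible_Ib (b : ℕ) : PicF.IsInvertible (ClSub.idealMod (Ib hp π b)) :=
  isInvertible_of_iso (exists_iso_pow hp hπ b).some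
    (InvX.isInvertible_tensorPow (H26.IdealCl.isInvertible_idealMod hπ.1) b)

include hπ in
theorem isInvertible_Lb (a : ℤ) (b : ℕ) : PicF.IsInvertible (Lb hp π a b) :=
  InvX.isInvertible_tensorMod (PicClLib.isInvertible_pullback π (isInvertible_twist a)) (isInvertible_Ib hp hπ b)

include hπ in
theorem nonempty_Lb_zero (a : ℤ) : Nonempty (Lb hp π a 0 ≅ pO π a) :=
  ⟨(DCoh.tensorBi.obj (pO π a)).mapIso (exists_iso_pow hp hπ 0).some.symm ≪≫ (H23.PicMul.unit (pO π a)).some⟩

theorem over_pt {b : ℕ} (hb : 1 ≤ b) (z : (Ib hp π b).subscheme) : π ((Ib hp π b).subschemeι z) = p := by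
  have hz : (Ib hp π b).subschemeι z ∈ Set.range (Ib hp π b).subschemeι := ⟨z, rfl⟩
  rw [Scheme.IdealSheafData.range_subschemeι] at hz
  obtain ⟨b', rfl⟩ : ∃ b', b = b' + 1 := ⟨b - 1, by omega⟩
  have h1 := support_pow_le _ b' hz
  rw [Scheme.IdealSheafData.support_comap] at h1
  have h2 : π ((Ib hp π (b' + 1)).subschemeι z) ∈
      ((Scheme.IdealSheafData.vanishingIdeal (⟨{p}, hp⟩ : Closeds ↥(CohB1.ProjSpace 2 k))).support : Set _) := h1
  rw [Scheme.IdealSheafData.coe_support_vanishingIdeal] at h2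
  exact h2

/-- On a thickening of the exceptional line every `π^*O(a)` is trivial. -/
theorem pull_triv {b : ℕ} (hb : 1 ≤ b) (a : ℤ) :
    Nonempty ((Scheme.Modules.pullback (Ib hp π b).subschemeι).obj (pO π a) ≅
      Coh.structureModule (Ib hp π b).subscheme) := by
  obtain ⟨V, hpV, e, he⟩ := InvX.exists_frame (isInvertible_twist (n := 2) (k := k) a) p
  obtain ⟨eV⟩ := InvX.nonempty_iso_of_isFrame he
  let g := (Ib hp π b).subschemeι ≫ π
  have hg : Set.range g ⊆ Set.range V.ι := by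
    rintro _ ⟨z, rfl⟩
    rw [Scheme.Opens.range_ι, show g z = p from over_pt hp hb z]
    exact hpV
  let l := IsOpenImmersion.lift V.ι g hg
  obtain ⟨e₀⟩ := PicClLib.nonempty_pullback_structureModule l
  exact ⟨(Scheme.Modules.pullbackComp _ π).app _ ≪≫
    (Scheme.Modules.pullbackCongr (IsOpenImmersion.lift_fac V.ι g hg).symm).app _ ≪≫
    ((Scheme.Modules.pullbackComp l V.ι).app _).symm ≪≫
    (Scheme.Modules.pullback l).mapIso
      (((Scheme.Modules.restrictFunctorIsoPullback V.ι).app _).symm ≪≫ eV) ≪≫ e₀⟩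

include hπ in
theorem exists_seq (a : ℤ) {b : ℕ} (hb : 1 ≤ b) :
    ∃ S : ShortComplex X.Modules, S.ShortExact ∧ Nonempty (S.X₁ ≅ Lb hp π a b) ∧
      Nonempty (S.X₂ ≅ pO π a) ∧
      Nonempty (S.X₃ ≅ (Coh.push (Ib hp π b).subschemeι).obj (Coh.structureModule (Ib hp π b).subscheme)) := by
  let D := Ib hp π b
  let T := DCoh.tensorBi.obj (pO π a)
  haveI : T.Additive := Functor.additive_of_preserves_binary_products _
  let S : ShortComplex X.Modules :=
    (ShortComplex.mk _ _ (show ClSub.idealModι D ≫ ClSub.toSubscheme D = 0 from kernel.condition _)).map T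
  have hS : S.ShortExact := PBPush.shortExact_tens (lf_pO π a) (DivisorExt.ideal_shortExact D)
  haveI : HasInjectiveResolutions D.subscheme.Modules := KFlatLib.hasInjectiveResolutions_modules
  haveI := SpObjSS.enoughInjectives_of_hasInjectiveResolutions (C := D.subscheme.Modules)
  haveI := QCoh.preservesFiniteLimits_push D.subschemeι
  obtain ⟨e₀⟩ := S0927.result D.subschemeι (Coh.structureModule D.subscheme) (pO π a) (lf_pO π a) 0
  let F := Scheme.Modules.pushforward D.subschemeι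
  let z : F.rightDerived 0 ≅ F := F.rightDerivedZeroIsoSelf
  obtain ⟨eu⟩ := H23.PicMul.unit ((Scheme.Modules.pullback D.subschemeι).obj (pO π a))
  obtain ⟨et⟩ := pull_triv hp hb a (π := π)
  exact ⟨S, hS, ⟨Iso.refl _⟩, ⟨(H23.PicMul.unit (pO π a)).some⟩,
    ⟨(T.mapIso (z.symm.app (Coh.structureModule D.subscheme)) ≪≫ e₀ ≪≫ z.app _ ≪≫ F.mapIso eu) ≪≫
      F.mapIso et⟩⟩

variable [X.Over (Spec (CommRingCat.of k))]
  (hk : π ≫ CohB1.ProjSpace.toSpec 2 k = X ↘ Spec (CommRingCat.of k))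

include hπ hk in
theorem isProper_over : IsProper (X ↘ Spec (CommRingCat.of k)) := by
  obtain ⟨-, hprop⟩ := geom _ hp hπ
  haveI := hprop
  haveI : IsProper (CohB1.ProjSpace.toSpec 2 k) := PnCoh.Chow.isProper_toSpec 2 k
  rw [← hk]
  infer_instance

include hπ hk in
/-- `χ(σ^*O(a))`. -/
theorem euler_pO (a : ℤ) : Curv2.euler k X (pO π a) = Ring.choose (a + 2) 2 := by
  haveI := isProper_over hp hπ hk
  haveI : IsProper (CohB1.ProjSpace.toSpec 2 k) := PnCoh.Chow.isProper_toSpec 2 k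
  haveI : IsProper (CohB1.ProjSpace 2 k ↘ Spec (CommRingCat.of k)) := ‹IsProper (CohB1.ProjSpace.toSpec 2 k)›
  obtain ⟨hX, hprop⟩ := geom _ hp hπ
  haveI := hX; haveI := hprop
  haveI : HasInjectiveResolutions X.Modules := KFlatLib.hasInjectiveResolutions_modules
  haveI := SpObjSS.enoughInjectives_of_hasInjectiveResolutions (C := X.Modules)
  haveI := QCoh.preservesFiniteLimits_push π
  have hpt : ∀ x ∈ ({p} : Set ↥(CohB1.ProjSpace 2 k)), IsClosed ({x} : Set ↥(CohB1.ProjSpace 2 k)) :=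
    fun x hx => hx ▸ hp
  rw [EulerOneDeg.euler_eq k π hk
    (AmpleVan.isCoh_invertible (PicClLib.isInvertible_pullback π (isInvertible_twist a))) 0 fun m hm => by
      obtain ⟨m, rfl⟩ : ∃ r, m = r + 1 := ⟨m - 1, by omega⟩
      exact BlowExact.isZero_Rpush_of_rz π m (rz_pO _ (Set.finite_singleton p) hpt hp (by norm_num) hπ a m)]
  obtain ⟨ep⟩ := BlowExact.push_pull π (isIso_app _ (Set.finite_singleton p) hpt hp (by norm_num) hπ)
    (lf_twist (n := 2) (k := k) a)
  have e : (Coh.Rpush π 0).obj (pO π a) ≅ Twist.twistProjSpace 2 k a :=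
    (Scheme.Modules.pushforward π).rightDerivedZeroIsoSelf.app _ ≪≫ ep
  rw [pow_zero, one_mul, CurveCohLib.euler_congr (k := k) e,
    Euler.euler_eq_sum k _ 3 fun i hi => S0844.result k 2 a i (fun h => by omega) (fun h => by omega)]
  exact S12640.euler_twist k 2 a (fun h => by omega)

/-- `χ` of the structure sheaf of a thickening of the exceptional line. -/
abbrev Qb (π : X ⟶ CohB1.ProjSpace 2 k) (b : ℕ) : ℤ :=
  Curv2.euler k X ((Coh.push (Ib hp π b).subschemeι).obj (Coh.structureModule (Ib hp π b).subscheme))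

include hπ hk in
theorem euler_Lb (a : ℤ) {b : ℕ} (hb : 1 ≤ b) :
    Curv2.euler k X (Lb hp π a b) = Ring.choose (a + 2) 2 - Qb hp π b := by
  haveI := isProper_over hp hπ hk
  obtain ⟨hX, -⟩ := geom _ hp hπ
  haveI := hX
  obtain ⟨S, hS, ⟨e₁⟩, ⟨e₂⟩, ⟨e₃⟩⟩ := exists_seq hp hπ a hb
  have h1 := AmpleVan.isCoh_invertible (isInvertible_of_iso e₁.symm (isInvertible_Lb hp hπ a b))
  have h2 := AmpleVan.isCoh_invertible
    (isInvertible_of_iso e₂.symm (PicClLib.isInvertible_pullback π (isInvertible_twist a)))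
  have h := CurveCohLib.euler_additive (k := k) hS h1 h2
    (RefX.isCoh_of_iso ((cokernelIsCokernel S.f).coconePointUniqueUpToIso hS.gIsCokernel)
      (QCoh.isCoh_cokernel h1.1 h2 S.f))
  rw [CurveCohLib.euler_congr (k := k) e₁, CurveCohLib.euler_congr (k := k) e₂,
    CurveCohLib.euler_congr (k := k) e₃, euler_pO hp hπ hk] at h
  simp only [Qb]
  linarith

include hπ in
/-- `H^q(aH - bE) = 0` for `q ≥ 1` when `b ≤ a + 1` (and `a ≥ 0`). -/
theorem hh_pos [IsAlgClosed k] (c b : ℕ) (hbc : b ≤ c + 1) (q : ℕ) (hq : 1 ≤ q) :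
    Subsingleton (Coh.HH X (Lb hp π (c : ℤ) b) q) := by
  obtain ⟨e⟩ := exists_iso_pow hp hπ b
  refine QCoh.subsingleton_HH_of_iso ((DCoh.tensorBi.obj (pO π (c : ℤ))).mapIso e) q ?_
  rcases eq_or_ne q 1 with rfl | hq1
  · exact hh_one_point hp hπ le_rfl c b hbc
  let P : Fin 1 → ↥(CohB1.ProjSpace 2 k) := fun _ => p
  have hP : Function.Injective P := Function.injective_of_subsingleton P
  have hPc : ∀ i, IsClosed ({P i} : Set ↥(CohB1.ProjSpace 2 k)) := fun _ => hp
  have hr : Set.range P = {p} := Set.range_const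
  have hZ : IsClosed (Set.range P) := hr ▸ hp
  have hJ : J ({p} : Set ↥(CohB1.ProjSpace 2 k)) hp = J (Set.range P) hZ := Jt_eq P hPc hZ le_rfl 0
  have hπ' : BlowUp.IsBlowUp π (J (Set.range P) hZ) := hJ ▸ hπ
  have hpt : ∀ x ∈ ({p} : Set ↥(CohB1.ProjSpace 2 k)), IsClosed ({x} : Set ↥(CohB1.ProjSpace 2 k)) :=
    fun x hx => hx ▸ hp
  obtain ⟨eL⟩ := nonempty_pow_iso P hPc hZ (π := π) le_rfl b
  have := hh_Md P hPc hZ hP hπ' (by norm_num) (c : ℤ) (fun _ => b) q hq1
    (hh_vanish _ (Set.finite_singleton p) hpt hp (by norm_num) hπ (c : ℤ) q (fun h => by omega) (fun h => by omega))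
  have h' := QCoh.subsingleton_HH_of_iso ((DCoh.tensorBi.obj (pO π (c : ℤ))).mapIso eL.symm) q this
  rw [← hJ] at h'
  exact h'

include hπ hk in
/-- The `b - 1`-jets at the point embed into the functions on the thickening. -/
theorem le_finrank_HH_zero [IsAlgClosed k] {b c : ℕ} (hcb : c < b) :
    (c + 2).choose 2 ≤ Module.finrank k (Coh.HH X
      ((Coh.push (Ib hp π b).subschemeι).obj (Coh.structureModule (Ib hp π b).subscheme)) 0) := by
  haveI := isProper_over hp hπ hk
  let D := Ib hp π b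
  letI : D.subscheme.Over (Spec (CommRingCat.of k)) := ⟨D.subschemeι ≫ (X ↘ Spec (CommRingCat.of k))⟩
  letI : Algebra k Γ(D.subscheme, ⊤) := GeomField.globalAlgebra k D.subscheme
  obtain ⟨eH⟩ := PnCoh.exists_linearEquiv_push k D.subschemeι rfl
    (M := Coh.structureModule D.subscheme) QCoh.isQCoh_structureModule 0
  rw [← eH.finrank_eq, GeomField.finrank_HH_zero]
  haveI : Module.Finite k Γ(D.subscheme, ⊤) := by
    haveI : IsProper (D.subscheme ↘ Spec (CommRingCat.of k)) :=
      show IsProper (D.subschemeι ≫ (X ↘ Spec (CommRingCat.of k))) from inferInstance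
    haveI := CurveCohLib.isNoetherian_of_proper (k := k) (X := D.subscheme)
    haveI := CurveCohLib.finite_HH (k := k) (X := D.subscheme) (QCoh.isCoh_structureModule' (X := D.subscheme)) 0
    let e : Coh.HH D.subscheme (Coh.structureModule D.subscheme) 0 ≃+ Γ(D.subscheme, ⊤) :=
      Sheaf.H.equiv₀ (Coh.toAb (Coh.structureModule D.subscheme)) isTerminalTop
    have he : ∀ (r : Coh.Γtop D.subscheme) (x : Coh.HH D.subscheme (Coh.structureModule D.subscheme) 0),
        e (r • x) = (show Γ(D.subscheme, ⊤) from r) * e x := by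
      intro r x
      have h := (Sheaf.H.equiv₀_naturality isTerminalTop (Coh.smulAb (Coh.structureModule D.subscheme) r) x).symm
      refine (show e (r • x) = _ from h).trans ?_
      show (show Γ(D.subscheme, ⊤) from Coh.resTop D.subscheme (Opposite.op ⊤) r) * e x = _
      congr 1
      show (D.subscheme.presheaf.map (homOfLE le_top).op).hom r = r
      rw [show (homOfLE le_top).op = 𝟙 (Opposite.op (⊤ : D.subscheme.Opens)) from rfl,
        D.subscheme.presheaf.map_id]
      rfl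
    let eL : Coh.HH D.subscheme (Coh.structureModule D.subscheme) 0 ≃ₗ[k] Γ(D.subscheme, ⊤) :=
      { e with map_smul' := fun c x => he _ x }
    exact Module.Finite.equiv eL
  obtain ⟨i, hi⟩ : ∃ i, p ∈ Set.range (ZetaLib.chart 2 k i) := by
    obtain ⟨i, hi⟩ := Opens.mem_iSup.1 ((AmpleEmbed.iSup_basicOpen_X 2 k).ge (trivial : p ∈ (⊤ : Opens _)))
    exact ⟨i, (ZetaLib.mem_range_chart i p).2 hi⟩
  have hr : Set.range (D.subschemeι ≫ π) ⊆ Set.range (ZetaLib.chart 2 k i) := by
    rintro _ ⟨z, rfl⟩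
    rw [show (D.subschemeι ≫ π) z = p from over_pt hp (by omega) z]
    exact hi
  let δ := IsOpenImmersion.lift (ZetaLib.chart 2 k i) _ hr
  have hδ : δ ≫ ZetaLib.chart 2 k i = D.subschemeι ≫ π := IsOpenImmersion.lift_fac _ _ hr
  have hbase : ∀ x : k, BlowForms.resHom δ (ZetaLib.base 2 k i x) = algebraMap k Γ(D.subscheme, ⊤) x := by
    intro x
    have h1 : δ ≫ Spec.map (CommRingCat.ofHom (ZetaLib.base 2 k i)) =
        D.subscheme ↘ Spec (CommRingCat.of k) := by
      rw [← ZetaLib.chart_toSpec, reassoc_of% hδ, hk]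
      rfl
    have h2 := congr(($(Scheme.ΓSpecIso_inv_naturality (CommRingCat.ofHom (ZetaLib.base 2 k i)))).hom x)
    show δ.appTop.hom ((Scheme.ΓSpecIso _).inv.hom (ZetaLib.base 2 k i x)) =
      (D.subscheme ↘ Spec (CommRingCat.of k)).appTop.hom ((Scheme.ΓSpecIso _).inv.hom x)
    rw [← h1, Scheme.Hom.comp_appTop]
    exact congrArg δ.appTop.hom h2
  let f : MvPolynomial.homogeneousSubmodule (Fin 3) k c →ₗ[k] Γ(D.subscheme, ⊤) :=
    { toFun := fun F => BlowForms.resHom δ (ZetaLib.dehom 2 k i F.1)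
      map_add' := fun F G => by simp
      map_smul' := fun x F => by
        rw [RingHom.id_apply, Algebra.smul_def, ← hbase, Submodule.coe_smul, MvPolynomial.smul_eq_C_mul,
          map_mul, map_mul]
        simp [ZetaLib.dehom] }
  have hf : Function.Injective f := (injective_iff_map_eq_zero f).2 fun F hF =>
    Subtype.ext (BlowForms.forms_injective hp (by norm_num) hπ hcb i hi δ hδ F.2 hF)
  have := LinearMap.finrank_le_finrank_of_injective hf
  rw [(S18464.finite_finrank_homogeneous k 2 c).2] at this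
  have hsymm : (c + 2).choose 2 = (2 + c).choose c := by
    rw [Nat.add_comm c 2, Nat.choose_symm_add]
  omega

include hπ in
/-- The thickenings of the exceptional line have no higher cohomology. -/
theorem hh_push_struct [IsAlgClosed k] {b : ℕ} (hb : 1 ≤ b) (q : ℕ) (hq : 1 ≤ q) : Subsingleton (Coh.HH X
    ((Coh.push (Ib hp π b).subschemeι).obj (Coh.structureModule (Ib hp π b).subscheme)) q) := by
  obtain ⟨c, rfl⟩ : ∃ c, b = c + 1 := ⟨b - 1, by omega⟩
  have hpt : ∀ x ∈ ({p} : Set ↥(CohB1.ProjSpace 2 k)), IsClosed ({x} : Set ↥(CohB1.ProjSpace 2 k)) :=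
    fun x hx => hx ▸ hp
  obtain ⟨S, hS, ⟨e₁⟩, ⟨e₂⟩, ⟨e₃⟩⟩ := exists_seq hp hπ (c : ℤ) (b := c + 1) (by omega)
  refine QCoh.subsingleton_HH_of_iso e₃ q ?_
  have h2 := QCoh.subsingleton_HH_of_iso e₂.symm q (hh_vanish _ (Set.finite_singleton p) hpt hp (by norm_num) hπ
    (c : ℤ) q (fun h => by omega) (fun h => by omega))
  have hT := QCoh.toAb_shortExact hS
  refine subsingleton_of_forall_eq 0 fun x => ?_
  obtain ⟨w, rfl⟩ := Abelian.Ext.covariant_sequence_exact₃ _ hT x rfl
    ((QCoh.subsingleton_HH_of_iso e₁.symm (q + 1) (hh_pos hp hπ c (c + 1) le_rfl (q + 1) (by omega))).elim _ _)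
  rw [h2.elim w 0]
  exact Abelian.Ext.zero_comp _ _ _ _ _

include hπ hk in
theorem hh_deg_lt [IsAlgClosed k] (c : ℕ) :
    Qb hp π (c + 1) = (c + 2).choose 2 ∧ ∀ q, Subsingleton (Coh.HH X (Lb hp π (c : ℤ) (c + 1)) q) := by
  haveI := isProper_over hp hπ hk
  obtain ⟨hX, -⟩ := geom _ hp hπ
  haveI := hX
  have hpt : ∀ x ∈ ({p} : Set ↥(CohB1.ProjSpace 2 k)), IsClosed ({x} : Set ↥(CohB1.ProjSpace 2 k)) :=
    fun x hx => hx ▸ hp
  have hLc := AmpleVan.isCoh_invertible (isInvertible_Lb hp hπ (c : ℤ) (c + 1))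
  haveI := CurveCohLib.finite_HH (k := k) hLc 0
  obtain ⟨S, hS, ⟨e₁⟩, ⟨e₂⟩, ⟨e₃⟩⟩ := exists_seq hp hπ (c : ℤ) (b := c + 1) (by omega)
  have h3 := fun q hq => hh_push_struct hp hπ (b := c + 1) (by omega) q hq
  have hQ : Qb hp π (c + 1) = Module.finrank k (Coh.HH X
      ((Coh.push (Ib hp π (c + 1)).subschemeι).obj (Coh.structureModule (Ib hp π (c + 1)).subscheme)) 0) := by
    show Curv2.euler k X _ = _
    rw [Euler.euler_eq_sum k _ 1 fun i hi => h3 i hi]
    simp
  have hle := le_finrank_HH_zero hp hπ hk (show c < c + 1 by omega)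
  have hL : Curv2.euler k X (Lb hp π (c : ℤ) (c + 1)) =
      Module.finrank k (Coh.HH X (Lb hp π (c : ℤ) (c + 1)) 0) := by
    rw [Euler.euler_eq_sum k _ 1 fun i hi => hh_pos hp hπ c (c + 1) le_rfl i hi]
    simp
  have h := euler_Lb hp hπ hk (c : ℤ) (b := c + 1) (by omega)
  rw [hL, show ((c : ℤ) + 2) = ((c + 2 : ℕ) : ℤ) by push_cast; ring, Ring.choose_natCast] at h
  refine ⟨by omega, fun q => ?_⟩
  rcases Nat.eq_zero_or_pos q with rfl | hq
  · exact (Module.finrank_zero_iff (R := k)).1 (by omega)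
  · exact hh_pos hp hπ c (c + 1) le_rfl q hq

include hπ hk in
theorem euler_eq [IsAlgClosed k] (a : ℤ) (b : ℕ) :
    Curv2.euler k X (Lb hp π a b) = Ring.choose (a + 2) 2 - ((b + 1).choose 2 : ℕ) := by
  rcases b with _ | c
  · rw [CurveCohLib.euler_congr (k := k) (nonempty_Lb_zero hp hπ a).some, euler_pO hp hπ hk]
    simp
  · rw [euler_Lb hp hπ hk a (by omega), (hh_deg_lt hp hπ hk c).1]

open Groth.Agent.PnCoh.Finite (mapLin deltaLin) in
theorem finrank_iso {M N : X.Modules} (e : M ≅ N) (i : ℕ) :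
    Module.finrank k (Coh.HH X M i) = Module.finrank k (Coh.HH X N i) := by
  refine LinearEquiv.finrank_eq (LinearEquiv.ofBijective (mapLin k e.hom i) ?_)
  have h : ∀ {P Q : X.Modules} (e : P ≅ Q) (y : Coh.HH X Q i),
      mapLin k e.hom i (mapLin k e.inv i y) = y := fun e y =>
    (Groth.Agent.PnCoh.Finite.map_map (Y := X.toPresheafedSpace.carrier)
      (((QCoh.toAbFunctor X).map_comp e.inv e.hom).symm.trans
        (by rw [e.inv_hom_id, CategoryTheory.Functor.map_id]; rfl)) i y).trans (Sheaf.H.map_id_apply y)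
  exact Function.bijective_iff_has_inverse.mpr ⟨mapLin k e.inv i, fun x => h e.symm x, h e⟩

open Groth.Agent.PnCoh.Finite (mapLin deltaLin) in
include hπ hk in
/-- Above degree one the twist by a multiple of the exceptional line changes nothing. -/
theorem finrank_high [IsAlgClosed k] (a : ℤ) (b : ℕ) (q : ℕ) (hq : 2 ≤ q) :
    Module.finrank k (Coh.HH X (Lb hp π a b) q) = Module.finrank k (Coh.HH X (pO π a) q) := by
  rcases Nat.eq_zero_or_pos b with rfl | hb
  · exact finrank_iso (nonempty_Lb_zero hp hπ a).some q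
  obtain ⟨S, hS, ⟨e₁⟩, ⟨e₂⟩, ⟨e₃⟩⟩ := exists_seq hp hπ a hb
  rw [← finrank_iso e₁ q, ← finrank_iso e₂ q]
  obtain ⟨r, rfl⟩ : ∃ r, q = r + 1 := ⟨q - 1, by omega⟩
  haveI := QCoh.subsingleton_HH_of_iso e₃.symm r (hh_push_struct hp hπ hb r (by omega))
  haveI := QCoh.subsingleton_HH_of_iso e₃.symm (r + 1) (hh_push_struct hp hπ hb (r + 1) (by omega))
  refine (LinearEquiv.ofBijective (mapLin k S.f (r + 1)) ⟨LinearMap.ker_eq_bot.1 ?_,
    LinearMap.range_eq_top.1 ?_⟩).finrank_eq
  · rw [← Euler.range_deltaLin k hS r, LinearMap.range_eq_bot]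
    exact LinearMap.ext fun x => by rw [Subsingleton.elim x 0, map_zero, LinearMap.zero_apply]
  · rw [Euler.range_mapLin_f k hS]
    exact eq_top_iff.2 fun x _ => LinearMap.mem_ker.2 (Subsingleton.elim _ _)

theorem two_mul_choose_two (x : ℤ) : 2 * Ring.choose x 2 = x * (x - 1) := by
  have h := Ring.descPochhammer_eq_factorial_smul_choose x 2
  simp [descPochhammer_succ_left, Polynomial.smeval_mul, Polynomial.smeval_X, Polynomial.smeval_sub,
    Polynomial.smeval_one, Polynomial.smeval_comp] at h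
  linarith

include hπ hk in
/-- No sections when the degree is below the multiplicity. -/
theorem hh_zero_of_lt [IsAlgClosed k] (a : ℤ) (b : ℕ) (hab : a < b) :
    Subsingleton (Coh.HH X (Lb hp π a b) 0) := by
  have hpt : ∀ x ∈ ({p} : Set ↥(CohB1.ProjSpace 2 k)), IsClosed ({x} : Set ↥(CohB1.ProjSpace 2 k)) :=
    fun x hx => hx ▸ hp
  obtain ⟨T, hT, hT0, m, ⟨e⟩⟩ : ∃ (T : X.Modules) (_ : FlatMod.IsFinLocFree T)
      (_ : Subsingleton (Coh.HH X T 0)) (m : ℕ), Nonempty (Lb hp π a b ≅ CohB1.tensorMod T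
        (ClSub.idealMod (Ib hp π m))) := by
    rcases le_or_gt 0 a with ha | ha
    · obtain ⟨c, rfl⟩ : ∃ c : ℕ, a = c := ⟨a.toNat, by omega⟩
      obtain ⟨m, rfl⟩ : ∃ m, b = c + 1 + m := ⟨b - (c + 1), by omega⟩
      refine ⟨_, H23.PullPush.isFinLocFree_of_isInvertible (isInvertible_Lb hp hπ (c : ℤ) (c + 1)),
        (hh_deg_lt hp hπ hk c).2 0, m, cl_eq_iff.1 ?_⟩
      have hcl : ∀ j, PicF.cl (ClSub.idealMod (Ib hp π j)) =
          PicF.cl (ClSub.idealMod (BlowUp.exceptional π (Scheme.IdealSheafData.vanishingIdeal ⟨{p}, hp⟩))) ^ j :=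
        fun j => by rw [← cl_tensorPow]; exact (cl_eq_iff.2 (exists_iso_pow hp hπ j)).symm
      simp only [Lb, cl_tensor]
      rw [hcl, hcl, hcl, pow_add, mul_assoc]
    · exact ⟨_, lf_pO π a, hh_vanish _ (Set.finite_singleton p) hpt hp (by norm_num) hπ a 0
        (fun h => by omega) (fun h => by omega), b, ⟨Iso.refl _⟩⟩
  let F := DCoh.tensorBi.obj T
  haveI : F.Additive := Functor.additive_of_preserves_binary_products _
  let S : ShortComplex X.Modules :=
    (ShortComplex.mk _ _ (show ClSub.idealModι (Ib hp π m) ≫ ClSub.toSubscheme (Ib hp π m) = 0 from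
      kernel.condition _)).map F
  have hS : S.ShortExact := PBPush.shortExact_tens hT (DivisorExt.ideal_shortExact _)
  haveI : Subsingleton (Coh.HH X S.X₂ 0) :=
    QCoh.subsingleton_HH_of_iso (H23.PicMul.unit T).some.symm 0 hT0
  exact QCoh.subsingleton_HH_of_iso (M := S.X₁) e.symm 0 (PnDual.HHlin_f_injective (k := k) hS).subsingleton

end Groth.Agent.Synt29.PlaneBlow

end
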