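import Mathlib
import Groth.Prelude.Def_W4c1limliniiiiRamP1

/-!
Wronskians of pencils of polynomials with prescribed ramification.
-/

set_option autoImplicit false

universe u

open Polynomial W4c1limliniiii

namespace Groth.Agent.Synt29.Pencil

variable {k : Type u} [Field k]

/-- A member vanishing to order `m` makes the Wronskian vanish to order `m - 1`. -/
theorem pow_pred_dvd_wronskian {F : k[X]} (G : k[X]) {a : k} {m : ℕ} (hF : (X - C a) ^ m ∣ F) :
    (X - C a) ^ (m - 1) ∣ wronskian F G := by
  cases m with
  | zero => simp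
  | succ m =>
    obtain ⟨u, rfl⟩ := hF
    rw [Nat.add_sub_cancel, wronskian, derivative_mul, derivative_X_sub_C_pow, Nat.add_sub_cancel, pow_succ]
    exact dvd_sub (((dvd_mul_right _ _).mul_right _).mul_right _)
      ((dvd_add ((dvd_mul_left _ _).mul_right _) (((dvd_mul_right _ _).mul_right _))).mul_right _)

/-- With a common zero the Wronskian vanishes to order `m`. -/
theorem pow_dvd_wronskian {F G : k[X]} {a : k} {m : ℕ} (hF : (X - C a) ^ m ∣ F) (hG : X - C a ∣ G) :
    (X - C a) ^ m ∣ wronskian F G := by
  cases m with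
  | zero => simp
  | succ m =>
    obtain ⟨u, rfl⟩ := hF
    obtain ⟨v, rfl⟩ := hG
    rw [wronskian, derivative_mul, derivative_mul, derivative_X_sub_C_pow, Nat.add_sub_cancel]
    refine dvd_sub ((dvd_mul_right _ _).mul_right _) ?_
    exact ⟨(C ((m + 1 : ℕ) : k) * u + (X - C a) * derivative u) * v, by ring⟩

/-- An exact order prime to the characteristic is seen exactly by the Wronskian. -/
theorem rootMultiplicity_wronskian {F G : k[X]} {a : k} (hF : F ≠ 0) {m : ℕ}
    (hm : F.rootMultiplicity a = m) (hcast : (m : k) ≠ 0) (hG : G.eval a ≠ 0) (hW : wronskian F G ≠ 0) :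
    (wronskian F G).rootMultiplicity a = m - 1 := by
  obtain ⟨u, hu, hua⟩ := F.exists_eq_pow_rootMultiplicity_mul_and_not_dvd hF a
  rw [hm] at hu
  obtain ⟨m, rfl⟩ : ∃ n, m = n + 1 := ⟨m - 1, by
    rcases Nat.eq_zero_or_pos m with rfl | h
    · simp at hcast
    · omega⟩
  rw [Nat.add_sub_cancel]
  refine le_antisymm ?_ ((le_rootMultiplicity_iff hW).2 (by
    simpa using pow_pred_dvd_wronskian G ((le_rootMultiplicity_iff hF).1 hm.ge)))
  by_contra hlt
  have h := (le_rootMultiplicity_iff (a := a) hW).1 (show m + 1 ≤ (wronskian F G).rootMultiplicity a by omega)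
  have he : wronskian F G = (X - C a) ^ (m + 1) * (u * derivative G - derivative u * G) +
      (X - C a) ^ m * (-(C ((m + 1 : ℕ) : k) * u * G)) := by
    rw [hu, wronskian, derivative_mul, derivative_X_sub_C_pow, Nat.add_sub_cancel]
    ring
  rw [he, dvd_add_right (dvd_mul_right _ _), pow_succ, mul_dvd_mul_iff_left (pow_ne_zero _ (X_sub_C_ne_zero a)),
    dvd_neg, dvd_iff_isRoot, IsRoot.def, eval_mul, eval_mul, eval_C, mul_eq_zero, mul_eq_zero] at h
  rcases h with (h | h) | h
  exacts [hcast h, hua (dvd_iff_isRoot.2 h), hG h]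

/-- Orders of vanishing at distinct points add up to at most the degree. -/
theorem sum_le_natDegree {W : k[X]} (hW : W ≠ 0) {ι : Type*} (s : Finset ι) (P : ι → k)
    (hP : Set.InjOn P s) : ∑ i ∈ s, W.rootMultiplicity (P i) ≤ W.natDegree := by
  classical
  calc ∑ i ∈ s, W.rootMultiplicity (P i) = ∑ i ∈ s, W.roots.count (P i) := by simp [count_roots]
    _ = ∑ x ∈ s.image P, W.roots.count x := (Finset.sum_image (f := fun x => W.roots.count x) fun i hi j hj h => hP hi hj h).symm
    _ ≤ ∑ x ∈ s.image P ∪ W.roots.toFinset, W.roots.count x :=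
        Finset.sum_le_sum_of_subset Finset.subset_union_left
    _ = W.roots.card := Multiset.sum_count_eq_card fun x hx => Finset.mem_union_right _ (Multiset.mem_toFinset.2 hx)
    _ ≤ W.natDegree := card_roots' W

/-- The degree of a Wronskian. -/
theorem natDegree_wronskian_add_two_le {F G : k[X]} {D : ℕ} (hF : F.natDegree ≤ D) (hG : G.natDegree ≤ D)
    (hW : wronskian F G ≠ 0) : (wronskian F G).natDegree + 2 ≤ 2 * D := by
  have hlt := natDegree_wronskian_lt_add hW
  by_cases h : F.natDegree = D ∧ G.natDegree = D
  · have hF0 : F ≠ 0 := fun h => hW (by rw [h, wronskian_zero_left])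
    let G' := G - C (G.leadingCoeff / F.leadingCoeff) * F
    have hW' : wronskian F G' = wronskian F G := by
      simp only [G', ← smul_eq_C_mul]
      rw [← wronskianBilin_apply, map_sub, map_smul, wronskianBilin_apply, wronskianBilin_apply,
        wronskian_self_eq_zero, smul_zero, sub_zero]
    have hlt' := natDegree_wronskian_lt_add (hW'.symm ▸ hW : wronskian F G' ≠ 0)
    rw [hW'] at hlt'
    have hG' : G'.natDegree ≤ D - 1 := by
      rcases Nat.eq_zero_or_pos D with hD | hD
      · omega
      refine natDegree_le_iff_coeff_eq_zero.2 fun N hN => ?_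
      rcases eq_or_lt_of_le (show D ≤ N by omega) with rfl | hlt
      · simp only [G', coeff_sub, coeff_C_mul, leadingCoeff, h.1, h.2]
        rw [div_mul_cancel₀ _ (by rw [← h.1]; exact leadingCoeff_ne_zero.2 hF0), sub_self]
      · simp only [G', coeff_sub, coeff_C_mul]
        rw [coeff_eq_zero_of_natDegree_lt (by omega), coeff_eq_zero_of_natDegree_lt (by omega), mul_zero, sub_self]
    omega
  · omega

/-- In a separable pencil every non-zero member has a partner with non-zero Wronskian. -/
theorem exists_partner {V : Submodule k k[X]} (h2 : Module.finrank k V = 2) (hsep : IsSeparable V) :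
    ∀ s ∈ V, s ≠ 0 → ∃ t ∈ V, wronskian s t ≠ 0 := by
  obtain ⟨F, hF, G, hG, hW⟩ := hsep
  have : Module.Finite k V := Module.finite_of_finrank_eq_succ h2
  have hli : LinearIndependent k ![F, G] := by
    rw [LinearIndependent.pair_iff]
    intro a b hab
    have e1 : a • wronskian F G = 0 := by
      have := congrArg (fun z => wronskianBilin k z G) hab
      simpa [map_add, map_smul, LinearMap.add_apply, LinearMap.smul_apply, wronskianBilin_apply,
        wronskian_self_eq_zero] using this
    have e2 : b • wronskian F G = 0 := by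
      have := congrArg (fun z => wronskianBilin k F z) hab
      simpa [map_add, map_smul, LinearMap.add_apply, LinearMap.smul_apply, wronskianBilin_apply,
        wronskian_self_eq_zero] using this
    exact ⟨(smul_eq_zero.1 e1).resolve_right hW, (smul_eq_zero.1 e2).resolve_right hW⟩
  have hspan : Submodule.span k {F, G} = V := by
    refine Submodule.eq_of_le_of_finrank_le (Submodule.span_le.2 (by rintro x (rfl | rfl) <;> assumption)) ?_
    have := finrank_span_eq_card hli
    rw [Matrix.range_cons_cons_empty, Fintype.card_fin] at this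
    omega
  intro s hs hs0
  obtain ⟨a, b, rfl⟩ := Submodule.mem_span_pair.1 (hspan ▸ hs)
  rcases eq_or_ne a 0 with rfl | ha
  · have hb : b ≠ 0 := fun h => hs0 (by simp [h])
    refine ⟨F, hF, ?_⟩
    rw [← wronskianBilin_apply, map_add, LinearMap.add_apply, map_smul, map_smul, LinearMap.smul_apply,
      LinearMap.smul_apply, zero_smul, zero_add, wronskianBilin_apply, ← wronskian_neg_eq]
    simp [smul_eq_zero, hb, hW]
  · refine ⟨G, hG, ?_⟩
    rw [← wronskianBilin_apply, map_add, LinearMap.add_apply, map_smul, map_smul, LinearMap.smul_apply,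
      LinearMap.smul_apply, wronskianBilin_apply, wronskianBilin_apply, wronskian_self_eq_zero, smul_zero, add_zero]
    simp [smul_eq_zero, ha, hW]

/-- All Wronskians of members of a two-dimensional space are proportional to a non-zero one. -/
theorem rootMultiplicity_eq_of_ne_zero {V : Submodule k k[X]} (h2 : Module.finrank k V = 2) {F G s t : k[X]}
    (hF : F ∈ V) (hG : G ∈ V) (hs : s ∈ V) (ht : t ∈ V) (hW : wronskian F G ≠ 0) (hst : wronskian s t ≠ 0) (a : k) :
    (wronskian s t).rootMultiplicity a = (wronskian F G).rootMultiplicity a := by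
  have : Module.Finite k V := Module.finite_of_finrank_eq_succ h2
  have hli : LinearIndependent k ![F, G] := by
    rw [LinearIndependent.pair_iff]
    intro x y hab
    have e1 : x • wronskian F G = 0 := by
      have := congrArg (fun z => wronskianBilin k z G) hab
      simpa [map_add, map_smul, LinearMap.add_apply, LinearMap.smul_apply, wronskianBilin_apply,
        wronskian_self_eq_zero] using this
    have e2 : y • wronskian F G = 0 := by
      have := congrArg (fun z => wronskianBilin k F z) hab
      simpa [map_add, map_smul, LinearMap.add_apply, LinearMap.smul_apply, wronskianBilin_apply,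
        wronskian_self_eq_zero] using this
    exact ⟨(smul_eq_zero.1 e1).resolve_right hW, (smul_eq_zero.1 e2).resolve_right hW⟩
  have hspan : Submodule.span k {F, G} = V := by
    refine Submodule.eq_of_le_of_finrank_le (Submodule.span_le.2 (by rintro x (rfl | rfl) <;> assumption)) ?_
    have := finrank_span_eq_card hli
    rw [Matrix.range_cons_cons_empty, Fintype.card_fin] at this
    omega
  obtain ⟨x, y, rfl⟩ := Submodule.mem_span_pair.1 (hspan ▸ hs)
  obtain ⟨z, w, rfl⟩ := Submodule.mem_span_pair.1 (hspan ▸ ht)
  have he : wronskian (x • F + y • G) (z • F + w • G) = C (x * w - y * z) * wronskian F G := by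
    simp only [smul_eq_C_mul, wronskian, derivative_add, derivative_mul, derivative_C, map_sub, map_mul]
    ring
  rw [he] at hst ⊢
  rw [rootMultiplicity_mul hst, rootMultiplicity_C, zero_add]

variable {d n : ℕ} {P : Fin n → k} {e : Fin n → ℕ}

/-- A separable space meeting the ramification conditions is an exact solution. -/
theorem mem_ramMaps (hP : Function.Injective P) (hsum : (∑ i, e i) + 2 = 2 * d + n) (he : ∀ i, 1 ≤ e i)
    {V : Submodule k k[X]} (hV : V ≤ degreeLE k d) (h2 : Module.finrank k V = 2) (hsep : IsSeparable V)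
    (hcond : ∀ i, ∃ s ∈ V, s ≠ 0 ∧ e i ≤ rootMultiplicity (P i) s) : V ∈ ramMaps d P e := by
  classical
  obtain ⟨F, hF, G, hG, hW⟩ := hsep
  have hsep' : IsSeparable V := ⟨F, hF, G, hG, hW⟩
  have hdegV : ∀ s ∈ V, s.natDegree ≤ d := fun s hs => natDegree_le_of_degree_le (mem_degreeLE.1 (hV hs))
  set W := wronskian F G
  have hdeg : W.natDegree + 2 ≤ 2 * d := natDegree_wronskian_add_two_le (hdegV F hF) (hdegV G hG) hW
  have hlow : ∀ i, e i - 1 ≤ W.rootMultiplicity (P i) := fun i => by
    obtain ⟨s, hs, hs0, hsm⟩ := hcond i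
    obtain ⟨t, ht, hst⟩ := exists_partner h2 hsep' s hs hs0
    rw [← rootMultiplicity_eq_of_ne_zero h2 hF hG hs ht hW hst (P i)]
    exact (le_rootMultiplicity_iff hst).2 (pow_pred_dvd_wronskian t ((le_rootMultiplicity_iff hs0).1 hsm))
  have hsum' : ∑ i, (e i - 1) + n = ∑ i, e i := by
    have h := Finset.sum_congr (s₁ := Finset.univ) rfl fun i _ => Nat.sub_add_cancel (he i)
    rw [Finset.sum_add_distrib] at h
    simpa using h
  have hle := sum_le_natDegree hW Finset.univ P hP.injOn
  have hexact : ∀ i, W.rootMultiplicity (P i) = e i - 1 := fun i => by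
    have h1 := Finset.sum_le_sum fun j (_ : j ∈ Finset.univ) => hlow j
    exact ((Finset.sum_eq_sum_iff_of_le fun j _ => hlow j).1 (by omega) i (Finset.mem_univ i)).symm
  have hother : ∀ a, a ∉ Set.range P → W.rootMultiplicity a = 0 := fun a ha => by
    have h := sum_le_natDegree hW Finset.univ (Fin.cons a P : Fin (n + 1) → k)
      (Fin.cons_injective_iff.2 ⟨ha, hP⟩).injOn
    rw [Fin.sum_univ_succ] at h
    simp only [Fin.cons_zero, Fin.cons_succ, hexact] at h
    omega
  refine ⟨⟨hV, h2, ?_, fun a => ?_⟩, hsep', fun i => ⟨hcond i, fun s hs hs0 => ?_⟩⟩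
  · by_contra hne
    push Not at hne
    have hlt : ∀ s ∈ V, s.natDegree ≤ d - 1 := fun s hs => by
      have := hne s hs; have := hdegV s hs; omega
    have := natDegree_wronskian_add_two_le (hlt F hF) (hlt G hG) hW
    have hge : ∑ i, (e i - 1) ≤ W.natDegree := (Finset.sum_le_sum fun j _ => hlow j).trans hle
    change W.natDegree + 2 ≤ 2 * (d - 1) at this
    omega
  · by_contra hne
    push Not at hne
    have hb : ∀ s ∈ V, X - C a ∣ s := fun s hs => dvd_iff_isRoot.2 (hne s hs)
    by_cases ha : a ∈ Set.range P
    · obtain ⟨i, rfl⟩ := ha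
      obtain ⟨s, hs, hs0, hsm⟩ := hcond i
      obtain ⟨t, ht, hst⟩ := exists_partner h2 hsep' s hs hs0
      have h := (le_rootMultiplicity_iff hst).2 (pow_dvd_wronskian ((le_rootMultiplicity_iff hs0).1 hsm) (hb t ht))
      rw [rootMultiplicity_eq_of_ne_zero h2 hF hG hs ht hW hst, hexact] at h
      have := he i
      omega
    · have h := (le_rootMultiplicity_iff hW).2 (pow_dvd_wronskian (m := 1) (by simpa using hb F hF) (hb G hG))
      rw [hother a ha] at h
      omega
  · obtain ⟨t, ht, hst⟩ := exists_partner h2 hsep' s hs hs0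
    have h := (le_rootMultiplicity_iff (a := P i) hst).2
      (pow_pred_dvd_wronskian t ((le_rootMultiplicity_iff (a := P i) hs0).1 le_rfl))
    rw [rootMultiplicity_eq_of_ne_zero h2 hF hG hs ht hW hst, hexact] at h
    have := he i
    omega

/-- Independent polynomials of degree below the characteristic have non-zero Wronskian. -/
theorem isSeparable_of_lt (p : ℕ) [CharP k p] (hp : p = 0 ∨ d < p) {V : Submodule k k[X]}
    (hV : V ≤ degreeLE k d) (h2 : Module.finrank k V = 2) : IsSeparable V := by
  by_contra hsep
  simp only [W4c1limliniiii.IsSeparable, not_exists, not_and, not_not] at hsep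
  have hd : ∀ s ∈ V, s.natDegree ≤ d := fun s hs => natDegree_le_of_degree_le (mem_degreeLE.1 (hV hs))
  have key : ∀ F ∈ V, ∀ G ∈ V, F ≠ 0 → G ≠ 0 → F.natDegree = G.natDegree := by
    intro F hF G hG hF0 hG0
    have hW := hsep F hF G hG
    by_contra hne
    have hlc : (wronskian F G).coeff (F.natDegree + G.natDegree - 1) =
        ((G.natDegree : k) - F.natDegree) * (F.leadingCoeff * G.leadingCoeff) := by
      have hmul : ∀ (p q : k[X]), q ≠ 0 → (p * derivative q).coeff (p.natDegree + q.natDegree - 1) =
          p.leadingCoeff * (q.natDegree * q.leadingCoeff) := by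
        intro p q hq
        rcases Nat.eq_zero_or_pos q.natDegree with h | h
        · rw [eq_C_of_natDegree_eq_zero h]
          simp
        · rw [show p.natDegree + q.natDegree - 1 = p.natDegree + (q.natDegree - 1) by omega,
            coeff_mul_add_eq_of_natDegree_le le_rfl (natDegree_derivative_le q), coeff_derivative,
            show q.natDegree - 1 + 1 = q.natDegree by omega, coeff_natDegree, coeff_natDegree]
          rw [show ((q.natDegree - 1 : ℕ) : k) + 1 = (q.natDegree : k) by
            rw [← Nat.cast_succ, Nat.succ_eq_add_one, Nat.sub_add_cancel h]]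
          ring
      rw [wronskian, coeff_sub, hmul F G hG0, mul_comm (derivative F) G,
        show F.natDegree + G.natDegree - 1 = G.natDegree + F.natDegree - 1 by omega, hmul G F hF0]
      ring
    rw [hW, coeff_zero, eq_comm, mul_eq_zero, mul_eq_zero, sub_eq_zero] at hlc
    rcases hlc with h | h | h
    · rcases hp with rfl | hp
      · have : CharZero k := CharP.charP_to_charZero k
        exact hne (Nat.cast_injective h).symm
      · have := hd F hF; have := hd G hG
        exact hne ((CharP.natCast_injOn_Iio k p) (by simp; omega) (by simp; omega) h).symm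
    · exact hF0 (leadingCoeff_eq_zero.1 h)
    · exact hG0 (leadingCoeff_eq_zero.1 h)
  have : Module.Finite k V := Module.finite_of_finrank_eq_succ h2
  obtain ⟨F, hF, hF0⟩ := Submodule.exists_mem_ne_zero_of_ne_bot (show V ≠ ⊥ from fun h => by rw [h, finrank_bot] at h2; omega)
  have hall : V ≤ Submodule.span k {F} := by
    intro G hG
    by_cases hG0 : G = 0
    · rw [hG0]; exact zero_mem _
    let c := G.leadingCoeff / F.leadingCoeff
    have h0 : G - c • F = 0 := by
      by_contra hne
      have h1 := key F hF _ (V.sub_mem hG (V.smul_mem c hF)) hF0 hne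
      have hco : (G - c • F).coeff F.natDegree = 0 := by
        rw [coeff_sub, coeff_smul, smul_eq_mul, coeff_natDegree, div_mul_cancel₀ _ (leadingCoeff_ne_zero.2 hF0),
          key F hF G hG hF0 hG0, coeff_natDegree, sub_self]
      rw [h1, coeff_natDegree, leadingCoeff_eq_zero] at hco
      exact hne hco
    exact Submodule.mem_span_singleton.2 ⟨c, (sub_eq_zero.1 h0).symm⟩
  have := Submodule.finrank_mono hall
  rw [finrank_span_singleton hF0, h2] at this
  omega

end Groth.Agent.Synt29.Pencil
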