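import Mathlib
import Groth.Agent.Synt29.Pencil

/-!
Pencils with ramification at three points.
-/

set_option autoImplicit false

universe u

open Polynomial W4c1limliniiii

namespace Groth.Agent.Synt29.ThreePoint

variable {k : Type u} [Field k] {d : ℕ} {P : Fin 3 → k} {e : Fin 3 → ℕ}

theorem eq_zero_of_dvd (hP : Function.Injective P) {D : ℕ} (hD : D < ∑ i, e i) {F : k[X]} (hF : F.natDegree ≤ D)
    (h : ∀ i, (X - C (P i)) ^ e i ∣ F) : F = 0 := by
  by_contra h0
  have h1 := (Finset.sum_le_sum fun i (_ : i ∈ Finset.univ) => (le_rootMultiplicity_iff h0).2 (h i)).trans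
    (Pencil.sum_le_natDegree h0 Finset.univ P hP.injOn)
  omega

/-- The two parts of a relation among the ramified members. -/
theorem exists_triple (hP : Function.Injective P) (hsum : (∑ i, e i) + 2 = 2 * d + 3) (hle : ∀ i, e i ≤ d)
    {V : Submodule k k[X]} (hV : V ≤ degreeLE k d) (h2 : Module.finrank k V = 2)
    (hcond : ∀ i, ∃ s ∈ V, s ≠ 0 ∧ e i ≤ rootMultiplicity (P i) s) :
    ∃ F G : k[X], Submodule.span k {F, G} = V ∧ (X - C (P 0)) ^ e 0 ∣ F ∧ (X - C (P 1)) ^ e 1 ∣ G ∧
      (X - C (P 2)) ^ e 2 ∣ F + G := by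
  classical
  choose s hsV hs0 hsm using hcond
  have hsd : ∀ i, (X - C (P i)) ^ e i ∣ s i := fun i => (le_rootMultiplicity_iff (hs0 i)).1 (hsm i)
  rw [Fin.sum_univ_three] at hsum
  have hkey : ∀ i j, i ≠ j → ∀ F ∈ degreeLE k d, (X - C (P i)) ^ e i ∣ F → (X - C (P j)) ^ e j ∣ F → F = 0 := by
    intro i j hij F hF hi hj
    by_contra h0
    have h := (Finset.sum_le_sum fun l (hl : l ∈ ({i, j} : Finset (Fin 3))) => (le_rootMultiplicity_iff h0).2 (by
      simp only [Finset.mem_insert, Finset.mem_singleton] at hl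
      rcases hl with rfl | rfl <;> assumption : (X - C (P l)) ^ e l ∣ F)).trans
      (Pencil.sum_le_natDegree h0 _ P hP.injOn)
    rw [Finset.sum_pair hij] at h
    have hd : F.natDegree ≤ d := natDegree_le_of_degree_le (mem_degreeLE.1 hF)
    have := hle 0; have := hle 1; have := hle 2
    fin_cases i <;> fin_cases j <;> first | exact absurd rfl hij | (simp only [Fin.zero_eta, Fin.mk_one, Fin.reduceFinMk] at *; omega)
  have hli : LinearIndependent k ![s 0, s 1] := by
    rw [LinearIndependent.pair_iff]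
    intro a b hab
    have h1 : a • s 0 = 0 := hkey 0 1 (by decide) _ (hV (V.smul_mem a (hsV 0)))
      (by rw [smul_eq_C_mul]; exact (hsd 0).mul_left _)
      (by rw [eq_neg_of_add_eq_zero_left hab, smul_eq_C_mul, dvd_neg]; exact (hsd 1).mul_left _)
    have ha : a = 0 := (smul_eq_zero.1 h1).resolve_right (hs0 0)
    subst ha
    rw [zero_smul, zero_add, smul_eq_zero] at hab
    exact ⟨rfl, hab.resolve_right (hs0 1)⟩
  have : Module.Finite k V := Module.finite_of_finrank_eq_succ h2
  have hspan : Submodule.span k {s 0, s 1} = V := by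
    refine Submodule.eq_of_le_of_finrank_le (Submodule.span_le.2 (by rintro x (rfl | rfl) <;> exact hsV _)) ?_
    have := finrank_span_eq_card hli
    rw [Matrix.range_cons_cons_empty, Fintype.card_fin] at this
    omega
  obtain ⟨α, β, hαβ⟩ := Submodule.mem_span_pair.1 (hspan ▸ hsV 2)
  have hα : α ≠ 0 := fun h => by
    rw [h, zero_smul, zero_add] at hαβ
    refine hs0 2 (hkey 1 2 (by decide) _ (hV (hsV 2)) ?_ (hsd 2))
    rw [← hαβ, smul_eq_C_mul]; exact (hsd 1).mul_left _
  have hβ : β ≠ 0 := fun h => by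
    rw [h, zero_smul, add_zero] at hαβ
    refine hs0 2 (hkey 0 2 (by decide) _ (hV (hsV 2)) ?_ (hsd 2))
    rw [← hαβ, smul_eq_C_mul]; exact (hsd 0).mul_left _
  refine ⟨α • s 0, β • s 1, ?_, ?_, ?_, ?_⟩
  · rw [← hspan, Submodule.span_insert, Submodule.span_insert, Submodule.span_singleton_smul_eq hα.isUnit,
      Submodule.span_singleton_smul_eq hβ.isUnit]
  · rw [smul_eq_C_mul]; exact (hsd 0).mul_left _
  · rw [smul_eq_C_mul]; exact (hsd 1).mul_left _
  · rw [hαβ]; exact hsd 2

/-- A separable solution is the only solution, even allowing inseparable ones. -/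
theorem eq_of_isSeparable [IsAlgClosed k] (hP : Function.Injective P) (hsum : (∑ i, e i) + 2 = 2 * d + 3)
    (he : ∀ i, 1 ≤ e i ∧ e i ≤ d) {V V' : Submodule k k[X]} (hV : V ≤ degreeLE k d)
    (h2 : Module.finrank k V = 2) (hsep : W4c1limliniiii.IsSeparable V)
    (hcond : ∀ i, ∃ s ∈ V, s ≠ 0 ∧ e i ≤ rootMultiplicity (P i) s) (hV' : V' ≤ degreeLE k d)
    (h2' : Module.finrank k V' = 2) (hcond' : ∀ i, ∃ s ∈ V', s ≠ 0 ∧ e i ≤ rootMultiplicity (P i) s) : V' = V := by
  obtain ⟨⟨-, -, ⟨s, hs, hsdeg⟩, hbp⟩, -, -⟩ :=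
    Pencil.mem_ramMaps hP hsum (fun i => (he i).1) hV h2 hsep hcond
  obtain ⟨F, G, hFG, hF0, hG1, hFG2⟩ := exists_triple hP hsum (fun i => (he i).2) hV h2 hcond
  obtain ⟨F', G', hFG', hF0', hG1', hFG2'⟩ := exists_triple hP hsum (fun i => (he i).2) hV' h2' hcond'
  have hd : ∀ (W : Submodule k k[X]), W ≤ degreeLE k d → ∀ x ∈ W, x.natDegree ≤ d := fun W hW x hx =>
    natDegree_le_of_degree_le (mem_degreeLE.1 (hW hx))
  have hFm : F ∈ V := hFG ▸ Submodule.subset_span (by simp)
  have hGm : G ∈ V := hFG ▸ Submodule.subset_span (by simp)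
  have hFm' : F' ∈ V' := hFG' ▸ Submodule.subset_span (by simp)
  have hGm' : G' ∈ V' := hFG' ▸ Submodule.subset_span (by simp)
  have hD : F * G' - G * F' = 0 := by
    refine eq_zero_of_dvd hP (e := e) (D := 2 * d) (by omega) ((natDegree_sub_le _ _).trans (max_le ?_ ?_)) fun i => ?_
    · exact natDegree_mul_le.trans (by have := hd V hV F hFm; have := hd V' hV' G' hGm'; omega)
    · exact natDegree_mul_le.trans (by have := hd V hV G hGm; have := hd V' hV' F' hFm'; omega)
    fin_cases i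
    · exact dvd_sub (hF0.mul_right _) (hF0'.mul_left _)
    · exact dvd_sub (hG1'.mul_left _) (hG1.mul_right _)
    · rw [show F * G' - G * F' = F * (F' + G') - (F + G) * F' by ring]
      exact dvd_sub (hFG2'.mul_left _) (hFG2.mul_right _)
  have hco : IsCoprime F G := by
    refine (isCoprime_iff_aeval_ne_zero_of_isAlgClosed k k F G).2 fun a => ?_
    by_contra h
    push Not at h
    obtain ⟨t, ht, hta⟩ := hbp a
    obtain ⟨x, y, rfl⟩ := Submodule.mem_span_pair.1 (hFG ▸ ht)
    simp only [coe_aeval_eq_eval] at h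
    simp [h.1, h.2] at hta
  rw [sub_eq_zero] at hD
  obtain ⟨c, hc⟩ : F ∣ F' := hco.dvd_of_dvd_mul_left ⟨G', by rw [hD]⟩
  have hFne : F ≠ 0 := fun h => by
    obtain ⟨t, ht, hta⟩ := hbp (P 1)
    obtain ⟨x, y, rfl⟩ := Submodule.mem_span_pair.1 (hFG ▸ ht)
    rw [h] at hta
    have : G.eval (P 1) = 0 := dvd_iff_isRoot.1 ((dvd_pow_self _ (by have := (he 1).1; omega)).trans hG1)
    simp [this] at hta
  have hc' : G' = G * c := mul_left_cancel₀ hFne (by rw [hD, hc]; ring)
  have hc0 : c ≠ 0 := fun h => by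
    have : V' = ⊥ := by rw [← hFG', hc, hc', h]; simp
    rw [this, finrank_bot] at h2'
    omega
  have hcd : c.natDegree = 0 := by
    obtain ⟨x, y, rfl⟩ := Submodule.mem_span_pair.1 (hFG ▸ hs)
    have hs0 : x • F + y • G ≠ 0 := fun h => by
      rw [h, natDegree_zero] at hsdeg; have := (he 0).1; have := (he 0).2; omega
    have hmem : c * (x • F + y • G) ∈ V' := by
      rw [show c * (x • F + y • G) = x • F' + y • G' by rw [hc, hc']; simp only [smul_eq_C_mul]; ring]
      exact add_mem (V'.smul_mem x hFm') (V'.smul_mem y hGm')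
    have := hd V' hV' _ hmem
    rw [natDegree_mul hc0 hs0, hsdeg] at this
    omega
  obtain ⟨a, rfl⟩ : ∃ a, c = C a := ⟨_, eq_C_of_natDegree_eq_zero hcd⟩
  rw [← hFG', ← hFG, hc, hc', mul_comm F, mul_comm G, ← smul_eq_C_mul, ← smul_eq_C_mul, Submodule.span_insert,
    Submodule.span_insert, Submodule.span_singleton_smul_eq (Ne.isUnit (by simpa using hc0)),
    Submodule.span_singleton_smul_eq (Ne.isUnit (by simpa using hc0))]

end Groth.Agent.Synt29.ThreePoint
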