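import Mathlib
import Groth.Agent.Synt29.Pencil

/-!
Moving a pencil with a wildly ramified point at infinity.
-/

set_option autoImplicit false

universe u

open Polynomial W4c1limliniiii

namespace Groth.Agent.Synt29.Pencil

variable {k : Type u} [Field k]

theorem span_eq_of_wronskian_ne_zero {V : Submodule k k[X]} (h2 : Module.finrank k V = 2) {F G : k[X]}
    (hF : F ∈ V) (hG : G ∈ V) (hW : wronskian F G ≠ 0) : Submodule.span k {F, G} = V := by
  have : Module.Finite k V := Module.finite_of_finrank_eq_succ h2
  have hli : LinearIndependent k ![F, G] := by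
    rw [LinearIndependent.pair_iff]
    intro x y hab
    have e1 : x • wronskian F G = 0 := by
      have := congrArg (fun z => wronskianBilin k z G) hab
      simpa [map_add, map_smul, LinearMap.add_apply, LinearMap.smul_apply, wronskianBilin_apply,
        wronskian_self_eq_zero] using this
    have e2 : y • wronskian F G = 0 := by
      have := congrArg (fun z => wronskianBilin k F z) hab
      simpa [map_add, map_smul, LinearMap.add_apply, LinearMap.smul_apply, wronskianBilin_apply,
        wronskian_self_eq_zero] using this
    exact ⟨(smul_eq_zero.1 e1).resolve_right hW, (smul_eq_zero.1 e2).resolve_right hW⟩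
  refine Submodule.eq_of_le_of_finrank_le (Submodule.span_le.2 (by rintro x (rfl | rfl) <;> assumption)) ?_
  have := finrank_span_eq_card hli
  rw [Matrix.range_cons_cons_empty, Fintype.card_fin] at this
  omega

theorem finrank_span_pair {F G : k[X]} (hW : wronskian F G ≠ 0) :
    Module.finrank k (Submodule.span k ({F, G} : Set k[X])) = 2 := by
  have hli : LinearIndependent k ![F, G] := by
    rw [LinearIndependent.pair_iff]
    intro x y hab
    have e1 : x • wronskian F G = 0 := by
      have := congrArg (fun z => wronskianBilin k z G) hab
      simpa [map_add, map_smul, LinearMap.add_apply, LinearMap.smul_apply, wronskianBilin_apply,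
        wronskian_self_eq_zero] using this
    have e2 : y • wronskian F G = 0 := by
      have := congrArg (fun z => wronskianBilin k F z) hab
      simpa [map_add, map_smul, LinearMap.add_apply, LinearMap.smul_apply, wronskianBilin_apply,
        wronskian_self_eq_zero] using this
    exact ⟨(smul_eq_zero.1 e1).resolve_right hW, (smul_eq_zero.1 e2).resolve_right hW⟩
  have := finrank_span_eq_card hli
  rwa [Matrix.range_cons_cons_empty, Fintype.card_fin] at this

/-- With tame ramification the index is read off the Wronskian. -/
theorem rootMultiplicity_wronskian_of_pencil {V : Submodule k k[X]} (h2 : Module.finrank k V = 2) {a : k}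
    (hbp : ∃ u ∈ V, u.eval a ≠ 0) {F G : k[X]} (hF : F ∈ V) (hG : G ∈ V) (hW : wronskian F G ≠ 0)
    {s : k[X]} (hs : s ∈ V) (hs0 : s ≠ 0) (hsa : s.eval a = 0) (hcast : (s.rootMultiplicity a : k) ≠ 0) :
    (wronskian F G).rootMultiplicity a = s.rootMultiplicity a - 1 := by
  obtain ⟨t, ht, hst⟩ := exists_partner h2 ⟨F, hF, G, hG, hW⟩ s hs hs0
  have hta : t.eval a ≠ 0 := fun h => by
    obtain ⟨u, hu, hua⟩ := hbp
    rw [← span_eq_of_wronskian_ne_zero h2 hs ht hst] at hu
    obtain ⟨x, y, rfl⟩ := Submodule.mem_span_pair.1 hu
    simp [hsa, h] at hua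
  rw [← rootMultiplicity_eq_of_ne_zero h2 hF hG hs ht hW hst a]
  exact rootMultiplicity_wronskian hs0 rfl hcast hta hst

end Groth.Agent.Synt29.Pencil
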