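import Mathlib

/-!
Generic finiteness of the fibres of a projection of a locally closed affine set, tested on generic points.
-/

set_option autoImplicit false

universe u w

open MvPolynomial

namespace Groth.Agent.Synt29.GenFinite

variable (k : Type u) [Field k] {σ : Type} [Finite σ] {n : ℕ} (π : Fin n → σ) (I : Set (MvPolynomial σ k))
  (h : MvPolynomial σ k)

/-- A generic point: a field with coordinates generating it, in the locally closed set. -/
def IsPoint (K : Type u) [Field K] [Algebra k K] (z : σ → K) : Prop :=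
  IntermediateField.adjoin k (Set.range z) = ⊤ ∧ (∀ f ∈ I, aeval z f = 0) ∧ aeval z h ≠ 0

omit [Finite σ] in
theorem exists_point (P : Ideal (MvPolynomial σ k)) [P.IsPrime] (hI : ∀ f ∈ I, f ∈ P) (hh : h ∉ P) :
    ∃ (K : Type u) (_ : Field K) (_ : Algebra k K) (z : σ → K),
      IsPoint k I h K z ∧ ∀ f, aeval z f = 0 → f ∈ P := by
  let R := MvPolynomial σ k ⧸ P
  let K := FractionRing R
  let φ : MvPolynomial σ k →ₐ[k] K := (IsScalarTower.toAlgHom k R K).comp (Ideal.Quotient.mkₐ k P)
  let z : σ → K := fun v => φ (X v)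
  have hz : (aeval z : MvPolynomial σ k →ₐ[k] K) = φ := algHom_ext fun v => by simp [z]
  have hker : ∀ f, φ f = 0 ↔ f ∈ P := fun f =>
    (map_eq_zero_iff (algebraMap R K) (IsFractionRing.injective R K)).trans Ideal.Quotient.eq_zero_iff_mem
  refine ⟨K, inferInstance, inferInstance, z, ⟨?_, fun f hf => ?_, ?_⟩, fun f hf => ?_⟩
  · rw [eq_top_iff]
    rintro a -
    obtain ⟨r, s, -, rfl⟩ := IsFractionRing.div_surjective R a
    have hmem : ∀ f, φ f ∈ IntermediateField.adjoin k (Set.range z) := fun f => by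
      rw [← hz]
      have : aeval z f ∈ (aeval z : MvPolynomial σ k →ₐ[k] K).range := ⟨f, rfl⟩
      rw [← Algebra.adjoin_range_eq_range_aeval] at this
      exact IntermediateField.algebra_adjoin_le_adjoin k _ this
    obtain ⟨f, rfl⟩ := Ideal.Quotient.mk_surjective r
    obtain ⟨g, rfl⟩ := Ideal.Quotient.mk_surjective s
    exact div_mem (hmem f) (hmem g)
  · rw [hz, hker]; exact hI f hf
  · rw [hz, ne_eq, hker]; exact hh
  · rwa [hz, hker] at hf

/-- The points of the locally closed set. -/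
def pts : Set (σ → k) := {y | (∀ f ∈ I, eval y f = 0) ∧ eval y h ≠ 0}

/-- Reduction to the irreducible components. -/
theorem exists_primes :
    ∃ S : Finset (Ideal (MvPolynomial σ k)), (∀ P ∈ S, P.IsPrime ∧ (∀ f ∈ I, f ∈ P) ∧ h ∉ P) ∧
      ∀ y ∈ pts k I h, ∃ P ∈ S, ∀ f ∈ P, eval y f = 0 := by
  classical
  have hfin := (Ideal.span I).finite_minimalPrimes_of_isNoetherianRing
  refine ⟨hfin.toFinset.filter (fun P => h ∉ P), fun P hP => ?_, fun y hy => ?_⟩
  · rw [Finset.mem_filter, Set.Finite.mem_toFinset] at hP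
    exact ⟨hP.1.1.1, fun f hf => hP.1.1.2 (Ideal.subset_span hf), hP.2⟩
  · have hmax : (RingHom.ker (eval y)).IsPrime := RingHom.ker_isPrime _
    obtain ⟨P, hP, hle⟩ := Ideal.exists_minimalPrimes_le (I := Ideal.span I) (J := RingHom.ker (eval y))
      (Ideal.span_le.2 fun f hf => hy.1 f hf)
    refine ⟨P, ?_, fun f hf => hle hf⟩
    rw [Finset.mem_filter, Set.Finite.mem_toFinset]
    exact ⟨hP, fun hh => hy.2 (hle hh)⟩

/-- No dominant component: the projection misses the complement of a hypersurface. -/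
theorem exists_ne_zero_forall_eq_empty
    (H : ∀ (K : Type u) [Field K] [Algebra k K] (z : σ → K), IsPoint k I h K z →
      ¬ AlgebraicIndependent k (z ∘ π)) :
    ∃ Φ : MvPolynomial (Fin n) k, Φ ≠ 0 ∧ ∀ y ∈ pts k I h, eval (y ∘ π) Φ = 0 := by
  classical
  obtain ⟨S, hS, hcover⟩ := exists_primes k I h
  have key : ∀ P ∈ S, ∃ q : MvPolynomial (Fin n) k, q ≠ 0 ∧ rename π q ∈ P := by
    intro P hP
    obtain ⟨hp, hI, hh⟩ := hS P hP
    obtain ⟨K, hK, hA, z, hz, hker⟩ := exists_point k I h P hI hh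
    have hni := H K z hz
    rw [algebraicIndependent_iff] at hni
    push Not at hni
    obtain ⟨q, hq, hq0⟩ := hni
    exact ⟨q, hq0, hker _ (by rw [aeval_rename]; exact hq)⟩
  choose! q hq0 hqP using key
  refine ⟨∏ P ∈ S, q P, Finset.prod_ne_zero_iff.2 hq0, fun y hy => ?_⟩
  obtain ⟨P, hP, hPy⟩ := hcover y hy
  rw [map_prod]
  exact Finset.prod_eq_zero hP (by rw [← eval_rename]; exact hPy _ (hqP P hP))

/-- Generic finiteness. -/
theorem exists_ne_zero_forall_finite
    (H : ∀ (K : Type u) [Field K] [Algebra k K] (z : σ → K), IsPoint k I h K z →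
      ∀ v : σ, ¬ AlgebraicIndependent k (fun o : Option (Fin n) => o.elim (z v) (z ∘ π))) :
    ∃ Φ : MvPolynomial (Fin n) k, Φ ≠ 0 ∧
      ∀ P : Fin n → k, eval P Φ ≠ 0 → {y ∈ pts k I h | y ∘ π = P}.Finite := by
  classical
  have := Fintype.ofFinite σ
  obtain ⟨S, hS, hcover⟩ := exists_primes k I h
  let π' : σ → Option (Fin n) → σ := fun v o => o.elim v π
  have key : ∀ P ∈ S, ∀ v : σ, ∃ q : MvPolynomial (Option (Fin n)) k, q ≠ 0 ∧ rename (π' v) q ∈ P := by
    intro P hP v
    obtain ⟨hp, hI, hh⟩ := hS P hP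
    obtain ⟨K, hK, hA, z, hz, hker⟩ := exists_point k I h P hI hh
    have hni := H K z hz v
    rw [algebraicIndependent_iff] at hni
    push Not at hni
    obtain ⟨q, hq, hq0⟩ := hni
    refine ⟨q, hq0, hker _ ?_⟩
    rw [aeval_rename, ← hq]
    congr 1
    ext o
    cases o <;> simp [π']
  choose! q hq0 hqP using key
  let c : Ideal (MvPolynomial σ k) → σ → MvPolynomial (Fin n) k := fun P v =>
    (optionEquivLeft k (Fin n) (q P v)).leadingCoeff
  refine ⟨∏ P ∈ S, ∏ v, c P v, Finset.prod_ne_zero_iff.2 fun P hP => Finset.prod_ne_zero_iff.2 fun v _ => ?_,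
    fun P hP => ?_⟩
  · exact Polynomial.leadingCoeff_ne_zero.2 ((map_ne_zero_iff _ (optionEquivLeft k (Fin n)).injective).2 (hq0 P hP v))
  let r : Ideal (MvPolynomial σ k) → σ → Polynomial k := fun Q v =>
    (optionEquivLeft k (Fin n) (q Q v)).map (eval P)
  refine (Set.Finite.pi' (t := fun v => ⋃ Q ∈ S, {a | (r Q v).IsRoot a}) fun v =>
    S.finite_toSet.biUnion fun Q hQ => Polynomial.finite_setOf_isRoot ?_).subset fun y hy v => ?_
  · intro h0
    apply hP
    simp only [map_prod]
    refine Finset.prod_eq_zero hQ (Finset.prod_eq_zero (Finset.mem_univ v) ?_)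
    have := congrArg (fun f : Polynomial k => f.coeff (optionEquivLeft k (Fin n) (q Q v)).natDegree) h0
    simp only [r, Polynomial.coeff_map, Polynomial.coeff_zero] at this
    exact this
  · obtain ⟨hy, rfl⟩ := hy
    obtain ⟨Q, hQ, hQy⟩ := hcover y hy
    refine Set.mem_biUnion hQ ?_
    show (r Q v).IsRoot (y v)
    have h0 := hQy _ (hqP Q hQ v)
    rw [eval_rename] at h0
    rw [Polynomial.IsRoot.def, ← h0]
    simp only [r]
    rw [← optionEquivLeft_elim_eval k (Fin n) (y ∘ π) (y v)]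
    congr 2
    ext o
    cases o <;> simp [π']

end Groth.Agent.Synt29.GenFinite
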