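import Groth.Agent.Synt29.RamDim
import Groth.Agent.Synt29.GenFinite
import Groth.Agent.Synt29.PencilFamily

/-!
Pencils with prescribed ramification as points of a locally closed affine set.
-/

set_option autoImplicit false

universe u

open Polynomial W4c1limliniiii

namespace Groth.Agent.Synt29.RamPoints

/-- Ramification data in which unramified marked points are allowed. -/
def Adm (p d : ℕ) {n : ℕ} (e : Fin n → ℕ) : Prop :=
  (∀ i, 1 ≤ e i ∧ ¬ p ∣ e i) ∧ (∑ i, e i) + 2 = 2 * d + n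

theorem Adm.of_admissible {p d n : ℕ} {e : Fin n → ℕ} (he : Admissible p d e) : Adm p d e :=
  ⟨fun i => ⟨le_trans (by norm_num) (he.1 i).1, (he.1 i).2.2⟩, he.2⟩

variable (k : Type u) [Field k] (d' n : ℕ)

/-- The coordinates: coefficients of the normalised pair and the points. -/
abbrev Var := (Fin 2 × Fin d') ⊕ Fin n

/-- The universal members of the pencil. -/
noncomputable def U (t : Fin 2) (D : ℕ) : (MvPolynomial (Var d' n) k)[X] :=
  (WronskiMap.gen k t D (d' := d')).map (MvPolynomial.rename Sum.inl).toRingHom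

/-- The universal member vanishing at the point. -/
noncomputable def T (i : Fin n) : (MvPolynomial (Var d' n) k)[X] :=
  taylor (MvPolynomial.X (Sum.inr i)) (RamDim.N (U k d' n 0 (d' + 1)) (U k d' n 1 d') (MvPolynomial.X (Sum.inr i)))

/-- The closed conditions. -/
def eqs (e : Fin n → ℕ) : Set (MvPolynomial (Var d' n) k) := {f | ∃ i l, l < e i ∧ f = (T k d' n i).coeff l}

/-- The open condition. -/
noncomputable def nz (e : Fin n → ℕ) : MvPolynomial (Var d' n) k :=
  (∏ i, (T k d' n i).coeff (e i)) *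
    ∏ q ∈ (Finset.univ : Finset (Fin n)).offDiag, (MvPolynomial.X (Sum.inr q.1) - MvPolynomial.X (Sum.inr q.2))

/-- Two branch values coincide. -/
noncomputable def sep (i j : Fin n) : MvPolynomial (Var d' n) k :=
  (U k d' n 0 (d' + 1)).eval (MvPolynomial.X (Sum.inr i)) * (U k d' n 1 d').eval (MvPolynomial.X (Sum.inr j)) -
    (U k d' n 0 (d' + 1)).eval (MvPolynomial.X (Sum.inr j)) * (U k d' n 1 d').eval (MvPolynomial.X (Sum.inr i))

variable {k d' n} {L : Type u} [Field L] [Algebra k L] (z : Var d' n → L)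

theorem map_U (t : Fin 2) (D : ℕ) :
    (U k d' n t D).map (MvPolynomial.aeval (R := k) z).toRingHom = WronskiMap.spec (z ∘ Sum.inl) t D := by
  simp [U, WronskiMap.gen, WronskiMap.spec, Polynomial.map_sum]

theorem aeval_eval (F : (MvPolynomial (Var d' n) k)[X]) (i : Fin n) :
    MvPolynomial.aeval z (F.eval (MvPolynomial.X (Sum.inr i))) =
      (F.map (MvPolynomial.aeval (R := k) z).toRingHom).eval (z (Sum.inr i)) := by
  rw [eval_map, show z (Sum.inr i) = (MvPolynomial.aeval (R := k) z).toRingHom (MvPolynomial.X (Sum.inr i)) by simp,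
    eval₂_hom]
  rfl

theorem aeval_sep (i j : Fin n) :
    MvPolynomial.aeval z (sep k d' n i j) =
      (WronskiMap.spec (z ∘ Sum.inl) 0 (d' + 1)).eval (z (Sum.inr i)) *
          (WronskiMap.spec (z ∘ Sum.inl) 1 d').eval (z (Sum.inr j)) -
        (WronskiMap.spec (z ∘ Sum.inl) 0 (d' + 1)).eval (z (Sum.inr j)) *
          (WronskiMap.spec (z ∘ Sum.inl) 1 d').eval (z (Sum.inr i)) := by
  simp only [sep, map_sub, map_mul, aeval_eval, map_U]

theorem aeval_coeff_T (i : Fin n) (l : ℕ) :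
    MvPolynomial.aeval z ((T k d' n i).coeff l) = (taylor (z (Sum.inr i))
      (RamDim.N (WronskiMap.spec (z ∘ Sum.inl) 0 (d' + 1)) (WronskiMap.spec (z ∘ Sum.inl) 1 d')
        (z (Sum.inr i)))).coeff l := by
  have h : (T k d' n i).map (MvPolynomial.aeval (R := k) z).toRingHom = taylor (z (Sum.inr i))
      (RamDim.N (WronskiMap.spec (z ∘ Sum.inl) 0 (d' + 1)) (WronskiMap.spec (z ∘ Sum.inl) 1 d')
        (z (Sum.inr i))) := by
    simp [T, taylor_apply, Polynomial.map_comp, RamDim.N, aeval_eval]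
    simp only [← AlgHom.toRingHom_eq_coe, map_U]
  rw [← h, coeff_map]; rfl

/-- What membership means. -/
structure IsData (e : Fin n → ℕ) : Prop where
  inj : Function.Injective (z ∘ Sum.inr)
  dvd : ∀ i, (X - C (z (Sum.inr i))) ^ e i ∣
    RamDim.N (WronskiMap.spec (z ∘ Sum.inl) 0 (d' + 1)) (WronskiMap.spec (z ∘ Sum.inl) 1 d') (z (Sum.inr i))
  not_dvd : ∀ i, ¬ (X - C (z (Sum.inr i))) ^ (e i + 1) ∣
    RamDim.N (WronskiMap.spec (z ∘ Sum.inl) 0 (d' + 1)) (WronskiMap.spec (z ∘ Sum.inl) 1 d') (z (Sum.inr i))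

theorem mem_iff (e : Fin n → ℕ) :
    ((∀ f ∈ eqs k d' n e, MvPolynomial.aeval z f = 0) ∧ MvPolynomial.aeval z (nz k d' n e) ≠ 0) ↔ IsData z e := by
  classical
  have hnz : MvPolynomial.aeval z (nz k d' n e) ≠ 0 ↔
      (∀ i, MvPolynomial.aeval z ((T k d' n i).coeff (e i)) ≠ 0) ∧ Function.Injective (z ∘ Sum.inr) := by
    simp only [nz, map_mul, map_prod, map_sub, MvPolynomial.aeval_X, mul_ne_zero_iff, Finset.prod_ne_zero_iff,
      Finset.mem_univ, forall_const, Finset.mem_offDiag, true_and, sub_ne_zero]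
    exact and_congr_right' ⟨fun h a b hab => by_contra fun hne => h (a, b) hne hab,
      fun h q hq hz => hq (h hz)⟩
  rw [hnz]
  constructor
  · rintro ⟨h1, h2, h3⟩
    refine ⟨h3, fun i => (RamDim.pow_dvd_iff_taylor _ _ _).2 fun l hl => ?_, fun i hd => h2 i ?_⟩
    · rw [← aeval_coeff_T (k := k)]; exact h1 _ ⟨i, l, hl, rfl⟩
    · rw [aeval_coeff_T]; exact (RamDim.pow_dvd_iff_taylor _ _ _).1 hd _ (Nat.lt_succ_self _)
  · rintro ⟨h3, h1, h2⟩
    refine ⟨?_, fun i h0 => h2 i ((RamDim.pow_dvd_iff_taylor _ _ _).2 fun l hl => ?_), h3⟩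
    · rintro f ⟨i, l, hl, rfl⟩
      rw [aeval_coeff_T]; exact (RamDim.pow_dvd_iff_taylor _ _ _).1 (h1 i) _ hl
    · rcases Nat.lt_succ_iff_lt_or_eq.1 hl with hl | rfl
      · exact (RamDim.pow_dvd_iff_taylor _ _ _).1 (h1 i) _ hl
      · rwa [← aeval_coeff_T (k := k)]

variable {z}

theorem IsData.isRam (p : ℕ) [CharP k p] {e : Fin n → ℕ} (h : IsData z e) (he : Adm p (d' + 1) e) :
    RamDim.IsRam (z ∘ Sum.inl) (z ∘ Sum.inr) e where
  inj := h.inj
  one_le i := (he.1 i).1
  cast_ne i := by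
    haveI := charP_of_injective_algebraMap (algebraMap k L).injective p
    rw [ne_eq, CharP.cast_eq_zero_iff L p]
    exact (he.1 i).2
  sum_eq := by
    have h1 : ∑ i, (e i - 1) + n = ∑ i, e i := by
      have h := Finset.sum_congr (s₁ := Finset.univ) rfl fun i _ =>
        Nat.sub_add_cancel (he.1 i).1
      rw [Finset.sum_add_distrib] at h
      simpa using h
    have := he.2
    omega
  dvd := h.dvd
  not_dvd := h.not_dvd

theorem adjoin_union_eq_top (h : IntermediateField.adjoin k (Set.range z) = ⊤) :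
    IntermediateField.adjoin k (Set.range (z ∘ Sum.inl) ∪ Set.range (z ∘ Sum.inr)) = ⊤ := by
  rw [← h]
  congr 1
  ext a
  simp [Sum.exists]

variable (k)

theorem generic_finite [PerfectField k] (p : ℕ) [CharP k p] {e : Fin n → ℕ} (he : Adm p (d' + 1) e) :
    ∃ Φ : MvPolynomial (Fin n) k, Φ ≠ 0 ∧ ∀ P : Fin n → k, MvPolynomial.eval P Φ ≠ 0 →
      {y ∈ GenFinite.pts k (eqs k d' n e) (nz k d' n e) | y ∘ Sum.inr = P}.Finite :=
  GenFinite.exists_ne_zero_forall_finite k Sum.inr _ _ fun K _ _ z hz v ha => by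
    have h := ((mem_iff z e).1 hz.2).isRam (k := k) p he
    have := h.card_le (adjoin_union_eq_top hz.1) Finset.univ (fun j hj => absurd (Finset.mem_univ j) hj) _ ha
    simp at this

theorem generic_sep [PerfectField k] (p : ℕ) [CharP k p] {e : Fin n → ℕ} (he : Adm p (d' + 1) e)
    {i j : Fin n} (hij : i ≠ j) :
    ∃ Φ : MvPolynomial (Fin n) k, Φ ≠ 0 ∧ ∀ y ∈ GenFinite.pts k (insert (sep k d' n i j) (eqs k d' n e))
      (nz k d' n e), MvPolynomial.eval (y ∘ Sum.inr) Φ = 0 :=
  GenFinite.exists_ne_zero_forall_eq_empty k Sum.inr _ _ fun K _ _ z hz ha => by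
    obtain ⟨h1, h2, h3⟩ := hz
    have h := ((mem_iff z e).1 ⟨fun f hf => h2 f (Set.mem_insert_of_mem _ hf), h3⟩).isRam (k := k) p he
    have hs := h2 _ (Set.mem_insert _ _)
    rw [aeval_sep, sub_eq_zero] at hs
    have := h.card_le (adjoin_union_eq_top h1) (Finset.univ.erase j) (fun j' hj' => ?_) _ ha
    · rw [Finset.card_erase_of_mem (Finset.mem_univ j), Finset.card_univ, Fintype.card_fin] at this
      have := j.pos
      omega
    · obtain rfl : j' = j := by simpa using hj'
      exact ⟨i, Finset.mem_erase.2 ⟨hij, Finset.mem_univ _⟩, hs⟩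

/-- Every pencil with the prescribed ramification is the span of a normalised pair. -/
theorem exists_point (p : ℕ) {e : Fin n → ℕ} (he : Adm p (d' + 1) e) {P : Fin n → k}
    (hP : Function.Injective P) {V : Submodule k k[X]} (hV : V ∈ ramMaps (d' + 1) P e) :
    ∃ y ∈ GenFinite.pts k (eqs k d' n e) (nz k d' n e), y ∘ Sum.inr = P ∧
      Submodule.span k {WronskiMap.spec (y ∘ Sum.inl) 0 (d' + 1), WronskiMap.spec (y ∘ Sum.inl) 1 d'} = V := by
  classical
  obtain ⟨⟨hVle, h2, ⟨F₀, hF₀, hF₀d⟩, hbp⟩, hsep, hram⟩ := hV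
  have h1 : ∀ i, 1 ≤ e i := fun i => (he.1 i).1
  have hsum : ∑ i, (e i - 1) = 2 * d' := by
    have h : ∑ i, (e i - 1) + n = ∑ i, e i := by
      have h := Finset.sum_congr (s₁ := Finset.univ) rfl fun i _ => Nat.sub_add_cancel (h1 i)
      rw [Finset.sum_add_distrib] at h
      simpa using h
    have := he.2
    omega
  let Q : k[X] := ∏ i, (X - C (P i)) ^ (e i - 1)
  have hQd : Q.natDegree = 2 * d' := by
    rw [natDegree_prod_of_monic _ _ fun i _ => (monic_X_sub_C _).pow _]
    simpa [natDegree_pow] using hsum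
  have hdeg : ∀ s ∈ V, s.natDegree ≤ d' + 1 := fun s hs => natDegree_le_of_degree_le (mem_degreeLE.1 (hVle hs))
  have hF₀0 : F₀ ≠ 0 := fun h => by rw [h, natDegree_zero] at hF₀d; omega
  obtain ⟨t, ht, hFt⟩ := Pencil.exists_partner h2 hsep F₀ hF₀ hF₀0
  let F₁ := C F₀.leadingCoeff⁻¹ * F₀
  have hF₁ : F₁ ∈ V := by simp only [F₁, ← smul_eq_C_mul]; exact V.smul_mem _ hF₀
  have hF₁d : F₁.natDegree = d' + 1 := by
    rw [natDegree_C_mul (inv_ne_zero (leadingCoeff_ne_zero.2 hF₀0)), hF₀d]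
  have hF₁m : F₁.Monic := monic_C_mul_of_mul_leadingCoeff_eq_one (inv_mul_cancel₀ (leadingCoeff_ne_zero.2 hF₀0))
  let G₀ := t - C (t.coeff (d' + 1)) * F₁
  have hG₀ : G₀ ∈ V := by simp only [G₀, ← smul_eq_C_mul]; exact V.sub_mem ht (V.smul_mem _ hF₁)
  have hW₁ : wronskian F₁ G₀ ≠ 0 := by
    have e1 : wronskian F₁ G₀ = C F₀.leadingCoeff⁻¹ * wronskian F₀ t := by
      simp only [F₁, G₀, wronskian, derivative_sub, derivative_mul, derivative_C]; ring
    rw [e1]
    exact mul_ne_zero (C_ne_zero.2 (inv_ne_zero (leadingCoeff_ne_zero.2 hF₀0))) hFt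
  have hG₀d : G₀.natDegree ≤ d' := natDegree_le_iff_coeff_eq_zero.2 fun j hj => by
    rcases eq_or_lt_of_le (show d' + 1 ≤ j by omega) with rfl | h
    · have : F₁.coeff (d' + 1) = 1 := by rw [← hF₁d, coeff_natDegree]; exact hF₁m
      simp only [G₀, coeff_sub, coeff_C_mul, this, mul_one, sub_self]
    · rw [coeff_eq_zero_of_natDegree_lt]
      exact lt_of_le_of_lt (hdeg _ hG₀) h
  have hG₀0 : G₀ ≠ 0 := fun h => hW₁ (by rw [h, wronskian_zero_right])
  have hdvd : Q ∣ wronskian F₁ G₀ := Finset.prod_dvd_of_coprime (fun i _ j _ hij =>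
    (isCoprime_X_sub_C_of_isUnit_sub (sub_ne_zero.2 fun h => hij (hP h)).isUnit).pow) fun i _ => by
      obtain ⟨s, hs, hs0, hsm⟩ := (hram i).1
      obtain ⟨u, hu, hsu⟩ := Pencil.exists_partner h2 hsep s hs hs0
      refine (le_rootMultiplicity_iff hW₁).1 ?_
      rw [← Pencil.rootMultiplicity_eq_of_ne_zero h2 hF₁ hG₀ hs hu hW₁ hsu]
      exact (le_rootMultiplicity_iff hsu).2 (Pencil.pow_pred_dvd_wronskian u ((le_rootMultiplicity_iff hs0).1 hsm))
  have hG₀e : G₀.natDegree = d' := by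
    have hle := natDegree_le_of_dvd hdvd hW₁
    have hWle : (wronskian F₁ G₀).natDegree ≤ d' + G₀.natDegree := by
      rw [wronskian]
      refine (natDegree_sub_le _ _).trans (max_le ?_ ?_)
      · rcases Nat.eq_zero_or_pos G₀.natDegree with h0 | h0
        · rw [eq_C_of_natDegree_eq_zero h0]; simp
        · have := natDegree_derivative_le G₀
          exact natDegree_mul_le.trans (by omega)
      · have := natDegree_derivative_le F₁
        exact natDegree_mul_le.trans (by omega)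
    omega
  let G₁ := C G₀.leadingCoeff⁻¹ * G₀
  have hG₁ : G₁ ∈ V := by simp only [G₁, ← smul_eq_C_mul]; exact V.smul_mem _ hG₀
  have hG₁d : G₁.natDegree = d' := by rw [natDegree_C_mul (inv_ne_zero (leadingCoeff_ne_zero.2 hG₀0)), hG₀e]
  have hG₁m : G₁.Monic := monic_C_mul_of_mul_leadingCoeff_eq_one (inv_mul_cancel₀ (leadingCoeff_ne_zero.2 hG₀0))
  let F₂ := F₁ - C (F₁.coeff d') * G₁
  have hF₂ : F₂ ∈ V := by simp only [F₂, ← smul_eq_C_mul]; exact V.sub_mem hF₁ (V.smul_mem _ hG₁)
  let y : Var d' n → k := Sum.elim (fun v => if v.1 = 0 then F₂.coeff v.2 else G₁.coeff v.2) P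
  have hyF : WronskiMap.spec (y ∘ Sum.inl) 0 (d' + 1) = F₂ := by
    ext j
    rw [WronskiMap.coeff_spec]
    rcases lt_trichotomy j d' with h | h | h
    · rw [if_neg (by omega), dif_pos h, zero_add]
      simp [y]
    · subst h
      rw [if_neg (by omega), dif_neg (lt_irrefl j), zero_add]
      simp only [F₂, coeff_sub, coeff_C_mul]
      rw [← hG₁d, coeff_natDegree, hG₁m, mul_one, sub_self]
    · rw [dif_neg (by omega), add_zero]
      simp only [F₂, coeff_sub, coeff_C_mul, coeff_eq_zero_of_natDegree_lt (hG₁d ▸ h), mul_zero, sub_zero]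
      rcases eq_or_lt_of_le (show d' + 1 ≤ j by omega) with rfl | h'
      · rw [if_pos rfl, ← hF₁d, coeff_natDegree, hF₁m]
      · rw [if_neg h'.ne', coeff_eq_zero_of_natDegree_lt (by omega)]
  have hyG : WronskiMap.spec (y ∘ Sum.inl) 1 d' = G₁ := by
    ext j
    rw [WronskiMap.coeff_spec]
    rcases lt_trichotomy j d' with h | h | h
    · rw [if_neg h.ne, dif_pos h, zero_add]
      simp [y]
    · subst h
      rw [if_pos rfl, dif_neg (lt_irrefl j), add_zero, ← hG₁d, coeff_natDegree, hG₁m]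
    · rw [if_neg h.ne', dif_neg (by omega), add_zero, coeff_eq_zero_of_natDegree_lt (by omega)]
  have hspan : Submodule.span k {F₂, G₁} = V := by
    refine Pencil.span_eq_of_wronskian_ne_zero h2 hF₂ hG₁ ?_
    have : wronskian F₂ G₁ = C G₀.leadingCoeff⁻¹ * wronskian F₁ G₀ := by
      simp only [F₂, G₁, wronskian, derivative_sub, derivative_mul, derivative_C]; ring
    rw [this]; exact mul_ne_zero (C_ne_zero.2 (inv_ne_zero (leadingCoeff_ne_zero.2 hG₀0))) hW₁
  have hdata : IsData y e := by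
    have key : ∀ i, RamDim.N F₂ G₁ (P i) ≠ 0 ∧ RamDim.N F₂ G₁ (P i) ∈ V ∧
        (X - C (P i)) ^ e i ∣ RamDim.N F₂ G₁ (P i) := by
      intro i
      have hne : G₁.eval (P i) ≠ 0 ∨ F₂.eval (P i) ≠ 0 := by
        by_contra h
        push Not at h
        obtain ⟨s, hs, hs'⟩ := hbp (P i)
        rw [← hspan, Submodule.mem_span_pair] at hs
        obtain ⟨a, b, rfl⟩ := hs
        exact hs' (by simp [IsRoot.def, h.1, h.2])
      have hmem : RamDim.N F₂ G₁ (P i) ∈ V := by
        simp only [RamDim.N, ← smul_eq_C_mul]; exact V.sub_mem (V.smul_mem _ hF₂) (V.smul_mem _ hG₁)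
      have hN0 : RamDim.N F₂ G₁ (P i) ≠ 0 := by
        intro h0
        have c1 := congrArg (fun f : k[X] => f.coeff (d' + 1)) h0
        have c2 := congrArg (fun f : k[X] => f.coeff d') h0
        simp only [RamDim.N, coeff_sub, coeff_C_mul, coeff_zero, ← hyF, ← hyG, WronskiMap.coeff_spec] at c1 c2
        rw [hyF, hyG] at c1 c2
        simp at c1 c2
        rcases hne with h | h
        · exact h c1
        · exact h c2
      refine ⟨hN0, hmem, ?_⟩
      obtain ⟨s, hs, hs0, hsm⟩ := (hram i).1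
      have hsd := (le_rootMultiplicity_iff hs0).1 hsm
      rw [← hspan, Submodule.mem_span_pair] at hs
      obtain ⟨a, b, rfl⟩ := hs
      have hev : a * F₂.eval (P i) + b * G₁.eval (P i) = 0 := by
        have := dvd_iff_isRoot.1 ((dvd_pow_self _ (by have := h1 i; omega)).trans hsd)
        simpa using this
      rcases hne with hG | hF
      · have e1 : C (G₁.eval (P i)) * (a • F₂ + b • G₁) = C a * RamDim.N F₂ G₁ (P i) := by
          have : C b * C (G₁.eval (P i)) = -(C a * C (F₂.eval (P i))) := by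
            rw [← map_mul, ← map_mul, ← map_neg]; congr 1; linear_combination hev
          simp only [smul_eq_C_mul, RamDim.N]; linear_combination G₁ * this
        have ha : a ≠ 0 := fun h => by
          rw [h, map_zero, zero_mul, mul_eq_zero, C_eq_zero] at e1
          exact e1.elim hG (h ▸ hs0)
        refine ((isUnit_C.2 ha.isUnit).dvd_mul_left).1 ?_
        rw [← e1]; exact hsd.mul_left _
      · have e1 : C (F₂.eval (P i)) * (a • F₂ + b • G₁) = C (-b) * RamDim.N F₂ G₁ (P i) := by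
          have : C a * C (F₂.eval (P i)) = -(C b * C (G₁.eval (P i))) := by
            rw [← map_mul, ← map_mul, ← map_neg]; congr 1; linear_combination hev
          simp only [smul_eq_C_mul, RamDim.N, map_neg]; linear_combination F₂ * this
        have hb : -b ≠ 0 := fun h => by
          rw [h, map_zero, zero_mul, mul_eq_zero, C_eq_zero] at e1
          exact e1.elim hF hs0
        refine ((isUnit_C.2 hb.isUnit).dvd_mul_left).1 ?_
        rw [← e1]; exact hsd.mul_left _
    refine ⟨hP, fun i => ?_, fun i hd => ?_⟩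
    · rw [hyF, hyG]; exact (key i).2.2
    · rw [hyF, hyG] at hd
      have := (hram i).2 _ (key i).2.1 (key i).1
      have := (le_rootMultiplicity_iff (key i).1).2 hd
      simp only [y, Sum.elim_inr] at *
      omega
  refine ⟨y, ?_, rfl, ?_⟩
  · simpa [GenFinite.pts, MvPolynomial.aeval_eq_eval] using (mem_iff (k := k) y e).2 hdata
  · rw [hyF, hyG, hspan]


/-- At general points: distinct, finitely many pencils, no two of the points in one fibre. -/
theorem general [IsAlgClosed k] (p : ℕ) [CharP k p] {e : Fin n → ℕ} (he : Adm p (d' + 1) e) :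
    ∃ Φ : MvPolynomial (Fin n) k, Φ ≠ 0 ∧ ∀ P : Fin n → k, MvPolynomial.eval P Φ ≠ 0 →
      Function.Injective P ∧ (ramMaps (d' + 1) P e).Finite ∧
        ∀ V ∈ ramMaps (d' + 1) P e, ∀ i j : Fin n, i ≠ j →
          ∀ s ∈ V, (s.IsRoot (P i) ∧ s.IsRoot (P j)) → s = 0 := by
  classical
  obtain ⟨Φ₁, hΦ₁, hfin⟩ := RamPoints.generic_finite k p he
  have hs := fun q : Fin n × Fin n => fun hq : q.1 ≠ q.2 => RamPoints.generic_sep k p he hq
  choose! Φ₂ hΦ₂ hsep using hs
  refine ⟨Φ₁ * ∏ q ∈ (Finset.univ : Finset (Fin n)).offDiag,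
    (Φ₂ q * (MvPolynomial.X q.1 - MvPolynomial.X q.2)), mul_ne_zero hΦ₁ (Finset.prod_ne_zero_iff.2 fun q hq => ?_),
    fun P hP => ?_⟩
  · have hne : q.1 ≠ q.2 := (Finset.mem_offDiag.1 hq).2.2
    exact mul_ne_zero (hΦ₂ q hne) (sub_ne_zero.2 fun h => hne (MvPolynomial.X_injective h))
  simp only [map_mul, map_prod, map_sub, MvPolynomial.eval_X, mul_ne_zero_iff, Finset.prod_ne_zero_iff,
    Finset.mem_offDiag, Finset.mem_univ, true_and, sub_ne_zero] at hP
  obtain ⟨hP₁, hP₂⟩ := hP
  have hinj : Function.Injective P := fun a b hab => by_contra fun hne => (hP₂ (a, b) hne).2 hab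
  refine ⟨hinj, ((hfin P hP₁).image fun y => Submodule.span k
    {WronskiMap.spec (y ∘ Sum.inl) 0 (d' + 1), WronskiMap.spec (y ∘ Sum.inl) 1 d'}).subset fun V hV => ?_,
    fun V hV i j hij s hs hroots => ?_⟩
  · obtain ⟨y, hy, hyP, hyV⟩ := RamPoints.exists_point k p he hinj hV
    exact ⟨y, ⟨hy, hyP⟩, hyV⟩
  · obtain ⟨y, hy, hyP, hyV⟩ := RamPoints.exists_point k p he hinj hV
    rw [← hyV, Submodule.mem_span_pair] at hs
    obtain ⟨a, b, rfl⟩ := hs
    have key : MvPolynomial.eval y (RamPoints.sep k d' n i j) ≠ 0 := fun h0 => by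
      refine (hP₂ (i, j) hij).1 ?_
      have := hsep (i, j) hij y ⟨fun f hf => ?_, hy.2⟩
      · rwa [hyP] at this
      · rcases Set.mem_insert_iff.1 hf with rfl | hf
        exacts [h0, hy.1 f hf]
    have e := RamPoints.aeval_sep (k := k) y i j
    rw [MvPolynomial.aeval_eq_eval] at e
    rw [e, show y (Sum.inr i) = P i from congrFun hyP i, show y (Sum.inr j) = P j from congrFun hyP j] at key
    obtain ⟨hi, hj⟩ := hroots
    simp only [IsRoot.def, Polynomial.eval_add, Polynomial.eval_smul, smul_eq_mul] at hi hj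
    generalize WronskiMap.spec (y ∘ Sum.inl) 0 (d' + 1) = F at hi hj key ⊢
    generalize WronskiMap.spec (y ∘ Sum.inl) 1 d' = G at hi hj key ⊢
    have ha : a = 0 := (mul_eq_zero.1 (show a * (F.eval (P i) * G.eval (P j) - F.eval (P j) * G.eval (P i)) = 0 by
      linear_combination G.eval (P j) * hi - G.eval (P i) * hj)).resolve_right key
    have hb : b = 0 := (mul_eq_zero.1 (show b * (F.eval (P i) * G.eval (P j) - F.eval (P j) * G.eval (P i)) = 0 by
      linear_combination F.eval (P i) * hj - F.eval (P j) * hi)).resolve_right key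
    simp [ha, hb]

end Groth.Agent.Synt29.RamPoints
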