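import Groth.Agent.Synt29.RamPoints

/-!
Exchanging two ramification indices e, e' by p - e, p - e'.
-/

set_option autoImplicit false

universe u

open Polynomial W4c1limliniiii

namespace Groth.Agent.Synt29.Flip

variable {k : Type u} [Field k]

/-- The flipped pencil. -/
noncomputable def flip (p : ℕ) (a b : k) (ea eb : ℕ) (V : Submodule k k[X]) : Submodule k k[X] :=
  Submodule.span k
    {f | (∃ A, (X - C a) ^ ea * A ∈ V ∧ f = (X - C b) ^ (p - eb) * A) ∨
      ∃ B, (X - C b) ^ eb * B ∈ V ∧ f = (X - C a) ^ (p - ea) * B}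

theorem dvd_smul_cases {a : k} {e : ℕ} {s t : k[X]} (he : 1 ≤ e) (hs : (X - C a) ^ e ∣ s) (ht : t.eval a ≠ 0)
    {x y : k} (h : (X - C a) ^ e ∣ x • s + y • t) : y = 0 := by
  have h1 := dvd_iff_isRoot.1 ((dvd_pow_self _ (by omega : e ≠ 0)).trans h)
  have h2 := dvd_iff_isRoot.1 ((dvd_pow_self _ (by omega : e ≠ 0)).trans hs)
  simp only [IsRoot.def] at h2
  simpa [h2, ht] using h1

theorem flip_span (p : ℕ) {a b : k} {ea eb : ℕ} (ha : 1 ≤ ea) (hb : 1 ≤ eb) {A B : k[X]}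
    (hAb : ((X - C a) ^ ea * A).eval b ≠ 0) (hBa : ((X - C b) ^ eb * B).eval a ≠ 0) :
    flip p a b ea eb (Submodule.span k {(X - C a) ^ ea * A, (X - C b) ^ eb * B}) =
      Submodule.span k {(X - C b) ^ (p - eb) * A, (X - C a) ^ (p - ea) * B} := by
  refine le_antisymm (Submodule.span_le.2 ?_) (Submodule.span_mono ?_)
  · rintro f (⟨A', h, rfl⟩ | ⟨B', h, rfl⟩) <;> rw [Submodule.mem_span_pair] at h <;> obtain ⟨x, y, h⟩ := h
    · have hy : y = 0 := dvd_smul_cases ha (dvd_mul_right _ _) hBa (h ▸ dvd_mul_right _ _)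
      rw [hy, zero_smul, add_zero, ← mul_smul_comm] at h
      rw [← mul_left_cancel₀ (pow_ne_zero _ (X_sub_C_ne_zero a)) h, mul_smul_comm]
      exact Submodule.smul_mem _ _ (Submodule.subset_span (Set.mem_insert _ _))
    · have hx : x = 0 := dvd_smul_cases hb (dvd_mul_right _ _) hAb (by rw [add_comm, h]; exact dvd_mul_right _ _)
      rw [hx, zero_smul, zero_add, ← mul_smul_comm] at h
      rw [← mul_left_cancel₀ (pow_ne_zero _ (X_sub_C_ne_zero b)) h, mul_smul_comm]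
      exact Submodule.smul_mem _ _ (Submodule.subset_span (Set.mem_insert_of_mem _ rfl))
  · rintro f (rfl | rfl)
    · exact Or.inl ⟨A, Submodule.subset_span (Set.mem_insert _ _), rfl⟩
    · exact Or.inr ⟨B, Submodule.subset_span (Set.mem_insert_of_mem _ rfl), rfl⟩

theorem rootMultiplicity_congr {f g : k[X]} {c : k} {p : ℕ} (h : (X - C c) ^ p ∣ f - g) (hg : g ≠ 0)
    (hgp : g.rootMultiplicity c < p) (hf : f ≠ 0) : f.rootMultiplicity c = g.rootMultiplicity c := by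
  refine le_antisymm ?_ ?_
  · by_contra hlt
    push Not at hlt
    have h1 : (X - C c) ^ (g.rootMultiplicity c + 1) ∣ f :=
      (le_rootMultiplicity_iff hf).1 hlt
    have h2 := dvd_sub h1 ((pow_dvd_pow _ (show g.rootMultiplicity c + 1 ≤ p by omega)).trans h)
    rw [sub_sub_cancel] at h2
    exact absurd ((le_rootMultiplicity_iff hg).2 h2) (by omega)
  · refine (le_rootMultiplicity_iff hf).2 ?_
    have := dvd_add ((pow_dvd_pow _ hgp.le).trans h) (pow_rootMultiplicity_dvd g c)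
    rwa [sub_add_cancel] at this

theorem pow_p_sub_dvd (p : ℕ) [Fact p.Prime] [CharP k p] (c b : k) :
    (X - C c) ^ p ∣ (X - C b) ^ p - C ((c - b) ^ p) := by
  have h : (X - C b : k[X]) ^ p = (X - C c) ^ p + C ((c - b) ^ p) := by
    rw [map_pow, ← add_pow_char, map_sub, sub_add_sub_cancel]
  rw [h, add_sub_cancel_right]

/-- The conditions on two points. -/
structure Pair (p d : ℕ) {n : ℕ} (P : Fin n → k) (e : Fin n → ℕ) (i j : Fin n) (V : Submodule k k[X]) : Prop where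
  mem : V ∈ ramMaps d P e
  sep : ∀ s ∈ V, (s.IsRoot (P i) ∧ s.IsRoot (P j)) → s = 0
  bounds : ∀ l, 1 ≤ e l ∧ e l < p
  inj : Function.Injective P
  ne : i ≠ j

variable {p d n : ℕ} {P : Fin n → k} {e : Fin n → ℕ} {i j : Fin n} {V : Submodule k k[X]}

theorem Pair.exists_basis (h : Pair p d P e i j V) :
    ∃ A B : k[X], V = Submodule.span k {(X - C (P i)) ^ e i * A, (X - C (P j)) ^ e j * B} ∧
      A.eval (P i) ≠ 0 ∧ A.eval (P j) ≠ 0 ∧ B.eval (P i) ≠ 0 ∧ B.eval (P j) ≠ 0 ∧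
      wronskian ((X - C (P i)) ^ e i * A) ((X - C (P j)) ^ e j * B) ≠ 0 ∧
      A.natDegree + e i ≤ d ∧ B.natDegree + e j ≤ d ∧ (A.natDegree + e i = d ∨ B.natDegree + e j = d) := by
  obtain ⟨⟨hVle, h2, ⟨F₀, hF₀, hF₀d⟩, hbp⟩, hsep, hram⟩ := h.mem
  have key : ∀ l m, (∀ s ∈ V, (s.IsRoot (P l) ∧ s.IsRoot (P m)) → s = 0) → ∃ A : k[X],
      (X - C (P l)) ^ e l * A ∈ V ∧ A.eval (P l) ≠ 0 ∧ A.eval (P m) ≠ 0 ∧ A.natDegree + e l ≤ d := by
    intro l m hlm
    obtain ⟨s, hs, hs0, hsm⟩ := (hram l).1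
    obtain ⟨A, rfl⟩ := (le_rootMultiplicity_iff hs0).1 hsm
    have hA0 : A ≠ 0 := right_ne_zero_of_mul hs0
    have hle := (hram l).2 _ hs hs0
    rw [rootMultiplicity_mul hs0, rootMultiplicity_X_sub_C_pow] at hle
    have hAl : A.eval (P l) ≠ 0 := fun h0 => by
      have := (rootMultiplicity_pos hA0).2 h0; omega
    refine ⟨A, hs, hAl, fun h0 => hs0 (hlm _ hs ⟨?_, ?_⟩), ?_⟩
    · simp [IsRoot, show e l ≠ 0 by have := h.bounds l; omega]
    · simp [IsRoot, h0]
    · have := natDegree_le_of_degree_le (mem_degreeLE.1 (hVle hs))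
      rw [natDegree_mul (pow_ne_zero _ (X_sub_C_ne_zero _)) hA0, natDegree_pow, natDegree_X_sub_C] at this
      omega
  obtain ⟨A, hA, hAi, hAj, hAd⟩ := key i j h.sep
  obtain ⟨B, hB, hBj, hBi, hBd⟩ := key j i (fun s hs hr => h.sep s hs ⟨hr.2, hr.1⟩)
  have hne : P i ≠ P j := fun hh => h.ne (h.inj hh)
  have hsaj : ((X - C (P i)) ^ e i * A).eval (P j) ≠ 0 := by simp [hAj, sub_ne_zero, hne.symm]
  have hsa0 : (X - C (P i)) ^ e i * A ≠ 0 := fun h0 => hsaj (by rw [h0, eval_zero])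
  obtain ⟨t, ht, hW⟩ := Pencil.exists_partner h2 hsep _ hA hsa0
  have hVspan := Pencil.span_eq_of_wronskian_ne_zero h2 hA ht hW
  have hB' := hB
  rw [← hVspan, Submodule.mem_span_pair] at hB'
  obtain ⟨x, y, hxy⟩ := hB'
  have hy : y ≠ 0 := by
    rintro rfl
    rw [zero_smul, add_zero] at hxy
    have := congrArg (eval (P i)) hxy
    simp [show e i ≠ 0 by have := h.bounds i; omega, hBi, sub_eq_zero, hne] at this
  have hW' : wronskian ((X - C (P i)) ^ e i * A) ((X - C (P j)) ^ e j * B) ≠ 0 := by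
    rw [← hxy]
    have : wronskian ((X - C (P i)) ^ e i * A) (x • ((X - C (P i)) ^ e i * A) + y • t) =
        C y * wronskian ((X - C (P i)) ^ e i * A) t := by
      simp only [wronskian, smul_eq_C_mul, derivative_add, derivative_mul, derivative_C]; ring
    rw [this]; exact mul_ne_zero (C_ne_zero.2 hy) hW
  have hspan := Pencil.span_eq_of_wronskian_ne_zero h2 hA hB hW'
  refine ⟨A, B, hspan.symm, hAi, hAj, hBi, hBj, hW', hAd, hBd, ?_⟩
  by_contra hcon
  push Not at hcon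
  have hlt : ∀ (c : k) (m : ℕ) (f : k[X]), f.natDegree + m < d → ((X - C c) ^ m * f).natDegree ≤ d - 1 := by
    intro c m f hf
    refine natDegree_mul_le.trans ?_
    rw [natDegree_pow, natDegree_X_sub_C]; omega
  rw [← hspan, Submodule.mem_span_pair] at hF₀
  obtain ⟨x', y', rfl⟩ := hF₀
  have := natDegree_add_le_of_degree_le ((natDegree_smul_le x' _).trans (hlt (P i) (e i) A (by omega)))
    ((natDegree_smul_le y' _).trans (hlt (P j) (e j) B (by omega)))
  have : 1 ≤ d := by have := h.bounds i; omega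
  omega

theorem Pair.flip_pair [Fact p.Prime] [CharP k p] (h : Pair p d P e i j V) {d'' : ℕ} {e'' : Fin n → ℕ}
    (hd : d'' + e i + e j = d + p) (hi : e'' i = p - e i) (hj : e'' j = p - e j)
    (ho : ∀ l, l ≠ i → l ≠ j → e'' l = e l) :
    Pair p d'' P e'' i j (flip p (P i) (P j) (e i) (e j) V) ∧
      flip p (P i) (P j) (e'' i) (e'' j) (flip p (P i) (P j) (e i) (e j) V) = V := by
  obtain ⟨A, B, hV, hAi, hAj, hBi, hBj, hW, hAd, hBd, hdd⟩ := h.exists_basis
  have hne : P i ≠ P j := fun hh => h.ne (h.inj hh)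
  have h1 := h.bounds i
  have h2 := h.bounds j
  have hflip : flip p (P i) (P j) (e i) (e j) V =
      Submodule.span k {(X - C (P j)) ^ e'' j * A, (X - C (P i)) ^ e'' i * B} := by
    rw [hV, hi, hj]
    exact flip_span p h1.1 h2.1 (by simp [hAj, sub_ne_zero, hne.symm]) (by simp [hBi, sub_ne_zero, hne])
  have hinv : flip p (P i) (P j) (e'' i) (e'' j) (flip p (P i) (P j) (e i) (e j) V) = V := by
    rw [hflip, Set.pair_comm, flip_span p (by omega) (by omega) (by simp [hBj, sub_ne_zero, hne.symm])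
      (by simp [hAi, sub_ne_zero, hne]), hV, hi, hj, Nat.sub_sub_self h1.2.le, Nat.sub_sub_self h2.2.le,
      Set.pair_comm]
  refine ⟨?_, hinv⟩
  rw [hflip]
  set s₁ := (X - C (P j)) ^ e'' j * A with hs₁
  set s₂ := (X - C (P i)) ^ e'' i * B with hs₂
  set M : k[X] := (X - C (P i)) ^ e i * (X - C (P j)) ^ e j with hM
  have hM₁ : M * s₁ = (X - C (P j)) ^ p * ((X - C (P i)) ^ e i * A) := by
    rw [hM, hs₁, hj, show (X - C (P j)) ^ p = (X - C (P j)) ^ e j * (X - C (P j)) ^ (p - e j) by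
      rw [← pow_add, Nat.add_sub_cancel' h2.2.le]]
    ring
  have hM₂ : M * s₂ = (X - C (P i)) ^ p * ((X - C (P j)) ^ e j * B) := by
    rw [hM, hs₂, hi, show (X - C (P i)) ^ p = (X - C (P i)) ^ e i * (X - C (P i)) ^ (p - e i) by
      rw [← pow_add, Nat.add_sub_cancel' h1.2.le]]
    ring
  have hW'' : wronskian s₁ s₂ ≠ 0 := by
    intro h0
    have e1 : M ^ 2 * wronskian s₁ s₂ = wronskian (M * s₁) (M * s₂) := by
      simp only [wronskian, derivative_mul]; ring
    rw [h0, mul_zero, hM₁, hM₂] at e1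
    have hp : ∀ c : k, derivative ((X - C c) ^ p) = 0 := fun c => by
      rw [derivative_pow, CharP.cast_eq_zero k p]; simp
    have e2 : wronskian ((X - C (P j)) ^ p * ((X - C (P i)) ^ e i * A)) ((X - C (P i)) ^ p * ((X - C (P j)) ^ e j * B)) =
        (X - C (P j)) ^ p * (X - C (P i)) ^ p * wronskian ((X - C (P i)) ^ e i * A) ((X - C (P j)) ^ e j * B) := by
      generalize (X - C (P i)) ^ e i * A = u
      generalize (X - C (P j)) ^ e j * B = v
      simp only [wronskian, derivative_mul, hp]; ring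
    rw [e2] at e1
    exact mul_ne_zero (mul_ne_zero (pow_ne_zero _ (X_sub_C_ne_zero _)) (pow_ne_zero _ (X_sub_C_ne_zero _))) hW e1.symm
  have hA0 : A ≠ 0 := fun h0 => hAi (by rw [h0, eval_zero])
  have hB0 : B ≠ 0 := fun h0 => hBi (by rw [h0, eval_zero])
  have hd₁ : s₁.natDegree = e'' j + A.natDegree := by
    rw [hs₁, natDegree_mul (pow_ne_zero _ (X_sub_C_ne_zero _)) hA0, natDegree_pow, natDegree_X_sub_C, mul_one]
  have hd₂ : s₂.natDegree = e'' i + B.natDegree := by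
    rw [hs₂, natDegree_mul (pow_ne_zero _ (X_sub_C_ne_zero _)) hB0, natDegree_pow, natDegree_X_sub_C, mul_one]
  have hbd : ∀ l, 1 ≤ e'' l ∧ e'' l < p := fun l => by
    by_cases hli : l = i
    · subst hli; omega
    by_cases hlj : l = j
    · subst hlj; omega
    rw [ho l hli hlj]; exact h.bounds l
  have hmem₁ : s₁ ∈ Submodule.span k {s₁, s₂} := Submodule.subset_span (Set.mem_insert _ _)
  have hmem₂ : s₂ ∈ Submodule.span k {s₁, s₂} := Submodule.subset_span (Set.mem_insert_of_mem _ rfl)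
  have hs₁j : s₁.IsRoot (P j) := by simp [hs₁, IsRoot, show e'' j ≠ 0 by have := hbd j; omega]
  have hs₂i : s₂.IsRoot (P i) := by simp [hs₂, IsRoot, show e'' i ≠ 0 by have := hbd i; omega]
  have hs₁i : s₁.eval (P i) ≠ 0 := by simp [hs₁, hAi, sub_ne_zero, hne]
  have hs₂j : s₂.eval (P j) ≠ 0 := by simp [hs₂, hBj, sub_ne_zero, hne.symm]
  have hs₁0 : s₁ ≠ 0 := fun h0 => hs₁i (by rw [h0, eval_zero])
  have hs₂0 : s₂ ≠ 0 := fun h0 => hs₂j (by rw [h0, eval_zero])
  refine ⟨⟨⟨?_, Pencil.finrank_span_pair hW'', ?_, ?_⟩, ⟨s₁, hmem₁, s₂, hmem₂, hW''⟩, ?_⟩, ?_, hbd, h.inj, h.ne⟩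
  · rw [Submodule.span_le]
    rintro f (rfl | rfl) <;> refine mem_degreeLE.2 (degree_le_of_natDegree_le ?_) <;> omega
  · rcases hdd with hh | hh
    · exact ⟨s₁, hmem₁, by omega⟩
    · exact ⟨s₂, hmem₂, by omega⟩
  · intro c
    by_contra hcon
    push Not at hcon
    have r1 := hcon s₁ hmem₁
    have r2 := hcon s₂ hmem₂
    by_cases hci : c = P i
    · exact hs₁i (hci ▸ r1)
    by_cases hcj : c = P j
    · exact hs₂j (hcj ▸ r2)
    obtain ⟨⟨-, -, -, hbp⟩, -, -⟩ := h.mem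
    obtain ⟨s, hs, hsc⟩ := hbp c
    rw [hV, Submodule.mem_span_pair] at hs
    obtain ⟨x, y, rfl⟩ := hs
    have e1 := congrArg (eval c) hM₁
    have e2 := congrArg (eval c) hM₂
    simp only [eval_mul, eval_pow, eval_sub, eval_X, eval_C, show s₁.eval c = 0 from r1,
      show s₂.eval c = 0 from r2, mul_zero, eq_comm (a := (0 : k)), mul_eq_zero, pow_eq_zero_iff', sub_eq_zero,
      hci, hcj, false_and, false_or] at e1 e2
    refine hsc ?_
    simp [IsRoot, e1, e2]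
  · intro l
    by_cases hli : l = i
    · subst hli
      refine ⟨⟨s₂, hmem₂, hs₂0, (le_rootMultiplicity_iff hs₂0).2 (dvd_mul_right _ _)⟩, fun s hs hs0 => ?_⟩
      rw [Submodule.mem_span_pair] at hs
      obtain ⟨x, y, rfl⟩ := hs
      by_cases hx : x = 0
      · rw [hx, zero_smul, zero_add] at hs0 ⊢
        rw [smul_eq_C_mul] at hs0 ⊢
        rw [rootMultiplicity_mul hs0, rootMultiplicity_C, zero_add, hs₂, rootMultiplicity_mul (hs₂ ▸ hs₂0),
          rootMultiplicity_X_sub_C_pow, rootMultiplicity_eq_zero hBi, add_zero]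
      · rw [rootMultiplicity_eq_zero]
        · exact Nat.zero_le _
        · simp [IsRoot, show s₂.eval (P l) = 0 from hs₂i, hx, hs₁i]
    by_cases hlj : l = j
    · subst hlj
      refine ⟨⟨s₁, hmem₁, hs₁0, (le_rootMultiplicity_iff hs₁0).2 (dvd_mul_right _ _)⟩, fun s hs hs0 => ?_⟩
      rw [Submodule.mem_span_pair] at hs
      obtain ⟨x, y, rfl⟩ := hs
      by_cases hy : y = 0
      · rw [hy, zero_smul, add_zero] at hs0 ⊢
        rw [smul_eq_C_mul] at hs0 ⊢
        rw [rootMultiplicity_mul hs0, rootMultiplicity_C, zero_add, hs₁, rootMultiplicity_mul (hs₁ ▸ hs₁0),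
          rootMultiplicity_X_sub_C_pow, rootMultiplicity_eq_zero hAj, add_zero]
      · rw [rootMultiplicity_eq_zero]
        · exact Nat.zero_le _
        · simp [IsRoot, show s₁.eval (P l) = 0 from hs₁j, hy, hs₂j]
    rw [ho l hli hlj]
    have hci : P l - P i ≠ 0 := sub_ne_zero.2 fun hh => hli (h.inj hh)
    have hcj : P l - P j ≠ 0 := sub_ne_zero.2 fun hh => hlj (h.inj hh)
    obtain ⟨-, -, hram⟩ := h.mem
    have hM0 : M ≠ 0 := mul_ne_zero (pow_ne_zero _ (X_sub_C_ne_zero _)) (pow_ne_zero _ (X_sub_C_ne_zero _))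
    have hMr : M.rootMultiplicity (P l) = 0 := rootMultiplicity_eq_zero (by simp [hM, IsRoot, hci, hcj])
    have hsab : ∀ x y : k, x • ((X - C (P i)) ^ e i * A) + y • ((X - C (P j)) ^ e j * B) = 0 → x = 0 ∧ y = 0 := by
      intro x y h0
      have c1 := congrArg (eval (P i)) h0
      have c2 := congrArg (eval (P j)) h0
      simp [show e i ≠ 0 by omega, hBi, sub_eq_zero, hne] at c1
      simp [show e j ≠ 0 by omega, hAj, sub_eq_zero, hne.symm] at c2
      exact ⟨c2, c1⟩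
    have trans : ∀ x y : k, x • s₁ + y • s₂ ≠ 0 →
        (x • s₁ + y • s₂).rootMultiplicity (P l) =
          ((x * (P l - P j) ^ p) • ((X - C (P i)) ^ e i * A) +
            (y * (P l - P i) ^ p) • ((X - C (P j)) ^ e j * B)).rootMultiplicity (P l) := by
      intro x y h0
      have hg0 : (x * (P l - P j) ^ p) • ((X - C (P i)) ^ e i * A) +
            (y * (P l - P i) ^ p) • ((X - C (P j)) ^ e j * B) ≠ 0 := fun hh => by
        obtain ⟨hx, hy⟩ := hsab _ _ hh
        rw [mul_eq_zero, or_iff_left (pow_ne_zero _ hcj)] at hx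
        rw [mul_eq_zero, or_iff_left (pow_ne_zero _ hci)] at hy
        simp [hx, hy] at h0
      have hgm : ((x * (P l - P j) ^ p) • ((X - C (P i)) ^ e i * A) +
            (y * (P l - P i) ^ p) • ((X - C (P j)) ^ e j * B)).rootMultiplicity (P l) ≤ e l :=
        (hram l).2 _ (by rw [hV]; exact Submodule.mem_span_pair.2 ⟨_, _, rfl⟩) hg0
      rw [← rootMultiplicity_congr (f := M * (x • s₁ + y • s₂)) ?_ hg0 (lt_of_le_of_lt hgm (h.bounds l).2)
        (mul_ne_zero hM0 h0), rootMultiplicity_mul (mul_ne_zero hM0 h0), hMr, zero_add]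
      obtain ⟨q₁, hq₁⟩ := pow_p_sub_dvd p (P l) (P j)
      obtain ⟨q₂, hq₂⟩ := pow_p_sub_dvd p (P l) (P i)
      refine ⟨C x * q₁ * ((X - C (P i)) ^ e i * A) + C y * q₂ * ((X - C (P j)) ^ e j * B), ?_⟩
      simp only [smul_eq_C_mul, map_mul]
      linear_combination (C x) * hM₁ + (C y) * hM₂ + (C x * ((X - C (P i)) ^ e i * A)) * hq₁ +
        (C y * ((X - C (P j)) ^ e j * B)) * hq₂
    refine ⟨?_, fun s hs hs0 => ?_⟩
    · obtain ⟨s, hs, hs0, hsm⟩ := (hram l).1
      rw [hV, Submodule.mem_span_pair] at hs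
      obtain ⟨x, y, rfl⟩ := hs
      have h0 : (x / (P l - P j) ^ p) • s₁ + (y / (P l - P i) ^ p) • s₂ ≠ 0 := by
        intro hh
        have c1 := congrArg (eval (P i)) hh
        have c2 := congrArg (eval (P j)) hh
        simp [show s₂.eval (P i) = 0 from hs₂i, hs₁i, hci, hcj] at c1
        simp [show s₁.eval (P j) = 0 from hs₁j, hs₂j, hci, hcj] at c2
        simp [c1, c2] at hs0
      refine ⟨_, Submodule.mem_span_pair.2 ⟨_, _, rfl⟩, h0, ?_⟩
      rwa [trans _ _ h0, div_mul_cancel₀ _ (pow_ne_zero _ hcj), div_mul_cancel₀ _ (pow_ne_zero _ hci)]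
    · rw [Submodule.mem_span_pair] at hs
      obtain ⟨x, y, rfl⟩ := hs
      rw [trans _ _ hs0]
      refine (hram l).2 _ (by rw [hV]; exact Submodule.mem_span_pair.2 ⟨_, _, rfl⟩) fun hh => hs0 ?_
      obtain ⟨hx, hy⟩ := hsab _ _ hh
      rw [mul_eq_zero, or_iff_left (pow_ne_zero _ hcj)] at hx
      rw [mul_eq_zero, or_iff_left (pow_ne_zero _ hci)] at hy
      simp [hx, hy]
  · rintro s hs ⟨ri, rj⟩
    rw [Submodule.mem_span_pair] at hs
    obtain ⟨x, y, rfl⟩ := hs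
    simp [IsRoot, show s₂.eval (P i) = 0 from hs₂i, hs₁i] at ri
    simp [IsRoot, show s₁.eval (P j) = 0 from hs₁j, hs₂j] at rj
    simp [ri, rj]

/-- A general count transfers to the flipped data. -/
theorem hasGenericCount_flip [IsAlgClosed k] [Fact p.Prime] [CharP k p] (hsum : (∑ l, e l) + 2 = 2 * d + n)
    (hbd : ∀ l, 1 ≤ e l ∧ e l < p) (hij : i ≠ j) {d'' : ℕ} {e'' : Fin n → ℕ}
    (hd : d'' + e i + e j = d + p) (hi : e'' i = p - e i) (hj : e'' j = p - e j)
    (ho : ∀ l, l ≠ i → l ≠ j → e'' l = e l) (hd1 : 1 ≤ d) (hd1' : 1 ≤ d'') (m : ℕ)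
    (hm : HasGenericCount (k := k) d e m) : HasGenericCount (k := k) d'' e'' m := by
  classical
  obtain ⟨D, rfl⟩ : ∃ D, d = D + 1 := ⟨d - 1, by omega⟩
  obtain ⟨D'', rfl⟩ : ∃ D, d'' = D + 1 := ⟨d'' - 1, by omega⟩
  have hbd'' : ∀ l, 1 ≤ e'' l ∧ e'' l < p := fun l => by
    have := hbd i; have := hbd j
    by_cases hli : l = i
    · subst hli; omega
    by_cases hlj : l = j
    · subst hlj; omega
    rw [ho l hli hlj]; exact hbd l
  have nd : ∀ m, 1 ≤ m ∧ m < p → ¬ p ∣ m := fun m hm h => by have := Nat.le_of_dvd hm.1 h; omega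
  have hsum'' : (∑ l, e'' l) + 2 = 2 * (D'' + 1) + n := by
    have key : ∀ f : Fin n → ℕ, ∑ l, f l = f i + (f j + ∑ l ∈ (Finset.univ.erase i).erase j, f l) := fun f => by
      rw [Finset.add_sum_erase _ f (Finset.mem_erase.2 ⟨hij.symm, Finset.mem_univ j⟩),
        Finset.add_sum_erase _ f (Finset.mem_univ i)]
    have h0 : ∑ l ∈ (Finset.univ.erase i).erase j, e'' l = ∑ l ∈ (Finset.univ.erase i).erase j, e l :=
      Finset.sum_congr rfl fun l hl => by
        obtain ⟨h1, h2, -⟩ : l ≠ j ∧ l ≠ i ∧ True := by simpa using hl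
        exact ho l h2 h1
    rw [key e] at hsum
    rw [key e'', h0, hi, hj]
    have := hbd i; have := hbd j
    omega
  obtain ⟨Φ, hΦ, hΦm⟩ := hm
  obtain ⟨Φ₁, hΦ₁, h₁⟩ := RamPoints.general k p (⟨fun l => ⟨(hbd l).1, nd _ (hbd l)⟩, hsum⟩ : RamPoints.Adm p (D + 1) e)
  obtain ⟨Φ₂, hΦ₂, h₂⟩ :=
    RamPoints.general k p (⟨fun l => ⟨(hbd'' l).1, nd _ (hbd'' l)⟩, hsum''⟩ : RamPoints.Adm p (D'' + 1) e'')
  refine ⟨Φ * Φ₁ * Φ₂, mul_ne_zero (mul_ne_zero hΦ hΦ₁) hΦ₂, fun P hP => ?_⟩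
  simp only [map_mul, mul_ne_zero_iff] at hP
  obtain ⟨⟨hP, hP₁⟩, hP₂⟩ := hP
  obtain ⟨hinj, -, hs₁⟩ := h₁ P hP₁
  obtain ⟨-, hfin, hs₂⟩ := h₂ P hP₂
  refine ⟨hfin, ?_⟩
  rw [← (hΦm P hP).2]
  have hd' : D + 1 + e'' i + e'' j = D'' + 1 + p := by have := hbd i; have := hbd j; omega
  have hi' : e i = p - e'' i := by have := hbd i; omega
  have hj' : e j = p - e'' j := by have := hbd j; omega
  have ho' : ∀ l, l ≠ i → l ≠ j → e l = e'' l := fun l a b => (ho l a b).symm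
  have f1 : ∀ V ∈ ramMaps (D'' + 1) P e'', Pair p (D'' + 1) P e'' i j V := fun V hV =>
    ⟨hV, hs₂ V hV i j hij, hbd'', hinj, hij⟩
  have f2 : ∀ V ∈ ramMaps (D + 1) P e, Pair p (D + 1) P e i j V := fun V hV =>
    ⟨hV, hs₁ V hV i j hij, hbd, hinj, hij⟩
  exact Nat.card_congr
    { toFun := fun V => ⟨_, ((f1 V.1 V.2).flip_pair hd' hi' hj' ho').1.mem⟩
      invFun := fun V => ⟨_, ((f2 V.1 V.2).flip_pair hd hi hj ho).1.mem⟩
      left_inv := fun V => Subtype.ext ((f1 V.1 V.2).flip_pair hd' hi' hj' ho').2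
      right_inv := fun V => Subtype.ext ((f2 V.1 V.2).flip_pair hd hi hj ho).2 }

end Groth.Agent.Synt29.Flip
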