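import Groth.Agent.Synt29.LGClosure

/-!
Linked tuples extend over valuation rings.
-/

set_option autoImplicit false
set_option backward.isDefEq.respectTransparency false

universe u

open TensorProduct CategoryTheory W4c1limliniiii

namespace Groth.Agent.Synt29.LG

open GrassGraph
open Module (Grassmannian)

variable {R : Type u} [CommRing R] {d r n : ℕ}
  {L O : Type u} [Field L] [Algebra R L] [CommRing O] [Algebra R O] (κ : O →ₐ[R] L)

theorem exists_dominant (hval : ∀ x : L, x ∈ Set.range κ ∨ x⁻¹ ∈ Set.range κ) {ι' : Type} [DecidableEq ι'] (a : ι' → L)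
    (s : Finset ι') (hs : s.Nonempty) (ha : ∀ c ∈ s, a c ≠ 0) :
    ∃ k ∈ s, ∀ c ∈ s, a c / a k ∈ Set.range κ := by
  induction hs using Finset.Nonempty.cons_induction with
  | singleton x =>
    exact ⟨x, Finset.mem_singleton_self x, fun c hc => by
      rw [Finset.mem_singleton.1 hc, div_self (ha x (Finset.mem_singleton_self x))]; exact ⟨1, map_one κ⟩⟩
  | cons x s hx hs ih =>
    obtain ⟨k, hk, hk'⟩ := ih fun c hc => ha c (Finset.mem_cons_of_mem hc)
    have hax := ha x (Finset.mem_cons_self x s)
    have hak := ha k (Finset.mem_cons_of_mem hk)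
    rcases hval (a x / a k) with h | h
    · refine ⟨k, Finset.mem_cons_of_mem hk, fun c hc => ?_⟩
      rcases Finset.mem_cons.1 hc with rfl | hc
      · exact h
      · exact hk' c hc
    · refine ⟨x, Finset.mem_cons_self x s, fun c hc => ?_⟩
      rcases Finset.mem_cons.1 hc with rfl | hc
      · exact ⟨1, by rw [map_one, div_self hax]⟩
      · obtain ⟨o, ho⟩ := hk' c hc
        obtain ⟨o', ho'⟩ := h
        exact ⟨o * o', by rw [map_mul, ho, ho', inv_div]; field_simp⟩

/-- A subspace of a coordinate space is a graph with integral entries. -/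
theorem exists_graph_integral (hval : ∀ x : L, x ∈ Set.range κ ∨ x⁻¹ ∈ Set.range κ) {m : ℕ}
    (N : Grassmannian L (L ⊗[R] (Fin d → R)) m) :
    ∃ (S : Finset (Fin d)) (hS : S.card = m) (u : {c // c ∉ S} → S → O),
      N = graph (R := R) S hS fun c c' => κ (u c c') := by
  classical
  have := finite_total (R := R) (d := d) (L := L)
  let b := bas (R := R) (d := d) L
  let P : Finset (Fin d) → Prop := fun S =>
    ∀ c, ∃ o : Fin d → O, b c - ∑ c' ∈ S, κ (o c') • b c' ∈ N.toSubmodule
  have hP : P Finset.univ := fun c => ⟨Pi.single c 1, by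
    have : ∑ c', κ ((Pi.single c 1 : Fin d → O) c') • b c' = b c := by
      rw [Finset.sum_eq_single c (fun c' _ hc' => by simp [hc']) (by simp)]
      simp
    rw [this, sub_self]; exact zero_mem _⟩
  obtain ⟨S, hS, hmin⟩ := Finset.exists_min_image (Finset.univ.filter P) Finset.card
    ⟨Finset.univ, Finset.mem_filter.2 ⟨Finset.mem_univ _, hP⟩⟩
  have hPS := (Finset.mem_filter.1 hS).2
  have hli : ∀ a : Fin d → L, ∑ c' ∈ S, a c' • b c' ∈ N.toSubmodule → ∀ c' ∈ S, a c' = 0 := by
    intro a ha
    by_contra h
    push Not at h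
    obtain ⟨c₀, hc₀, hne⟩ := h
    obtain ⟨k, hk, hdom⟩ := exists_dominant κ hval a (S.filter fun c => a c ≠ 0)
      ⟨c₀, Finset.mem_filter.2 ⟨hc₀, hne⟩⟩ fun c hc => (Finset.mem_filter.1 hc).2
    have hkS := (Finset.mem_filter.1 hk).1
    have hak := (Finset.mem_filter.1 hk).2
    have hdom' : ∀ c ∈ S, a c / a k ∈ Set.range κ := fun c hc => by
      by_cases hc0 : a c = 0
      · exact ⟨0, by rw [hc0, map_zero, zero_div]⟩
      · exact hdom c (Finset.mem_filter.2 ⟨hc, hc0⟩)
    choose! t ht using hdom'
    have hk' : b k + ∑ c' ∈ S.erase k, κ (t c') • b c' ∈ N.toSubmodule := by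
      have h1 := N.toSubmodule.smul_mem (a k)⁻¹ ha
      rw [← Finset.add_sum_erase _ _ hkS, smul_add, Finset.smul_sum, smul_smul, inv_mul_cancel₀ hak, one_smul] at h1
      have h2 : ∀ c' ∈ S.erase k, κ (t c') • b c' = (a k)⁻¹ • a c' • b c' := fun c' hc' => by
        rw [ht c' (Finset.mem_of_mem_erase hc'), smul_smul, div_eq_mul_inv, mul_comm]
      rw [Finset.sum_congr rfl h2]
      exact h1
    have hP' : P (S.erase k) := fun c => by
      obtain ⟨o, ho⟩ := hPS c
      refine ⟨fun c' => o c' - o k * t c', ?_⟩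
      have : b c - ∑ c' ∈ S.erase k, κ (o c' - o k * t c') • b c' =
          (b c - ∑ c' ∈ S, κ (o c') • b c') + κ (o k) • (b k + ∑ c' ∈ S.erase k, κ (t c') • b c') := by
        rw [← Finset.add_sum_erase _ _ hkS, smul_add, Finset.smul_sum]
        rw [Finset.sum_congr rfl fun c' (_ : c' ∈ S.erase k) =>
          (show κ (o c' - o k * t c') • b c' = κ (o c') • b c' - κ (o k) • κ (t c') • b c' by
            rw [map_sub, map_mul]; exact (_root_.sub_smul (κ (o c')) (κ (o k) * κ (t c')) (b c')).trans (congrArg _ (mul_smul (κ (o k)) (κ (t c')) (b c')))), Finset.sum_sub_distrib]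
        abel
      rw [this]
      exact add_mem ho (N.toSubmodule.smul_mem _ hk')
    have := hmin _ (Finset.mem_filter.2 ⟨Finset.mem_univ _, hP'⟩)
    exact absurd (Finset.card_erase_lt_of_mem hkS) (not_lt.2 this)
  have hsect : ∀ y : {c // c ∈ S} → L, sect (R := R) S y = ∑ c' : {c // c ∈ S}, y c' • b c'.1 := fun y => by
    rw [sect, Module.Basis.constr_apply_fintype]
    simp [b]
  have hch : InChart S N := by
    rw [inChart_iff, eq_top_iff, ← b.span_eq, Submodule.span_le]
    rintro _ ⟨c, rfl⟩
    obtain ⟨o, ho⟩ := hPS c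
    refine Submodule.mem_sup.2 ⟨_, ho, _, Submodule.sum_mem _ fun c' hc' => Submodule.smul_mem _ _
      (Submodule.subset_span ⟨c', hc', rfl⟩), sub_add_cancel _ _⟩
  have hcard : S.card = m := by
    have hbot : N.toSubmodule ⊓ Submodule.span L (b '' (S : Set (Fin d))) = ⊥ := by
      rw [← range_sect, eq_bot_iff]
      rintro _ ⟨hN, y, rfl⟩
      rw [Submodule.mem_bot]
      have h0 : ∑ c' ∈ S, (if h : c' ∈ S then y ⟨c', h⟩ else 0) • b c' ∈ N.toSubmodule := by
        rw [← Finset.sum_coe_sort S]
        rw [SetLike.mem_coe, hsect] at hN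
        simpa using hN
      have : y = 0 := funext fun c' => by
        have := hli _ h0 c'.1 c'.2
        simpa [c'.2] using this
      rw [this, map_zero]
    have hb : Module.finrank L (Submodule.span L (b '' (S : Set (Fin d)))) = S.card := by
      rw [Set.image_eq_range]
      exact (finrank_span_eq_card (b.linearIndependent.comp _ Subtype.val_injective)).trans (Fintype.card_coe S)
    have h1 := Submodule.finrank_sup_add_finrank_inf_eq N.toSubmodule (Submodule.span L (b '' (S : Set (Fin d))))
    rw [(inChart_iff _ _).1 hch, hbot, finrank_top, finrank_bot, finrank_total, hb, add_zero] at h1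
    have h2 := Submodule.finrank_quotient_add_finrank N.toSubmodule
    rw [finrank_quot, finrank_total] at h2
    omega
  obtain ⟨u, hu, -⟩ := hch.exists_eq hcard
  choose o ho using hPS
  refine ⟨S, hcard, fun c c' => o c.1 c'.1, hu.trans (congrArg (graph S hcard) (funext fun c => funext fun c' => ?_))⟩
  have h1 := ho c.1
  rw [hu, graph_toSubmodule, LinearMap.mem_ker, map_sub, sub_eq_zero, proj_bas_notMem,
    ← Finset.sum_coe_sort S, ← hsect (fun c' => κ (o c.1 c'.1)), proj_sect] at h1
  exact congrFun h1 c'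

/-- A linked tuple over the field extends over the valuation ring. -/
theorem exists_extend (hinj : Function.Injective κ) (hval : ∀ x : L, x ∈ Set.range κ ∨ x⁻¹ ∈ Set.range κ)
    {f g : Fin n → ((Fin d → R) →ₗ[R] (Fin d → R))}
    (V : LGPoints R d r n f g L) :
    ∃ Vt : LGPoints R d r n f g O, ∀ i, Grassmannian.map κ (Vt.1 i) = V.1 i := by
  choose S hS u hu using fun i => exists_graph_integral κ hval (V.1 i)
  have h0 : ∀ q, eqVal f g S (fun i c c' => κ (u i c c')) q = 0 :=
    (linked_iff hS _).1 fun i => by rw [← hu i.castSucc, ← hu i.succ]; exact V.2 i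
  have h1 : ∀ q, eqVal f g S u q = 0 := fun q => hinj (by rw [← eqVal_map, h0 q, map_zero])
  exact ⟨⟨fun i => graph (S i) (hS i) (u i), (linked_iff hS u).2 h1⟩, fun i => (map_graph κ _ _ _).trans (hu i).symm⟩

/-- A valuation ring of a field over the base, centred at a prescribed prime. -/
theorem exists_valuation {A : Type u} [CommRing A] [IsDomain A] [Algebra A L] (hinj : Function.Injective (algebraMap A L))
    (p : Ideal A) [p.IsPrime] :
    ∃ (O : ValuationSubring L) (ψ : A →+* O), O.subtype.comp ψ = algebraMap A L ∧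
      (IsLocalRing.maximalIdeal O).comap ψ = p := by
  have hu : ∀ y : p.primeCompl, IsUnit (algebraMap A L y) := fun y =>
    isUnit_iff_ne_zero.2 fun h => y.2 (by
      rw [(map_eq_zero_iff _ hinj).1 h]; exact p.zero_mem)
  let l : Localization.AtPrime p →+* L := IsLocalization.lift hu
  obtain ⟨O, hO⟩ := (LocalSubring.range l).exists_le_valuationSubring
  have h1 : (LocalSubring.range l).toSubring = l.range := SetLike.coe_injective (by
    simp [LocalSubring.range, LocalSubring.copy])
  let j : Localization.AtPrime p →+* O :=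
    l.codRestrict O.toSubring fun x => hO.1 (by rw [h1]; exact ⟨x, rfl⟩)
  refine ⟨O, j.comp (algebraMap A _), ?_, ?_⟩
  · ext a
    exact IsLocalization.lift_eq hu a
  · have hj : IsLocalHom j := ⟨fun a ha => by
      by_contra hna
      obtain ⟨b, hb⟩ := isUnit_iff_exists_inv.1 ha
      have hmem : l a ∈ (LocalSubring.range l).toSubring := by rw [h1]; exact ⟨a, rfl⟩
      have hu' : IsUnit (⟨l a, hmem⟩ : (LocalSubring.range l).toSubring) :=
        hO.2.map_nonunit _ (isUnit_iff_exists_inv.2 ⟨b, Subtype.ext (congrArg Subtype.val hb :)⟩)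
      obtain ⟨c, hc⟩ := isUnit_iff_exists_inv.1 hu'
      obtain ⟨a', ha'⟩ : c.1 ∈ l.range := h1 ▸ c.2
      have h2 : l (a * a') = 1 := by rw [map_mul, ha']; exact congrArg Subtype.val hc
      have linj : Function.Injective l := by
        refine (IsLocalization.lift_injective_iff _).2 fun x y => ?_
        have := IsLocalization.injective (Localization.AtPrime p) (M := p.primeCompl) p.primeCompl_le_nonZeroDivisors
        exact ⟨fun h => congrArg _ (this h), fun h => congrArg _ (hinj h)⟩
      exact hna (IsUnit.of_mul_eq_one a' (linj (h2.trans (map_one l).symm)))⟩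
    rw [← Ideal.comap_comap, IsLocalRing.maximalIdeal_comap]
    exact IsLocalization.AtPrime.under_maximalIdeal (Localization.AtPrime p) p

end Groth.Agent.Synt29.LG
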