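import Groth.Agent.Synt29.LGSheaf
import Groth.Agent.Synt29.LGValuative

/-!
The linked Grassmannian is a proper scheme.
-/

set_option autoImplicit false
set_option backward.isDefEq.respectTransparency false
set_option linter.style.haveILetI false

universe u

open TensorProduct CategoryTheory CategoryTheory.Limits AlgebraicGeometry W4c1limliniiii

namespace Groth.Agent.Synt29.LG

open GrassGraph RepOpen
open Module (Grassmannian)

variable {R : Type u} [CommRing R] {d r n : ℕ} (f g : Fin n → ((Fin d → R) →ₗ[R] (Fin d → R)))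

theorem exists_inChart_iff_isUnit {A : Type u} [CommRing A] [Algebra R A] {m : ℕ} {S : Finset (Fin d)}
    (hS : S.card = m) (u : {c // c ∉ S} → S → A) (S' : Finset (Fin d)) (hS' : S'.card = m) :
    ∃ h : A, ∀ (B : Type u) [CommRing B] [Algebra R B] (φ : A →ₐ[R] B),
      InChart S' (Grassmannian.map φ (graph (R := R) S hS u)) ↔ IsUnit (φ h) := by
  classical
  let eq : {c // c ∈ S} ≃ {c // c ∈ S'} := Finset.equivOfCardEq (hS.trans hS'.symm)
  refine ⟨(Pi.basisFun A {c // c ∈ S}).det fun c => proj (R := R) S u (bas A (eq c).1), fun B _ _ φ => ?_⟩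
  let v : {c // c ∈ S} → ({c // c ∈ S} → B) := fun c => proj (R := R) S (fun a b => φ (u a b)) (bas B (eq c).1)
  have hv : (Pi.basisFun B {c // c ∈ S}).det v =
      φ ((Pi.basisFun A {c // c ∈ S}).det fun c => proj (R := R) S u (bas A (eq c).1)) := by
    rw [Module.Basis.det_apply, Module.Basis.det_apply, AlgHom.map_det]
    congr 1
    ext a b
    simp only [Module.Basis.toMatrix_apply, Pi.basisFun_repr, AlgHom.mapMatrix_apply, Matrix.map_apply, v]
    rw [← congrFun (proj_ι φ S u (bas A (eq b).1)) a, ι_bas]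
  rw [← hv, map_graph, inChart_iff, graph_toSubmodule, sup_comm, ← Submodule.comap_map_eq,
    (Submodule.comap_injective_of_surjective (proj_surjective S _)).eq_iff' (Submodule.comap_top _),
    Submodule.map_span,
    show proj (R := R) S (fun a b => φ (u a b)) '' (bas B '' (S' : Set (Fin d))) = Set.range v by
      rw [Set.image_eq_range (⇑(bas B)) (S' : Set (Fin d)), ← Set.range_comp]
      exact (eq.surjective.range_comp _).symm]
  constructor
  · intro h
    refine (Pi.basisFun B {c // c ∈ S}).is_basis_iff_det.1 ⟨?_, h⟩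
    rcases subsingleton_or_nontrivial B with hB | hB
    · exact linearIndependent_of_subsingleton
    exact linearIndependent_of_top_le_span_of_card_eq_finrank h.ge (by
      rw [Module.finrank_pi])
  · exact fun h => ((Pi.basisFun B {c // c ∈ S}).is_basis_iff_det.2 h).2

/-- The atlas of graph charts. -/
noncomputable def atlas : Atlas (functor r f g) where
  idx := {S : Fin (n + 1) → Finset (Fin d) // ∀ i, (S i).card = d - r}
  fin := inferInstance
  chart S := gChart f g S.1 S.2
  principal S S' A V hV := by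
    classical
    choose u hu _ using fun i => (hV i).exists_eq (S.2 i)
    choose h hh using fun i => exists_inChart_iff_isUnit (R := R) (S.2 i) (u i) (S'.1 i) (S'.2 i)
    refine ⟨∏ i, h i, fun B φ => ?_⟩
    rw [map_prod, IsUnit.prod_univ_iff]
    exact forall_congr' fun i => by rw [← hh i B φ.hom, ← hu i]; rfl
  cover L hL V := by
    letI := hL.toField
    choose S hS hch using fun i => exists_cols (V.1 i)
    exact ⟨⟨S, hS⟩, hch⟩
  sep A s hs V W hVW := by
    refine Subtype.ext (funext fun i => Grassmannian.ext (le_antisymm ?_ ?_)) <;> intro x hx <;>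
      refine mem_of_local s hs fun h hh => ?_ <;>
      have e := congrArg Grassmannian.toSubmodule (congrFun (congrArg Subtype.val (hVW h hh)) i) <;>
      rw [functor_map_val, functor_map_val, map_eq_span, map_eq_span] at e
    · exact e ▸ Submodule.subset_span ⟨x, hx, rfl⟩
    · exact e.symm ▸ Submodule.subset_span ⟨x, hx, rfl⟩
  glue A s hs Vs hcompat := by
    classical
    choose G hG using fun i => exists_glue (R := R) (A := (A : Type u)) s hs (fun h hh => (Vs h hh).1 i)
      (fun h hh h' hh' B _ _ φ ψ e => congrFun (congrArg Subtype.val (hcompat h hh h' hh' (CommAlgCat.of R B)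
        (CommAlgCat.ofHom φ) (CommAlgCat.ofHom ψ) (CommAlgCat.hom_ext e))) i)
    refine ⟨⟨G, fun i => ⟨?_, ?_⟩⟩, fun h hh => Subtype.ext (funext fun i => hG i h hh)⟩
    · rintro _ ⟨x, hx, rfl⟩
      refine mem_of_local _ hs fun h hh => ?_
      rw [← map_eq_span, hG _ h hh, ι_baseChange]
      refine ((Vs h hh).2 i).1 ⟨_, ?_, rfl⟩
      rw [← hG _ h hh, map_eq_span]
      exact Submodule.subset_span ⟨x, hx, rfl⟩
    · rintro _ ⟨x, hx, rfl⟩
      refine mem_of_local _ hs fun h hh => ?_
      rw [← map_eq_span, hG _ h hh, ι_baseChange]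
      refine ((Vs h hh).2 i).2 ⟨_, ?_, rfl⟩
      rw [← hG _ h hh, map_eq_span]
      exact Submodule.subset_span ⟨x, hx, rfl⟩

variable {f g}

theorem map_injective {A B : Type u} [CommRing A] [Algebra R A] [CommRing B] [Algebra R B] (φ : A →ₐ[R] B)
    (hφ : Function.Injective φ) {m : ℕ} :
    Function.Injective (Grassmannian.map φ : Grassmannian A (A ⊗[R] (Fin d → R)) m → _) := by
  have key : ∀ (N : Grassmannian A (A ⊗[R] (Fin d → R)) m) (x : A ⊗[R] (Fin d → R)),
      ι φ x ∈ (Grassmannian.map φ N).toSubmodule → x ∈ N.toSubmodule := by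
    intro N x hx
    rw [← Submodule.Quotient.mk_eq_zero]
    refine (Module.forall_dual_apply_eq_zero_iff A _).1 fun μ => hφ ?_
    rw [map_zero]
    let μB : B ⊗[R] (Fin d → R) →ₗ[B] B := (bas B).constr B fun c => φ (μ (Submodule.Quotient.mk (bas A c)))
    have h1 : ∀ y, μB (ι φ y) = φ (μ (Submodule.Quotient.mk y)) := fun y => by
      induction (bas (R := R) A).mem_span y using Submodule.span_induction with
      | mem z hz =>
        obtain ⟨c, rfl⟩ := hz
        rw [ι_bas]
        exact Module.Basis.constr_basis (bas (R := R) B) B _ c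
      | zero => simp
      | add a b _ _ ha hb => simp [ha, hb, Submodule.Quotient.mk_add]
      | smul t a _ ha => simp [ι_smul, ha, Submodule.Quotient.mk_smul]
    rw [map_eq_span] at hx
    have h2 : Submodule.span B (ι φ '' N.toSubmodule) ≤ LinearMap.ker μB := Submodule.span_le.2 (by
      rintro _ ⟨y, hy, rfl⟩
      rw [SetLike.mem_coe, LinearMap.mem_ker, h1, (Submodule.Quotient.mk_eq_zero _).2 hy, map_zero, map_zero])
    rw [← h1]
    exact h2 hx
  intro N N' h
  refine Grassmannian.ext (le_antisymm (fun x hx => key N' x ?_) fun x hx => key N x ?_)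
  · rw [← h, map_eq_span]; exact Submodule.subset_span ⟨x, hx, rfl⟩
  · rw [h, map_eq_span]; exact Submodule.subset_span ⟨x, hx, rfl⟩

section Proper

theorem valuativeCriterion {X : Over (Spec (CommRingCat.of R))} {e : ∀ A, (sp A ⟶ X) ≃ LGPoints R d r n f g A}
    (he : IsNat X (functor r f g) e) : ValuativeCriterion X.hom := by
  rw [ValuativeCriterion.iff]
  constructor
  · intro S
    let χ : CommRingCat.of R ⟶ CommRingCat.of S.R := Spec.preimage S.i₂
    letI : Algebra R S.R := χ.hom.toAlgebra
    letI : Algebra R S.K := ((algebraMap S.R S.K).comp χ.hom).toAlgebra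
    haveI : IsScalarTower R S.R S.K := IsScalarTower.of_algebraMap_eq' rfl
    have hO : S.i₂ = (sp (CommAlgCat.of R S.R)).hom := (Spec.map_preimage S.i₂).symm
    let κ : S.R →ₐ[R] S.K := IsScalarTower.toAlgHom R S.R S.K
    let A : CommAlgCat.{u} R := CommAlgCat.of R S.R
    let L : CommAlgCat.{u} R := CommAlgCat.of R S.K
    let toL : A ⟶ L := CommAlgCat.ofHom κ
    let q : sp L ⟶ X := Over.homMk S.i₁ (by
      show _ = (sp L).hom
      rw [← spMap_w toL, S.commSq.w, hO]
      rfl)
    obtain ⟨Vt, hVt⟩ := exists_extend κ (IsFractionRing.injective S.R S.K) (fun x =>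
      (ValuationRing.isInteger_or_isInteger S.R x).imp (fun h => h) fun h => h) (e L q)
    let l : sp A ⟶ X := (e A).symm Vt
    have hl : spOver toL ≫ l = q := (e L).injective ((he A L toL _).trans
      ((congrArg ((functor r f g).map toL) ((e A).apply_symm_apply Vt)).trans (Subtype.ext (funext hVt))))
    exact ⟨⟨⟨l.left, congrArg CommaMorphism.left hl, (Over.w l).trans hO.symm⟩⟩⟩
  · intro S
    refine ⟨fun l₁ l₂ => ?_⟩
    let χ : CommRingCat.of R ⟶ CommRingCat.of S.R := Spec.preimage S.i₂
    letI : Algebra R S.R := χ.hom.toAlgebra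
    letI : Algebra R S.K := ((algebraMap S.R S.K).comp χ.hom).toAlgebra
    haveI : IsScalarTower R S.R S.K := IsScalarTower.of_algebraMap_eq' rfl
    have hO : S.i₂ = (sp (CommAlgCat.of R S.R)).hom := (Spec.map_preimage S.i₂).symm
    let A : CommAlgCat.{u} R := CommAlgCat.of R S.R
    let L : CommAlgCat.{u} R := CommAlgCat.of R S.K
    let κ : S.R →ₐ[R] S.K := IsScalarTower.toAlgHom R S.R S.K
    let toL : A ⟶ L := CommAlgCat.ofHom κ
    let a₁ : sp A ⟶ X := Over.homMk l₁.l (l₁.fac_right.trans hO)
    let a₂ : sp A ⟶ X := Over.homMk l₂.l (l₂.fac_right.trans hO)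
    have h : spOver toL ≫ a₁ = spOver toL ≫ a₂ := Over.OverMorphism.ext (l₁.fac_left.trans l₂.fac_left.symm)
    have h' := (he A L toL a₁).symm.trans ((congrArg (e L) h).trans (he A L toL a₂))
    have h'' : e A a₁ = e A a₂ := Subtype.ext (funext fun i =>
      map_injective κ (IsFractionRing.injective S.R S.K) (congrFun (congrArg Subtype.val h') i))
    exact CommSq.LiftStruct.ext (congrArg CommaMorphism.left ((e A).injective h''))

theorem exists_representable_proper (f g : Fin n → ((Fin d → R) →ₗ[R] (Fin d → R))) :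
    ∃ (X : Over (Spec (CommRingCat.of R))) (e : ∀ A : CommAlgCat.{u} R, (sp A ⟶ X) ≃ LGPoints R d r n f g A),
      IsNat X (functor r f g) e ∧ IsProper X.hom := by
  let 𝒜 := atlas (r := r) f g
  refine ⟨𝒜.glued, 𝒜.classifyEquiv, 𝒜.isNat_classifyEquiv, ?_⟩
  have := 𝒜.fin
  have hlfp := locallyOfFinitePresentation 𝒜.isNat_classifyEquiv
  let U : 𝒜.idx → 𝒜.glued.left.Opens := fun i => (colimit.ι 𝒜.diagram (𝒜.single i)).opensRange
  have hcov : ∀ (T : 𝒜.J) (z : (sp (𝒜.conj T).C).left) (i : 𝒜.idx), i ∈ T.ofDual.1 →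
      colimit.ι 𝒜.diagram T z ∈ U i := fun T z i hi => by
    have hle : T ≤ 𝒜.single i := (Finset.singleton_subset_iff.2 hi : _ ⊆ T.ofDual.1)
    refine ⟨𝒜.diagram.map (homOfLE hle) z, ?_⟩
    rw [← Scheme.Hom.comp_apply, colimit.w]
  have hU : TopologicalSpace.IsOpenCover U := by
    refine eq_top_iff.2 fun x _ => ?_
    obtain ⟨T, z, rfl⟩ := Scheme.IsLocallyDirected.ι_jointly_surjective 𝒜.diagram x
    obtain ⟨i, hi⟩ := T.ofDual.2
    exact TopologicalSpace.Opens.mem_iSup.2 ⟨i, hcov T z i hi⟩
  have hU₁ : ∀ i, IsAffineOpen (U i) := fun i =>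
    haveI : IsAffine (𝒜.diagram.obj (𝒜.single i)) := inferInstanceAs (IsAffine (Spec _))
    isAffineOpen_opensRange (colimit.ι 𝒜.diagram (𝒜.single i))
  have hU₂ : ∀ i j, IsCompact ((U i : Set 𝒜.glued.left) ∩ U j) := fun i j => by
    classical
    let T : 𝒜.J := OrderDual.toDual ⟨{i, j}, Finset.insert_nonempty i {j}⟩
    have he : (U i : Set 𝒜.glued.left) ∩ U j = Set.range (colimit.ι 𝒜.diagram T) := by
      refine Set.Subset.antisymm ?_ (Set.range_subset_iff.2 fun z =>
        ⟨hcov T z i (Finset.mem_insert_self i {j}), hcov T z j (Finset.mem_insert_of_mem (Finset.mem_singleton_self j))⟩)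
      rintro _ ⟨⟨y, rfl⟩, ⟨y', hy'⟩⟩
      obtain ⟨k, fi, fj, z, hz, hz'⟩ := (Scheme.IsLocallyDirected.ι_eq_ι_iff 𝒜.diagram).1 hy'.symm
      have hk : k ≤ T := (Finset.insert_subset_iff.2 ⟨fi.le (Finset.mem_singleton_self i),
        Finset.singleton_subset_iff.2 (fj.le (Finset.mem_singleton_self j))⟩ : _ ⊆ k.ofDual.1)
      refine ⟨𝒜.diagram.map (homOfLE hk) z, ?_⟩
      rw [← hz, ← Scheme.Hom.comp_apply, colimit.w, ← Scheme.Hom.comp_apply, colimit.w]
    rw [he]
    haveI : CompactSpace (𝒜.diagram.obj T) := inferInstanceAs (CompactSpace (Spec (CommRingCat.of (𝒜.conj T).C)))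
    exact isCompact_range (colimit.ι 𝒜.diagram T).continuous
  have : QuasiSeparatedSpace 𝒜.glued.left := Scheme.quasiSeparatedSpace_of_isOpenCover U hU hU₁ hU₂
  have : CompactSpace 𝒜.glued.left := by
    refine ⟨?_⟩
    rw [show (Set.univ : Set 𝒜.glued.left) = ⋃ i, (U i : Set 𝒜.glued.left) by
      rw [← TopologicalSpace.Opens.coe_iSup, hU.iSup_eq_top]; rfl]
    exact isCompact_iUnion fun i => (hU₁ i).isCompact
  exact IsProper.of_valuativeCriterion _ (valuativeCriterion 𝒜.isNat_classifyEquiv)

end Proper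

end Groth.Agent.Synt29.LG
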