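import Groth.Agent.Synt29.LGComponents

/-!
The dimension of the components of a linked Grassmannian over a field.
-/

set_option autoImplicit false
set_option backward.isDefEq.respectTransparency false

universe u

open TensorProduct CategoryTheory AlgebraicGeometry W4c1limliniiii

namespace Groth.Agent.Synt29.LG

open GrassGraph RepOpen
open Module (Grassmannian)

variable {k : Type u} [Field k] {d r n : ℕ} {f g : Fin n → ((Fin d → k) →ₗ[k] (Fin d → k))} {s : k}
  {X : Over (Spec (CommRingCat.of k))} {e : ∀ A, (sp A ⟶ X) ≃ LGPoints k d r n f g A}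

theorem card_eVar {S T : Fin (n + 1) → Finset (Fin d)} (hd : EData S T r) :
    Fintype.card (EVar S T) = r * (d - r) := by
  rw [Fintype.card_sigma]
  simp only [Fintype.card_prod, Fintype.card_coe, hd.card_cols]
  rw [← Finset.sum_mul, hd.card_gen]

theorem ringKrullDim_eRing {S T : Fin (n + 1) → Finset (Fin d)} (hd : EData S T r) [IsDomain (ERing f g hd)] :
    ringKrullDim (ERing f g hd) = ((r * (d - r) : ℕ) : WithBot ℕ∞) := by
  classical
  have : Algebra.FiniteType k (ERing f g hd) :=
    Algebra.FiniteType.trans inferInstance (IsLocalization.finiteType_of_monoid_fg (Submonoid.powers (eDen f g hd)) (ERing f g hd))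
  obtain ⟨m, hm, hm'⟩ := VarDim.exists_dim_eq_trdeg k (ERing f g hd)
  have hinj : Function.Injective (algebraMap (MvPolynomial (EVar S T) k) (ERing f g hd)) :=
    IsLocalization.injective _ (powers_le_nonZeroDivisors_of_noZeroDivisors fun h => by
      have hu := IsLocalization.Away.algebraMap_isUnit (S := ERing f g hd) (eDen f g hd)
      rw [(congrArg (algebraMap (MvPolynomial (EVar S T) k) (ERing f g hd)) h).trans (map_zero _)] at hu
      exact not_isUnit_zero hu)
  have : FaithfulSMul (MvPolynomial (EVar S T) k) (ERing f g hd) := (faithfulSMul_iff_algebraMap_injective _ _).2 hinj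
  have : Algebra.IsAlgebraic (MvPolynomial (EVar S T) k) (ERing f g hd) :=
    IsLocalization.isAlgebraic _ (Submonoid.powers (eDen f g hd))
  have h1 := trdeg_add_eq k (MvPolynomial (EVar S T) k) (A := ERing f g hd)
  rw [hm', trdeg_eq_zero (R := MvPolynomial (EVar S T) k), add_zero, MvPolynomial.trdeg_of_isDomain, Cardinal.mk_fintype, Cardinal.lift_natCast,
    card_eVar hd] at h1
  rw [hm, Nat.cast_injective h1.symm]

theorem topologicalKrullDim_component (he : IsNat X (functor r f g) e) (H : Hyp f g s) (hr : r ≤ d)
    {Z : Set X.left} (hZ : Z ∈ irreducibleComponents X.left) :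
    topologicalKrullDim Z = (r * (d - r) : ℕ) := by
  have hlfp := locallyOfFinitePresentation he
  have : LocallyOfFiniteType X.hom := inferInstance
  obtain ⟨y, ⟨S, T, hd, hy⟩, hZy⟩ := exists_exactChart_closure he H hr hZ
  have hne : (Set.range ((eChart hd H.comp).hom e).left).Nonempty := ⟨y, hy⟩
  have hdom := isDomain_eRing H.comp hd hne
  have hopen := isOpenImmersion_hom he (eChart hd H.comp)
  let z : (sp (eChart hd H.comp).C).left := (⟨(⊥ : Ideal (ERing f g hd)), Ideal.isPrime_bot⟩ : PrimeSpectrum (ERing f g hd))
  have hz : ∀ w : (sp (eChart hd H.comp).C).left, z ⤳ w := fun w =>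
    (PrimeSpectrum.le_iff_specializes z w).1 (show (⊥ : Ideal (ERing f g hd)) ≤ w.asIdeal from bot_le)
  have hZ' : Z = closure {((eChart hd H.comp).hom e).left z} := by
    rw [component_eq he H.comp hd hZ ⟨y, hZy ▸ subset_closure rfl, hy⟩]
    refine Set.Subset.antisymm (closure_minimal ?_ isClosed_closure)
      (closure_mono (Set.singleton_subset_iff.2 ⟨z, rfl⟩))
    rintro _ ⟨w, rfl⟩
    exact specializes_iff_mem_closure.1 ((hz w).map ((eChart hd H.comp).hom e).left.continuous)
  have hw : ((eChart hd H.comp).hom e).left ≫ X.hom = (sp (eChart hd H.comp).C).hom := Over.w _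
  have : LocallyOfFiniteType (((eChart hd H.comp).hom e).left ≫ X.hom) := inferInstance
  rw [hZ', VarDim.topologicalKrullDim_closure_singleton X.hom, ← VarDim.deg_comp X.hom _ z,
    ← VarDim.topologicalKrullDim_closure_singleton (((eChart hd H.comp).hom e).left ≫ X.hom) z,
    show closure ({z} : Set (sp (eChart hd H.comp).C).left) = Set.univ from
      Set.eq_univ_of_forall fun w => specializes_iff_mem_closure.1 (hz w)]
  rw [(Homeomorph.Set.univ _).isHomeomorph.topologicalKrullDim_eq]
  exact (PrimeSpectrum.topologicalKrullDim_eq_ringKrullDim (ERing f g hd)).trans (ringKrullDim_eRing hd)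

end Groth.Agent.Synt29.LG
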