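import Mathlib
import Groth.Agent.Synt29.PencilFamily

/-!
Limits of separable pencils: the saturated module of combinations with coefficients in `x ^ p`.
-/

set_option autoImplicit false

universe u

open Polynomial IsLocalRing

namespace Groth.Agent.Synt29.InsepLimit

section Lattice

variable {A : Type u} [CommRing A] [IsDomain A] [IsDiscreteValuationRing A] (K : Type u) [Field K] [Algebra A K]
  [IsFractionRing A K]

/-- The reductions of the integral points of a space of polynomials over the fraction field. -/
noncomputable def red (N : Submodule K K[X]) : Submodule (ResidueField A) (ResidueField A)[X] where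
  carrier := {z | ∃ v : A[X], v.map (algebraMap A K) ∈ N ∧ v.map (residue A) = z}
  zero_mem' := ⟨0, by simp, by simp⟩
  add_mem' := by
    rintro _ _ ⟨v, hv, rfl⟩ ⟨w, hw, rfl⟩
    exact ⟨v + w, by simpa using N.add_mem hv hw, by simp⟩
  smul_mem' := by
    rintro c _ ⟨v, hv, rfl⟩
    obtain ⟨c, rfl⟩ := residue_surjective c
    refine ⟨C c * v, ?_, by simp [smul_eq_C_mul]⟩
    rw [Polynomial.map_mul, map_C, ← smul_eq_C_mul]
    exact N.smul_mem (algebraMap A K c) hv

variable {K}

theorem red_le_degreeLE {N : Submodule K K[X]} {D : ℕ} (hN : N ≤ degreeLE K D) :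
    red (A := A) K N ≤ degreeLE (ResidueField A) D := by
  rintro _ ⟨v, hv, rfl⟩
  have h := mem_degreeLE.1 (hN hv)
  rw [degree_map_eq_of_injective (IsFractionRing.injective A K)] at h
  exact mem_degreeLE.2 (degree_map_le.trans h)

/-- Reduction preserves the dimension. -/
theorem finrank_le_finrank_red {N : Submodule K K[X]} {D : ℕ} (hN : N ≤ degreeLE K D) [Module.Finite K N] :
    Module.finrank K N ≤ Module.finrank (ResidueField A) (red (A := A) K N) := by
  classical
  have hinj : Function.Injective (algebraMap A K) := IsFractionRing.injective A K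
  let L : Submodule A A[X] :=
    { carrier := {v | v.map (algebraMap A K) ∈ N}
      zero_mem' := by simp
      add_mem' := fun {v w} hv hw => by simpa using N.add_mem hv hw
      smul_mem' := fun c v hv => by
        show (c • v).map (algebraMap A K) ∈ N
        rw [smul_eq_C_mul, Polynomial.map_mul, map_C, ← smul_eq_C_mul]
        exact N.smul_mem (algebraMap A K c) hv }
  have hLD : L ≤ degreeLE A D := fun v hv => by
    have h := mem_degreeLE.1 (hN hv)
    rw [degree_map_eq_of_injective hinj] at h
    exact mem_degreeLE.2 h
  have : Module.Finite A (degreeLT A (D + 1)) := Module.Finite.equiv (degreeLTEquiv A (D + 1)).symm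
  have hle : degreeLE A D ≤ degreeLT A (D + 1) := fun v hv =>
    mem_degreeLT.2 ((mem_degreeLE.1 hv).trans_lt (by exact_mod_cast Nat.lt_succ_self D))
  have : Module.Finite A L := Module.Finite.of_injective (Submodule.inclusion (hLD.trans hle))
    (Submodule.inclusion_injective _)
  have : Module.IsTorsionFree A L := inferInstance
  obtain ⟨r, b⟩ : Σ r, Module.Basis (Fin r) A L := Module.basisOfFiniteTypeTorsionFree' (R := A) (M := L)
  have hspan : N ≤ Submodule.span K (Set.range fun i => ((b i : A[X]).map (algebraMap A K))) := by
    intro w hw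
    obtain ⟨⟨s, hs⟩, hs'⟩ := IsLocalization.exist_integer_multiples (nonZeroDivisors A) w.support w.coeff
    choose c hc using hs'
    let v : A[X] := ∑ i ∈ w.support.attach, C (c i.1 i.2) * X ^ i.1
    have hv : v.map (algebraMap A K) = algebraMap A K s • w := by
      have hc' : ∀ i h, algebraMap A K (c i h) = algebraMap A K s * w.coeff i := fun i h =>
        (hc i h).trans (Algebra.smul_def _ _)
      simp only [v, Polynomial.map_sum, Polynomial.map_mul, map_C, Polynomial.map_pow, map_X, hc']
      rw [Finset.sum_attach w.support (fun i => C (algebraMap A K s * w.coeff i) * X ^ i), smul_eq_C_mul]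
      conv_rhs => rw [w.as_sum_support_C_mul_X_pow, Finset.mul_sum]
      exact Finset.sum_congr rfl fun i _ => by rw [map_mul, mul_assoc]
    have hvL : v ∈ L := by
      show v.map (algebraMap A K) ∈ N
      rw [hv]; exact N.smul_mem _ hw
    have hs0 : algebraMap A K s ≠ 0 := by
      rw [ne_eq, map_eq_zero_iff _ hinj]; exact nonZeroDivisors.ne_zero hs
    rw [← inv_smul_smul₀ hs0 w, ← hv]
    refine Submodule.smul_mem _ _ ?_
    have := congrArg (fun x : L => (x : A[X]).map (algebraMap A K)) (b.sum_repr ⟨v, hvL⟩)
    simp only [Submodule.coe_sum, Submodule.coe_smul, Polynomial.map_sum, smul_eq_C_mul, Polynomial.map_mul, map_C] at this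
    rw [← this]
    refine Submodule.sum_mem _ fun i _ => ?_
    rw [← smul_eq_C_mul]
    exact Submodule.smul_mem _ _ (Submodule.subset_span ⟨i, rfl⟩)
  have hr : Module.finrank K N ≤ r := by
    have : Module.Finite K (Submodule.span K (Set.range fun i => ((b i : A[X]).map (algebraMap A K)))) :=
      Module.Finite.span_of_finite K (Set.finite_range _)
    exact (Submodule.finrank_mono hspan).trans ((finrank_range_le_card _).trans (le_of_eq (Fintype.card_fin r)))
  refine hr.trans ?_
  let z : Fin r → red (A := A) K N := fun i => ⟨(b i : A[X]).map (residue A), b i, (b i).2, rfl⟩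
  have hz : LinearIndependent (ResidueField A) z := by
    rw [Fintype.linearIndependent_iff]
    intro g hg
    choose a ha using fun i => residue_surjective (g i)
    obtain ⟨ϖ, hϖ⟩ := IsDiscreteValuationRing.exists_irreducible A
    let v : L := ∑ i, a i • b i
    have hv0 : (v : A[X]).map (residue A) = 0 := by
      have h := congrArg Subtype.val hg
      simp only [Submodule.coe_sum, Submodule.coe_smul, Submodule.coe_zero, z] at h
      simp only [v, Submodule.coe_sum, Submodule.coe_smul, Polynomial.map_sum, smul_eq_C_mul, Polynomial.map_mul,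
        map_C, ha]
      rw [← h]
      simp only [smul_eq_C_mul]
    obtain ⟨w, hw⟩ : C ϖ ∣ (v : A[X]) := by
      refine (C_dvd_iff_dvd_coeff _ _).2 fun i => ?_
      have h := congrArg (fun q => q.coeff i) hv0
      simp only [coeff_map, coeff_zero] at h
      rw [residue_eq_zero_iff, hϖ.maximalIdeal_eq, Ideal.mem_span_singleton] at h
      exact h
    have hwL : w ∈ L := by
      show w.map (algebraMap A K) ∈ N
      have hm : (v : A[X]).map (algebraMap A K) ∈ N := v.2
      rw [hw, Polynomial.map_mul, map_C, ← smul_eq_C_mul] at hm
      have := N.smul_mem (algebraMap A K ϖ)⁻¹ hm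
      rwa [inv_smul_smul₀ (by rw [ne_eq, map_eq_zero_iff _ hinj]; exact hϖ.ne_zero)] at this
    have hvw : v = ϖ • (⟨w, hwL⟩ : L) := Subtype.ext (by rw [hw, Submodule.coe_smul, smul_eq_C_mul])
    intro i
    have hi := congrArg (fun x => b.repr x i) hvw
    simp only [v, b.repr_sum_self, map_smul, Finsupp.smul_apply, smul_eq_mul] at hi
    rw [← ha, hi, map_mul, show residue A ϖ = 0 by
      rw [residue_eq_zero_iff, hϖ.maximalIdeal_eq]; exact Ideal.mem_span_singleton_self _, zero_mul]
  have : Module.Finite (ResidueField A) (degreeLT (ResidueField A) (D + 1)) :=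
    Module.Finite.equiv (degreeLTEquiv (ResidueField A) (D + 1)).symm
  have hle' : red (A := A) K N ≤ degreeLT (ResidueField A) (D + 1) := fun x hx =>
    mem_degreeLT.2 ((mem_degreeLE.1 (red_le_degreeLE hN hx)).trans_lt (by exact_mod_cast Nat.lt_succ_self D))
  have : Module.Finite (ResidueField A) (red (A := A) K N) :=
    Module.Finite.of_injective (Submodule.inclusion hle') (Submodule.inclusion_injective _)
  simpa using hz.fintype_card_le_finrank

end Lattice

variable {k : Type u} [Field k]

/-- A space of polynomials is no larger than the set of degrees of its members. -/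
theorem finrank_le_card {S : Finset ℕ} {M : Submodule k k[X]} (h : ∀ z ∈ M, z ≠ 0 → z.natDegree ∈ S) :
    Module.Finite k M ∧ Module.finrank k M ≤ S.card := by
  let f : M →ₗ[k] (S → k) := LinearMap.pi fun i => (lcoeff k i.1).comp M.subtype
  have hf : Function.Injective f := (injective_iff_map_eq_zero f).2 fun z hz => Subtype.ext (by
    by_contra h0
    have := congrFun hz ⟨_, h z z.2 h0⟩
    simp [f] at this
    exact h0 (congrArg Subtype.val this))
  exact ⟨Module.Finite.of_injective f hf, (LinearMap.finrank_le_finrank_of_injective hf).trans (by simp)⟩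

/-- The degree of the Wronskian when the degrees differ modulo the characteristic. -/
theorem natDegree_wronskian (p : ℕ) [CharP k p] {F G : k[X]} (hF : F ≠ 0) (hG : G ≠ 0)
    (hne : F.natDegree % p ≠ G.natDegree % p) :
    wronskian F G ≠ 0 ∧ (wronskian F G).natDegree = F.natDegree + G.natDegree - 1 := by
  have hmul : ∀ (P Q : k[X]), (P * derivative Q).coeff (P.natDegree + Q.natDegree - 1) =
      P.leadingCoeff * (Q.natDegree * Q.leadingCoeff) := by
    intro P Q
    rcases Nat.eq_zero_or_pos Q.natDegree with h | h
    · rw [eq_C_of_natDegree_eq_zero h]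
      simp
    · rw [show P.natDegree + Q.natDegree - 1 = P.natDegree + (Q.natDegree - 1) by omega,
        coeff_mul_add_eq_of_natDegree_le le_rfl (natDegree_derivative_le Q), coeff_derivative,
        show Q.natDegree - 1 + 1 = Q.natDegree by omega, coeff_natDegree, coeff_natDegree]
      rw [show ((Q.natDegree - 1 : ℕ) : k) + 1 = (Q.natDegree : k) by
        rw [← Nat.cast_succ, Nat.succ_eq_add_one, Nat.sub_add_cancel h]]
      ring
  have hco : (wronskian F G).coeff (F.natDegree + G.natDegree - 1) =
      ((G.natDegree : k) - F.natDegree) * (F.leadingCoeff * G.leadingCoeff) := by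
    rw [wronskian, coeff_sub, hmul F G, mul_comm (derivative F) G,
      show F.natDegree + G.natDegree - 1 = G.natDegree + F.natDegree - 1 by omega, hmul G F]
    ring
  have hne0 : (wronskian F G).coeff (F.natDegree + G.natDegree - 1) ≠ 0 := by
    rw [hco]
    refine mul_ne_zero ?_ (mul_ne_zero (leadingCoeff_ne_zero.2 hF) (leadingCoeff_ne_zero.2 hG))
    rw [sub_ne_zero, ne_eq, CharP.natCast_eq_natCast k p]
    exact fun h => hne h.symm
  have hW : wronskian F G ≠ 0 := fun h => hne0 (by simp [h])
  have := natDegree_wronskian_lt_add hW
  have := le_natDegree_of_ne_zero hne0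
  exact ⟨hW, by omega⟩

/-- A third polynomial in terms of two. -/
theorem plucker (U V z : k[X]) : wronskian U V * z = wronskian z V * U + wronskian U z * V := by
  simp only [wronskian]; ring

end Groth.Agent.Synt29.InsepLimit
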