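import Mathlib

/-!
Fibres of weighted homogeneous maps whose zero fibre is the origin.
-/

set_option autoImplicit false

universe u v w

open MvPolynomial

namespace Groth.Agent.Synt29.WFinite

variable {k : Type u} [Field k]

/-- A weighted homogeneous map with zero fibre the origin has finite fibres. -/
theorem finite_fibre [IsAlgClosed k] {σ : Type v} [Finite σ] {ι : Type w} [Finite ι] (wt : σ → ℕ)
    (φ : ι → MvPolynomial σ k) (deg : ι → ℕ) (hdeg : ∀ m, 1 ≤ deg m)
    (hφ : ∀ m, IsWeightedHomogeneous wt (φ m) (deg m))
    (h0 : ∀ x : σ → k, (∀ m, eval x (φ m) = 0) → x = 0) (q : ι → k) :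
    {x : σ → k | ∀ m, eval x (φ m) = q m}.Finite := by
  classical
  have := Fintype.ofFinite σ
  have := Fintype.ofFinite ι
  let I : Ideal (MvPolynomial σ k) := Ideal.span (Set.range φ)
  have hrad : ∀ v, ∃ N, (X v : MvPolynomial σ k) ^ N ∈ I := fun v => by
    have : (X v : MvPolynomial σ k) ∈ I.radical := by
      rw [← MvPolynomial.vanishingIdeal_zeroLocus_eq_radical (K := k)]
      intro x hx
      have hx0 : x = 0 := h0 x fun m => by
        simpa [aeval_eq_eval] using hx (φ m) (Ideal.subset_span ⟨m, rfl⟩)
      simp [hx0]
    exact this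
  choose N hN using hrad
  let M := ∑ v, wt v * N v + 1
  let Z := {x : σ → k | ∀ m, eval x (φ m) = q m}
  let ev : MvPolynomial σ k →ₐ[k] (Z → k) := AlgHom.pi fun x : Z => aeval x.1
  let S : Set (σ →₀ ℕ) := {e | ∀ v, e v < N v}
  have hS : S.Finite := by
    refine ((Set.finite_Iic fun v => N v).preimage DFunLike.coe_injective.injOn).subset ?_
    exact fun e he v => (he v).le
  let T : Submodule k (Z → k) := Submodule.span k ((fun e => ev (monomial e 1)) '' S)
  have : Module.Finite k T := Module.Finite.span_of_finite k (hS.image _)
  have hev : ∀ n, ∀ p, IsWeightedHomogeneous wt p n → ev p ∈ T := by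
    intro n
    induction n using Nat.strong_induction_on with
    | _ n ih =>
      intro p hp
      rw [p.as_sum, map_sum]
      refine T.sum_mem fun e he => ?_
      rw [show monomial e (p.coeff e) = p.coeff e • monomial e (1 : k) by
        rw [smul_monomial, smul_eq_mul, mul_one], map_smul]
      refine T.smul_mem _ ?_
      by_cases heS : e ∈ S
      · exact Submodule.subset_span ⟨e, heS, rfl⟩
      obtain ⟨v, hv⟩ := not_forall.1 heS
      push Not at hv
      have hwe : Finsupp.weight wt e = n := hp (mem_support_iff.1 he)
      have hI : monomial e (1 : k) ∈ I := by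
        have h1 : monomial e (1 : k) = monomial (Finsupp.single v (N v)) 1 * monomial (e - Finsupp.single v (N v)) 1 := by
          rw [monomial_mul, one_mul, add_tsub_cancel_of_le (Finsupp.single_le_iff.2 hv)]
        rw [h1, ← X_pow_eq_monomial]
        exact Ideal.mul_mem_right _ _ (hN v)
      obtain ⟨h, hh⟩ := Ideal.mem_span_range_iff_exists_fun.1 hI
      have hsum : monomial e (1 : k) = ∑ m, weightedHomogeneousComponent wt (n - deg m) (h m) * φ m *
          (if deg m ≤ n then 1 else 0) := by
        have := congrArg (weightedHomogeneousComponent wt n) hh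
        rw [map_sum, (isWeightedHomogeneous_monomial wt e 1 hwe).weightedHomogeneousComponent_same] at this
        rw [← this]
        refine Finset.sum_congr rfl fun m _ => ?_
        have hsm : ∀ r : MvPolynomial σ k, ∀ j, IsWeightedHomogeneous wt r j →
            weightedHomogeneousComponent wt n (r * φ m) =
              if j + deg m = n then r * φ m else 0 := fun r j hr => by
          split_ifs with hj
          · exact (hj ▸ hr.mul (hφ m)).weightedHomogeneousComponent_same
          · exact (hr.mul (hφ m)).weightedHomogeneousComponent_ne _ (Ne.symm hj)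
        conv_lhs => rw [← sum_weightedHomogeneousComponent wt (h m)]
        rw [finsum_eq_sum _ (weightedHomogeneousComponent_finsupp (w := wt) (φ := h m)), Finset.sum_mul, map_sum]
        split_ifs with hm
        · rw [mul_one, Finset.sum_eq_single (n - deg m)]
          · rw [hsm _ _ (weightedHomogeneousComponent_isWeightedHomogeneous _ _), if_pos (Nat.sub_add_cancel hm)]
          · intro j _ hj
            rw [hsm _ j (weightedHomogeneousComponent_isWeightedHomogeneous _ _), if_neg (by omega)]
          · intro hns
            have hz : weightedHomogeneousComponent wt (n - deg m) (h m) = 0 := by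
              by_contra hne
              exact hns ((Set.Finite.mem_toFinset _).2 hne)
            simp [hz]
        · rw [mul_zero]
          exact Finset.sum_eq_zero fun j _ => by
            rw [hsm _ j (weightedHomogeneousComponent_isWeightedHomogeneous _ _), if_neg (by omega)]
      rw [hsum, map_sum]
      refine T.sum_mem fun m _ => ?_
      split_ifs with hm
      · have hq : ev (φ m) = algebraMap k (Z → k) (q m) := funext fun x => by
          simp [ev, aeval_eq_eval, x.2 m]
        rw [mul_one, map_mul, hq, ← Algebra.commutes, ← Algebra.smul_def]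
        exact T.smul_mem _ (ih _ (by have := hdeg m; omega) _ (weightedHomogeneousComponent_isWeightedHomogeneous _ _))
      · rw [mul_zero, map_zero]; exact T.zero_mem
  have hall : ∀ p, ev p ∈ T := fun p => by
    rw [p.as_sum, map_sum]
    exact T.sum_mem fun e _ => hev _ _ (isWeightedHomogeneous_monomial wt e _ rfl)
  have hfin : Module.Finite k ev.range := by
    refine Module.Finite.of_injective (⟨⟨fun y => (⟨y.1, ?_⟩ : T), fun _ _ => rfl⟩, fun _ _ => rfl⟩ : ev.range →ₗ[k] T)
      fun a b h => Subtype.ext (congrArg Subtype.val h :)
    obtain ⟨p, hp⟩ := y.2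
    exact hp ▸ hall p
  have hroots : ∀ v, ∃ P : Polynomial k, P ≠ 0 ∧ ∀ x ∈ Z, P.IsRoot (x v) := fun v => by
    have hint : IsIntegral k (ev.rangeRestrict (X v)) := Algebra.IsIntegral.isIntegral _
    obtain ⟨P, hP, hP0⟩ := hint
    refine ⟨P, hP.ne_zero, fun x hx => ?_⟩
    have h := congrArg (fun y : ev.range => (y : Z → k) ⟨x, hx⟩) hP0
    rw [← Polynomial.aeval_def] at h
    have h2 : ((Polynomial.aeval (ev.rangeRestrict (X v)) P : ev.range) : Z → k) ⟨x, hx⟩ = P.eval (x v) := by
      rw [← Subalgebra.coe_val, ← Polynomial.aeval_algHom_apply, Polynomial.aeval_pi_apply₂]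
      simp [ev]
    simp only [Subalgebra.coe_zero, Pi.zero_apply] at h
    exact h2.symm.trans h
  choose P hP0 hP using hroots
  refine (Set.Finite.pi' fun v => Polynomial.finite_setOf_isRoot (hP0 v)).subset fun x hx v => hP v x hx

end Groth.Agent.Synt29.WFinite
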