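import Mathlib
import Groth.Agent.Synt29.WFinite
import Groth.Agent.Synt29.InsepLimit

/-!
Finiteness of pencils with a given Wronskian.
-/

set_option autoImplicit false

universe u

open Polynomial

namespace Groth.Agent.Synt29.WronskiMap

variable {k : Type u} [Field k] {σ : Type*} (wt : σ → ℕ)

/-- The coefficient of `X ^ j` is weighted homogeneous of degree `D - j`. -/
def IsW (D : ℕ) (P : (MvPolynomial σ k)[X]) : Prop :=
  ∀ j, (D < j → P.coeff j = 0) ∧ (j ≤ D → MvPolynomial.IsWeightedHomogeneous wt (P.coeff j) (D - j))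

variable {wt}

theorem IsW.mul {D E : ℕ} {P Q : (MvPolynomial σ k)[X]} (hP : IsW wt D P) (hQ : IsW wt E Q) :
    IsW wt (D + E) (P * Q) := by
  intro j
  refine ⟨fun hj => ?_, fun hj => ?_⟩ <;> rw [coeff_mul]
  · refine Finset.sum_eq_zero fun x hx => ?_
    rw [Finset.HasAntidiagonal.mem_antidiagonal] at hx
    rcases lt_or_ge D x.1 with h | h
    · rw [(hP x.1).1 h, zero_mul]
    · rw [(hQ x.2).1 (by omega), mul_zero]
  · refine MvPolynomial.IsWeightedHomogeneous.sum _ _ _ fun x hx => ?_
    rw [Finset.HasAntidiagonal.mem_antidiagonal] at hx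
    rcases lt_or_ge D x.1 with h | h
    · rw [(hP x.1).1 h, zero_mul]; exact MvPolynomial.isWeightedHomogeneous_zero _ _ _
    rcases lt_or_ge E x.2 with h' | h'
    · rw [(hQ x.2).1 h', mul_zero]; exact MvPolynomial.isWeightedHomogeneous_zero _ _ _
    have := ((hP x.1).2 h).mul ((hQ x.2).2 h')
    rwa [show D - x.1 + (E - x.2) = D + E - j by omega] at this

theorem IsW.sub {D : ℕ} {P Q : (MvPolynomial σ k)[X]} (hP : IsW wt D P) (hQ : IsW wt D Q) : IsW wt D (P - Q) :=
  fun j => ⟨fun h => by rw [coeff_sub, (hP j).1 h, (hQ j).1 h, sub_zero],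
    fun h => by rw [coeff_sub]; exact ((hP j).2 h).sub ((hQ j).2 h)⟩

theorem IsW.derivative {D : ℕ} {P : (MvPolynomial σ k)[X]} (hP : IsW wt D P) :
    IsW wt (D - 1) (Polynomial.derivative P) := by
  intro j
  rw [coeff_derivative]
  refine ⟨fun h => by rw [(hP (j + 1)).1 (by omega), zero_mul], fun h => ?_⟩
  rcases Nat.eq_zero_or_pos D with hD | hD
  · rw [(hP (j + 1)).1 (by omega), zero_mul]; exact MvPolynomial.isWeightedHomogeneous_zero _ _ _
  have h1 := (hP (j + 1)).2 (by omega)
  have h2 : MvPolynomial.IsWeightedHomogeneous wt (((j + 1 : ℕ) : MvPolynomial σ k)) 0 := by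
    rw [← map_natCast MvPolynomial.C]; exact MvPolynomial.isWeightedHomogeneous_C _ _
  have := h1.mul h2
  rwa [add_zero, show D - (j + 1) = D - 1 - j by omega, Nat.cast_add, Nat.cast_one] at this

variable (k) in
/-- The universal polynomial of degree `D` with free coefficients below `d'`. -/
noncomputable def gen {d' : ℕ} (t : Fin 2) (D : ℕ) : (MvPolynomial (Fin 2 × Fin d') k)[X] :=
  X ^ D + ∑ i : Fin d', C (MvPolynomial.X (t, i)) * X ^ (i : ℕ)

/-- The weights of the universal coefficients. -/
def weight (d' : ℕ) : Fin 2 × Fin d' → ℕ := fun v => (if v.1 = 0 then d' + 1 else d') - v.2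

theorem isW_gen {d' : ℕ} (t : Fin 2) :
    IsW (weight d') (if t = 0 then d' + 1 else d') (gen k t (if t = 0 then d' + 1 else d') (d' := d')) := by
  intro j
  have hle : d' ≤ (if t = 0 then d' + 1 else d') := by split_ifs <;> omega
  refine ⟨fun h => ?_, fun h => ?_⟩
  · rw [gen, coeff_add, coeff_X_pow, if_neg h.ne', finsetSum_coeff, zero_add]
    exact Finset.sum_eq_zero fun i _ => by rw [coeff_C_mul_X_pow, if_neg (by omega)]
  · rw [gen, coeff_add, coeff_X_pow, finsetSum_coeff]
    refine MvPolynomial.IsWeightedHomogeneous.add ?_ (MvPolynomial.IsWeightedHomogeneous.sum _ _ _ fun i _ => ?_)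
    · by_cases hj : j = if t = 0 then d' + 1 else d'
      · rw [if_pos hj, ← hj, Nat.sub_self]
        exact MvPolynomial.isWeightedHomogeneous_one _ _
      · rw [if_neg hj]
        exact MvPolynomial.isWeightedHomogeneous_zero _ _ _
    · rw [coeff_C_mul_X_pow]
      by_cases hj : j = (i : ℕ)
      · rw [if_pos hj, hj]
        exact MvPolynomial.isWeightedHomogeneous_X k (weight d') (t, i)
      · rw [if_neg hj]
        exact MvPolynomial.isWeightedHomogeneous_zero _ _ _

/-- The polynomial at given coefficients. -/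
noncomputable def spec {d' : ℕ} (x : Fin 2 × Fin d' → k) (t : Fin 2) (D : ℕ) : k[X] :=
  X ^ D + ∑ i : Fin d', C (x (t, i)) * X ^ (i : ℕ)

theorem map_gen {d' : ℕ} (x : Fin 2 × Fin d' → k) (t : Fin 2) (D : ℕ) :
    (gen k t D (d' := d')).map (MvPolynomial.eval x) = spec x t D := by
  simp [gen, spec, Polynomial.map_sum]

theorem coeff_spec {d' : ℕ} (x : Fin 2 × Fin d' → k) (t : Fin 2) (D : ℕ) (j : ℕ) :
    (spec x t D).coeff j = (if j = D then 1 else 0) + (if h : j < d' then x (t, ⟨j, h⟩) else 0) := by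
  rw [spec, coeff_add, coeff_X_pow, finsetSum_coeff]
  congr 1
  split_ifs with h
  · rw [Finset.sum_eq_single (⟨j, h⟩ : Fin d')]
    · simp
    · intro i _ hi
      rw [coeff_C_mul_X_pow, if_neg fun h => hi (Fin.ext h.symm)]
    · simp
  · exact Finset.sum_eq_zero fun i _ => by rw [coeff_C_mul_X_pow, if_neg (by omega)]

theorem natDegree_spec {d' : ℕ} (x : Fin 2 × Fin d' → k) (t : Fin 2) {D : ℕ} (hD : d' ≤ D) :
    (spec x t D).natDegree = D ∧ (spec x t D).Monic := by
  have hc : (spec x t D).coeff D = 1 := by rw [coeff_spec, if_pos rfl, dif_neg (by omega), add_zero]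
  have h1 : (spec x t D).natDegree = D := le_antisymm
    (natDegree_le_iff_coeff_eq_zero.2 fun j hj => by rw [coeff_spec, if_neg (by omega), dif_neg (by omega), add_zero])
    (le_natDegree_of_ne_zero (by rw [hc]; exact one_ne_zero))
  exact ⟨h1, by rw [Monic, leadingCoeff, h1, hc]⟩

theorem eq_X_pow_sub (p : ℕ) [CharP k p] {d' : ℕ} (hp : p = 0 ∨ d' + 1 < p) {F G : k[X]}
    (hF : F.natDegree = d' + 1) (hFm : F.Monic) (hG : G.natDegree = d') (hGm : G.Monic) (hFc : F.coeff d' = 0)
    (hW : wronskian F G = -X ^ (2 * d')) : F = X ^ (d' + 1) ∧ G = X ^ d' := by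
  have hG0 := hGm.ne_zero
  let r := G.natTrailingDegree
  have hr : r ≤ d' := hG ▸ natTrailingDegree_le_natDegree G
  let F' := F - C (F.coeff r / G.coeff r) * G
  have hGr : G.coeff r ≠ 0 := trailingCoeff_nonzero_iff_nonzero.2 hG0
  have hF'r : F'.coeff r = 0 := by simp [F', coeff_sub, coeff_C_mul, div_mul_cancel₀ _ hGr]
  have hF'c : ∀ j, d' < j → F'.coeff j = F.coeff j := fun j hj => by
    simp [F', coeff_sub, coeff_C_mul, coeff_eq_zero_of_natDegree_lt (hG ▸ hj)]
  have hF'0 : F' ≠ 0 := fun h => by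
    have := hF'c (d' + 1) (by omega)
    rw [h, coeff_zero, ← hF, coeff_natDegree, hFm] at this
    exact zero_ne_one this
  have hW' : wronskian F' G = -X ^ (2 * d') := by
    rw [← hW]; simp only [F', wronskian, derivative_sub, derivative_mul, derivative_C]; ring
  let s := F'.natTrailingDegree
  have hs : s ≤ d' + 1 := natTrailingDegree_le_of_ne_zero (by
    rw [hF'c _ (by omega), ← hF, coeff_natDegree, hFm]; exact one_ne_zero)
  have hFs : F'.coeff s ≠ 0 := trailingCoeff_nonzero_iff_nonzero.2 hF'0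
  have hsr : s ≠ r := fun h => hFs (by rw [h]; exact hF'r)
  obtain ⟨f, hf⟩ : X ^ s ∣ F' := X_pow_dvd_iff.2 fun j hj => coeff_eq_zero_of_lt_natTrailingDegree hj
  obtain ⟨g, hg⟩ : X ^ r ∣ G := X_pow_dvd_iff.2 fun j hj => coeff_eq_zero_of_lt_natTrailingDegree hj
  have hf0 : f.coeff 0 ≠ 0 := by
    rwa [hf, coeff_X_pow_mul', if_pos le_rfl, Nat.sub_self] at hFs
  have hg0 : g.coeff 0 ≠ 0 := by
    rwa [hg, coeff_X_pow_mul', if_pos le_rfl, Nat.sub_self] at hGr
  have hX : ∀ n : ℕ, X * derivative (X ^ n : k[X]) = C (n : k) * X ^ n := fun n => by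
    rw [derivative_X_pow]
    rcases Nat.eq_zero_or_pos n with rfl | hn
    · simp
    · rw [mul_left_comm, ← pow_succ', Nat.sub_add_cancel hn]
  have key : X * wronskian F' G = X ^ (s + r) * (C ((r : k) - s) * f * g + X * wronskian f g) := by
    rw [hf, hg]
    simp only [wronskian, derivative_mul, map_sub, pow_add]
    linear_combination (X ^ s * f * g) * hX r - (X ^ r * f * g) * hX s
  have hne : ((r : k) - s) ≠ 0 := by
    rw [sub_ne_zero, ne_eq, CharP.natCast_eq_natCast k p]
    rcases hp with rfl | hp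
    · exact fun h => hsr ((Nat.modEq_zero_iff).1 h).symm
    · exact fun h => hsr (Nat.ModEq.eq_of_lt_of_lt h (by omega) (by omega)).symm
  have hco := congrArg (fun P : k[X] => P.coeff (s + r)) key
  rw [hW', coeff_X_pow_mul', if_pos le_rfl, Nat.sub_self, coeff_add, coeff_X_mul_zero, add_zero, mul_neg,
    ← pow_succ', coeff_neg, coeff_X_pow, mul_assoc, mul_coeff_zero, mul_coeff_zero, coeff_C_zero] at hco
  have hsum : s + r = 2 * d' + 1 := by
    by_contra hne'
    rw [if_neg hne', neg_zero] at hco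
    exact mul_ne_zero hne (mul_ne_zero hf0 hg0) hco.symm
  have hr' : r = d' := by omega
  have hs' : s = d' + 1 := by omega
  have hGX : G = X ^ d' := by
    ext j
    rw [coeff_X_pow]
    rcases lt_trichotomy j d' with h | rfl | h
    · rw [if_neg h.ne, coeff_eq_zero_of_lt_natTrailingDegree (show j < r by omega)]
    · rw [if_pos rfl, ← hG, coeff_natDegree, hGm]
    · rw [if_neg h.ne', coeff_eq_zero_of_natDegree_lt (by omega)]
  refine ⟨?_, hGX⟩
  ext j
  rw [coeff_X_pow]
  rcases lt_trichotomy j d' with h | rfl | h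
  · have h0 : F'.coeff j = 0 := coeff_eq_zero_of_lt_natTrailingDegree (show j < s by omega)
    rw [if_neg (by omega)]
    simpa [F', coeff_sub, coeff_C_mul, hGX, coeff_X_pow, h.ne] using h0
  · rw [if_neg (by omega), hFc]
  · rcases eq_or_lt_of_le (show d' + 1 ≤ j by omega) with rfl | h'
    · rw [if_pos rfl, ← hF, coeff_natDegree, hFm]
    · rw [if_neg h'.ne', coeff_eq_zero_of_natDegree_lt (by omega)]

/-- Only finitely many normalised pairs have a given Wronskian. -/
theorem finite_pairs [IsAlgClosed k] (p : ℕ) [CharP k p] (d' : ℕ) (hp : p = 0 ∨ d' + 1 < p) (W : k[X]) :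
    {x : Fin 2 × Fin d' → k | wronskian (spec x 0 (d' + 1)) (spec x 1 d') = W}.Finite := by
  let D := wronskian (gen k 0 (d' + 1) (d' := d')) (gen k 1 d' (d' := d'))
  have hF : IsW (weight d') (d' + 1) (gen k 0 (d' + 1) (d' := d')) := by simpa using isW_gen (k := k) (d' := d') 0
  have hG : IsW (weight d') d' (gen k 1 d' (d' := d')) := by simpa using isW_gen (k := k) (d' := d') 1
  have hD : IsW (weight d') (2 * d') D := by
    rcases Nat.eq_zero_or_pos d' with h0 | h0
    · have hG1 : gen k 1 d' (d' := d') = 1 := by subst h0; simp [gen]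
      have hF1 : gen k 0 (d' + 1) (d' := d') = X := by subst h0; simp [gen]
      intro j
      have : D = -1 := by simp [D, hG1, hF1, Polynomial.wronskian]
      rw [this, coeff_neg, coeff_one]
      refine ⟨fun hj => by rw [if_neg (by omega), neg_zero], fun hj => ?_⟩
      rw [if_pos (show j = 0 by omega), show 2 * d' - j = 0 by omega, ← map_one MvPolynomial.C, ← map_neg]
      exact MvPolynomial.isWeightedHomogeneous_C _ _
    · have h1 := hF.mul hG.derivative
      have h2 := hF.derivative.mul hG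
      rw [show d' + 1 + (d' - 1) = 2 * d' by omega] at h1
      rw [show d' + 1 - 1 + d' = 2 * d' by omega] at h2
      exact h1.sub h2
  have heval : ∀ x j, MvPolynomial.eval x (D.coeff j) = (wronskian (spec x 0 (d' + 1)) (spec x 1 d')).coeff j :=
    fun x j => by
      rw [← coeff_map, ← map_gen x 0, ← map_gen x 1]
      simp [D, wronskian, derivative_map]
  refine (WFinite.finite_fibre (weight d') (fun m : Fin (2 * d') => D.coeff m) (fun m => 2 * d' - m)
    (fun m => by have := m.2; omega) (fun m => (hD m).2 m.2.le) (fun x hx => ?_) (fun m => W.coeff m)).subset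
    fun x hx m => by rw [heval, show _ = W from hx]
  have hsF := natDegree_spec x (0 : Fin 2) (D := d' + 1) (by omega)
  have hsG := natDegree_spec x (1 : Fin 2) (D := d') le_rfl
  obtain ⟨hFX, hGX⟩ := eq_X_pow_sub p hp hsF.1 hsF.2 hsG.1 hsG.2 (by rw [coeff_spec, if_neg (by omega), dif_neg (lt_irrefl d'), add_zero]) (by
    ext j
    rw [coeff_neg, coeff_X_pow]
    rcases lt_trichotomy j (2 * d') with h | rfl | h
    · rw [if_neg h.ne, neg_zero, ← heval]
      exact hx ⟨j, h⟩
    · have hne : (spec x 0 (d' + 1)).natDegree % p ≠ (spec x 1 d').natDegree % p := by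
        rw [hsF.1, hsG.1]
        rcases hp with rfl | hp
        · simp
        · rw [Nat.mod_eq_of_lt hp, Nat.mod_eq_of_lt (by omega)]; omega
      rw [if_pos rfl, wronskian, coeff_sub]
      rcases Nat.eq_zero_or_pos d' with h0 | h0
      · subst h0
        simp [spec]
      · rw [show 2 * d' = (d' + 1) + (d' - 1) by omega, coeff_mul_add_eq_of_natDegree_le hsF.1.le (by
            have := natDegree_derivative_le (spec x 1 d'); omega),
          show (d' + 1) + (d' - 1) = d' + d' by omega, coeff_mul_add_eq_of_natDegree_le (by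
            have := natDegree_derivative_le (spec x 0 (d' + 1)); omega) hsG.1.le, coeff_derivative, coeff_derivative,
          show d' - 1 + 1 = d' by omega]
        simp only [coeff_spec, if_pos, dif_neg (lt_irrefl d'), dif_neg (show ¬ d' + 1 < d' by omega), add_zero]
        rw [show ((d' - 1 : ℕ) : k) + 1 = (d' : k) by rw [← Nat.cast_succ, Nat.succ_eq_add_one, Nat.sub_add_cancel h0]]
        ring
    · rw [if_neg h.ne', neg_zero, ← heval, (hD j).1 h, map_zero])
  funext v
  obtain ⟨t, i⟩ := v
  have hi := i.2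
  rcases Fin.exists_fin_two.1 ⟨t, rfl⟩ with rfl | rfl
  · have := congrArg (fun P : k[X] => P.coeff i) hFX
    simpa [coeff_spec, coeff_X_pow, hi, show (i : ℕ) ≠ d' + 1 by omega] using this
  · have := congrArg (fun P : k[X] => P.coeff i) hGX
    simpa [coeff_spec, coeff_X_pow, hi, show (i : ℕ) ≠ d' by omega] using this

end Groth.Agent.Synt29.WronskiMap
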