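import Groth.Agent.Synt29.LGField

/-!
A scheme representing linked tuples: covering by charts, and the exact locus.
-/

set_option autoImplicit false
set_option backward.isDefEq.respectTransparency false

universe u

open TensorProduct CategoryTheory AlgebraicGeometry W4c1limliniiii

namespace Groth.Agent.Synt29.LG

open GrassGraph RepOpen
open Module (Grassmannian)

section Base

variable {k : Type u} [Field k] {d : ℕ}

/-- Base change of a trivial intersection of an image and a kernel. -/
theorem range_inf_ker_baseChange (p q : (Fin d → k) →ₗ[k] (Fin d → k))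
    (h : LinearMap.range p ⊓ LinearMap.ker q = ⊥) (L : Type u) [CommRing L] [Algebra k L] :
    LinearMap.range (p.baseChange L) ⊓ LinearMap.ker (q.baseChange L) = ⊥ := by
  have hker : ∀ x, (q.comp p) x = 0 → p x = 0 := fun x hx =>
    (Submodule.eq_bot_iff _).1 h _ ⟨⟨x, rfl⟩, hx⟩
  rw [eq_bot_iff]
  rintro _ ⟨⟨z, rfl⟩, hz⟩
  have hz' : (q.comp p).lTensor L z = 0 := by
    rw [SetLike.mem_coe, LinearMap.mem_ker, baseChange_comp_apply] at hz
    exact hz
  obtain ⟨v, rfl⟩ := (Module.Flat.lTensor_exact L (LinearMap.exact_subtype_ker_map (q.comp p)) z).1 hz'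
  rw [Submodule.mem_bot]
  show p.lTensor L ((LinearMap.ker (q.comp p)).subtype.lTensor L v) = 0
  rw [← LinearMap.lTensor_comp_apply, show p.comp (LinearMap.ker (q.comp p)).subtype = 0 from
    LinearMap.ext fun x => hker x x.2]
  simp

end Base

variable {R : Type u} [CommRing R] {d r n : ℕ} {f g : Fin n → ((Fin d → R) →ₗ[R] (Fin d → R))}
  {X : Over (Spec (CommRingCat.of R))} {e : ∀ A, (sp A ⟶ X) ≃ LGPoints R d r n f g A}

theorem isNat
    (he : ∀ (A B : CommAlgCat.{u} R) (φ : A ⟶ B) (x : sp A ⟶ X) (x' : sp B ⟶ X),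
      x'.left = Spec.map (CommRingCat.ofHom φ.hom.toRingHom) ≫ x.left →
        ∀ i, (e B x').1 i = Grassmannian.map φ.hom ((e A x).1 i)) :
    IsNat X (functor r f g) e :=
  fun A B φ x => Subtype.ext (funext fun i => he A B φ x _ rfl i)

/-- Every point is carried by a field-valued point. -/
theorem exists_point (x : X.left) :
    ∃ (L : CommAlgCat.{u} R) (_ : IsField L) (p : sp L ⟶ X), ∀ z, p.left z = x := by
  obtain ⟨χ, hχ⟩ : ∃ χ, Spec.map χ = X.left.fromSpecResidueField x ≫ X.hom :=
    ⟨Spec.preimage _, Spec.map_preimage _⟩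
  letI : Algebra R (X.left.residueField x) := χ.hom.toAlgebra
  refine ⟨CommAlgCat.of R (X.left.residueField x), Field.toIsField _,
    Over.homMk (X.left.fromSpecResidueField x) hχ.symm, fun z => ?_⟩
  exact Scheme.fromSpecResidueField_apply x z

variable (he : IsNat X (functor r f g) e)

include he in
/-- Membership in the image of a chart is tested at a field-valued point. -/
theorem mem_range_iff_field (c : Chart (functor r f g)) {L : CommAlgCat.{u} R} (hL : IsField L)
    (p : sp L ⟶ X) (z : (sp L).left) :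
    p.left z ∈ Set.range (c.hom e).left ↔ c.P L (e L p) := by
  rw [RepOpen.mem_range_iff he c p z]
  constructor
  · rintro ⟨h, hh, hP⟩
    letI := hL.toField
    have hne : IsUnit (AlgHom.id R L h) := isUnit_iff_ne_zero.2 fun (h0 : h = 0) => hh (h0 ▸ z.asIdeal.zero_mem)
    let ρ : Localization.Away h →ₐ[R] L := IsLocalization.liftAlgHom (M := Submonoid.powers h) (f := AlgHom.id R L)
      (fun y => by obtain ⟨k, hk⟩ := y.2; rw [← hk, map_pow]; exact hne.pow k)
    have h1 := c.map_mem (CommAlgCat.ofHom ρ) hP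
    rw [← FunctorToTypes.map_comp_apply] at h1
    have h2 : toAway L h ≫ CommAlgCat.ofHom ρ = 𝟙 L :=
      CommAlgCat.hom_ext (AlgHom.ext fun x => IsLocalization.lift_eq _ _)
    rw [h2] at h1
    have h3 := CategoryTheory.Functor.map_id (functor r f g) L
    rw [h3] at h1
    exact h1
  · intro h
    exact ⟨1, z.isPrime.one_notMem, c.map_mem (toAway L 1) h⟩

include he in
/-- The charts cover. -/
theorem exists_gChart_mem (x : X.left) :
    ∃ (S : Fin (n + 1) → Finset (Fin d)) (hS : ∀ i, (S i).card = d - r),
      x ∈ Set.range ((gChart (r := r) f g S hS).hom e).left := by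
  obtain ⟨L, hL, p, hp⟩ := exists_point x
  letI := hL.toField
  choose S hS hch using fun i => exists_cols ((e L p).1 i)
  refine ⟨S, hS, ?_⟩
  rw [← hp ⟨⊥, Ideal.isPrime_bot⟩, mem_range_iff_field he _ hL]
  exact hch

include he in
theorem locallyOfFinitePresentation : LocallyOfFinitePresentation X.hom := by
  let U : {S : Fin (n + 1) → Finset (Fin d) // ∀ i, (S i).card = d - r} → X.left.Opens := fun S =>
    haveI := isOpenImmersion_hom he (gChart (r := r) f g S.1 S.2)
    ((gChart (r := r) f g S.1 S.2).hom e).left.opensRange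
  refine IsZariskiLocalAtSource.of_iSup_eq_top U (eq_top_iff.2 fun x _ => ?_) fun S => ?_
  · obtain ⟨S, hS, hx⟩ := exists_gChart_mem he x
    exact TopologicalSpace.Opens.mem_iSup.2 ⟨⟨S, hS⟩, hx⟩
  · haveI := isOpenImmersion_hom he (gChart (r := r) f g S.1 S.2)
    have h1 : LocallyOfFinitePresentation (sp (gChart (r := r) f g S.1 S.2).C).hom := by
      refine (HasRingHomProperty.Spec_iff (P := @LocallyOfFinitePresentation)).2 ?_
      exact RingHom.finitePresentation_algebraMap.2 (finitePresentation_gRing f g S.1)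
    have h2 : (U S).ι ≫ X.hom =
        ((gChart (r := r) f g S.1 S.2).hom e).left.isoOpensRange.inv ≫ (sp (gChart (r := r) f g S.1 S.2).C).hom := by
      rw [← Over.w ((gChart (r := r) f g S.1 S.2).hom e), ← Category.assoc,
        Scheme.Hom.isoOpensRange_inv_comp]
    rw [h2]
    infer_instance

variable {s : R} (hI : ∀ i, (f i).comp (g i) = s • LinearMap.id ∧ (g i).comp (f i) = s • LinearMap.id)

theorem smooth_eRing {S T : Fin (n + 1) → Finset (Fin d)} (hd : EData S T r) :
    Algebra.Smooth R (ERing f g hd) := by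
  have : Algebra.Smooth (MvPolynomial (EVar S T) R) (ERing f g hd) :=
    ⟨Algebra.FormallySmooth.of_isLocalization (Submonoid.powers (eDen f g hd)),
      IsLocalization.Away.finitePresentation (eDen f g hd)⟩
  have : Algebra.Smooth R (MvPolynomial (EVar S T) R) := ⟨inferInstance, inferInstance⟩
  exact Algebra.Smooth.comp R (MvPolynomial (EVar S T) R) _

include he in
theorem smooth_eChart {S T : Fin (n + 1) → Finset (Fin d)} (hd : EData S T r) (x : X.left)
    (hx : x ∈ Set.range ((eChart hd hI).hom e).left) : (X.hom.stalkMap x).hom.FormallySmooth := by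
  haveI := isOpenImmersion_hom he (eChart hd hI)
  haveI := locallyOfFinitePresentation he
  have hsm : Smooth (((eChart hd hI).hom e).left ≫ X.hom) := by
    rw [Over.w ((eChart hd hI).hom e)]
    exact (HasRingHomProperty.Spec_iff (P := @Smooth)).2 (RingHom.smooth_algebraMap.2 (smooth_eRing hd))
  obtain ⟨y, rfl⟩ := hx
  have h := Scheme.Hom.preimage_smoothLocus_eq ((eChart hd hI).hom e).left X.hom
  haveI := hsm
  rw [Scheme.Hom.smoothLocus_eq_top (((eChart hd hI).hom e).left ≫ X.hom)] at h
  exact (show y ∈ ((eChart hd hI).hom e).left ⁻¹ᵁ X.hom.smoothLocus from h ▸ trivial)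

include he in
/-- Exact field-valued points lie in exact charts. -/
theorem exists_eChart_mem (hr : r ≤ d) {L : CommAlgCat.{u} R} (hL : IsField L)
    (hIII : ∀ i j : Fin n, i.val + 1 = j.val →
      LinearMap.range ((f i).baseChange L) ⊓ LinearMap.ker ((f j).baseChange L) = ⊥)
    (p : sp L ⟶ X) (hp : IsExact R d r n f g L (e L p).1) (z : (sp L).left) :
    ∃ (S T : Fin (n + 1) → Finset (Fin d)) (hd : EData S T r),
      p.left z ∈ Set.range ((eChart hd hI).hom e).left := by
  letI := hL.toField
  obtain ⟨S, T, hd, u, hu⟩ := exists_isGen hI hr (e L p).2 hIII hp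
  exact ⟨S, T, hd, (mem_range_iff_field he _ hL p z).2 ⟨u, hu⟩⟩

include he in
/-- Field-valued points in exact charts are exact. -/
theorem isExact_of_mem (hr : r ≤ d) {L : CommAlgCat.{u} R} (hL : IsField L) {S T : Fin (n + 1) → Finset (Fin d)}
    (hd : EData S T r) (p : sp L ⟶ X) (z : (sp L).left)
    (hz : p.left z ∈ Set.range ((eChart hd hI).hom e).left) : IsExact R d r n f g L (e L p).1 := by
  letI := hL.toField
  obtain ⟨u, hu⟩ := (mem_range_iff_field he _ hL p z).1 hz
  exact isExact_of_isGen hI hr (e L p).2 hu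

end Groth.Agent.Synt29.LG
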