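import Groth.Agent.Synt29.LGRev
import Groth.Agent.VarDim.Top

/-!
Irreducible components of a linked Grassmannian.
-/

set_option autoImplicit false
set_option backward.isDefEq.respectTransparency false

universe u

open TensorProduct CategoryTheory AlgebraicGeometry W4c1limliniiii

namespace Groth.Agent.Synt29.LG

open GrassGraph RepOpen
open Module (Grassmannian)

theorem component_eq_closure {W : Type*} [TopologicalSpace W] {U Z : Set W} (hU : IsOpen U) (hUi : IsIrreducible U)
    (hZ : Z ∈ irreducibleComponents W) (h : (Z ∩ U).Nonempty) : Z = closure U := by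
  have h1 : Z ⊆ closure (Z ∩ U) := subset_closure_inter_of_isPreirreducible_of_isOpen hZ.1.2 hU h
  have h2 : Z ⊆ closure U := h1.trans (closure_mono Set.inter_subset_right)
  exact Set.Subset.antisymm h2 (hZ.2 hUi.closure h2)

variable {R : Type u} [CommRing R] {d r n : ℕ} {f g : Fin n → ((Fin d → R) →ₗ[R] (Fin d → R))} {s : R}
  {X : Over (Spec (CommRingCat.of R))} {e : ∀ A, (sp A ⟶ X) ≃ LGPoints R d r n f g A}
  (he : IsNat X (functor r f g) e)
  (hI : ∀ i, (f i).comp (g i) = s • LinearMap.id ∧ (g i).comp (f i) = s • LinearMap.id)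
  {S T : Fin (n + 1) → Finset (Fin d)} (hd : EData S T r)

theorem eDen_ne_zero (hne : (Set.range ((eChart hd hI).hom e).left).Nonempty) : eDen f g hd ≠ 0 := by
  intro h
  obtain ⟨-, z, -⟩ := hne
  have hu := IsLocalization.Away.algebraMap_isUnit (S := ERing f g hd) (eDen f g hd)
  rw [(congrArg (algebraMap (MvPolynomial (EVar S T) R) (ERing f g hd)) h).trans (map_zero _), isUnit_zero_iff] at hu
  have : Subsingleton (ERing f g hd) := subsingleton_of_zero_eq_one hu
  exact isEmptyElim (α := PrimeSpectrum (ERing f g hd)) z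

theorem isDomain_eRing [IsDomain R] (hne : (Set.range ((eChart hd hI).hom e).left).Nonempty) :
    IsDomain (ERing f g hd) :=
  IsLocalization.isDomain_localization (powers_le_nonZeroDivisors_of_noZeroDivisors (eDen_ne_zero hI hd hne))

theorem isIrreducible_range [IsDomain R] (hne : (Set.range ((eChart hd hI).hom e).left).Nonempty) :
    IsIrreducible (Set.range ((eChart hd hI).hom e).left) := by
  have := isDomain_eRing hI hd hne
  have h1 : IsIrreducible (Set.univ : Set (PrimeSpectrum (ERing f g hd))) := IrreducibleSpace.isIrreducible_univ _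
  have := h1.image _ ((eChart hd hI).hom e).left.continuous.continuousOn
  rw [Set.image_univ] at this
  exact this

include he in
theorem component_eq [IsDomain R] {Z : Set X.left} (hZ : Z ∈ irreducibleComponents X.left)
    (h : (Z ∩ Set.range ((eChart hd hI).hom e).left).Nonempty) :
    Z = closure (Set.range ((eChart hd hI).hom e).left) := by
  have := isOpenImmersion_hom he (eChart hd hI)
  exact component_eq_closure ((eChart hd hI).hom e).left.isOpenEmbedding.isOpen_range
    (isIrreducible_range hI hd (h.mono Set.inter_subset_right)) hZ h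

include he in
theorem rkF_of_mem {L : CommAlgCat.{u} R} (hL : IsField L) (p : sp L ⟶ X) (hs : algebraMap R L s = 0)
    (hp : ctr hL p ∈ Set.range ((eChart hd hI).hom e).left) (i : Fin n) :
    rkF f (e L p).1 i = Nat.card {q : Gen T // (q.1 : ℕ) ≤ i} := by
  classical
  letI := hL.toField
  obtain ⟨u, hu⟩ := (mem_range_iff_field he (eChart hd hI) hL p _).1 hp
  rw [Nat.card_eq_fintype_card]
  exact finrank_map_f_span (f := f) (g := g) (fun q : Gen T => q.1) hI hs (gen S T u) (V := (e L p).1)
    (hu.eq_span (e L p).2) (fun j => (linearIndependent_sum.1 (linearIndependent_full hd (hu.unit j)).1).1) i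

include he in
/-- A point of the base field in two charts has equal ranks, so the components differ. -/
theorem exists_two_components [IsDomain R] (H : Hyp f g s) (hr : r ≤ d) (hs0 : s = 0)
    {L : CommAlgCat.{u} R} (hL : IsField L) (p : sp L ⟶ X) (hp : ¬ IsExact R d r n f g L (e L p).1) :
    ∃ Z₁ ∈ irreducibleComponents X.left, ∃ Z₂ ∈ irreducibleComponents X.left,
      Z₁ ≠ Z₂ ∧ ctr hL p ∈ Z₁ ∩ Z₂ := by
  classical
  letI := hL.toField
  have hs : algebraMap R L s = 0 := by rw [hs0, map_zero]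
  obtain ⟨i, hi⟩ : ∃ i, rkF f (e L p).1 i + rkG g (e L p).1 i ≠ r := by
    by_contra h
    push Not at h
    exact hp fun i => H.edgeExact_of_rank hr hs (e L p).2 i (h i)
  obtain ⟨K, hK, q, hqp, hsK, hqE, hqr⟩ := exists_exact_rank he H hr hL p hs
  obtain ⟨K', hK', q', hqp', hsK', hqE', hqr'⟩ := exists_exact_rank (isNat_rev e he) H.rev hr hL p hs
  have hE2 := isExact_of_rev q' hqE'
  have h1 : rkF f (e K q).1 i + rkG g (e L p).1 i = r := hqr i
  have h2 : rkG g (e K' q').1 i + rkF f (e L p).1 i = r := by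
    have := hqr' i.rev
    rwa [rkF_rev, rkG_rev] at this
  have h3 : rkF f (e K' q').1 i + rkG g (e K' q').1 i = r :=
    letI := hK'.toField
    H.rank_of_exact hr hsK' (e K' q').2 hE2 i
  obtain ⟨S₁, T₁, hd₁, hy₁⟩ := (mem_exactLocus_iff he H hr hK q).2 hqE
  obtain ⟨S₂, T₂, hd₂, hy₂⟩ := (mem_exactLocus_iff he H hr hK' q').2 hE2
  obtain ⟨Z₁, hZ₁, hyZ₁⟩ : ∃ Z ∈ irreducibleComponents X.left, ctr hK q ∈ Z :=
    ⟨_, irreducibleComponent_mem_irreducibleComponents _, mem_irreducibleComponent⟩
  obtain ⟨Z₂, hZ₂, hyZ₂⟩ : ∃ Z ∈ irreducibleComponents X.left, ctr hK' q' ∈ Z :=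
    ⟨_, irreducibleComponent_mem_irreducibleComponents _, mem_irreducibleComponent⟩
  refine ⟨Z₁, hZ₁, Z₂, hZ₂, fun h => hi ?_, hqp.mem_closed (isClosed_of_mem_irreducibleComponents _ hZ₁) hyZ₁,
    hqp'.mem_closed (isClosed_of_mem_irreducibleComponents _ hZ₂) hyZ₂⟩
  subst h
  have := isOpenImmersion_hom he (eChart hd₁ H.comp)
  have := isOpenImmersion_hom he (eChart hd₂ H.comp)
  obtain ⟨η, hη⟩ := QuasiSober.sober hZ₁.1 (isClosed_of_mem_irreducibleComponents Z₁ hZ₁)
  have hη₁ := (hη.specializes hyZ₁).mem_open ((eChart hd₁ H.comp).hom e).left.isOpenEmbedding.isOpen_range hy₁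
  have hη₂ := (hη.specializes hyZ₂).mem_open ((eChart hd₂ H.comp).hom e).left.isOpenEmbedding.isOpen_range hy₂
  obtain ⟨M, hM, o, ho⟩ := exists_point η
  have hsM : algebraMap R M s = 0 := by rw [hs0, map_zero]
  have ho' : ctr hM o = η := ho _
  rw [← ho'] at hη₁ hη₂
  have e1 := rkF_of_mem he H.comp hd₁ hK q hsK hy₁ i
  have e2 := rkF_of_mem he H.comp hd₂ hK' q' hsK' hy₂ i
  have e3 := rkF_of_mem he H.comp hd₁ hM o hsM hη₁ i
  have e4 := rkF_of_mem he H.comp hd₂ hM o hsM hη₂ i
  omega

end Groth.Agent.Synt29.LG
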