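import Groth.Agent.Synt29.LGValuative
import Groth.Agent.Synt29.LGComponents

/-!
Components of a linked Grassmannian over a domain.
-/

set_option autoImplicit false
set_option linter.style.haveILetI false
set_option backward.isDefEq.respectTransparency false

universe u

open TensorProduct CategoryTheory AlgebraicGeometry W4c1limliniiii

namespace Groth.Agent.Synt29.LG

open GrassGraph RepOpen
open Module (Grassmannian)

variable {R : Type u} [CommRing R] {d r n : ℕ} {f g : Fin n → ((Fin d → R) →ₗ[R] (Fin d → R))} {s : R}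

/-- The axioms at the residue fields give them at every field over the base. -/
theorem hyp_of_residue (f g : Fin n → ((Fin d → R) →ₗ[R] (Fin d → R))) (s : R)
    (hI : ∀ i, (f i).comp (g i) = s • LinearMap.id ∧ (g i).comp (f i) = s • LinearMap.id)
    (hII : ∀ (P : Ideal R) [P.IsPrime], ∀ i,
      d ≤ Module.finrank P.ResidueField (LinearMap.range ((f i).baseChange P.ResidueField)) +
        Module.finrank P.ResidueField (LinearMap.range ((g i).baseChange P.ResidueField)))
    (hIII : ∀ (P : Ideal R) [P.IsPrime], ∀ i j : Fin n, i.val + 1 = j.val →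
      LinearMap.range ((f i).baseChange P.ResidueField) ⊓
          LinearMap.ker ((f j).baseChange P.ResidueField) = ⊥ ∧
        LinearMap.range ((g j).baseChange P.ResidueField) ⊓
          LinearMap.ker ((g i).baseChange P.ResidueField) = ⊥) :
    Hyp f g s where
  comp := hI
  rank L _ _ i := by
    let P := RingHom.ker (algebraMap R L)
    have : P.IsPrime := RingHom.ker_isPrime _
    let ψ : P.ResidueField →ₐ[R] L := Ideal.ResidueField.liftₐ P (Algebra.ofId R L) le_rfl
      (fun x hx => isUnit_iff_ne_zero.2 fun h => hx h)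
    rw [finrank_range_ι ψ, finrank_range_ι ψ]
    exact hII P i
  inf L _ _ i j h := by
    let P := RingHom.ker (algebraMap R L)
    have : P.IsPrime := RingHom.ker_isPrime _
    let ψ : P.ResidueField →ₐ[R] L := Ideal.ResidueField.liftₐ P (Algebra.ofId R L) le_rfl
      (fun x hx => isUnit_iff_ne_zero.2 fun h => hx h)
    exact ⟨range_inf_ker_ι ψ _ _ (hIII P i j h).1, range_inf_ker_ι ψ _ _ (hIII P i j h).2⟩

variable [IsDomain R] {X : Over (Spec (CommRingCat.of R))} {e : ∀ A, (sp A ⟶ X) ≃ LGPoints R d r n f g A}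
  (he : IsNat X (functor r f g) e)

include he in
/-- A field-valued point over the generic point of the base specializes over every prime. -/
theorem exists_specializes_over {L : CommAlgCat.{u} R} (hL : IsField L) (hinj : Function.Injective (algebraMap R L))
    (q : sp L ⟶ X) (p : PrimeSpectrum R) : ∃ x : X.left, ctr hL q ⤳ x ∧ X.hom x = p := by
  letI := hL.toField
  obtain ⟨O, ψ, hψ, hp⟩ := exists_valuation hinj p.asIdeal
  letI : Algebra R O := ψ.toAlgebra
  let κ : O →ₐ[R] L := ⟨O.subtype, fun r => RingHom.congr_fun hψ r⟩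
  have hκ : Function.Injective κ := Subtype.val_injective
  obtain ⟨Vt, hVt⟩ := exists_extend κ hκ (fun x => (O.mem_or_inv_mem x).imp (fun h => ⟨⟨x, h⟩, rfl⟩)
    fun h => ⟨⟨x⁻¹, h⟩, rfl⟩) (e L q)
  let A : CommAlgCat.{u} R := CommAlgCat.of R O
  let toL : A ⟶ L := CommAlgCat.ofHom κ
  let ξ : sp A ⟶ X := (e A).symm Vt
  have hq : spOver toL ≫ ξ = q := (e L).injective ((he A L toL _).trans
    ((congrArg ((functor r f g).map toL) ((e A).apply_symm_apply Vt)).trans (Subtype.ext (funext hVt))))
  let z : (sp A).left := (⟨IsLocalRing.maximalIdeal O, inferInstance⟩ : PrimeSpectrum O)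
  refine ⟨ξ.left z, ?_, ?_⟩
  · rw [← hq]
    refine Specializes.map ?_ ξ.left.continuous
    refine (PrimeSpectrum.le_iff_specializes
      (PrimeSpectrum.comap κ.toRingHom ⟨(⊥ : Ideal L), Ideal.isPrime_bot⟩) z).1 fun a ha => ?_
    have : a = 0 := hκ ((show κ a = 0 from ha).trans (map_zero κ).symm)
    rw [this]
    exact Ideal.zero_mem _
  · have h1 : X.hom (ξ.left z) = (sp A).hom z := by rw [← Scheme.Hom.comp_apply, Over.w ξ]
    rw [h1]
    exact PrimeSpectrum.ext hp

theorem exists_generic (hI : ∀ i, (f i).comp (g i) = s • LinearMap.id ∧ (g i).comp (f i) = s • LinearMap.id)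
    {S T : Fin (n + 1) → Finset (Fin d)} (hd : EData S T r) (hne : (Set.range ((eChart hd hI).hom e).left).Nonempty) :
    ∃ (L : CommAlgCat.{u} R) (hL : IsField L) (q : sp L ⟶ X), Function.Injective (algebraMap R L) ∧
      ctr hL q ∈ Set.range ((eChart hd hI).hom e).left ∧
      closure (Set.range ((eChart hd hI).hom e).left) = closure {ctr hL q} := by
  have := isDomain_eRing hI hd hne
  let M := FractionRing (ERing f g hd)
  let toM : (eChart hd hI).C ⟶ CommAlgCat.of R M := CommAlgCat.ofHom (IsScalarTower.toAlgHom R (ERing f g hd) M)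
  let q : sp (CommAlgCat.of R M) ⟶ X := spOver toM ≫ (eChart hd hI).hom e
  refine ⟨CommAlgCat.of R M, Field.toIsField M, q, ?_, ⟨_, rfl⟩, ?_⟩
  · show Function.Injective (algebraMap R M)
    rw [IsScalarTower.algebraMap_eq R (ERing f g hd) M, RingHom.coe_comp]
    refine (IsFractionRing.injective (ERing f g hd) M).comp ?_
    rw [IsScalarTower.algebraMap_eq R (MvPolynomial (EVar S T) R) (ERing f g hd), RingHom.coe_comp]
    exact (IsLocalization.injective _ (powers_le_nonZeroDivisors_of_noZeroDivisors (eDen_ne_zero hI hd hne))).comp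
      (MvPolynomial.C_injective _ _)
  · refine Set.Subset.antisymm (closure_minimal ?_ isClosed_closure) (closure_mono (Set.singleton_subset_iff.2 ⟨_, rfl⟩))
    rintro _ ⟨w, rfl⟩
    refine specializes_iff_mem_closure.1 (Specializes.map ?_ ((eChart hd hI).hom e).left.continuous)
    refine (PrimeSpectrum.le_iff_specializes
      (PrimeSpectrum.comap toM.hom.toRingHom ⟨(⊥ : Ideal M), Ideal.isPrime_bot⟩) w).1 fun a ha => ?_
    have : a = 0 := IsFractionRing.injective (ERing f g hd) M
      ((show algebraMap (ERing f g hd) M a = 0 from ha).trans (map_zero _).symm)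
    rw [this]
    exact Ideal.zero_mem _

include he in
theorem exists_component_generic (H : Hyp f g s) (hr : r ≤ d) {Z : Set X.left} (hZ : Z ∈ irreducibleComponents X.left) :
    ∃ (L : CommAlgCat.{u} R) (hL : IsField L) (q : sp L ⟶ X), Function.Injective (algebraMap R L) ∧
      Z = closure {ctr hL q} := by
  obtain ⟨y, ⟨S, T, hd, hy⟩, hZy⟩ := exists_exactChart_closure he H hr hZ
  have hne : (Set.range ((eChart hd H.comp).hom e).left).Nonempty := ⟨y, hy⟩
  obtain ⟨L, hL, q, hinj, -, hcl⟩ := exists_generic H.comp hd hne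
  refine ⟨L, hL, q, hinj, ?_⟩
  rw [component_eq he H.comp hd hZ ⟨y, hZy ▸ subset_closure rfl, hy⟩, hcl]

include he in
theorem component_surjective (H : Hyp f g s) (hr : r ≤ d) {Z : Set X.left} (hZ : Z ∈ irreducibleComponents X.left) :
    X.hom '' Z = Set.univ := by
  obtain ⟨L, hL, q, hinj, rfl⟩ := exists_component_generic he H hr hZ
  refine Set.eq_univ_of_forall fun p => ?_
  obtain ⟨x, hx, hxp⟩ := exists_specializes_over he hL hinj q p
  exact ⟨x, specializes_iff_mem_closure.1 hx, hxp⟩

section NonzeroScalar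

variable (hI : ∀ i, (f i).comp (g i) = s • LinearMap.id ∧ (g i).comp (f i) = s • LinearMap.id)
  {K : Type u} [Field K] [Algebra R K] (hs : algebraMap R K s ≠ 0)

include hI hs in
omit [IsDomain R] in
theorem tr_zero_injective (i : Fin (n + 1)) : Function.Injective ((tr f g (0 : ℕ) i).baseChange K) := by
  induction i using Fin.induction with
  | zero => simp [tr_self, LinearMap.baseChange_id, Function.injective_id]
  | succ i ih =>
    have hf : Function.Injective ((f i).baseChange K) := fun x y hxy => by
      have := congrArg ((g i).baseChange K) hxy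
      rw [(fg_apply hI i x).2, (fg_apply hI i y).2] at this
      exact smul_right_injective _ hs this
    rw [Fin.val_succ, ← f_comp_tr_of_le f g i (Nat.zero_le _), LinearMap.baseChange_comp]
    exact hf.comp ih

/-- The data of the chart with all generators in the first copy. -/
def firstT (S : Fin (n + 1) → Finset (Fin d)) (j : Fin (n + 1)) : Finset (Fin d) := if j = 0 then (S 0)ᶜ else ∅

omit [IsDomain R] in
theorem eData_first (hr : r ≤ d) {S : Fin (n + 1) → Finset (Fin d)} (hS : ∀ i, (S i).card = d - r) :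
    EData S (firstT S) r := by
  refine ⟨hr, hS, fun j c hc => ?_, ?_⟩
  · by_cases h : j = 0
    · subst h; simpa [firstT] using hc
    · simp [firstT, h] at hc
  · rw [Finset.sum_eq_single (0 : Fin (n + 1)) (fun j _ hj => by simp [firstT, hj]) (by simp)]
    simp only [firstT, if_pos, Finset.card_compl, Fintype.card_fin, hS]
    omega

include hI hs in
omit [IsDomain R] in
theorem exists_isGen_first (hr : r ≤ d) {V : Fin (n + 1) → Grassmannian K (K ⊗[R] (Fin d → R)) (d - r)}
    (hV : V ∈ LGPoints R d r n f g K) {S : Fin (n + 1) → Finset (Fin d)} (hS : ∀ i, (S i).card = d - r)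
    (hch : ∀ i, InChart (S i) (V i)) :
    ∃ u : Gen (firstT S) → Fin d → K, IsGen (f := f) (g := g) (eData_first hr hS) V u := by
  classical
  have := finite_total (R := R) (d := d) (L := K)
  obtain ⟨u0, hu0, hspan⟩ := InChart.span_gen (hS 0) (hch 0)
  have h0 : ∀ q : Gen (firstT S), q.1 = 0 := fun q => by
    by_contra h
    have := q.2.2
    simp [firstT, h] at this
  refine ⟨fun q c => u0 q.2.1 c, fun q => ?_, fun i => ?_⟩
  · obtain ⟨j, c, hc⟩ := q
    obtain rfl : j = 0 := h0 ⟨j, c, hc⟩
    exact hu0 ⟨c, by simpa [firstT] using hc⟩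
  · rw [detI, ← span_eq_top_iff_isUnit_det, ((eData_first hr hS).exists_equiv i).some.surjective.range_comp,
      eq_top_iff, ← (inChart_iff _ _).1 (hch i)]
    have hVi : (V i).toSubmodule = (V 0).toSubmodule.map ((tr f g (0 : ℕ) i).baseChange K) := by
      refine (Submodule.eq_of_le_of_finrank_eq ?_ ?_).symm
      · rintro _ ⟨x, hx, rfl⟩
        exact map_tr_le (fun j => (V j).toSubmodule) hV 0 i hx
      · rw [← (Submodule.equivMapOfInjective _ (tr_zero_injective hI hs i) _).finrank_eq, finrank_member hr,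
          finrank_member hr]
    refine sup_le ?_ (Submodule.span_le.2 ?_)
    · rw [hVi]
      refine (Submodule.map_mono hspan).trans ?_
      rw [Submodule.map_span, Submodule.span_le]
      rintro _ ⟨_, ⟨c, rfl⟩, rfl⟩
      exact Submodule.subset_span ⟨Sum.inl ⟨0, c.1, by simp [firstT, c.2]⟩, rfl⟩
    · rintro _ ⟨c, hc, rfl⟩
      exact Submodule.subset_span ⟨Sum.inr ⟨c, hc⟩, rfl⟩

end NonzeroScalar

omit [IsDomain R] in
/-- A field-valued point lying in every chart, when the scalar is invertible at some field. -/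
theorem exists_in_all_charts (hI : ∀ i, (f i).comp (g i) = s • LinearMap.id ∧ (g i).comp (f i) = s • LinearMap.id)
    (hr : r ≤ d) (K₀ : Type u) [Field K₀] [Algebra R K₀] (hs : algebraMap R K₀ s ≠ 0) :
    ∃ (M : CommAlgCat.{u} R) (_ : IsField M) (V : LGPoints R d r n f g M), algebraMap R M s ≠ 0 ∧
      ∀ (i : Fin (n + 1)) (S : Finset (Fin d)), S.card = d - r → InChart S (V.1 i) := by
  classical
  have := finite_total (R := R) (d := d) (L := K₀)
  let P := MvPolynomial (Fin r × Fin d) K₀
  let v : Fin r → P ⊗[R] (Fin d → R) := fun a => ∑ c, (MvPolynomial.X (a, c) : P) • bas (R := R) P c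
  let pos : Fin r → Fin (n + 1) := fun _ => 0
  have key : ∀ (i : Fin (n + 1)) (S : Finset (Fin d)), S.card = d - r →
      ∃ eq : Fin d ≃ Fin r ⊕ {c // c ∈ S},
        (bas (R := R) P).det (Sum.elim (tv f g pos v i) (fun c : {c // c ∈ S} => bas P c.1) ∘ eq) ≠ 0 := by
    intro i S hS
    let eS : Fin r ≃ {c // c ∉ S} := (Fintype.equivFinOfCardEq (by
      rw [Fintype.card_subtype_compl, Fintype.card_fin, Fintype.card_coe, hS]; omega)).symm
    let E : Fin r ⊕ {c // c ∈ S} ≃ Fin d :=
      ((eS.sumCongr (Equiv.refl _)).trans (Equiv.sumComm _ _)).trans (Equiv.sumCompl (fun c => c ∈ S))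
    let φ : (K₀ ⊗[R] (Fin d → R)) ≃ₗ[K₀] (K₀ ⊗[R] (Fin d → R)) :=
      LinearEquiv.ofBijective ((tr f g (0 : ℕ) i).baseChange K₀)
        ⟨tr_zero_injective hI hs i, LinearMap.surjective_of_injective (tr_zero_injective hI hs i)⟩
    let x : Fin r × Fin d → K₀ := fun ac => (bas (R := R) K₀).repr (φ.symm (bas K₀ (eS ac.1).1)) ac.2
    let η : P →ₐ[R] K₀ := (MvPolynomial.aeval x).restrictScalars R
    have hv : ∀ a, ι η (v a) = φ.symm (bas K₀ (eS a).1) := fun a => by
      rw [map_sum]
      refine (Finset.sum_congr rfl fun c _ => ?_).trans ((bas (R := R) K₀).sum_repr _)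
      rw [ι_smul, ι_bas]
      exact congrArg (· • bas (R := R) K₀ c) (MvPolynomial.aeval_X (R := K₀) x (a, c))
    refine ⟨E.symm, fun h => ?_⟩
    have h1 := congrArg η h
    rw [map_zero, ← det_ι] at h1
    have h2 : (fun k => ι η ((Sum.elim (tv f g pos v i) (fun c : {c // c ∈ S} => bas P c.1) ∘ E.symm) k)) =
        ⇑(bas (R := R) K₀) := funext fun k => by
      obtain ⟨k, rfl⟩ := E.surjective k
      rw [Function.comp_apply, Equiv.symm_apply_apply]
      rcases k with a | c
      · rw [Sum.elim_inl, ι_tv, tv, hv]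
        exact φ.apply_symm_apply _
      · rw [Sum.elim_inr, ι_bas]
        rfl
    rw [h2, Module.Basis.det_self] at h1
    exact one_ne_zero h1
  let M := FractionRing P
  let toM : P →ₐ[R] M := IsScalarTower.toAlgHom R P M
  let vM : Fin r → M ⊗[R] (Fin d → R) := fun a => ι toM (v a)
  have key' : ∀ (i : Fin (n + 1)) (S : Finset (Fin d)), S.card = d - r →
      ∃ eq : Fin d ≃ Fin r ⊕ {c // c ∈ S},
        IsUnit ((bas (R := R) M).det (Sum.elim (tv f g pos vM i) (fun c : {c // c ∈ S} => bas M c.1) ∘ eq)) := by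
    intro i S hS
    obtain ⟨eq, h⟩ := key i S hS
    refine ⟨eq, ?_⟩
    have h2 : (Sum.elim (tv f g pos vM i) (fun c : {c // c ∈ S} => bas M c.1) ∘ eq) =
        fun k => ι toM ((Sum.elim (tv f g pos v i) (fun c : {c // c ∈ S} => bas P c.1) ∘ eq) k) := funext fun k => by
      simp only [Function.comp_apply]
      rcases eq k with a | c
      · rw [Sum.elim_inl, Sum.elim_inl, ι_tv]
      · rw [Sum.elim_inr, Sum.elim_inr, ι_bas]
    rw [h2, det_ι]
    exact isUnit_iff_ne_zero.2 fun h0 => h (IsFractionRing.injective P M (h0.trans (map_zero toM).symm))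
  obtain ⟨S₀, -, hS₀⟩ := Finset.exists_subset_card_eq (show d - r ≤ (Finset.univ : Finset (Fin d)).card by simp)
  choose eq heq using fun i => key' i S₀ hS₀
  let V : Fin (n + 1) → Grassmannian M (M ⊗[R] (Fin d → R)) (d - r) := fun i =>
    spanPoint r S₀ hS₀ (eq i) (tv f g pos vM i) (heq i)
  refine ⟨CommAlgCat.of R M, Field.toIsField M, ⟨V, linked_span pos hI vM⟩, ?_, fun i S hS => ?_⟩
  · show algebraMap R M s ≠ 0
    rw [IsScalarTower.algebraMap_eq R K₀ M]
    exact fun h => hs ((algebraMap K₀ M).injective (h.trans (map_zero _).symm))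
  · obtain ⟨eq', h⟩ := key' i S hS
    rw [inChart_iff, show (V i).toSubmodule = Submodule.span M (Set.range (tv f g pos vM i)) from rfl,
      Set.image_eq_range, ← Submodule.span_union]
    rw [← span_eq_top_iff_isUnit_det, eq'.surjective.range_comp, Set.Sum.elim_range] at h
    exact h

include he in
theorem irreducibleSpace (H : Hyp f g s) (hr : r ≤ d) (hs : s ≠ 0) : IrreducibleSpace X.left := by
  classical
  let K₀ := FractionRing R
  have hs₀ : algebraMap R K₀ s ≠ 0 := fun h => hs (IsFractionRing.injective R K₀ (h.trans (map_zero _).symm))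
  obtain ⟨M, hM, V, hsM, hV⟩ := exists_in_all_charts (f := f) (g := g) H.comp hr K₀ hs₀
  letI := hM.toField
  let x₀ := ctr hM ((e M).symm V)
  let Z₀ := irreducibleComponent x₀
  have hall : ∀ Z ∈ irreducibleComponents X.left, Z = Z₀ := by
    intro Z hZ
    obtain ⟨L, hL, q, hinj, rfl⟩ := exists_component_generic he H hr hZ
    letI := hL.toField
    have hsL : algebraMap R L s ≠ 0 := fun h => hs (hinj (h.trans (map_zero _).symm))
    choose S hS hch using fun i => exists_cols ((e L q).1 i)
    have h1 : ctr hL q ∈ Set.range ((eChart (eData_first hr hS) H.comp).hom e).left :=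
      (mem_range_iff_field he _ hL q _).2 (exists_isGen_first H.comp hsL hr (e L q).2 hS hch)
    have h2 : x₀ ∈ Set.range ((eChart (eData_first hr hS) H.comp).hom e).left :=
      (mem_range_iff_field he _ hM _ _).2 (by
        rw [(e M).apply_symm_apply]
        exact exists_isGen_first H.comp hsM hr V.2 hS fun i => hV i _ (hS i))
    exact (component_eq he H.comp _ hZ ⟨_, subset_closure rfl, h1⟩).trans
      (component_eq he H.comp _ (irreducibleComponent_mem_irreducibleComponents x₀)
        ⟨_, mem_irreducibleComponent, h2⟩).symm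
  have hZ₀ : Z₀ = Set.univ := Set.eq_univ_of_forall fun x =>
    hall _ (irreducibleComponent_mem_irreducibleComponents x) ▸ mem_irreducibleComponent
  have h : IsIrreducible (Set.univ : Set X.left) := hZ₀ ▸ (isIrreducible_irreducibleComponent (x := x₀))
  exact { isPreirreducible_univ := h.2, toNonempty := ⟨x₀⟩ }

end Groth.Agent.Synt29.LG
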