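import Mathlib

/-!
Ideals of a curve singularity `R ⊆ k[[t]]^s` sandwiched between order filtrations.
-/

universe u

namespace Groth.Agent.Synt29.CurveSing

variable {k : Type u} [Field k] {s : ℕ}

lemma nat_le_order_iff (φ : PowerSeries k) (n : ℕ) :
    ((n : ℕ) : ℕ∞) ≤ φ.order ↔ ∀ i < n, PowerSeries.coeff i φ = 0 :=
  ⟨fun h i hi => PowerSeries.coeff_of_lt_order i (lt_of_lt_of_le (by exact_mod_cast hi) h),
    fun h => PowerSeries.nat_le_order φ n h⟩

/-- tuples of power series of order at least `b` -/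
def W (b : Fin s → ℕ) : Submodule k (Fin s → PowerSeries k) where
  carrier := {f | ∀ i, ((b i : ℕ) : ℕ∞) ≤ (f i).order}
  zero_mem' := fun i => by simp
  add_mem' := fun {f g} hf hg i => by
    rw [nat_le_order_iff]
    intro j hj
    rw [Pi.add_apply, map_add, (nat_le_order_iff _ _).1 (hf i) j hj, (nat_le_order_iff _ _).1 (hg i) j hj, add_zero]
  smul_mem' := fun c f hf i => by
    rw [nat_le_order_iff]
    intro j hj
    rw [Pi.smul_apply, map_smul, (nat_le_order_iff _ _).1 (hf i) j hj, smul_zero]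

lemma mem_W {b : Fin s → ℕ} {f : Fin s → PowerSeries k} : f ∈ W b ↔ ∀ i, ((b i : ℕ) : ℕ∞) ≤ (f i).order := Iff.rfl

/-- the truncation -/
noncomputable def trunc (b : Fin s → ℕ) : (Fin s → PowerSeries k) →ₗ[k] (((i : Fin s) × Fin (b i)) → k) :=
  LinearMap.pi fun p => (PowerSeries.coeff (R := k) (p.2 : ℕ)).comp (LinearMap.proj p.1)

lemma ker_trunc (b : Fin s → ℕ) : LinearMap.ker (trunc (k := k) b) = W b := by
  ext f
  simp only [LinearMap.mem_ker, mem_W, nat_le_order_iff]
  constructor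
  · intro h i j hj
    exact congrFun h ⟨i, ⟨j, hj⟩⟩
  · intro h
    funext p
    exact h p.1 p.2 p.2.2

lemma trunc_surjective (b : Fin s → ℕ) : Function.Surjective (trunc (k := k) b) := by
  intro v
  refine ⟨fun i => PowerSeries.mk fun j => if h : j < b i then v ⟨i, ⟨j, h⟩⟩ else 0, funext fun p => ?_⟩
  obtain ⟨i, j, hj⟩ := p
  simp [trunc, PowerSeries.coeff_mk, hj]

lemma finite_quot (b : Fin s → ℕ) : Module.Finite k ((Fin s → PowerSeries k) ⧸ W (k := k) b) :=
  Module.Finite.equiv ((Submodule.quotEquivOfEq _ _ (ker_trunc (k := k) b).symm).trans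
    ((trunc (k := k) b).quotKerEquivOfSurjective (trunc_surjective b))).symm

lemma finrank_quot (b : Fin s → ℕ) :
    Module.finrank k ((Fin s → PowerSeries k) ⧸ W (k := k) b) = ∑ i, b i := by
  rw [((Submodule.quotEquivOfEq _ _ (ker_trunc (k := k) b).symm).trans
    ((trunc (k := k) b).quotKerEquivOfSurjective (trunc_surjective b))).finrank_eq, Module.finrank_fintype_fun_eq_card, Fintype.card_sigma]
  simp

variable (R : Subalgebra k (Fin s → PowerSeries k)) (c : Fin s → ℕ)

/-- A tuple with conductor orders belongs to `R`. -/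
lemma mem_of_order (hc : ∀ f : Fin s → PowerSeries k,
      (∀ g : Fin s → PowerSeries k, g * f ∈ R) ↔ ∀ i, ((c i : ℕ) : ℕ∞) ≤ (f i).order)
    {f : Fin s → PowerSeries k} (hf : ∀ i, ((c i : ℕ) : ℕ∞) ≤ (f i).order) : f ∈ R := by
  simpa using (hc f).2 hf 1

theorem mem_ideal (hc : ∀ f : Fin s → PowerSeries k,
      (∀ g : Fin s → PowerSeries k, g * f ∈ R) ↔ ∀ i, ((c i : ℕ) : ℕ∞) ≤ (f i).order)
    (J : Ideal ↥R) (l : Fin s → ℕ)
    (hl : ∀ i : Fin s, ∃ f ∈ J, ((f : Fin s → PowerSeries k) i).order = ((l i : ℕ) : ℕ∞))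
    (g : Fin s → PowerSeries k) (hg : ∀ i : Fin s, ((l i + c i : ℕ) : ℕ∞) ≤ (g i).order) :
    ∃ hgR : g ∈ R, (⟨g, hgR⟩ : ↥R) ∈ J := by
  classical
  choose f hf hfo using hl
  have hu : ∀ i, ∃ u : PowerSeries k, IsUnit u ∧ ((f i : Fin s → PowerSeries k) i) = PowerSeries.X ^ l i * u := by
    intro i
    obtain ⟨u, hu⟩ := (PowerSeries.X_pow_dvd_iff (φ := (f i : Fin s → PowerSeries k) i) (n := l i)).2
      ((nat_le_order_iff _ _).1 (hfo i).ge)
    refine ⟨u, ?_, hu⟩
    rw [PowerSeries.isUnit_iff_constantCoeff, isUnit_iff_ne_zero, ← PowerSeries.coeff_zero_eq_constantCoeff_apply]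
    intro h0
    have h := PowerSeries.coeff_order (φ := (f i : Fin s → PowerSeries k) i) (by
      intro h
      have h' := hfo i
      rw [h, PowerSeries.order_zero] at h'
      exact ENat.natCast_ne_top _ h'.symm)
    apply h
    have : ((f i : Fin s → PowerSeries k) i).order.toNat = l i := by rw [hfo i]; rfl
    rw [this, hu, PowerSeries.coeff_X_pow_mul' ]
    simp [h0]
  choose u huu hu using hu
  have hv : ∀ i, ∃ v : PowerSeries k, g i = v * (f i : Fin s → PowerSeries k) i ∧ ((c i : ℕ) : ℕ∞) ≤ v.order := by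
    intro i
    obtain ⟨w, hw⟩ := (PowerSeries.X_pow_dvd_iff (φ := g i) (n := l i + c i)).2
      ((nat_le_order_iff _ _).1 (hg i))
    obtain ⟨ui, hui⟩ := huu i
    refine ⟨PowerSeries.X ^ c i * (w * ((ui⁻¹ : (PowerSeries k)ˣ) : PowerSeries k)), ?_, ?_⟩
    · rw [hu i, hw, ← hui, pow_add]
      have h1 : ((ui⁻¹ : (PowerSeries k)ˣ) : PowerSeries k) * ↑ui = 1 := Units.inv_mul ui
      linear_combination -(PowerSeries.X ^ l i * PowerSeries.X ^ c i * w) * h1
    · rw [nat_le_order_iff, ← PowerSeries.X_pow_dvd_iff]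
      exact dvd_mul_right _ _
  choose v hv hvo using hv
  have hr : ∀ i, (Pi.single i (v i) : Fin s → PowerSeries k) ∈ R := fun i => mem_of_order R c hc (fun j => by
    rcases eq_or_ne j i with rfl | hj
    · rw [Pi.single_eq_same]; exact hvo j
    · rw [Pi.single_eq_of_ne hj, PowerSeries.order_zero]; exact le_top)
  have hsum : g = ∑ i, ((⟨_, hr i⟩ * f i : ↥R) : Fin s → PowerSeries k) := by
    funext j
    rw [Finset.sum_apply, Finset.sum_eq_single j]
    · simp [hv j]
    · intro i _ hij; simp [Ne.symm hij]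
    · intro h; exact absurd (Finset.mem_univ j) h
  have hgR : g ∈ R := hsum ▸ R.sum_mem fun i _ => ((⟨_, hr i⟩ * f i : ↥R)).2
  refine ⟨hgR, ?_⟩
  have : (⟨g, hgR⟩ : ↥R) = ∑ i, (⟨_, hr i⟩ * f i : ↥R) := Subtype.ext (by rw [AddSubmonoidClass.coe_finsetSum]; exact hsum)
  rw [this]
  exact Ideal.sum_mem _ fun i _ => J.mul_mem_left _ (hf i)

variable (I : Ideal ↥R) (a : Fin s → ℕ)
  (ha : ∀ i : Fin s, Ideal.map ((Pi.evalAlgHom k (fun _ : Fin s => PowerSeries k) i).comp R.val) I =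
      Ideal.span {PowerSeries.X ^ (a i)})

include ha in
lemma le_order {f : ↥R} (hf : f ∈ I) (i : Fin s) :
    ((a i : ℕ) : ℕ∞) ≤ ((f : Fin s → PowerSeries k) i).order := by
  have h := Ideal.mem_map_of_mem ((Pi.evalAlgHom k (fun _ : Fin s => PowerSeries k) i).comp R.val) hf
  rw [ha i, Ideal.mem_span_singleton] at h
  rw [nat_le_order_iff, ← PowerSeries.X_pow_dvd_iff]
  exact h

include ha in
lemma exists_order (i : Fin s) : ∃ f ∈ I, ((f : Fin s → PowerSeries k) i).order = ((a i : ℕ) : ℕ∞) := by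
  by_contra h
  push Not at h
  have hle : Ideal.map ((Pi.evalAlgHom k (fun _ : Fin s => PowerSeries k) i).comp R.val) I ≤
      Ideal.span {PowerSeries.X ^ (a i + 1)} := by
    rw [Ideal.map_le_iff_le_comap]
    intro f hf
    show (f : Fin s → PowerSeries k) i ∈ Ideal.span {PowerSeries.X ^ (a i + 1)}
    rw [Ideal.mem_span_singleton, PowerSeries.X_pow_dvd_iff, ← nat_le_order_iff]
    have h1 := le_order R I a ha hf i
    have h2 : ((a i : ℕ) : ℕ∞) < ((f : Fin s → PowerSeries k) i).order := lt_of_le_of_ne h1 (Ne.symm (h f hf))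
    rw [Nat.cast_add, Nat.cast_one]
    exact Order.add_one_le_of_lt h2
  rw [ha i, Ideal.span_singleton_le_iff_mem, Ideal.mem_span_singleton, PowerSeries.X_pow_dvd_iff] at hle
  have := hle (a i) (Nat.lt_succ_self _)
  simp at this

end Groth.Agent.Synt29.CurveSing
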