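import Mathlib
import Groth.Agent.Synt29.CurveSing

/-!
Shifting ideals of a curve singularity along one branch.
-/

universe u

namespace Groth.Agent.Synt29.CurveSing

variable {k : Type u} [Field k] {s : ℕ} (R : Subalgebra k (Fin s → PowerSeries k))

/-- `X ^ b` generates the image of `I` on the branch `i` as soon as it divides it and some element has order `b`. -/
lemma map_eq_of_order (I : Ideal ↥R) (i : Fin s) (b : ℕ)
    (hle : ∀ f ∈ I, ((b : ℕ) : ℕ∞) ≤ ((f : Fin s → PowerSeries k) i).order)
    (hex : ∃ f ∈ I, ((f : Fin s → PowerSeries k) i).order = ((b : ℕ) : ℕ∞)) :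
    Ideal.map ((Pi.evalAlgHom k (fun _ : Fin s => PowerSeries k) i).comp R.val) I =
      Ideal.span {PowerSeries.X ^ b} := by
  refine le_antisymm (Ideal.map_le_iff_le_comap.2 fun f hf => ?_) ?_
  · show (f : Fin s → PowerSeries k) i ∈ Ideal.span {PowerSeries.X ^ b}
    rw [Ideal.mem_span_singleton, PowerSeries.X_pow_dvd_iff, ← nat_le_order_iff]
    exact hle f hf
  · rw [Ideal.span_singleton_le_iff_mem]
    obtain ⟨f, hf, hfo⟩ := hex
    obtain ⟨u, hu⟩ := (PowerSeries.X_pow_dvd_iff (φ := (f : Fin s → PowerSeries k) i) (n := b)).2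
      ((nat_le_order_iff _ _).1 hfo.ge)
    have huu : IsUnit u := by
      rw [PowerSeries.isUnit_iff_constantCoeff, isUnit_iff_ne_zero, ← PowerSeries.coeff_zero_eq_constantCoeff_apply]
      intro h0
      have h1 : ((b + 1 : ℕ) : ℕ∞) ≤ ((f : Fin s → PowerSeries k) i).order := by
        rw [nat_le_order_iff]
        intro j hj
        rw [hu, PowerSeries.coeff_X_pow_mul']
        split
        · rw [show j - b = 0 by omega, h0]
        · rfl
      rw [hfo] at h1
      have : b + 1 ≤ b := by exact_mod_cast h1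
      omega
    obtain ⟨v, rfl⟩ := huu
    have := Ideal.mul_mem_right ((v⁻¹ : (PowerSeries k)ˣ) : PowerSeries k) _
      (Ideal.mem_map_of_mem ((Pi.evalAlgHom k (fun _ : Fin s => PowerSeries k) i).comp R.val) hf)
    rw [show ((Pi.evalAlgHom k (fun _ : Fin s => PowerSeries k) i).comp R.val) f = PowerSeries.X ^ b * ↑v from hu,
      mul_assoc, Units.mul_inv, mul_one] at this
    exact this

/-- Quotient dimensions for a subspace inside the subalgebra. -/
lemma finrank_add (I : Ideal ↥R) [Module.Finite k ((Fin s → PowerSeries k) ⧸ (I.restrictScalars k).map R.val.toLinearMap)] :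
    Module.finrank k (↥R ⧸ I) + Module.finrank k ((Fin s → PowerSeries k) ⧸ Subalgebra.toSubmodule R) =
      Module.finrank k ((Fin s → PowerSeries k) ⧸ (I.restrictScalars k).map R.val.toLinearMap) ∧
    Module.Finite k (↥R ⧸ I) := by
  set P := Subalgebra.toSubmodule R
  set I' : Submodule k (Fin s → PowerSeries k) := (I.restrictScalars k).map R.val.toLinearMap
  have hI'P : I' ≤ P := by rintro _ ⟨x, -, rfl⟩; exact x.2
  let φ : ↥R →ₗ[k] ((Fin s → PowerSeries k) ⧸ I') := I'.mkQ.comp R.val.toLinearMap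
  have hr : LinearMap.range φ = P.map I'.mkQ := by
    rw [LinearMap.range_comp]
    congr 1
    exact le_antisymm (by rintro _ ⟨x, rfl⟩; exact x.2) (fun x hx => ⟨⟨x, hx⟩, rfl⟩)
  have hk : LinearMap.ker φ = I.restrictScalars k := by
    ext x
    rw [LinearMap.mem_ker, LinearMap.comp_apply, Submodule.mkQ_apply, Submodule.Quotient.mk_eq_zero]
    exact ⟨fun ⟨y, hy, e⟩ => Subtype.ext e ▸ hy, fun hx => ⟨x, hx, rfl⟩⟩
  let e : (↥R ⧸ I) ≃ₗ[k] ↥(P.map I'.mkQ) :=
    ((Submodule.Quotient.restrictScalarsEquiv k I).symm.trans (Submodule.quotEquivOfEq _ _ hk.symm)).trans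
      (φ.quotKerEquivRange.trans (LinearEquiv.ofEq _ _ hr))
  refine ⟨?_, Module.Finite.equiv e.symm⟩
  rw [← Submodule.finrank_quotient_add_finrank (P.map I'.mkQ),
    (Submodule.quotientQuotientEquivQuotient I' P hI'P).finrank_eq, add_comm, e.finrank_eq]

/-- Multiplication by the uniformiser on branch `j`. -/
noncomputable def mulU (j : Fin s) : (Fin s → PowerSeries k) →ₗ[k] (Fin s → PowerSeries k) :=
  LinearMap.mulLeft k (Pi.mulSingle j PowerSeries.X : Fin s → PowerSeries k)

lemma mulU_apply (j : Fin s) (f : Fin s → PowerSeries k) (i : Fin s) :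
    mulU j f i = if i = j then PowerSeries.X * f i else f i := by
  rw [mulU, LinearMap.mulLeft_apply, Pi.mul_apply]
  rcases eq_or_ne i j with rfl | h
  · rw [Pi.mulSingle_eq_same, if_pos rfl]
  · rw [Pi.mulSingle_eq_of_ne h, if_neg h, one_mul]

lemma mulU_injective (j : Fin s) : Function.Injective (mulU (k := k) j) := by
  intro f g h
  funext i
  have := congrFun h i
  rw [mulU_apply, mulU_apply] at this
  split at this
  · exact mul_left_cancel₀ PowerSeries.X_ne_zero this
  · exact this

lemma finrank_quot_map_mulU (j : Fin s) (S : Submodule k (Fin s → PowerSeries k))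
    [Module.Finite k ((Fin s → PowerSeries k) ⧸ S)] :
    Module.Finite k ((Fin s → PowerSeries k) ⧸ S.map (mulU j)) ∧
      Module.finrank k ((Fin s → PowerSeries k) ⧸ S.map (mulU j)) =
        Module.finrank k ((Fin s → PowerSeries k) ⧸ S) + 1 := by
  let T := S.map (mulU (k := k) j)
  let U := LinearMap.range (mulU (k := k) j)
  let ψ : ((Fin s → PowerSeries k) ⧸ S) →ₗ[k] ((Fin s → PowerSeries k) ⧸ T) :=
    S.mapQ T (mulU j) (Submodule.le_comap_map _ _)
  let χ : ((Fin s → PowerSeries k) ⧸ T) →ₗ[k] k :=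
    T.liftQ ((PowerSeries.coeff (R := k) 0).comp (LinearMap.proj j)) (by
      rintro _ ⟨x, -, rfl⟩
      simp [mulU_apply])
  have hψ : Function.Injective ψ := by
    rw [injective_iff_map_eq_zero]
    intro x hx
    obtain ⟨x, rfl⟩ := Submodule.mkQ_surjective S x
    rw [Submodule.mkQ_apply, Submodule.mapQ_apply, Submodule.Quotient.mk_eq_zero] at hx
    obtain ⟨y, hy, hyx⟩ := hx
    exact (Submodule.Quotient.mk_eq_zero S).2 (mulU_injective j hyx ▸ hy)
  have hex : Function.Exact ψ χ := by
    intro y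
    obtain ⟨y, rfl⟩ := Submodule.mkQ_surjective T y
    constructor
    · intro hy
      change PowerSeries.coeff (R := k) 0 (y j) = 0 at hy
      obtain ⟨z, hz⟩ := (PowerSeries.X_dvd_iff (φ := y j)).2 (by rwa [← PowerSeries.coeff_zero_eq_constantCoeff_apply])
      refine ⟨S.mkQ (Function.update y j z), ?_⟩
      rw [Submodule.mkQ_apply, Submodule.mapQ_apply, Submodule.mkQ_apply]
      congr 1
      funext i
      rw [mulU_apply]
      rcases eq_or_ne i j with rfl | h
      · rw [if_pos rfl, Function.update_self, ← hz]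
      · rw [if_neg h, Function.update_of_ne h]
    · rintro ⟨x, hx⟩
      obtain ⟨x, rfl⟩ := Submodule.mkQ_surjective S x
      rw [← hx]
      show PowerSeries.coeff (R := k) 0 (mulU j x j) = 0
      simp [mulU_apply]
  have hχ : Function.Surjective χ := fun c =>
    ⟨T.mkQ (Pi.single j (PowerSeries.C c)), by
      show PowerSeries.coeff (R := k) 0 ((Pi.single j (PowerSeries.C c) : Fin s → PowerSeries k) j) = c
      simp⟩
  have hfin : Module.Finite k ((Fin s → PowerSeries k) ⧸ T) :=
    Module.Finite.of_exact hex hχ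
  refine ⟨hfin, ?_⟩
  rw [← LinearMap.finrank_range_add_finrank_ker χ, LinearMap.range_eq_top.2 hχ, finrank_top, Module.finrank_self,
    hex.linearMap_ker_eq, LinearMap.finrank_range_of_inj hψ, add_comm]

end Groth.Agent.Synt29.CurveSing
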