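import Groth.Agent.S13457
import Groth.Agent.CurveVA.Vanish
import Groth.Agent.Lib.CurveRR
import Groth.Agent.Lib.CurveTensor
import Groth.Agent.Lib.CurveSpecial
import Groth.Agent.Lib.CurveOnSurf
import Groth.Agent.FFun.Basic
import Groth.Agent.H23.PicMul
import Groth.Agent.CurveCohLib.SmoothCurve

/-!
# Secants of the curve embedded by `K ⊗ N`
-/

set_option autoImplicit false
set_option backward.isDefEq.respectTransparency false
set_option backward.isDefEq.respectTransparency.types false
set_option linter.style.haveILetI false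
set_option linter.unusedSectionVars false
set_option maxHeartbeats 1000000

universe u

open CategoryTheory CategoryTheory.Limits AlgebraicGeometry TopologicalSpace Opposite
open scoped Groth.Agent.H23.PicMul

noncomputable section

namespace Groth.Agent.Synt29.Secant

open Groth.Agent Groth.Agent.H23.PicMul Groth.Agent.CurveSpecial

variable (k : Type u) [Field k] [IsAlgClosed k] {X : Scheme.{u}} [X.Over (Spec (CommRingCat.of k))]
  [IsIntegral X] [IsProper (X ↘ Spec (CommRingCat.of k))] [Smooth (X ↘ Spec (CommRingCat.of k))]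

local notation "Ω" => Omega.sheaf (X ↘ Spec (CommRingCat.of k))

theorem deg_of_cl {L M : X.Modules} (h : PicF.cl L = PicF.cl M) : Curv2.deg k X L 1 = Curv2.deg k X M 1 := by
  obtain ⟨e⟩ := cl_eq_iff.1 h
  exact CurveRR.deg_congr k e 1

theorem deg_mul (hdim : topologicalKrullDim X = 1) {L M : X.Modules} (hL : PicF.IsInvertible L)
    (hM : PicF.IsInvertible M) :
    Curv2.deg k X (CohB1.tensorMod L M) 1 = Curv2.deg k X L 1 + Curv2.deg k X M 1 :=
  CurveRR.deg_tensor k hdim hL hM

/-- Riemann's equality for invertible modules. -/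
theorem euler_eq (hdim : topologicalKrullDim X = 1) {L : X.Modules} (hL : PicF.IsInvertible L) :
    (Module.finrank k (Coh.HH X L 0) : ℤ) - Module.finrank k (Coh.HH X L 1) =
      Curv2.deg k X L 1 + 1 - Curv2.genus k X := by
  have h1 := CurveRR.euler_eq_h0_sub_h1 k hdim.le (ProjUPX.isQCoh_of_isInvertible hL)
  have h2 := CurveRR.euler_structureModule (X := X) k hdim.le
  unfold Curv2.deg
  rw [h2, ← h1]
  push_cast
  ring

theorem finrank_h0_KN (hdim : topologicalKrullDim X = 1) {K N : X.Modules} (eK : K ≅ Ω)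
    (hN : PicF.IsInvertible N) :
    (3 : ℤ) * (Curv2.genus k X : ℤ) - 2 ≤ Curv2.deg k X (CohB1.tensorMod K N) 1 + Curv2.genus k X -
        Curv2.deg k X N 1 ∧
      Curv2.deg k X N 1 + Curv2.genus k X - 1 ≤ Module.finrank k (Coh.HH X (CohB1.tensorMod K N) 0) ∧
      (1 ≤ Curv2.deg k X N 1 →
        (Module.finrank k (Coh.HH X (CohB1.tensorMod K N) 0) : ℤ) = Curv2.deg k X N 1 + Curv2.genus k X - 1) := by
  haveI : ConnectedSpace X := inferInstance
  have h0 := CurveCohLib.finrank_h0_eq_one k X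
  have hΩ := CurveBC.isInvertible_omega k X hdim h0
  have hK := isInvertible_of_iso eK.symm hΩ
  have hdK : Curv2.deg k X K 1 = 2 * (Curv2.genus k X : ℤ) - 2 :=
    (CurveRR.deg_congr k eK 1).trans (CurveBC.canonical_invariants k X hdim h0).2
  have hd := deg_mul k hdim hK hN
  have hKN := isInvertible_tensor hK hN
  have he := euler_eq k hdim hKN
  refine ⟨by omega, by omega, fun h1 => ?_⟩
  haveI := CurveVA.subsingleton_h1_of_deg k hdim h0 hKN (by omega)
  rw [Module.finrank_zero_of_subsingleton (M := Coh.HH X (CohB1.tensorMod K N) 1)] at he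
  omega

/-- An ideal of degree `-deg N` leaving `g` sections in `K ⊗ N` is inverse to `N`. -/
theorem cl_mul_eq_one (hdim : topologicalKrullDim X = 1) {K N I : X.Modules} (eK : K ≅ Ω)
    (hN : PicF.IsInvertible N) (hI : PicF.IsInvertible I) (hd : Curv2.deg k X I 1 = -Curv2.deg k X N 1)
    (hh : Curv2.genus k X ≤ Module.finrank k (Coh.HH X (CohB1.tensorMod I (CohB1.tensorMod K N)) 0)) :
    PicF.cl I * PicF.cl N = 1 := by
  haveI : ConnectedSpace X := inferInstance
  haveI : GeometricallyConnected (X ↘ Spec (CommRingCat.of k)) := S2501.result (X ↘ Spec (CommRingCat.of k))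
  have h0 := CurveCohLib.finrank_h0_eq_one k X
  have hΩ := CurveBC.isInvertible_omega k X hdim h0
  have hK := isInvertible_of_iso eK.symm hΩ
  have hdK : Curv2.deg k X K 1 = 2 * (Curv2.genus k X : ℤ) - 2 :=
    (CurveRR.deg_congr k eK 1).trans (CurveBC.canonical_invariants k X hdim h0).2
  have hdeg : Curv2.deg k X (CohB1.tensorMod I (CohB1.tensorMod K N)) 1 = 2 * (Curv2.genus k X : ℤ) - 2 := by
    rw [deg_mul k hdim hI (isInvertible_tensor hK hN), deg_mul k hdim hK hN]
    omega
  obtain ⟨e⟩ := S13457.result k X hdim _ (isInvertible_tensor hI (isInvertible_tensor hK hN)) hdeg hh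
  have h1 : PicF.cl I * (PicF.cl K * PicF.cl N) = PicF.cl K := by
    rw [← cl_tensor, ← cl_tensor, cl_eq_iff]
    exact ⟨e ≪≫ eK.symm⟩
  exact (isUnit_cl hK).mul_left_cancel (by rw [mul_one, mul_left_comm]; exact h1)

theorem ne_zero_of_mono {N : X.Modules} (t : Coh.structureModule X ⟶ N) [Mono t] : t ≠ 0 := by
  intro h0
  have h1 : (𝟙 (Coh.structureModule X)) = 0 := by
    rw [← cancel_mono t, h0, comp_zero, comp_zero]
  haveI : Nonempty (⊤ : X.Opens) := ⟨⟨genericPoint X, trivial⟩⟩
  exact one_ne_zero (α := Γ(X, ⊤))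
    (congrArg (fun f => Scheme.Modules.Hom.app f ⊤ (1 : Γ(X, ⊤))) h1)

theorem finrank_h0_pos_of_sub {N I : X.Modules} (hN : PicF.IsInvertible N) (ι : I ⟶ Coh.structureModule X)
    [Mono ι] (h : PicF.cl I * PicF.cl N = 1) : Module.finrank k (Coh.HH X N 0) ≠ 0 := by
  haveI := CurveCohLib.isNoetherian_of_proper (k := k) (X := X)
  haveI := CurveCohLib.finite_HH (k := k) (CurveDeg.isCoh_of_isInvertible hN) 0
  haveI : ((DCoh.tensorBi (X := X)).obj N).IsEquivalence := CurveOnSurf.isEquivalence_tensor hN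
  obtain ⟨e⟩ := cl_eq_iff.1 (show PicF.cl (CohB1.tensorMod N I) = PicF.cl (Coh.structureModule X) by
    rw [cl_tensor, mul_comm, h, one_def])
  let s : Coh.structureModule X ⟶ N :=
    e.inv ≫ ((DCoh.tensorBi (X := X)).obj N).map ι ≫ (KFlatLib.tensorUnitIso N).hom
  haveI : Mono s := inferInstance
  have hs : s ≠ 0 := ne_zero_of_mono s
  intro h0
  haveI := (Module.finrank_zero_iff (R := k) (M := Coh.HH X N 0)).1 h0
  refine hs (CurveRR.hom_ext_one ?_)
  have h1 := Subsingleton.elim ((Sheaf.H.equiv₀ (Coh.toAb N) isTerminalTop).symm (s.app ⊤ (H23.Frame.one ⊤))) 0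
  have h2 := congrArg (Sheaf.H.equiv₀ (Coh.toAb N) isTerminalTop) h1
  rw [AddEquiv.apply_symm_apply, map_zero] at h2
  exact h2.trans (by rfl)

/-- Two nonzero sections of a module with at most one section differ by an automorphism of `O`. -/
theorem exists_scalar {N : X.Modules} (hN : PicF.IsInvertible N) (h : Module.finrank k (Coh.HH X N 0) ≤ 1)
    (s s' : Coh.structureModule X ⟶ N) (hs : s ≠ 0) (hs' : s' ≠ 0) :
    ∃ γ : Coh.structureModule X ≅ Coh.structureModule X, γ.hom ≫ s = s' := by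
  haveI := CurveCohLib.isNoetherian_of_proper (k := k) (X := X)
  haveI := CurveCohLib.finite_HH (k := k) (CurveDeg.isCoh_of_isInvertible hN) 0
  let E₀ := Sheaf.H.equiv₀ (Coh.toAb N) isTerminalTop
  let c : (Coh.structureModule X ⟶ N) → Coh.HH X N 0 := fun f => E₀.symm (f.app ⊤ (H23.Frame.one ⊤))
  have hc : ∀ f, homOfClass (c f) = f := fun f => CurveRR.hom_ext_one (by
    rw [homOfClass_one]
    exact E₀.apply_symm_apply _)
  have h0 : homOfClass (X := X) (P := N) 0 = 0 := CurveRR.hom_ext_one (by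
    rw [homOfClass_one, map_zero]
    rfl)
  have hne : c s ≠ 0 := fun h => hs ((hc s).symm.trans ((congrArg homOfClass h).trans h0))
  have hne' : c s' ≠ 0 := fun h => hs' ((hc s').symm.trans ((congrArg homOfClass h).trans h0))
  obtain ⟨a, ha⟩ := exists_smul_eq_of_finrank_eq_one (le_antisymm h (Module.finrank_pos_iff_exists_ne_zero.2 ⟨_, hne⟩)) hne (c s')
  have ha0 : a ≠ 0 := fun h => hne' (by rw [← ha, h, zero_smul])
  refine ⟨⟨Formal.smulMod k _ a, Formal.smulMod k _ a⁻¹, by
      rw [← FFun.smulMod_mul, inv_mul_cancel₀ ha0, FFun.smulMod_one], by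
      rw [← FFun.smulMod_mul, mul_inv_cancel₀ ha0, FFun.smulMod_one]⟩, ?_⟩
  show Formal.smulMod k _ a ≫ s = s'
  rw [FFun.smulMod_naturality, ← hc s', ← ha, homOfClass_smul, hc s]

/-- Ideals inverse to a module with at most one section are equal. -/
theorem exists_iso_of_inverse {N I I' : X.Modules} (hN : PicF.IsInvertible N)
    (h : Module.finrank k (Coh.HH X N 0) ≤ 1) (ι : I ⟶ Coh.structureModule X) (ι' : I' ⟶ Coh.structureModule X)
    [Mono ι] [Mono ι'] (h1 : PicF.cl I * PicF.cl N = 1) (h2 : PicF.cl I' * PicF.cl N = 1) :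
    ∃ φ : I' ≅ I, φ.hom ≫ ι = ι' := by
  let G := (DCoh.tensorBi (X := X)).obj N
  haveI : G.IsEquivalence := CurveOnSurf.isEquivalence_tensor hN
  obtain ⟨e⟩ := cl_eq_iff.1 (show PicF.cl (CohB1.tensorMod N I) = PicF.cl (Coh.structureModule X) by
    rw [cl_tensor, mul_comm, h1, one_def])
  obtain ⟨e'⟩ := cl_eq_iff.1 (show PicF.cl (CohB1.tensorMod N I') = PicF.cl (Coh.structureModule X) by
    rw [cl_tensor, mul_comm, h2, one_def])
  let u := (KFlatLib.tensorUnitIso N).hom
  let eI : G.obj I ≅ Coh.structureModule X := e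
  let eI' : G.obj I' ≅ Coh.structureModule X := e'
  let s : Coh.structureModule X ⟶ N := eI.inv ≫ G.map ι ≫ u
  let s' : Coh.structureModule X ⟶ N := eI'.inv ≫ G.map ι' ≫ u
  haveI : Mono s := inferInstance
  haveI : Mono s' := inferInstance
  obtain ⟨γ, hγ⟩ := exists_scalar k hN h s s' (ne_zero_of_mono s) (ne_zero_of_mono s')
  refine ⟨G.preimageIso (eI' ≪≫ γ ≪≫ eI.symm), G.map_injective ?_⟩
  rw [← cancel_mono u, G.map_comp, Functor.preimageIso_hom, Functor.map_preimage]
  simp only [Iso.trans_hom, Iso.symm_hom, Category.assoc]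
  rw [show γ.hom ≫ eI.inv ≫ G.map ι ≫ u = s' from hγ]
  simp [s']

end Groth.Agent.Synt29.Secant
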