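import Mathlib
import Groth.Prelude.Def_DeRham

/-!
Additive generation of exterior powers of differentials by `b₀ • δb₁ ∧ … ∧ δb_p`, and the map of de
Rham complexes attached to a square of rings.
-/

universe u v

namespace Groth.Agent.Synt29.DRGen

variable {R A M : Type u} [CommRing R] [CommRing A] [Algebra R A] [AddCommGroup M] [Module A M] [Module R M]

theorem mem_span_gen (δ : Derivation R A M) (hgen : Submodule.span A (Set.range δ) = ⊤) (p : ℕ)
    (z : ↥(⋀[A]^p M)) :
    z ∈ Submodule.span A (Set.range fun b : Fin p → A => exteriorPower.ιMulti A p fun i => δ (b i)) := by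
  classical
  set T := Submodule.span A (Set.range fun b : Fin p → A => exteriorPower.ιMulti A p fun i => δ (b i))
  have hT : ∀ (s : Finset (Fin p)) (v : Fin p → M), (∀ i, i ∉ s → v i ∈ Set.range δ) →
      exteriorPower.ιMulti A p v ∈ T := by
    intro s
    induction s using Finset.induction_on with
    | empty =>
      intro v hv
      choose b hb using fun i => hv i (Finset.notMem_empty i)
      refine Submodule.subset_span ⟨b, ?_⟩
      simp only [hb]
    | @insert i s his ih =>
      intro v hv
      have hup : ∀ w ∈ Submodule.span A (Set.range δ),
          exteriorPower.ιMulti A p (Function.update v i w) ∈ T := by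
        intro w hw
        induction hw using Submodule.span_induction with
        | mem w hw =>
          refine ih _ fun j hj => ?_
          rcases eq_or_ne j i with rfl | hji
          · rwa [Function.update_self]
          · rw [Function.update_of_ne hji]
            exact hv j (by simp [hji, hj])
        | zero =>
          rw [AlternatingMap.map_update_zero]
          exact zero_mem _
        | add x y _ _ hx hy =>
          rw [AlternatingMap.map_update_add]
          exact add_mem hx hy
        | smul a x _ hx =>
          rw [AlternatingMap.map_update_smul]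
          exact T.smul_mem a hx
      have := hup _ (hgen.ge (Submodule.mem_top (x := v i)))
      rwa [Function.update_eq_self] at this
  have : Submodule.span A (Set.range (exteriorPower.ιMulti A p (M := M))) ≤ T := by
    rw [Submodule.span_le]
    rintro _ ⟨v, rfl⟩
    exact hT Finset.univ v fun i hi => absurd (Finset.mem_univ i) hi
  exact this (by rw [exteriorPower.ιMulti_span]; trivial)

/-- Induction on the generators `b₀ • δb₁ ∧ … ∧ δb_p`. -/
theorem gen_induction (δ : Derivation R A M) (hgen : Submodule.span A (Set.range δ) = ⊤) {p : ℕ}
    {P : ↥(⋀[A]^p M) → Prop} (hzero : P 0) (hadd : ∀ x y, P x → P y → P (x + y))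
    (hgenP : ∀ (b₀ : A) (b : Fin p → A), P (DeRham.gen δ p b₀ b)) (z : ↥(⋀[A]^p M)) : P z := by
  have key : ∀ z, ∀ a : A, P (a • z) := by
    intro z
    induction mem_span_gen δ hgen p z using Submodule.span_induction with
    | mem z hz =>
      obtain ⟨b, rfl⟩ := hz
      intro a
      exact hgenP a b
    | zero => intro a; rw [smul_zero]; exact hzero
    | add x y _ _ hx hy => intro a; rw [smul_add]; exact hadd _ _ (hx a) (hy a)
    | smul c x _ hx => intro a; rw [smul_smul]; exact hx _
  have := key z 1
  rwa [one_smul] at this

/-- Two additive maps that agree on all generators are equal. -/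
theorem addMonoidHom_ext (δ : Derivation R A M) (hgen : Submodule.span A (Set.range δ) = ⊤) {p : ℕ}
    {N : Type v} [AddCommGroup N] {f g : ↥(⋀[A]^p M) →+ N}
    (h : ∀ (b₀ : A) (b : Fin p → A), f (DeRham.gen δ p b₀ b) = g (DeRham.gen δ p b₀ b)) : f = g :=
  AddMonoidHom.ext fun z => gen_induction δ hgen (P := fun z => f z = g z) (by rw [map_zero, map_zero])
    (fun x y hx hy => by rw [map_add, map_add, hx, hy]) h z

theorem gen_one_cons (δ : Derivation R A M) (p : ℕ) (a : A) (b : Fin p → A) :
    exteriorPower.ιMulti A (p + 1) (Fin.cons (δ a) fun i => δ (b i)) = DeRham.gen δ (p + 1) 1 (Fin.cons a b) := by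
  rw [DeRham.gen, one_smul]
  congr 1
  funext i
  refine Fin.cases ?_ (fun j => ?_) i <;> simp

end Groth.Agent.Synt29.DRGen
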