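import Mathlib

/-!
The kernel of the map on exterior powers induced by a surjective linear map.
-/

universe u v w

namespace Groth.Agent.Synt29.ExtKer

variable {A : Type u} [CommRing A] {M : Type v} {N : Type w} [AddCommGroup M] [Module A M]
  [AddCommGroup N] [Module A N]

/-- The submodule of `⋀^(p+1) M` spanned by wedges with a factor in `ker π`. -/
def kerSpan (π : M →ₗ[A] N) (p : ℕ) : Submodule A ↥(⋀[A]^(p + 1) M) :=
  Submodule.span A {z | ∃ (ω : M) (v : Fin p → M), π ω = 0 ∧ exteriorPower.ιMulti A (p + 1) (Fin.cons ω v) = z}

theorem update_mem (π : M →ₗ[A] N) (p : ℕ) (v : Fin (p + 1) → M) (i : Fin (p + 1)) (ω : M) (hω : π ω = 0) :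
    exteriorPower.ιMulti A (p + 1) (Function.update v i ω) ∈ kerSpan π p := by
  rcases eq_or_ne i 0 with rfl | hi
  · refine Submodule.subset_span ⟨ω, Fin.tail v, hω, ?_⟩
    congr 1
    funext j
    refine Fin.cases ?_ (fun k => ?_) j
    · simp
    · simp [Fin.tail, Function.update_of_ne (Fin.succ_ne_zero k)]
  · have h := (exteriorPower.ιMulti A (p + 1) (M := M)).map_swap (Function.update v i ω) hi
    rw [← neg_neg (exteriorPower.ιMulti A (p + 1) (Function.update v i ω)), ← h]
    refine neg_mem (Submodule.subset_span ⟨ω, Fin.tail (Function.update v i ω ∘ Equiv.swap i 0), hω, ?_⟩)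
    congr 1
    conv_rhs => rw [← Fin.cons_self_tail (Function.update v i ω ∘ Equiv.swap i 0)]
    simp

theorem mkQ_congr (π : M →ₗ[A] N) (p : ℕ) (v w : Fin (p + 1) → M) (h : ∀ i, π (v i) = π (w i)) :
    (kerSpan π p).mkQ (exteriorPower.ιMulti A (p + 1) v) =
      (kerSpan π p).mkQ (exteriorPower.ιMulti A (p + 1) w) := by
  classical
  suffices key : ∀ s : Finset (Fin (p + 1)),
      (kerSpan π p).mkQ (exteriorPower.ιMulti A (p + 1) v) =
        (kerSpan π p).mkQ (exteriorPower.ιMulti A (p + 1) (fun i => if i ∈ s then w i else v i)) by
    simpa using key Finset.univ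
  intro s
  induction s using Finset.induction_on with
  | empty => simp
  | @insert i s his ih =>
    rw [ih]
    have e1 : (fun j => if j ∈ s then w j else v j) =
        Function.update (fun j => if j ∈ s then w j else v j) i (v i) := by
      funext j
      rcases eq_or_ne j i with rfl | hj
      · simp [his]
      · simp [hj]
    have e2 : (fun j => if j ∈ insert i s then w j else v j) =
        Function.update (fun j => if j ∈ s then w j else v j) i (w i) := by
      funext j
      rcases eq_or_ne j i with rfl | hj
      · simp
      · simp [hj]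
    rw [e2, ← sub_eq_zero, ← map_sub]
    conv_lhs => rw [e1]
    simp only [Function.update_idem]
    rw [← AlternatingMap.map_update_sub]
    exact (Submodule.Quotient.mk_eq_zero _).2
      (update_mem π p _ i _ (by rw [map_sub, h, sub_self]))

/-- The kernel of `⋀^(p+1) π` for surjective `π` is spanned by wedges with a factor in `ker π`. -/
theorem ker_map_le (π : M →ₗ[A] N) (hπ : Function.Surjective π) (p : ℕ) :
    LinearMap.ker (exteriorPower.map (p + 1) π) ≤ kerSpan π p := by
  classical
  let s := Function.surjInv hπ
  have hs : ∀ y, π (s y) = y := Function.surjInv_eq hπ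
  let q := (kerSpan π p).mkQ
  have hupd : ∀ (v : Fin (p + 1) → N) (i : Fin (p + 1)) (y : N),
      (fun j => s (Function.update v i y j)) = Function.update (fun j => s (v j)) i (s y) :=
    fun v i y => funext fun j => Function.apply_update (fun _ => s) v i y j
  let Φ : N [⋀^Fin (p + 1)]→ₗ[A] (↥(⋀[A]^(p + 1) M) ⧸ kerSpan π p) :=
    { toFun := fun v => q (exteriorPower.ιMulti A (p + 1) (fun j => s (v j)))
      map_update_add' := fun {inst} v i x y => by
        obtain rfl : inst = instDecidableEqFin _ := Subsingleton.elim _ _
        simp only [hupd]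
        rw [← map_add, ← AlternatingMap.map_update_add]
        refine mkQ_congr π p _ _ fun j => ?_
        rcases eq_or_ne j i with rfl | hj
        · simp [hs]
        · simp [hj]
      map_update_smul' := fun {inst} v i c x => by
        obtain rfl : inst = instDecidableEqFin _ := Subsingleton.elim _ _
        simp only [hupd]
        rw [← map_smul, ← AlternatingMap.map_update_smul]
        refine mkQ_congr π p _ _ fun j => ?_
        rcases eq_or_ne j i with rfl | hj
        · simp [hs]
        · simp [hj]
      map_eq_zero_of_eq' := fun v i j hv hij => by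
        rw [AlternatingMap.map_eq_zero_of_eq _ _ (by rw [hv]) hij, map_zero] }
  have hcomp : exteriorPower.alternatingMapLinearEquiv Φ ∘ₗ exteriorPower.map (p + 1) π = q := by
    refine exteriorPower.linearMap_ext (AlternatingMap.ext fun v => ?_)
    simp only [LinearMap.compAlternatingMap_apply, LinearMap.comp_apply, exteriorPower.map_apply_ιMulti,
      exteriorPower.alternatingMapLinearEquiv_apply_ιMulti]
    exact mkQ_congr π p _ _ fun j => hs _
  intro x hx
  have := LinearMap.congr_fun hcomp x
  rw [LinearMap.comp_apply, LinearMap.mem_ker.1 hx, map_zero] at this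
  exact (Submodule.Quotient.mk_eq_zero _).1 this.symm

end Groth.Agent.Synt29.ExtKer
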