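import Mathlib
import Groth.Prelude.Def_DeRham2
import Groth.Prelude.Def_DeRham
import Groth.Agent.Synt29.HyperSections
import Groth.Agent.Synt29.DRGen
import Groth.Agent.Synt29.ExtPowPull
import Groth.Agent.Lib.SmoothAdapted
import Groth.Agent.QCoh.Bound

/-! On an affine scheme the de Rham cohomology is computed by the complex of algebraic forms. -/

set_option autoImplicit false
set_option linter.style.haveILetI false
set_option backward.isDefEq.respectTransparency false
set_option backward.isDefEq.respectTransparency.types false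

universe u

open CategoryTheory CategoryTheory.Limits AlgebraicGeometry TopologicalSpace Opposite

namespace Groth.Agent.Synt29.AffineDR

section Ext

variable {A B : Type u} [CommRing A] [CommRing B] {σ : A →+* B} {M : Type u} [AddCommGroup M] [Module A M]
  {N : Type u} [AddCommGroup N] [Module B N] (e : M →ₛₗ[σ] N) (p : ℕ)

theorem exists_extMap :
    ∃ F : ↥(⋀[A]^p M) →ₛₗ[σ] ↥(⋀[B]^p N),
      ∀ v : Fin p → M, F (exteriorPower.ιMulti A p v) = exteriorPower.ιMulti B p (fun i => e (v i)) := by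
  letI : Module A ↥(⋀[B]^p N) := Module.compHom _ σ
  let al : M [⋀^Fin p]→ₗ[A] ↥(⋀[B]^p N) :=
    { toFun := fun v => exteriorPower.ιMulti B p (fun i => e (v i))
      map_update_add' := by
        intro _ v i x y
        have h : ∀ z, (fun j => e (Function.update v i z j)) = Function.update (fun j => e (v j)) i (e z) :=
          fun z => funext fun j => by rcases eq_or_ne j i with rfl | hj <;> simp [*]
        simp only [h, map_add, AlternatingMap.map_update_add]
      map_update_smul' := by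
        intro _ v i c x
        have h : ∀ z, (fun j => e (Function.update v i z j)) = Function.update (fun j => e (v j)) i (e z) :=
          fun z => funext fun j => by rcases eq_or_ne j i with rfl | hj <;> simp [*]
        simp only [h, map_smulₛₗ, AlternatingMap.map_update_smul]
        rfl
      map_eq_zero_of_eq' := fun v i j hv hij =>
        (exteriorPower.ιMulti B p).map_eq_zero_of_eq _ (congrArg e hv) hij }
  let L := exteriorPower.alternatingMapLinearEquiv al
  refine ⟨{ toFun := L, map_add' := map_add L, map_smul' := fun c x => map_smul L c x }, fun v => ?_⟩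
  show L (exteriorPower.ιMulti A p v) = _
  rw [exteriorPower.alternatingMapLinearEquiv_apply_ιMulti]
  rfl

theorem extMap_left_inv {σ' : B →+* A} {e' : N →ₛₗ[σ'] M} (hσ : ∀ a, σ' (σ a) = a) (he : ∀ x, e' (e x) = x)
    (F : ↥(⋀[A]^p M) →ₛₗ[σ] ↥(⋀[B]^p N)) (G : ↥(⋀[B]^p N) →ₛₗ[σ'] ↥(⋀[A]^p M))
    (hF : ∀ v, F (exteriorPower.ιMulti A p v) = exteriorPower.ιMulti B p (fun i => e (v i)))
    (hG : ∀ v, G (exteriorPower.ιMulti B p v) = exteriorPower.ιMulti A p (fun i => e' (v i)))
    (x : ↥(⋀[A]^p M)) : G (F x) = x := by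
  have hx : x ∈ Submodule.span A (Set.range (exteriorPower.ιMulti A p (M := M))) :=
    (exteriorPower.ιMulti_span A p M) ▸ Submodule.mem_top
  induction hx using Submodule.span_induction with
  | mem y hy => obtain ⟨v, rfl⟩ := hy; rw [hF, hG]; simp [he]
  | zero => simp
  | add y z _ _ hy hz => rw [map_add, map_add, hy, hz]
  | smul c y _ hy => rw [map_smulₛₗ, map_smulₛₗ, hy, hσ]

end Ext

theorem isQCoh_term {X S : Scheme.{u}} (f : X ⟶ S) [QuasiSeparated f] (D : DeRhamSh.OmegaCx f) (p : ℕ) :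
    Coh.IsQCoh (D.term p) :=
  ExtPowPull.isQCoh_of_isExtPow (OmegaUniv.isQCoh_omega f) (D.isExtPow p)

section Affine

variable {R A : Type u} [CommRing R] [CommRing A] [Algebra R A]

local notation "sm" => Spec.map (CommRingCat.ofHom (algebraMap R A))
local notation "XA" => Spec (CommRingCat.of A)

/-- Functions on `Spec A`. -/
noncomputable def ψ : A ≃+* Γ(XA, ⊤) := (Scheme.ΓSpecIso (CommRingCat.of A)).symm.commRingCatIsoToRingEquiv

variable (R A)

theorem ψ_algebraMap (r : R) :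
    (sm).appLE ⊤ ⊤ le_top (ψ (A := R) r) = ψ (algebraMap R A r) := by
  have h := congrArg (fun t => t r) (Scheme.ΓSpecIso_inv_naturality (CommRingCat.ofHom (algebraMap R A)))
  refine Eq.trans ?_ h.symm
  simp [Scheme.Hom.appLE, ψ]
  rfl

/-- The algebraic differentials are the global sections of the sheaf of differentials. -/
theorem exists_omega_top [QuasiSeparated sm] :
    ∃ e : Ω[A⁄R] →ₛₗ[(ψ : A ≃+* Γ(XA, ⊤)).toRingHom] Γ(Omega.sheaf sm, ⊤),
      (∀ a, e (KaehlerDifferential.D R A a) = (OmegaSh.dOmega sm).app ⊤ (ψ a)) ∧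
      ∃ e' : Γ(Omega.sheaf sm, ⊤) →ₛₗ[(ψ : A ≃+* Γ(XA, ⊤)).symm.toRingHom] Ω[A⁄R],
        (∀ x, e' (e x) = x) ∧ (∀ y, e (e' y) = y) := by
  letI := ((sm).appLE ⊤ ⊤ le_top).hom.toAlgebra
  let E := SmoothAdapted.secEquiv sm (isAffineOpen_top XA) (isAffineOpen_top (Spec (CommRingCat.of R))) le_top
  have hE : ∀ b, E (KaehlerDifferential.D _ _ b) = (OmegaSh.dOmega sm).app ⊤ b := fun b =>
    SmoothAdapted.secEquiv_D sm (isAffineOpen_top XA) (isAffineOpen_top _) le_top b
  -- forward
  let Ω' := Ω[Γ(XA, ⊤)⁄Γ(Spec (CommRingCat.of R), ⊤)]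
  letI mΩ : Module A Ω' := Module.compHom _ (ψ : A ≃+* Γ(XA, ⊤)).toRingHom
  letI mRΩ : Module R Ω' := Module.compHom _ (algebraMap R A)
  haveI : IsScalarTower R A Ω' := .of_compHom _ _ _
  let δ₁ : Derivation R A Ω' := Derivation.mk'
    { toFun := fun a => KaehlerDifferential.D _ _ (ψ a)
      map_add' := fun a b => by rw [map_add, map_add]
      map_smul' := fun r a => by
        show KaehlerDifferential.D _ _ (ψ (r • a)) = ψ (algebraMap R A r) • KaehlerDifferential.D _ _ (ψ a)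
        rw [Algebra.smul_def, map_mul, Derivation.leibniz, ← ψ_algebraMap R A r]
        rw [show (sm).appLE ⊤ ⊤ le_top (ψ (A := R) r) = algebraMap _ Γ(XA, ⊤) (ψ (A := R) r) from rfl,
          Derivation.map_algebraMap, smul_zero, add_zero] }
    (fun a b => by
      show KaehlerDifferential.D _ _ (ψ (a * b)) =
        ψ a • KaehlerDifferential.D _ _ (ψ b) + ψ b • KaehlerDifferential.D _ _ (ψ a)
      rw [map_mul, Derivation.leibniz])
  let F : Ω[A⁄R] →ₛₗ[(ψ : A ≃+* Γ(XA, ⊤)).toRingHom] Ω' :=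
    { toFun := δ₁.liftKaehlerDifferential
      map_add' := map_add _
      map_smul' := fun c x => δ₁.liftKaehlerDifferential.map_smul c x }
  have hF : ∀ a, F (KaehlerDifferential.D R A a) = KaehlerDifferential.D _ _ (ψ a) :=
    fun a => δ₁.liftKaehlerDifferential_comp_D a
  -- backward
  letI mB : Module Γ(XA, ⊤) Ω[A⁄R] := Module.compHom _ (ψ : A ≃+* Γ(XA, ⊤)).symm.toRingHom
  letI mR' : Module Γ(Spec (CommRingCat.of R), ⊤) Ω[A⁄R] :=
    Module.compHom _ (algebraMap Γ(Spec (CommRingCat.of R), ⊤) Γ(XA, ⊤))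
  haveI : IsScalarTower Γ(Spec (CommRingCat.of R), ⊤) Γ(XA, ⊤) Ω[A⁄R] := .of_compHom _ _ _
  let δ₂ : Derivation Γ(Spec (CommRingCat.of R), ⊤) Γ(XA, ⊤) Ω[A⁄R] := Derivation.mk'
    { toFun := fun b => KaehlerDifferential.D R A (ψ.symm b)
      map_add' := fun a b => by rw [map_add, map_add]
      map_smul' := fun r' b => by
        obtain ⟨r, rfl⟩ := (ψ (A := R)).surjective r'
        show KaehlerDifferential.D R A (ψ.symm (algebraMap _ Γ(XA, ⊤) (ψ (A := R) r) * b)) =
          ψ.symm (algebraMap _ Γ(XA, ⊤) (ψ (A := R) r)) • KaehlerDifferential.D R A (ψ.symm b)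
        rw [show algebraMap _ Γ(XA, ⊤) (ψ (A := R) r) = ψ (algebraMap R A r) from ψ_algebraMap R A r,
          map_mul, Derivation.leibniz, RingEquiv.symm_apply_apply, Derivation.map_algebraMap, smul_zero, add_zero] }
    (fun a b => by
      show KaehlerDifferential.D R A (ψ.symm (a * b)) =
        ψ.symm a • KaehlerDifferential.D R A (ψ.symm b) + ψ.symm b • KaehlerDifferential.D R A (ψ.symm a)
      rw [map_mul, Derivation.leibniz])
  let G : Ω' →ₛₗ[(ψ : A ≃+* Γ(XA, ⊤)).symm.toRingHom] Ω[A⁄R] :=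
    { toFun := δ₂.liftKaehlerDifferential
      map_add' := map_add _
      map_smul' := fun c x => δ₂.liftKaehlerDifferential.map_smul c x }
  have hG : ∀ b, G (KaehlerDifferential.D _ _ b) = KaehlerDifferential.D R A (ψ.symm b) :=
    fun b => δ₂.liftKaehlerDifferential_comp_D b
  have hGF : ∀ x, G (F x) = x := fun x => by
    have hx : x ∈ Submodule.span A (Set.range (KaehlerDifferential.D R A)) :=
      (KaehlerDifferential.span_range_derivation R A) ▸ Submodule.mem_top
    induction hx using Submodule.span_induction with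
    | mem y hy => obtain ⟨a, rfl⟩ := hy; rw [hF, hG, RingEquiv.symm_apply_apply]
    | zero => rw [map_zero, map_zero]
    | add y z _ _ hy hz => rw [map_add, map_add, hy, hz]
    | smul c y _ hy => rw [map_smulₛₗ, map_smulₛₗ, hy]; congr 1; exact RingEquiv.symm_apply_apply ψ c
  have hFG : ∀ x, F (G x) = x := fun x => by
    have hx : x ∈ Submodule.span Γ(XA, ⊤) (Set.range (KaehlerDifferential.D Γ(Spec (CommRingCat.of R), ⊤) Γ(XA, ⊤))) :=
      (KaehlerDifferential.span_range_derivation Γ(Spec (CommRingCat.of R), ⊤) Γ(XA, ⊤)) ▸ Submodule.mem_top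
    induction hx using Submodule.span_induction with
    | mem y hy => obtain ⟨a, rfl⟩ := hy; rw [hG, hF, RingEquiv.apply_symm_apply]
    | zero => rw [map_zero, map_zero]
    | add y z _ _ hy hz => rw [map_add, map_add, hy, hz]
    | smul c y _ hy => rw [map_smulₛₗ, map_smulₛₗ, hy]; congr 1; exact RingEquiv.apply_symm_apply ψ c
  refine ⟨{ toFun := fun x => E (F x), map_add' := fun x y => by rw [map_add, map_add],
            map_smul' := fun c x => by rw [map_smulₛₗ, map_smul] }, fun a => (congrArg E (hF a)).trans (hE _),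
    { toFun := fun y => G (E.symm y), map_add' := fun x y => by rw [map_add, map_add],
      map_smul' := fun c x => by rw [map_smul, map_smulₛₗ] }, fun x => ?_, fun y => ?_⟩
  · show G (E.symm (E (F x))) = x
    rw [E.symm_apply_apply, hGF]
  · show E (F (G (E.symm y))) = y
    rw [hFG, E.apply_symm_apply]

/-- The cycles of a family of additive maps. -/
abbrev forms (p : ℕ) : Type u := ↥(⋀[A]^p Ω[A⁄R])

/-- The comparison of forms with sections of the complex. -/
theorem exists_forms_equiv [QuasiSeparated sm] (D : DeRhamSh.OmegaCx sm) :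
    ∃ Θ : ∀ p : ℕ, forms R A p ≃+ (D.K.X p).obj.obj (op ⊤),
      ∀ (p : ℕ) (b₀ : A) (b : Fin p → A),
        ((D.K.d p (p + 1)).hom.app (op ⊤)).hom (Θ p (DeRham.gen (KaehlerDifferential.D R A) p b₀ b)) =
          Θ (p + 1) (exteriorPower.ιMulti A (p + 1)
            (Fin.cons (KaehlerDifferential.D R A b₀) (fun i => KaehlerDifferential.D R A (b i)))) := by
  obtain ⟨e, he, e', he'e, hee'⟩ := exists_omega_top R A
  choose F hF using fun p => exists_extMap e p
  choose G hG using fun p => exists_extMap e' p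
  let U₀ : (XA).affineOpens := ⟨⊤, isAffineOpen_top _⟩
  let T : ∀ p, forms R A p ≃+ ↥(⋀[Γ(XA, ⊤)]^p Γ(Omega.sheaf sm, ⊤)) := fun p =>
    { toFun := F p, invFun := G p
      left_inv := extMap_left_inv e p (fun a => RingEquiv.symm_apply_apply ψ a) he'e (F p) (G p) (hF p) (hG p)
      right_inv := extMap_left_inv e' p (fun a => RingEquiv.apply_symm_apply ψ a) hee' (G p) (F p) (hG p) (hF p)
      map_add' := map_add (F p) }
  let L : ∀ p, ↥(⋀[Γ(XA, ⊤)]^p Γ(Omega.sheaf sm, ⊤)) ≃+ (D.K.X p).obj.obj (op ⊤) := fun p =>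
    ((D.loc p U₀).symm.toAddEquiv).trans
      ((((sheafToPresheaf _ _).mapIso (D.iso p).symm).app (op ⊤)).addCommGroupIsoToAddEquiv)
  refine ⟨fun p => (T p).trans (L p), fun p b₀ b => ?_⟩
  have h₁ : T p (DeRham.gen (KaehlerDifferential.D R A) p b₀ b) =
      (ψ b₀) • exteriorPower.ιMulti Γ(XA, ⊤) p (fun i => (OmegaSh.dOmega sm).app ⊤ (ψ (b i))) := by
    show F p (b₀ • _) = _
    rw [map_smulₛₗ, hF]
    simp only [he]
    rfl
  have h₂ : T (p + 1) (exteriorPower.ιMulti A (p + 1)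
        (Fin.cons (KaehlerDifferential.D R A b₀) (fun i => KaehlerDifferential.D R A (b i)))) =
      exteriorPower.ιMulti Γ(XA, ⊤) (p + 1)
        (Fin.cons ((OmegaSh.dOmega sm).app ⊤ (ψ b₀)) (fun i => (OmegaSh.dOmega sm).app ⊤ (ψ (b i)))) := by
    show F (p + 1) _ = _
    rw [hF]
    congr 1
    funext i
    refine Fin.cases ?_ (fun j => ?_) i <;> simp [he]
  show _ = L (p + 1) (T (p + 1) _)
  rw [AddEquiv.trans_apply, h₁, h₂]
  exact D.rule p U₀ (ψ b₀) (fun i => ψ (b i))

/-- The de Rham differential read on forms. -/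
theorem exists_affine [QuasiSeparated sm] (D : DeRhamSh.OmegaCx sm)
    [HasDerivedCategory.{u} (Sheaf (Opens.grothendieckTopology ↥XA) AddCommGrpCat.{u})] :
    ∃ d : ∀ p : ℕ, forms R A p →+ forms R A (p + 1),
      (∀ (p : ℕ) (b₀ : A) (b : Fin p → A), d p (DeRham.gen (KaehlerDifferential.D R A) p b₀ b) =
        exteriorPower.ιMulti A (p + 1)
          (Fin.cons (KaehlerDifferential.D R A b₀) (fun i => KaehlerDifferential.D R A (b i)))) ∧
      (∀ p x, d (p + 1) (d p x) = 0) ∧
      ∀ n : ℕ, ∃ Φ : (d n).ker →+ DeRhamSh.HdR D (n : ℤ), Function.Surjective Φ ∧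
        ∀ x, Φ x = 0 ↔ (n = 0 ∧ x.1 = 0) ∨ ∃ m, ∃ h : m + 1 = n, ∃ y : forms R A m, h ▸ d m y = x.1 := by
  obtain ⟨Θ, hΘ⟩ := exists_forms_equiv R A D
  let d : ∀ p : ℕ, forms R A p →+ forms R A (p + 1) := fun p =>
    (Θ (p + 1)).symm.toAddMonoidHom.comp (((D.K.d p (p + 1)).hom.app (op ⊤)).hom.comp (Θ p).toAddMonoidHom)
  have hd : ∀ p x, Θ (p + 1) (d p x) = ((D.K.d p (p + 1)).hom.app (op ⊤)).hom (Θ p x) := fun p x =>
    (Θ (p + 1)).apply_symm_apply _
  refine ⟨d, fun p b₀ b => (Θ (p + 1)).injective ((hd p _).trans (hΘ p b₀ b)), fun p x => (Θ _).injective ?_, fun n => ?_⟩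
  · rw [hd, hd, map_zero]
    exact congrArg (fun t : D.K.X p ⟶ D.K.X (p + 1 + 1) => (t.hom.app (op ⊤)).hom (Θ p x)) (D.K.d_comp_d p (p + 1) (p + 1 + 1))
  haveI : D.KZ.IsStrictlyGE 0 := (CochainComplex.isStrictlyGE_iff _ 0).2 fun i hi =>
    D.K.isZero_extend_X ComplexShape.embeddingUpNat i fun j hj => by simp at hj; omega
  have hac : ∀ i, HyperSections.Acyclic (D.KZ.X i) (⊤ : (XA).Opens) := fun i => by
    by_cases hi : 0 ≤ i
    · obtain ⟨p, rfl⟩ := Int.eq_ofNat_of_zero_le hi
      intro q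
      exact DLim.subsingleton_of_ext_iso
        ((D.K.extendXIso ComplexShape.embeddingUpNat (i := p) rfl ≪≫ D.iso p).symm)
        (QCoh.subsingleton_HU_of_isAffineOpen (isQCoh_term sm D p) (isAffineOpen_top _) q)
    · exact HyperSections.acyclic_of_isZero (D.KZ.isZero_of_isStrictlyGE 0 i (by omega)) _
  obtain ⟨Φ, hΦs, hΦk⟩ := HyperSections.exists_hom D.KZ 0 (⊤ : (XA).Opens) hac (n : ℤ)
  -- sections of the extended complex
  let X' : ∀ p : ℕ, (D.K.X p).obj.obj (op ⊤) ≃+ (D.KZ.X (p : ℤ)).obj.obj (op ⊤) := fun p =>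
    (((sheafToPresheaf _ _).mapIso
      (D.K.extendXIso ComplexShape.embeddingUpNat (i := p) rfl).symm).app (op ⊤)).addCommGroupIsoToAddEquiv
  have hX : ∀ (p : ℕ) (j : ℤ) (hj : (p : ℤ) + 1 = j) x,
      ((D.KZ.d p j).hom.app (op ⊤)).hom (X' p x) =
        (hj ▸ (X' (p + 1) (((D.K.d p (p + 1)).hom.app (op ⊤)).hom x) : (D.KZ.X ((p + 1 : ℕ) : ℤ)).obj.obj (op ⊤))) := by
    intro p j hj x
    subst hj
    have h := D.K.extend_d_eq ComplexShape.embeddingUpNat (i := p) (j := p + 1) (i' := (p : ℤ))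
      (j' := ((p + 1 : ℕ) : ℤ)) rfl rfl
    have h' := congrArg (fun t => (t.hom.app (op ⊤)).hom (X' p x)) h
    refine h'.trans ?_
    show (((D.K.extendXIso _ _).inv).hom.app (op ⊤)).hom (((D.K.d p (p + 1)).hom.app (op ⊤)).hom
      ((((D.K.extendXIso ComplexShape.embeddingUpNat (i := p) (i' := (p : ℤ)) rfl).hom).hom.app (op ⊤)).hom (X' p x))) = _
    rw [show (((D.K.extendXIso ComplexShape.embeddingUpNat (i := p) (i' := (p : ℤ)) rfl).hom).hom.app (op ⊤)).hom (X' p x) = x
      from (X' p).symm_apply_apply x]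
    rfl
  let C : (d n).ker ≃+ HyperSections.cyc D.KZ (⊤ : (XA).Opens) (n : ℤ) :=
    ((Θ n).trans (X' n)).addSubgroupMap (d n).ker |>.trans (AddEquiv.addSubgroupCongr (by
      ext z
      obtain ⟨x, rfl⟩ := ((Θ n).trans (X' n)).surjective z
      refine AddSubgroup.mem_map_equiv.trans ?_
      rw [AddEquiv.symm_apply_apply]
      show d n x = 0 ↔ ((D.KZ.d n ((n : ℤ) + 1)).hom.app (op ⊤)).hom (X' n (Θ n x)) = 0
      rw [hX n _ rfl, ← hd]
      exact ((map_eq_zero_iff _ (X' (n + 1)).injective).trans (map_eq_zero_iff _ (Θ (n + 1)).injective)).symm))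
  refine ⟨Φ.comp C.toAddMonoidHom, hΦs.comp C.surjective, fun x => (hΦk (C x)).trans ?_⟩
  show (∃ y, ((D.KZ.d ((n : ℤ) - 1) n).hom.app (op ⊤)).hom y = X' n (Θ n x.1)) ↔ _
  rcases n with _ | m
  · constructor
    · rintro ⟨y, hy⟩
      haveI := DLim.subsingleton_sections_of_isZero (D.KZ.isZero_of_isStrictlyGE 0 (((0 : ℕ) : ℤ) - 1) (by simp)) (⊤ : (XA).Opens)
      rw [Subsingleton.elim y 0, map_zero] at hy
      exact .inl ⟨rfl, (map_eq_zero_iff _ (Θ 0).injective).1 ((map_eq_zero_iff _ (X' 0).injective).1 hy.symm)⟩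
    · rintro (⟨-, h⟩ | ⟨m, h, -⟩)
      · exact ⟨0, by rw [h, map_zero, map_zero, map_zero]⟩
      · omega
  · have key : ∀ j : ℤ, j = m → ((∃ y, ((D.KZ.d j ((m + 1 : ℕ) : ℤ)).hom.app (op ⊤)).hom y = X' (m + 1) (Θ (m + 1) x.1)) ↔
        ∃ y, d m y = x.1) := by
      rintro j rfl
      constructor
      · rintro ⟨y, hy⟩
        obtain ⟨z, rfl⟩ := ((Θ m).trans (X' m)).surjective y
        refine ⟨z, (Θ (m + 1)).injective ((X' (m + 1)).injective ?_)⟩
        rw [hd, ← hy]
        exact (hX m _ (Nat.cast_succ m).symm (Θ m z)).symm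
      · rintro ⟨z, hz⟩
        refine ⟨X' m (Θ m z), (hX m _ (Nat.cast_succ m).symm (Θ m z)).trans ?_⟩
        rw [← hz, hd]
    rw [key _ (by push_cast; omega)]
    constructor
    · exact fun h => .inr ⟨m, rfl, h⟩
    · rintro (⟨h, -⟩ | ⟨m', h, y, hy⟩)
      · omega
      · obtain rfl : m' = m := by omega
        exact ⟨y, hy⟩

end Affine

end Groth.Agent.Synt29.AffineDR
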