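import Mathlib
import Groth.Prelude.Def_DeRham

/-! The Poincaré lemma for polynomial forms in characteristic zero. -/

set_option autoImplicit false

universe u

namespace Groth.Agent.Synt29.PolyPoincare

open exteriorPower in
theorem poincare (k : Type u) [Field k] [CharZero k] (n : ℕ)
    (d : ∀ p : ℕ, ↥(⋀[MvPolynomial (Fin n) k]^p Ω[MvPolynomial (Fin n) k⁄k]) →+
      ↥(⋀[MvPolynomial (Fin n) k]^(p + 1) Ω[MvPolynomial (Fin n) k⁄k]))
    (hrule : ∀ (p : ℕ) (b₀ : MvPolynomial (Fin n) k) (b : Fin p → MvPolynomial (Fin n) k),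
      d p (DeRham.gen (KaehlerDifferential.D k _) p b₀ b) =
        ιMulti _ (p + 1) (Fin.cons (KaehlerDifferential.D k _ b₀) (fun i => KaehlerDifferential.D k _ (b i))))
    (hdd : ∀ p x, d (p + 1) (d p x) = 0) :
    (∀ (p : ℕ) ω, d (p + 1) ω = 0 → ∃ η, d p η = ω) ∧
      ∀ x, d 0 x = 0 → ∃ a : k, (MvPolynomial.C a : MvPolynomial (Fin n) k) • ιMulti _ 0 (fun i => Fin.elim0 i) = x := by
  classical
  let σ := Fin n
  let A := MvPolynomial (Fin n) k
  let Ω := Ω[A⁄k]
  let δ : Derivation k A Ω := KaehlerDifferential.D k A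
  let b : Module.Basis σ A Ω := KaehlerDifferential.mvPolynomialBasis k σ
  have hb : ∀ i, b i = δ (MvPolynomial.X i) := fun i => KaehlerDifferential.mvPolynomialBasis_apply k σ i
  have hδ : ∀ c : A, δ c = ∑ i, MvPolynomial.pderiv i c • b i := fun c => by
    conv_lhs => rw [← b.sum_repr (δ c)]
    refine Finset.sum_congr rfl fun i _ => ?_
    congr 1
    exact KaehlerDifferential.mvPolynomialBasis_repr_apply k σ c i
  -- contraction with the Euler field
  let φ : Ω →ₗ[A] A := b.constr A (fun i => (MvPolynomial.X i : A))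
  have hφb : ∀ i, φ (b i) = MvPolynomial.X i := fun i => by
    simp only [φ, Module.Basis.constr_basis]
  let ι' : ∀ n, ↥(⋀[A]^(n + 1) Ω) →ₗ[A] ↥(⋀[A]^n Ω) := fun n =>
    exteriorPower.alternatingMapLinearEquiv
      (AlternatingMap.alternatizeUncurryFin (φ.smulRight (exteriorPower.ιMulti A n)))
  have hι : ∀ (n : ℕ) (v : Fin (n + 1) → Ω), ι' n (exteriorPower.ιMulti A (n + 1) v) =
      ∑ i : Fin (n + 1), (-1) ^ (i : ℕ) • (φ (v i) • exteriorPower.ιMulti A n (Fin.removeNth i v)) := by
    intro n v
    simp only [ι', exteriorPower.alternatingMapLinearEquiv_apply_ιMulti,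
      AlternatingMap.alternatizeUncurryFin_apply]
    rfl
  let E : A → A := fun c => φ (δ c)
  have hd' : ∀ (n : ℕ) (c : A) (I : Fin n → σ), d n (c • exteriorPower.ιMulti A n (fun i => b (I i))) =
      exteriorPower.ιMulti A (n + 1) (Fin.cons (δ c) fun i => b (I i)) := by
    intro n c I
    simp only [hb]
    exact hrule n c fun i => MvPolynomial.X (I i)
  -- the Lie derivative is diagonal
  have hL : ∀ (n : ℕ) (I : Fin (n + 1) → σ) (c : A),
      ι' (n + 1) (d (n + 1) (c • exteriorPower.ιMulti A (n + 1) fun i => b (I i))) +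
        d n (ι' n (c • exteriorPower.ιMulti A (n + 1) fun i => b (I i))) =
      (E c + ((n + 1 : ℕ) : A) * c) • exteriorPower.ιMulti A (n + 1) fun i => b (I i) := by
    intro n I c
    set v : Fin (n + 1) → Ω := fun i => b (I i) with hv
    have h1 : ι' (n + 1) (d (n + 1) (c • exteriorPower.ιMulti A (n + 1) v)) =
        E c • exteriorPower.ιMulti A (n + 1) v -
          ∑ i : Fin (n + 1), (-1) ^ (i : ℕ) • (φ (v i) •
            exteriorPower.ιMulti A (n + 1) (Fin.cons (δ c) (Fin.removeNth i v))) := by
      rw [hd' (n + 1) c I, hι, Fin.sum_univ_succ, sub_eq_add_neg, ← Finset.sum_neg_distrib]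
      refine congr_arg₂ (· + ·) ?_ (Finset.sum_congr rfl fun i _ => ?_)
      · simp only [Fin.val_zero, pow_zero, one_smul, Fin.cons_zero, Fin.removeNth_zero, Fin.tail_cons, E]
        rfl
      · simp only [Fin.cons_succ, Fin.val_succ, pow_succ, mul_neg_one, neg_smul]
        congr 4
        funext j
        refine Fin.cases ?_ (fun l => ?_) j
        · simp [Fin.removeNth]
        · simp [Fin.removeNth, Fin.succ_succAbove_succ, hv]
    have h2 : d n (ι' n (c • exteriorPower.ιMulti A (n + 1) v)) =
        ∑ i : Fin (n + 1), (-1) ^ (i : ℕ) • (φ (v i) •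
            exteriorPower.ιMulti A (n + 1) (Fin.cons (δ c) (Fin.removeNth i v))) +
          ((n + 1 : ℕ) : A) • (c • exteriorPower.ιMulti A (n + 1) v) := by
      rw [map_smul, hι, Finset.smul_sum, map_sum,
        show ((n + 1 : ℕ) : A) • (c • exteriorPower.ιMulti A (n + 1) v) =
          ∑ i : Fin (n + 1), c • exteriorPower.ιMulti A (n + 1) v by
            rw [Finset.sum_const, Finset.card_fin, Nat.cast_smul_eq_nsmul],
        ← Finset.sum_add_distrib]
      refine Finset.sum_congr rfl fun i _ => ?_
      have hrem : Fin.removeNth i v = fun j => b (I (i.succAbove j)) := rfl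
      rw [smul_comm c ((-1 : ℤ) ^ (i : ℕ)), map_zsmul, smul_smul, hrem, hd', hv, hφb, Derivation.leibniz]
      have hsplit : ∀ (x y : Ω) (w : Fin n → Ω) (s t : A),
          exteriorPower.ιMulti A (n + 1) (Fin.cons (s • x + t • y) w) =
            s • exteriorPower.ιMulti A (n + 1) (Fin.cons x w) + t • exteriorPower.ιMulti A (n + 1) (Fin.cons y w) := by
        intro x y w s t
        have e : ∀ z, (Fin.cons z w : Fin (n + 1) → Ω) = Function.update (Fin.cons 0 w) 0 z :=
          fun z => (Fin.update_cons_zero ..).symm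
        rw [e, AlternatingMap.map_update_add, AlternatingMap.map_update_smul, AlternatingMap.map_update_smul,
          ← e, ← e]
      rw [hsplit, ← hb (I i), smul_add]
      refine (add_comm _ _).trans ?_
      congr 1
      have hins := (exteriorPower.ιMulti A (n + 1) (M := Ω)).neg_one_pow_smul_map_insertNth i (b (I i))
        (Fin.removeNth i v)
      rw [smul_comm ((-1 : ℤ) ^ (i : ℕ)) c]
      congr 1
      rw [show Fin.insertNth i (b (I i)) (Fin.removeNth i v) = v from Fin.insertNth_self_removeNth i v] at hins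
      rw [show (Fin.cons (b (I i)) fun j => b (I (i.succAbove j)) : Fin (n + 1) → Ω) =
        Matrix.vecCons (b (I i)) (Fin.removeNth i v) from rfl, ← hins, smul_smul, ← pow_add,
        Even.neg_one_pow ⟨(i : ℕ), rfl⟩, one_smul]
    rw [h1, h2, add_smul, mul_smul]
    abel
  -- the scalar part is invertible
  have hE : ∀ (c : A) (m : σ →₀ ℕ), MvPolynomial.coeff m (E c) = ((m.degree : ℕ) : k) * MvPolynomial.coeff m c := by
    intro c m
    induction c using MvPolynomial.induction_on' with
    | monomial s a =>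
      have he : E (MvPolynomial.monomial s a) = ((s.degree : ℕ) : A) * MvPolynomial.monomial s a := by
        show φ (δ _) = _
        rw [show δ (MvPolynomial.monomial s a) = ∑ i, MvPolynomial.pderiv i (MvPolynomial.monomial s a) • b i from
          hδ _, map_sum, Finsupp.degree_eq_sum, Nat.cast_sum, Finset.sum_mul]
        refine Finset.sum_congr rfl fun i _ => ?_
        rw [map_smul, hφb, smul_eq_mul, mul_comm]
        rw [MvPolynomial.X_mul_pderiv_monomial, nsmul_eq_mul]
      rw [he, ← map_natCast (MvPolynomial.C (σ := σ) (R := k)), MvPolynomial.coeff_C_mul, MvPolynomial.coeff_monomial]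
      split_ifs with h
      · subst h; rfl
      · simp
    | add p q hp hq =>
      rw [show E (p + q) = E p + E q by simp [E], MvPolynomial.coeff_add, hp, hq, MvPolynomial.coeff_add, mul_add]
  have hne : ∀ (q : ℕ) (m : σ →₀ ℕ), ((m.degree + (q + 1) : ℕ) : k) ≠ 0 := fun q m =>
    Nat.cast_ne_zero.2 (by omega)
  have hscal : ∀ (q : ℕ) (c : A) (m : σ →₀ ℕ), MvPolynomial.coeff m (E c + ((q + 1 : ℕ) : A) * c) =
      ((m.degree + (q + 1) : ℕ) : k) * MvPolynomial.coeff m c := by
    intro q c m
    rw [MvPolynomial.coeff_add, hE, ← map_natCast (MvPolynomial.C (σ := σ) (R := k)), MvPolynomial.coeff_C_mul,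
      Nat.cast_add m.degree, add_mul]
  let K : ℕ → A → A := fun q c =>
    ∑ m ∈ c.support, MvPolynomial.monomial m (((m.degree + (q + 1) : ℕ) : k)⁻¹ * MvPolynomial.coeff m c)
  have hKc : ∀ q c m, MvPolynomial.coeff m (K q c) = ((m.degree + (q + 1) : ℕ) : k)⁻¹ * MvPolynomial.coeff m c := by
    intro q c m
    show MvPolynomial.coeff m (∑ m' ∈ c.support, MvPolynomial.monomial m' _) = _
    refine (map_sum (MvPolynomial.coeffAddMonoidHom m) _ _).trans ((Finset.sum_eq_single m ?_ ?_).trans ?_)
    · intro x _ hx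
      exact (MvPolynomial.coeff_monomial m x _).trans (if_neg hx)
    · intro h
      exact (MvPolynomial.coeff_monomial m m _).trans
        ((if_pos rfl).trans (by rw [MvPolynomial.notMem_support_iff.1 h, mul_zero]))
    · exact (MvPolynomial.coeff_monomial m m _).trans (if_pos rfl)
  have hK : ∀ (q : ℕ) (c : A), E (K q c) + ((q + 1 : ℕ) : A) * K q c = c := by
    intro q c
    refine MvPolynomial.ext _ _ fun m => ?_
    rw [hscal, hKc, ← mul_assoc, mul_inv_cancel₀ (hne q m), one_mul]
  have hinj : ∀ (q : ℕ) (c : A), E c + ((q + 1 : ℕ) : A) * c = 0 → c = 0 := by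
    intro q c h
    refine MvPolynomial.ext _ _ fun m => ?_
    have := hscal q c m
    rw [h, MvPolynomial.coeff_zero] at this
    rw [MvPolynomial.coeff_zero]
    exact (mul_eq_zero.1 this.symm).resolve_left (hne q m)
  let L : ∀ n, ↥(⋀[A]^(n + 1) Ω) →+ ↥(⋀[A]^(n + 1) Ω) := fun n =>
    (ι' (n + 1)).toAddMonoidHom.comp (d (n + 1)) + (d n).comp (ι' n).toAddMonoidHom
  have hLsum : ∀ (n : ℕ) (f : Set.powersetCard σ (n + 1) → A),
      L n (∑ s, f s • b.exteriorPower (n + 1) s) =
        ∑ s, (E (f s) + ((n + 1 : ℕ) : A) * f s) • b.exteriorPower (n + 1) s := by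
    intro n f
    rw [map_sum]
    refine Finset.sum_congr rfl fun s _ => ?_
    rw [exteriorPower.basis_apply]
    exact hL n _ _
  refine ⟨fun p ω hω => ?_, fun x hx => ?_⟩
  · let η := ∑ s, K p ((b.exteriorPower (p + 1)).repr ω s) • b.exteriorPower (p + 1) s
    have hLη : L p η = ω := by
      rw [hLsum]
      simp only [hK]
      exact (b.exteriorPower (p + 1)).sum_repr ω
    have hdη : d (p + 1) η = 0 := by
      set z := d (p + 1) η with hz
      have h1 : L (p + 1) z = 0 := by
        have h2 := congrArg (d (p + 1)) hLη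
        rw [hω] at h2
        simp only [L, AddMonoidHom.add_apply, AddMonoidHom.comp_apply, LinearMap.toAddMonoidHom_coe, map_add,
          hdd, add_zero] at h2 ⊢
        rw [hz, hdd, map_zero, zero_add]
        exact h2
      rw [← (b.exteriorPower (p + 2)).sum_repr z] at h1 ⊢
      rw [hLsum] at h1
      refine Finset.sum_eq_zero fun s _ => ?_
      rw [hinj (p + 1) _ (Fintype.linearIndependent_iff.1 (b.exteriorPower (p + 2)).linearIndependent _ h1 s),
        zero_smul]
    refine ⟨ι' p η, ?_⟩
    rw [← hLη]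
    simp only [L, AddMonoidHom.add_apply, AddMonoidHom.comp_apply, LinearMap.toAddMonoidHom_coe, hdη, map_zero,
      zero_add]
  · obtain ⟨c, rfl⟩ : ∃ c : A, c • exteriorPower.ιMulti A 0 (fun i => b (Fin.elim0 i)) = x :=
      ⟨exteriorPower.zeroEquiv A Ω x, (exteriorPower.zeroEquiv A Ω).injective (by simp)⟩
    have h := congrArg (ι' 0) hx
    rw [hd' 0 c (fun i => Fin.elim0 i), hι, map_zero, Fin.sum_univ_one] at h
    simp only [Fin.val_zero, pow_zero, one_smul, Fin.cons_zero, Fin.removeNth_zero, Fin.tail_cons] at h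
    have hEc : E c = 0 := by
      have := congrArg (exteriorPower.zeroEquiv A Ω) h
      simpa [E] using this
    refine ⟨MvPolynomial.constantCoeff c, ?_⟩
    congr 1
    · refine MvPolynomial.ext _ _ fun m => ?_
      have := hE c m
      rw [hEc, MvPolynomial.coeff_zero] at this
      rw [MvPolynomial.coeff_C]
      split_ifs with h0
      · subst h0; rfl
      · refine ((mul_eq_zero.1 this.symm).resolve_left (Nat.cast_ne_zero.2 fun hd0 => h0 ?_)).symm
        exact ((Finsupp.degree_eq_zero_iff m).1 hd0).symm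

end Groth.Agent.Synt29.PolyPoincare
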