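import Groth.Agent.Synt29.ExtOne
import Groth.Agent.Lib.PnDualSheafHom
import Groth.Agent.EtMVLib.BigPull
import Groth.Agent.S19675
import Groth.Agent.S13313

/-!
Ext groups are invariant under twisting by an invertible module.
-/

set_option autoImplicit false
set_option linter.style.haveILetI false
set_option linter.unusedSectionVars false
set_option backward.isDefEq.respectTransparency false
set_option backward.isDefEq.respectTransparency.types false
set_option maxHeartbeats 1000000

universe v u w

open CategoryTheory CategoryTheory.Limits AlgebraicGeometry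
open Groth.Agent Groth.Agent.H23.PicMul
open scoped Groth.Agent.H23.PicMul

noncomputable section

namespace Groth.Agent.Synt29.ExtTwist

attribute [local instance] H23.PicMul.clMonoid

section Equivalence

variable {𝒞 : Type u} [Category.{v} 𝒞] [Abelian 𝒞] [HasExt.{w} 𝒞] [EnoughInjectives 𝒞]

/-- A left quasi-inverse gives injectivity on Ext. -/
theorem injective_mapExt (F G : 𝒞 ⥤ 𝒞) [F.Additive] [G.Additive] [PreservesFiniteLimits F]
    [PreservesFiniteColimits F] [PreservesFiniteLimits G] [PreservesFiniteColimits G] (e : 𝟭 𝒞 ≅ F ⋙ G) (A B : 𝒞) (n : ℕ) :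
    Function.Injective (fun α : Abelian.Ext A B n => α.mapExactFunctor F) := fun α β h => by
  haveI : PreservesFiniteLimits (F ⋙ G) := comp_preservesFiniteLimits F G
  haveI : PreservesFiniteColimits (F ⋙ G) := comp_preservesFiniteColimits F G
  have h1 : α.mapExactFunctor (F ⋙ G) = β.mapExactFunctor (F ⋙ G) := by
    rw [EtMVLib.mapExactFunctor_functorComp, EtMVLib.mapExactFunctor_functorComp]
    exact congrArg (fun t => t.mapExactFunctor G) h
  have hα := EtMVLib.mapExactFunctor_natTrans (𝟭 𝒞) (F ⋙ G) e.hom α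
  have hβ := EtMVLib.mapExactFunctor_natTrans (𝟭 𝒞) (F ⋙ G) e.hom β
  rw [EtMVLib.mapExactFunctor_id] at hα hβ
  rw [h1, ← hβ] at hα
  have h2 := congrArg (fun t => t.comp (Abelian.Ext.mk₀ (e.inv.app B)) (add_zero n)) hα
  simpa using h2

/-- An exact equivalence is bijective on Ext. -/
theorem bijective_mapExt (F : 𝒞 ⥤ 𝒞) [F.IsEquivalence] [F.Additive] (A B : 𝒞) (n : ℕ) :
    Function.Bijective (fun α : Abelian.Ext A B n => α.mapExactFunctor F) := by
  haveI : F.asEquivalence.functor.Additive := ‹F.Additive›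
  haveI : F.inv.Additive := inferInstanceAs (F.asEquivalence.inverse).Additive
  have hF := fun A B => injective_mapExt F F.inv F.asEquivalence.unitIso A B n
  have hG := fun A B => injective_mapExt F.inv F F.asEquivalence.counitIso.symm A B n
  refine ⟨hF A B, fun y => ?_⟩
  let e := F.asEquivalence.unitIso
  let x : Abelian.Ext A B n := (Abelian.Ext.mk₀ (e.hom.app A)).comp
    ((y.mapExactFunctor F.inv).comp (Abelian.Ext.mk₀ (e.inv.app B)) (add_zero n)) (zero_add n)
  refine ⟨x, hG _ _ ?_⟩
  haveI : PreservesFiniteLimits (F ⋙ F.inv) := comp_preservesFiniteLimits F F.inv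
  haveI : PreservesFiniteColimits (F ⋙ F.inv) := comp_preservesFiniteColimits F F.inv
  have h := EtMVLib.mapExactFunctor_natTrans (𝟭 𝒞) (F ⋙ F.inv) e.hom x
  rw [EtMVLib.mapExactFunctor_id, EtMVLib.mapExactFunctor_functorComp] at h
  show (x.mapExactFunctor F).mapExactFunctor F.inv = y.mapExactFunctor F.inv
  have h2 := congrArg (fun t => (Abelian.Ext.mk₀ (e.inv.app A)).comp t (zero_add n)) h
  simp only [x] at h2 ⊢
  simp at h2
  exact h2.symm.trans (Abelian.Ext.comp_mk₀_id _)

end Equivalence

variable {k : Type u} [Field k] {X : Scheme.{u}} [X.Over (Spec (CommRingCat.of k))]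

/-- Twisting does not change the dimension of Ext. -/
theorem finrank_ext_twist [HasExt.{u} X.Modules] {L : X.Modules} (hL : PicF.IsInvertible L) (A B : X.Modules) (n : ℕ) :
    Module.finrank k (Abelian.Ext.{u} A B n) =
      Module.finrank k (Abelian.Ext.{u} (CohB1.tensorMod A L) (CohB1.tensorMod B L) n) := by
  haveI : EnoughInjectives X.Modules := inferInstanceAs (EnoughInjectives (SheafOfModules _))
  haveI : ((DCoh.tensorBi (X := X)).obj L).IsEquivalence := H26.IdealCl.isEquivalence_tensor hL
  let F := SheafHomX.ten L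
  haveI : F.IsEquivalence := Functor.isEquivalence_of_iso ((KFlatLib.tensorBiFlipIso X).app L).symm
  haveI : F.Additive := inferInstance
  haveI : F.Linear k := (Functor.linear_iff k F).2 fun M a => by
    rw [KLin.smul_id, SheafHomX.ten_map_smulMod, ← KLin.smul_id]
  exact (LinearEquiv.ofBijective (F.mapExtLinearMap k A B n) (bijective_mapExt F A B n)).finrank_eq

/-- Ext into any invertible module is computed by Serre duality. -/
theorem finrank_ext_line [IsAlgClosed k] [IsProper (X ↘ Spec (CommRingCat.of k))] [IsIntegral X]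
    [Smooth (X ↘ Spec (CommRingCat.of k))] (hdim : topologicalKrullDim X = 2) [HasExt.{u} X.Modules]
    {H : X.Modules} (hH : CohB1.IsAmple H)
    {ω : X.Modules} (hω : Canon.IsTopDiff (X ↘ Spec (CommRingCat.of k)) 2 ω)
    {M N R : X.Modules} (hR : PicF.IsInvertible R) (hMR : PicF.cl M * PicF.cl R = PicF.cl ω)
    (hN : Coh.IsCoh N) {i : ℕ} (hi : i ≤ 2) :
    Module.finrank k (Abelian.Ext.{u} N M i) = Module.finrank k (Coh.HH X (CohB1.tensorMod N R) (2 - i)) := by
  haveI : IsNoetherian X := CurveCohLib.isNoetherian_of_proper (k := k)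
  haveI := CurveFin.smoothOfRelativeDimension_of_dim (f := X ↘ Spec (CommRingCat.of k)) (d := 2) hdim
  obtain ⟨r, ι, hι, hfac⟩ := AmpleEmbed.exists_closedImmersion (X ↘ Spec (CommRingCat.of k)) hH
  haveI := hι
  obtain ⟨e⟩ := cl_eq_iff.1 (show PicF.cl (CohB1.tensorMod M R) = PicF.cl ω by rw [cl_tensor, hMR])
  have hω' : Canon.IsTopDiff (X ↘ Spec (CommRingCat.of k)) 2 (CohB1.tensorMod M R) :=
    S13313.isExtPow_of_iso_right e.symm hω
  obtain ⟨e₁⟩ := S19675.result k 2 r X ι hfac _ hω' (CohB1.tensorMod N R)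
    (ParShLib.isCoh_tensorMod hN (CurveDeg.isCoh_of_isInvertible hR)) i hi
  rw [finrank_ext_twist hR N M i, e₁.finrank_eq]
  exact Subspace.dual_finrank_eq

end Groth.Agent.Synt29.ExtTwist

end
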