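import Groth.Agent.Synt29.SurfRankOne
import Groth.Agent.HilbPoly.Stab
import Groth.Agent.Lib.SurfAdj
import Groth.Agent.Lib.SurfAmple
import Groth.Agent.Lib.CurveAmple
import Groth.Agent.Lib.AVVanish
import Groth.Agent.H26.IdealCl
import Groth.Agent.S19675
import Groth.Agent.Snapper.DimVanish
import Groth.Agent.CurveFin.RelDim

/-!
Rank one subsheaves and Riemann–Roch on a surface with trivial canonical module and Picard group `ℤ`.
-/

set_option autoImplicit false
set_option linter.style.haveILetI false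
set_option linter.unusedSectionVars false
set_option backward.isDefEq.respectTransparency false
set_option backward.isDefEq.respectTransparency.types false
set_option maxHeartbeats 800000

universe u

open CategoryTheory CategoryTheory.Limits AlgebraicGeometry TopologicalSpace Polynomial StabCat
open Groth.Agent Groth.Agent.H23.PicMul Groth.Agent.HilbPoly Groth.Agent.Synt29.SurfRankOne
open scoped Groth.Agent.H23.PicMul

noncomputable section

namespace Groth.Agent.Synt29.K3Ext

attribute [local instance] H23.PicMul.clMonoid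

section Twist

variable {X : Scheme.{u}} {L : X.Modules}

/-- An inverse of a power. -/
theorem exists_inv_pow (hL : PicF.IsInvertible L) (j : ℕ) :
    ∃ M : X.Modules, PicF.IsInvertible M ∧ PicF.cl M * PicF.cl L ^ j = 1 := by
  obtain ⟨D, hD, e⟩ := H23.PicInv.exists_inverse (InvX.isInvertible_tensorPow hL j)
  refine ⟨D, hD, ?_⟩
  rw [mul_comm, ← cl_tensorPow, ← cl_tensor]
  exact cl_eq_iff.2 e

/-- Removing a twist from a morphism out of the structure module. -/
theorem hom_of_section {G M : X.Modules} (hM : PicF.IsInvertible M) {j : ℕ}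
    (hcl : PicF.cl M * PicF.cl L ^ j = 1) (s : Coh.structureModule X ⟶ ShStab.twist X L G j) (hs : s ≠ 0) :
    ∃ t : M ⟶ G, t ≠ 0 := by
  let Φ := DCoh.tensorBi.obj M
  haveI : Φ.IsEquivalence := H26.IdealCl.isEquivalence_tensor hM
  obtain ⟨e₁⟩ := cl_eq_iff.1 (show PicF.cl M = PicF.cl (Φ.obj (Coh.structureModule X)) by
    show _ = PicF.cl (CohB1.tensorMod M (Coh.structureModule X))
    rw [cl_tensor, ← one_def, mul_one])
  obtain ⟨e₂⟩ := cl_eq_iff.1 (show PicF.cl (Φ.obj (ShStab.twist X L G j)) = PicF.cl G by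
    show PicF.cl (CohB1.tensorMod M (CohB1.tensorMod G (CohB1.tensorPow L j))) = _
    rw [cl_tensor, cl_tensor, cl_tensorPow, mul_left_comm, hcl, mul_one])
  refine ⟨e₁.hom ≫ Φ.map s ≫ e₂.hom, fun h => hs (Φ.map_injective ?_)⟩
  rw [Functor.map_zero, ← cancel_epi e₁.hom, ← cancel_mono e₂.hom]
  simpa using h

/-- Removing a twist from a morphism into the structure module. -/
theorem hom_of_cosection {G M : X.Modules} (hM : PicF.IsInvertible M) {j : ℕ}
    (hcl : PicF.cl M * PicF.cl L ^ j = 1) (φ : ShStab.twist X L G j ⟶ Coh.structureModule X) (hφ : φ ≠ 0) :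
    ∃ ψ : G ⟶ M, ψ ≠ 0 := by
  let Φ := DCoh.tensorBi.obj M
  haveI : Φ.IsEquivalence := H26.IdealCl.isEquivalence_tensor hM
  obtain ⟨e₁⟩ := cl_eq_iff.1 (show PicF.cl (Φ.obj (Coh.structureModule X)) = PicF.cl M by
    show PicF.cl (CohB1.tensorMod M (Coh.structureModule X)) = _
    rw [cl_tensor, ← one_def, mul_one])
  obtain ⟨e₂⟩ := cl_eq_iff.1 (show PicF.cl G = PicF.cl (Φ.obj (ShStab.twist X L G j)) by
    show _ = PicF.cl (CohB1.tensorMod M (CohB1.tensorMod G (CohB1.tensorPow L j)))
    rw [cl_tensor, cl_tensor, cl_tensorPow, mul_left_comm, hcl, mul_one])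
  refine ⟨e₂.hom ≫ Φ.map φ ≫ e₁.hom, fun h => hφ (Φ.map_injective ?_)⟩
  rw [Functor.map_zero, ← cancel_epi e₂.hom, ← cancel_mono e₁.hom]
  simpa using h

variable [IsIntegral X] [IsLocallyNoetherian X]

theorem finrank_line {M : X.Modules} (hM : PicF.IsInvertible M) :
    Module.finrank (X.presheaf.stalk (genericPoint X)) (M.presheaf.stalk (genericPoint X)) = 1 :=
  CurveCohLib.genRank_eq (InvEnd.isFinLocFreeOfRank_one hM)

theorem tf_line {M : X.Modules} (hM : PicF.IsInvertible M) : TorSh.IsTorsionFree M :=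
  GenDiff29.isTorsionFree_of_isFinLocFree (H23.PullPush.isFinLocFree_of_isInvertible hM)

/-- A nonzero morphism out of an invertible module into a torsion free one is mono. -/
theorem mono_of_line {M G : X.Modules} (hM : PicF.IsInvertible M) (hG : Coh.IsCoh G)
    (htG : TorSh.IsTorsionFree G) (t : M ⟶ G) (ht : t ≠ 0) : Mono t := by
  letI : Field (X.presheaf.stalk (genericPoint X)) := inferInstanceAs (Field X.functionField)
  obtain ⟨v, hv⟩ : ∃ v, ((DerSch.stalkFunctor X (genericPoint X)).map t).hom v ≠ 0 := by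
    by_contra hc
    push Not at hc
    exact ht (eq_zero_of_stalk_zero hG.1 htG t hc)
  refine mono_of_generic (CurveDeg.isCoh_of_isInvertible hM) hG (tf_line hM) t
    ((injective_iff_map_eq_zero _).2 fun u hu => ?_)
  have hv0 : v ≠ 0 := fun h0 => hv (by rw [h0, map_zero])
  obtain ⟨a, ha⟩ := exists_smul_eq_of_finrank_eq_one (finrank_line hM) hv0 u
  rw [← ha, map_smul, smul_eq_zero] at hu
  rw [← ha, hu.resolve_right hv, zero_smul]

/-- A nonzero morphism into an invertible module is surjective at the generic point. -/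
theorem surjective_into_line {F M : X.Modules} (hM : PicF.IsInvertible M) (t : F ⟶ M) (ht : t ≠ 0) :
    Function.Surjective ((DerSch.stalkFunctor X (genericPoint X)).map t).hom := by
  letI : Field (X.presheaf.stalk (genericPoint X)) := inferInstanceAs (Field X.functionField)
  obtain ⟨v, hv⟩ : ∃ v, ((DerSch.stalkFunctor X (genericPoint X)).map t).hom v ≠ 0 := by
    by_contra hc
    push Not at hc
    exact ht (eq_zero_of_stalk_zero (CurveDeg.isCoh_of_isInvertible hM).1 (tf_line hM) t hc)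
  intro y
  obtain ⟨a, ha⟩ := exists_smul_eq_of_finrank_eq_one (finrank_line hM) hv y
  exact ⟨a • v, by rw [map_smul]; exact ha⟩

end Twist

section Surface

variable {k : Type u} [Field k] {X : Scheme.{u}} [X.Over (Spec (CommRingCat.of k))]
  [IsProper (X ↘ Spec (CommRingCat.of k))] [IsIntegral X] (hdim : topologicalKrullDim X = 2)
  {L : X.Modules} (hL : CohB1.IsAmple L)
  {pO : ℚ[X]} (hpO : ShStab.IsHilbPoly k X L (Coh.structureModule X) pO)

include hdim hL hpO in
theorem coeff_two_pos : 0 < pO.coeff 2 := by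
  obtain ⟨p, hp, -, h⟩ := exists_hilb_O (k := k) hdim hL
  rwa [HilbPoly.isHilbPoly_unique hpO hp]

include hdim hL hpO in
/-- Riemann–Roch with trivial canonical module: the linear coefficient vanishes. -/
theorem coeff_one_eq_zero [Smooth (X ↘ Spec (CommRingCat.of k))]
    (hK : Canon.IsTopDiff (X ↘ Spec (CommRingCat.of k)) 2 (Coh.structureModule X)) : pO.coeff 1 = 0 := by
  haveI : IsNoetherian X := CurveCohLib.isNoetherian_of_proper (k := k)
  let χ₀ : ℚ := Curv2.euler k X (Coh.structureModule X)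
  let p : ℚ := SurfPairing.pair k (PicF.cl L) (PicF.cl L)
  have he : pO = Polynomial.C χ₀ + Polynomial.C (p / 2) * Polynomial.X ^ 2 := by
    refine HilbPoly.poly_ext 0 fun m _ => ?_
    rw [← hpO m, eval_add, eval_mul, eval_C, eval_C, eval_pow, eval_X]
    have hi : PicF.IsInvertible (CohB1.tensorPow L m) := InvX.isInvertible_tensorPow hL.1 m
    have h1 := (HilbPoly.additive_euler k).iso (ShStab.twist X L (Coh.structureModule X) m) (CohB1.tensorPow L m)
      (cl_eq_iff.1 (by
        show PicF.cl (CohB1.tensorMod (Coh.structureModule X) (CohB1.tensorPow L m)) = _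
        rw [cl_tensor, ← one_def, one_mul]))
    rw [h1]
    have h2 := SurfAdj.rr k hdim hK hi
    rw [← one_def, SurfPairing.pair_one, sub_zero, SurfAmple.pair_pow hdim.le hi hL.1 m, SurfPairing.pair_comm,
      SurfAmple.pair_pow hdim.le hL.1 hL.1 m] at h2
    have h3 : (2 : ℚ) * (Curv2.euler k X (CohB1.tensorPow L m) : ℚ) = (m : ℚ) * ((m : ℚ) * p) + 2 * χ₀ := by
      simp only [p, χ₀]
      exact_mod_cast h2
    linarith
  rw [he]
  simp [coeff_C, coeff_X_pow, -map_div₀]

include hdim hL hpO in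
/-- The coefficients of an inverse power of the generator. -/
theorem coeff_inv {M : X.Modules} (hM : PicF.IsInvertible M) {j : ℕ} (hcl : PicF.cl M * PicF.cl L ^ j = 1)
    {pM : ℚ[X]} (hpM : ShStab.IsHilbPoly k X L M pM) :
    pM.coeff 2 = pO.coeff 2 ∧ pM.coeff 1 = pO.coeff 1 - 2 * j * pO.coeff 2 := by
  haveI : IsNoetherian X := CurveCohLib.isNoetherian_of_proper (k := k)
  obtain ⟨hdM, -⟩ := hilb_props hL.1 (CurveDeg.isCoh_of_isInvertible hM) (dim_le hdim _) hpM
  have h1 := hilb_shift (k := k) (L := L) (G := Coh.structureModule X) (j := j) (by rw [hcl]; rfl) hpM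
  obtain ⟨m2, m1⟩ := coeff_comp pM hdM (j : ℚ)
  rw [HilbPoly.isHilbPoly_unique h1 hpO] at m2 m1
  refine ⟨m2.symm, ?_⟩
  rw [← m2] at m1
  linarith

include hdim hL in
/-- A subsheaf with the same leading coefficient is everything at the generic point. -/
theorem surjective_of_coeff_two_eq {A B : X.Modules} (hA : Coh.IsCoh A) (hB : Coh.IsCoh B) (f : A ⟶ B) [Mono f]
    {pA pB : ℚ[X]} (hpA : ShStab.IsHilbPoly k X L A pA) (hpB : ShStab.IsHilbPoly k X L B pB)
    (h : pA.coeff 2 = pB.coeff 2) :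
    Function.Surjective ((DerSch.stalkFunctor X (genericPoint X)).map f).hom := by
  haveI : IsNoetherian X := CurveCohLib.isNoetherian_of_proper (k := k)
  refine surjective_of_notMem f fun hmem => ?_
  obtain ⟨hQ, -, hpQ⟩ := cokernel_data hL hA hB (dim_le hdim _) f hpA hpB
  have h2 := HilbPoly.alpha_pos hL hQ (dim_support_eq hdim hQ hmem) hpQ
  simp [alpha, h] at h2

include k hdim hL in
/-- A nonzero morphism from some inverse power of the generator to a nonzero coherent module. -/
theorem exists_hom_inv {G : X.Modules} (hG : Coh.IsCoh G) (h0 : ¬ IsZero G) :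
    ∃ (j : ℕ) (M : X.Modules) (_ : PicF.IsInvertible M) (_ : PicF.cl M * PicF.cl L ^ j = 1) (t : M ⟶ G), t ≠ 0 := by
  haveI : IsNoetherian X := CurveCohLib.isNoetherian_of_proper (k := k)
  obtain ⟨p, hp, -, -⟩ := HilbPoly.exists_hilb (k := k) hL.1 hG (dim_le hdim _)
  obtain ⟨N, hN⟩ := hilb_eventually_pos hL hG h0 (dim_le hdim _) hp
  obtain ⟨d₀, hd₀⟩ := AmpleVan.exists_vanishing (A := k) hL (M := G) hG
  let j := max N d₀
  have hv : ∀ q, Subsingleton (Coh.HH X (ShStab.twist X L G j) (q + 1)) := hd₀ j (le_max_right _ _)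
  have h1 := hN j (le_max_left _ _)
  rw [← hp j, CurveAmple.euler_eq_h0_of_vanishing hv] at h1
  have h2 : 0 < Module.finrank k (Coh.HH X (ShStab.twist X L G j) 0) := by
    by_contra hc
    rw [Nat.eq_zero_of_not_pos hc] at h1
    simp at h1
  obtain ⟨s, hs⟩ := CurveRR.exists_hom_ne_zero k h2.ne'
  obtain ⟨M, hM, hcl⟩ := exists_inv_pow hL.1 j
  exact ⟨j, M, hM, hcl, hom_of_section hM hcl s hs⟩

include hdim hL hpO in
/-- Torsion free with the leading coefficient of the structure module: rank one. -/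
theorem rank_one {G : X.Modules} (hG : Coh.IsCoh G) (htG : TorSh.IsTorsionFree G) {pG : ℚ[X]}
    (hpG : ShStab.IsHilbPoly k X L G pG) (h2 : pG.coeff 2 = pO.coeff 2) :
    ∃ v : G.presheaf.stalk (genericPoint X),
      Function.Bijective fun a : X.presheaf.stalk (genericPoint X) => a • v := by
  haveI : IsNoetherian X := CurveCohLib.isNoetherian_of_proper (k := k)
  letI : Field (X.presheaf.stalk (genericPoint X)) := inferInstanceAs (Field X.functionField)
  have h0 : ¬ IsZero G := fun hz => by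
    have h := coeff_two_pos hdim hL hpO
    rw [← h2, HilbPoly.isHilbPoly_unique hpG (HilbPoly.hilb_isZero hz)] at h
    simp at h
  obtain ⟨j, M, hM, hcl, t, ht⟩ := exists_hom_inv (k := k) hdim hL hG h0
  haveI := mono_of_line hM hG htG t ht
  have hMc := CurveDeg.isCoh_of_isInvertible hM
  obtain ⟨pM, hpM, -, -⟩ := HilbPoly.exists_hilb (k := k) hL.1 hMc (dim_le hdim _)
  have hsurj := surjective_of_coeff_two_eq hdim hL hMc hG t hpM hpG
    ((coeff_inv hdim hL hpO hM hcl hpM).1.trans h2.symm)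
  have hinj := CurveCohLib.stalk_injective t (genericPoint X)
  haveI : Nontrivial (M.presheaf.stalk (genericPoint X)) :=
    Module.nontrivial_of_finrank_eq_succ (finrank_line hM)
  obtain ⟨v₀, hv₀⟩ := exists_ne (0 : M.presheaf.stalk (genericPoint X))
  refine ⟨((DerSch.stalkFunctor X (genericPoint X)).map t).hom v₀, smul_left_injective _ ?_, fun y => ?_⟩
  · exact fun h => hv₀ (hinj (h.trans (map_zero _).symm))
  · obtain ⟨w, rfl⟩ := hsurj y
    obtain ⟨a, rfl⟩ := exists_smul_eq_of_finrank_eq_one (finrank_line hM) hv₀ w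
    exact ⟨a, (map_smul _ _ _).symm⟩

variable [PicGrp.Law X] (hreg : ∀ x : X, IsRegularLocalRing (X.presheaf.stalk x))
  (hgen : ∀ c : PicLoc.PicSet X, ∃ n : ℤ, c = PicGrp.cls L hL.1 ^ n)

include hdim hL hpO hreg hgen in
/-- The reflexive hull of a torsion free module of rank one. -/
theorem exists_hull {G : X.Modules} (hG : Coh.IsCoh G) (htG : TorSh.IsTorsionFree G) {pG : ℚ[X]}
    (hpG : ShStab.IsHilbPoly k X L G pG) (h2 : pG.coeff 2 = pO.coeff 2) :
    ∃ (W : X.Modules) (_ : PicF.IsInvertible W) (β : G ⟶ W) (_ : Mono β)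
      (_ : topologicalKrullDim ↥(CohB1.support (cokernel β)) ≤ ((0 : ℕ) : WithBot ℕ∞)) (a b : ℕ),
      PicF.cl W * PicF.cl L ^ b = PicF.cl L ^ a ∧
      pG.coeff 1 = pO.coeff 1 + 2 * ((a : ℚ) - b) * pO.coeff 2 := by
  haveI : IsNoetherian X := CurveCohLib.isNoetherian_of_proper (k := k)
  obtain ⟨v, hv⟩ := rank_one hdim hL hpO hG htG hpG h2
  have hfr := hasFrames (normal_of_regular hreg) hG htG hv
  have hW := RefX.isRef1_ddual hG hfr
  have hWi := S16491.result X hreg _ hW.1 hW.2.1 hW.2.2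
  let β : G ⟶ RefHull.ddual G := RefHull.bidualMap G
  have hβ : ∀ x : X, Order.coheight x ≤ 1 → Function.Bijective ((DerSch.stalkFunctor X x).map β).hom :=
    fun x hx => by
      obtain ⟨U, hU, e, he⟩ := hfr x hx
      exact bidual_bijective hG he hU
  haveI hm : Mono β := mono_of_generic hG hW.1 htG β
    (hβ (genericPoint X) (by rw [RefX.coheight_genericPoint]; exact zero_le)).1
  have hβsupp : topologicalKrullDim ↥(CohB1.support (cokernel β)) ≤ ((0 : ℕ) : WithBot ℕ∞) := by
    have hc := QCoh.isCoh_cokernel hG.1 hW.1 β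
    refine dim_le_zero_of_coheight (k := k) hdim (QCoh.isClosed_support_of_isFT hc.1 hc.2) fun x hx => ?_
    by_contra hle
    exact notMem_support_cokernel β (hβ x (not_lt.1 hle)).2 hx
  obtain ⟨pW, hpW, -, -⟩ := HilbPoly.exists_hilb (k := k) hL.1 hW.1 (dim_le hdim _)
  obtain ⟨-, w1⟩ := coeff_eq_of_small hdim hL hG hW.1 β hpG hpW hβsupp
  obtain ⟨i, j, hcl, -, hij⟩ := exists_deg hdim hL hgen hWi hpW hpO
  exact ⟨_, hWi, β, hm, hβsupp, i, j, hcl, w1.trans hij⟩

end Surface

section Stable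

variable {k : Type u} [Field k] {X : Scheme.{u}} [X.Over (Spec (CommRingCat.of k))]
  [IsProper (X ↘ Spec (CommRingCat.of k))] [IsIntegral X] (hdim : topologicalKrullDim X = 2)
  {L : X.Modules} (hL : CohB1.IsAmple L)
  {pO : ℚ[X]} (hpO : ShStab.IsHilbPoly k X L (Coh.structureModule X) pO)
  {V : X.Modules} (hst : ShStab.IsStable k X L V 2) {pV : ℚ[X]} (hpV : ShStab.IsHilbPoly k X L V pV)
  (hrk : pV.coeff 2 = 2 * pO.coeff 2) (hc1 : pV.coeff 1 = pV.coeff 2)

include hdim hL hpO hst hpV hrk hc1 in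
/-- Rank one subsheaves have small degree. -/
theorem slope_le {G : X.Modules} (f : G ⟶ V) [Mono f] (hG : Coh.IsCoh G) {pG : ℚ[X]}
    (hpG : ShStab.IsHilbPoly k X L G pG) (h2 : pG.coeff 2 = pO.coeff 2) : pG.coeff 1 ≤ pO.coeff 2 := by
  have hc := coeff_two_pos hdim hL hpO
  have hμ := (HilbPoly.isMuSemistable_of_isSemistable hL (by norm_num)
    (HilbPoly.isSemistable_of_isStable hst)).2.2.2.2
  have h := hμ G f inferInstance hG pG pV hpG hpV (by simp [alpha, h2]; linarith)
    (by simp [alpha, h2, hrk]; linarith)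
  simp only [hatSlope, alpha, h2, hc1, hrk] at h
  norm_num at h
  rw [div_le_div_iff₀ (by linarith) (by linarith)] at h
  nlinarith

include hdim hL hpO hst hpV hrk hc1 in
/-- No cosections of nonnegative twists. -/
theorem cosection_eq_zero (hp1 : pO.coeff 1 = 0) (j : ℕ) (φ : ShStab.twist X L V j ⟶ Coh.structureModule X) :
    φ = 0 := by
  haveI : IsNoetherian X := CurveCohLib.isNoetherian_of_proper (k := k)
  by_contra hφ
  obtain ⟨M, hM, hcl⟩ := exists_inv_pow hL.1 j
  obtain ⟨ψ, hψ⟩ := hom_of_cosection hM hcl φ hφ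
  have hc := coeff_two_pos hdim hL hpO
  have hMc := CurveDeg.isCoh_of_isInvertible hM
  obtain ⟨pM, hpM, -, -⟩ := HilbPoly.exists_hilb (k := k) hL.1 hMc (dim_le hdim _)
  obtain ⟨m2, m1⟩ := coeff_inv hdim hL hpO hM hcl hpM
  let K := kernel ψ
  have hKc : Coh.IsCoh K := QCoh.isCoh_kernel hst.1 hMc ψ
  let I := Abelian.coimage ψ
  let i : I ⟶ M := Abelian.factorThruCoimage ψ
  have hIc : Coh.IsCoh I := QCoh.isCoh_cokernel hKc.1 hst.1 (kernel.ι ψ)
  obtain ⟨pK, hpK, -, -⟩ := HilbPoly.exists_hilb (k := k) hL.1 hKc (dim_le hdim _)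
  obtain ⟨-, -, hpI⟩ := cokernel_data hL hKc hst.1 (dim_le hdim _) (kernel.ι ψ) hpK hpV
  haveI : Mono i := inferInstanceAs (Mono (Abelian.factorThruCoimage ψ))
  have hi : i ≠ 0 := fun h => hψ (by
    rw [← Abelian.coimage.fac ψ]
    show Abelian.coimage.π ψ ≫ i = 0
    rw [h, Limits.comp_zero])
  have hI2 := coeff_two_eq hdim hL hIc hMc i hpI hpM (notMem_support_cokernel i (surjective_into_line hM i hi))
  have hI1 := coeff_one_le hdim hL hIc hMc i hpI hpM hI2
  rw [coeff_sub] at hI2 hI1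
  have hK2 : pK.coeff 2 = pO.coeff 2 := by linarith
  have hK1 := slope_le hdim hL hpO hst hpV hrk hc1 (kernel.ι ψ) hKc hpK hK2
  have hj : (0 : ℚ) ≤ j := j.cast_nonneg
  nlinarith

include hdim hL hpO hst hpV hrk hc1 in
/-- A nonzero morphism from an inverse power of the generator. -/
theorem exists_hom_of_euler [IsAlgClosed k] [Smooth (X ↘ Spec (CommRingCat.of k))]
    (hproj : ∃ (n : ℕ) (ι : X ⟶ CohB1.ProjSpace n k), IsClosedImmersion ι ∧
      ι ≫ CohB1.ProjSpace.toSpec n k = X ↘ Spec (CommRingCat.of k))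
    (hK : Canon.IsTopDiff (X ↘ Spec (CommRingCat.of k)) 2 (Coh.structureModule X))
    {n : ℕ} (hn : 1 ≤ pV.eval (n : ℚ)) :
    ∃ (M : X.Modules) (_ : PicF.IsInvertible M) (_ : PicF.cl M * PicF.cl L ^ n = 1) (t : M ⟶ V), t ≠ 0 := by
  haveI : IsNoetherian X := CurveCohLib.isNoetherian_of_proper (k := k)
  haveI := CurveFin.smoothOfRelativeDimension_of_dim (f := X ↘ Spec (CommRingCat.of k)) (d := 2) hdim
  haveI : HasExt.{u} X.Modules := IsGrothendieckAbelian.hasExt _
  let W := ShStab.twist X L V n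
  haveI : X.IsSeparated := AmpleX.isSeparated_of_isAmple hL
  have hWc : Coh.IsCoh W := HilbPoly.isCoh_pw hL.1 hst.1 n
  have hp1 := coeff_one_eq_zero hdim hL hpO hK
  obtain ⟨r, ι, hι, hfac⟩ := hproj
  haveI := hι
  obtain ⟨e⟩ := S19675.result k 2 r X ι hfac _ hK W hWc 0 (by norm_num)
  haveI : Subsingleton (Abelian.Ext W (Coh.structureModule X) 0) :=
    haveI : Subsingleton (W ⟶ Coh.structureModule X) := subsingleton_of_forall_eq 0
      (cosection_eq_zero hdim hL hpO hst hpV hrk hc1 hp1 n)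
    Abelian.Ext.addEquiv₀.toEquiv.subsingleton
  haveI : Subsingleton (Module.Dual k (Coh.HH X W 2)) := e.symm.toEquiv.subsingleton
  haveI := CurveCohLib.finite_HH (k := k) hWc 2
  have h2 : Module.finrank k (Coh.HH X W 2) = 0 :=
    Subspace.dual_finrank_eq.symm.trans Module.finrank_zero_of_subsingleton
  have h := hpV n
  rw [CurveCohLib.euler_eq_sum (k := k) (N := 3) fun i hi =>
    Snapper.subsingleton_HH_of_dim_le (d := 2) hdim.le hWc.1 (by omega)] at h
  simp [Finset.sum_range_succ] at h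
  have h0 : Module.finrank k (Coh.HH X W 0) ≠ 0 := fun h0 => by
    rw [h0, h2] at h
    simp at h
    have : (0 : ℚ) ≤ Module.finrank k (Coh.HH X W 1) := Nat.cast_nonneg _
    linarith
  obtain ⟨s, hs⟩ := CurveRR.exists_hom_ne_zero k h0
  obtain ⟨M, hM, hcl⟩ := exists_inv_pow hL.1 n
  exact ⟨M, hM, hcl, hom_of_section hM hcl s hs⟩

end Stable

end Groth.Agent.Synt29.K3Ext

end
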