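import Groth.Agent.Synt29.SerreCore
import Groth.Agent.Synt29.ExtTwist
import Groth.Agent.Synt29.K3Ext
import Groth.Agent.CurveCohLib.SmoothCurve
import Groth.Agent.CurveCohLib.SubBundle

/-!
Rank two bundles from finite subschemes with the Cayley--Bacharach property, twisted.
-/

set_option autoImplicit false
set_option linter.style.haveILetI false
set_option linter.unusedSectionVars false
set_option backward.isDefEq.respectTransparency false
set_option backward.isDefEq.respectTransparency.types false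
set_option maxHeartbeats 1000000

universe u

open CategoryTheory CategoryTheory.Limits AlgebraicGeometry TopologicalSpace
open Groth.Agent Groth.Agent.H23 Groth.Agent.H23.PicMul Groth.Agent.Synt29.SerreIdeal Groth.Agent.Synt29.SerreCover
open Groth.Agent.Synt29.SerreCore
open scoped Groth.Agent.H23.PicMul

attribute [local instance] H23.PicMul.clMonoid

noncomputable section

namespace Groth.Agent.Synt29.SerreMain

variable {X : Scheme.{u}}

theorem existsLF_iso {M M' N N' : X.Modules} (eM : M ≅ M') (eN : N ≅ N') (h : ExistsLF M N) : ExistsLF M' N' := by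
  obtain ⟨F, a, b, w, hS, hF⟩ := h
  refine ⟨F, eM.inv ≫ a, b ≫ eN.hom, by rw [Category.assoc, reassoc_of% w, zero_comp, comp_zero], ?_, hF⟩
  exact ShortComplex.shortExact_of_iso
    (ShortComplex.isoMk (S₁ := ShortComplex.mk a b w) eM (Iso.refl F) eN (by simp) (by simp)) hS

theorem existsLF_twist {R : X.Modules} (hR : PicF.IsInvertible R) {M N : X.Modules} (h : ExistsLF M N) :
    ExistsLF (CohB1.tensorMod M R) (CohB1.tensorMod N R) := by
  obtain ⟨F, a, b, w, hS, hF⟩ := h
  haveI : ((DCoh.tensorBi (X := X)).obj R).IsEquivalence := H26.IdealCl.isEquivalence_tensor hR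
  let T := SheafHomX.ten R
  haveI : T.IsEquivalence := Functor.isEquivalence_of_iso ((KFlatLib.tensorBiFlipIso X).app R).symm
  haveI : T.Additive := inferInstance
  exact ⟨T.obj F, T.map a, T.map b, by rw [← Functor.map_comp, w, Functor.map_zero],
    hS.map_of_exact T, KFlatLib.isFinLocFree_tensor hF (H23.PullPush.isFinLocFree_of_isInvertible hR)⟩

theorem existsLF_twist_iff {R : X.Modules} (hR : PicF.IsInvertible R) {M N M' N' : X.Modules}
    (hM : PicF.cl M * PicF.cl R = PicF.cl M') (hN : PicF.cl N * PicF.cl R = PicF.cl N') :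
    ExistsLF M N ↔ ExistsLF M' N' := by
  obtain ⟨eM⟩ := cl_eq_iff.1 (show PicF.cl (CohB1.tensorMod M R) = PicF.cl M' by rw [cl_tensor, hM])
  obtain ⟨eN⟩ := cl_eq_iff.1 (show PicF.cl (CohB1.tensorMod N R) = PicF.cl N' by rw [cl_tensor, hN])
  refine ⟨fun h => existsLF_iso eM eN (existsLF_twist hR h), fun h => ?_⟩
  obtain ⟨S, hS, e⟩ := H23.PicInv.exists_inverse hR
  have hRS : PicF.cl R * PicF.cl S = 1 := cl_eq_iff.2 e
  obtain ⟨fM⟩ := cl_eq_iff.1 (show PicF.cl (CohB1.tensorMod M' S) = PicF.cl M by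
    rw [cl_tensor, ← hM, mul_assoc, hRS, mul_one])
  obtain ⟨fN⟩ := cl_eq_iff.1 (show PicF.cl (CohB1.tensorMod N' S) = PicF.cl N by
    rw [cl_tensor, ← hN, mul_assoc, hRS, mul_one])
  exact existsLF_iso fM fN (existsLF_twist hS h)

theorem isClosed_erase [DecidableEq X] (Z : Finset X) (hZ : ∀ z ∈ Z, IsClosed ({z} : Set X)) (z : X) :
    IsClosed ((Z.erase z : Finset X) : Set X) := by
  rw [← Set.biUnion_of_singleton ((Z.erase z : Finset X) : Set X)]
  exact (Z.erase z).finite_toSet.isClosed_biUnion fun y hy => hZ y (Finset.mem_of_mem_erase hy)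

theorem sI_vanishing_notMem {Z : Set X} (hZc : IsClosed Z) {y : X} (hy : y ∉ Z) :
    StalkIdeal.sI (Scheme.IdealSheafData.vanishingIdeal ⟨Z, hZc⟩) y = ⊤ := not_not.1 fun h => hy (by
  have := mem_support_iff.2 h
  rwa [Scheme.IdealSheafData.coe_support_vanishingIdeal] at this)

/-- The covers of a reduced finite subscheme remove one point. -/
theorem covBy_vanishing_iff [DecidableEq X] (Z : Finset X) (hZc : IsClosed (Z : Set X))
    (hZ : ∀ z ∈ Z, IsClosed ({z} : Set X)) {I' : X.IdealSheafData} :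
    Scheme.IdealSheafData.vanishingIdeal ⟨(Z : Set X), hZc⟩ ⋖ I' ↔ ∃ z ∈ Z,
      I' = Scheme.IdealSheafData.vanishingIdeal ⟨((Z.erase z : Finset X) : Set X), isClosed_erase Z hZ z⟩ := by
  have key : ∀ z ∈ Z, Scheme.IdealSheafData.vanishingIdeal ⟨(Z : Set X), hZc⟩ ⋖
      Scheme.IdealSheafData.vanishingIdeal ⟨((Z.erase z : Finset X) : Set X), isClosed_erase Z hZ z⟩ := by
    intro z hz
    have hne : ∀ y, y ≠ z → StalkIdeal.sI (Scheme.IdealSheafData.vanishingIdeal
        ⟨((Z.erase z : Finset X) : Set X), isClosed_erase Z hZ z⟩) y =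
        StalkIdeal.sI (Scheme.IdealSheafData.vanishingIdeal ⟨(Z : Set X), hZc⟩) y := fun y hy => by
      by_cases hyZ : y ∈ Z
      · rw [SerreSocle.sI_vanishing Z hZc hZ hyZ, SerreSocle.sI_vanishing (Z.erase z) _
          (fun w hw => hZ w (Finset.mem_of_mem_erase hw)) (Finset.mem_erase.2 ⟨hy, hyZ⟩)]
      · rw [sI_vanishing_notMem _ hyZ, sI_vanishing_notMem _ fun h => hyZ (Finset.mem_of_mem_erase h)]
    have hz' : StalkIdeal.sI (Scheme.IdealSheafData.vanishingIdeal
        ⟨((Z.erase z : Finset X) : Set X), isClosed_erase Z hZ z⟩) z =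
        StalkIdeal.sI (Scheme.IdealSheafData.vanishingIdeal ⟨(Z : Set X), hZc⟩) z ⊔ Ideal.span {1} := by
      rw [sI_vanishing_notMem _ (Finset.notMem_erase z Z), Ideal.span_singleton_one, sup_top_eq]
    refine covBy_enlarge (le_iff_sI.2 fun y => ?_) (SerreSocle.isSocleGen_vanishing Z hZc hZ hz) hz' hne
    by_cases hy : y = z
    · subst hy; rw [hz']; exact le_sup_left
    · rw [hne y hy]
  refine ⟨fun h => ?_, fun ⟨z, hz, e⟩ => e ▸ key z hz⟩
  obtain ⟨z, hz, hlt⟩ := exists_lt h.1
  rw [Scheme.IdealSheafData.coe_support_vanishingIdeal] at hz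
  refine ⟨z, hz, (eq_of_le_of_not_lt (le_iff_sI.2 fun y => ?_) fun h' => h.2 (key z hz).1 h').symm⟩
  by_cases hy : y = z
  · subst hy
    rw [sI_vanishing_notMem _ (Finset.notMem_erase y Z)]
    rw [SerreSocle.sI_vanishing Z hZc hZ hz] at hlt
    rw [(IsLocalRing.maximalIdeal.isMaximal _).out.2 _ hlt]
  · refine le_trans (le_of_eq ?_) (le_iff_sI.1 h.le y)
    by_cases hyZ : y ∈ Z
    · rw [SerreSocle.sI_vanishing Z hZc hZ hyZ, SerreSocle.sI_vanishing (Z.erase z) _
        (fun w hw => hZ w (Finset.mem_of_mem_erase hw)) (Finset.mem_erase.2 ⟨hy, hyZ⟩)]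
    · rw [sI_vanishing_notMem _ hyZ, sI_vanishing_notMem _ fun h' => hyZ (Finset.mem_of_mem_erase h')]

variable {k : Type u} [Field k] [X.Over (Spec (CommRingCat.of k))] [IsProper (X ↘ Spec (CommRingCat.of k))]
  [IsIntegral X]

include k in
/-- Locally free extensions of a rank one sheaf by a line bundle have rank two. -/
theorem rank_two {M Λ N : X.Modules} (hM : PicF.IsInvertible M) (hΛ : PicF.IsInvertible Λ) {ι : N ⟶ Λ} [Mono ι]
    {I : X.IdealSheafData} (hι : IsTwist I ι) (hη : genericPoint X ∉ (I.support : Set X))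
    {F : X.Modules} {a : M ⟶ F} {b : F ⟶ N} {w : a ≫ b = 0} (hS : (ShortComplex.mk a b w).ShortExact)
    (hF : FlatMod.IsFinLocFree F) : FlatMod.IsFinLocFreeOfRank 2 F := by
  haveI : IsNoetherian X := CurveCohLib.isNoetherian_of_proper (k := k)
  have h := CurveCohLib.genRank_add hS (CurveDeg.isCoh_of_isFinLocFree hF)
  have hN : CurveCohLib.genRank N = 1 := by
    refine Eq.trans ?_ (CurveCohLib.genRank_eq (InvEnd.isFinLocFreeOfRank_one hΛ))
    refine (LinearEquiv.ofBijective ((DerSch.stalkFunctor X (genericPoint X)).map ι).hom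
      ⟨CurveCohLib.stalk_injective ι _, LinearMap.range_eq_top.1 ?_⟩).finrank_eq
    rw [hι, show StalkIdeal.sI I (genericPoint X) = ⊤ from not_not.1 fun hh => hη (mem_support_iff.2 hh),
      Submodule.top_smul]
  rw [CurveCohLib.genRank_eq (InvEnd.isFinLocFreeOfRank_one hM), hN] at h
  have h2 := CurveCohLib.isFinLocFreeOfRank_genRank hF
  rwa [h] at h2

variable [IsAlgClosed k] [Smooth (X ↘ Spec (CommRingCat.of k))] (hdim : topologicalKrullDim X = 2)
  {H : X.Modules} (hH : CohB1.IsAmple H) {ω : X.Modules} (hω : Canon.IsTopDiff (X ↘ Spec (CommRingCat.of k)) 2 ω)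

include k hdim in
theorem generic_notMem_support {I : X.IdealSheafData} (hfin : (I.support : Set X).Finite) :
    genericPoint X ∉ (I.support : Set X) := fun h => by
  haveI : IsNoetherian X := CurveCohLib.isNoetherian_of_proper (k := k)
  haveI : JacobsonSpace X := LocallyOfFiniteType.jacobsonSpace (X ↘ Spec (CommRingCat.of k))
  have h1 := SurfRankOne.one_lt_coheight_of_isClosed (k := k) hdim (SerreCover.isClosed_of_finite hfin h)
  rw [RefX.coheight_genericPoint] at h1
  exact absurd h1 (not_lt.2 zero_le)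

include hdim hH hω in
/-- The correspondence. -/
theorem serre_iff {U R L Λ : X.Modules} (hU : PicF.IsInvertible U) (hR : PicF.IsInvertible R)
    (hUR : PicF.cl U * PicF.cl R = PicF.cl ω) (hL : PicF.IsInvertible L) (hΛ : PicF.IsInvertible Λ)
    (hΛc : PicF.cl L * PicF.cl R = PicF.cl Λ) (I : X.IdealSheafData) (hfin : (I.support : Set X).Finite)
    (hsoc : ∀ z ∈ (I.support : Set X), ∃ s, IsSocleGen I z s) :
    (∃ (E : X.Modules) (i : U ⟶ E) (p : E ⟶ CohB1.tensorMod L (ClSub.idealMod I)) (w : i ≫ p = 0),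
        FlatMod.IsFinLocFreeOfRank 2 E ∧ (ShortComplex.mk i p w).ShortExact) ↔
      ∀ I', I ⋖ I' → ∀ σ : Coh.structureModule X ⟶ Λ,
        PicF2.zeroScheme Λ σ ≤ I' → PicF2.zeroScheme Λ σ ≤ I := by
  haveI : IsNoetherian X := CurveCohLib.isNoetherian_of_proper (k := k)
  haveI : HasExt.{u} X.Modules := IsGrothendieckAbelian.hasExt _
  have hη := generic_notMem_support (k := k) hdim hfin
  obtain ⟨hNc, hmono, htw⟩ := tw_facts (k := k) hΛ I
  haveI := hmono
  rw [← existsLF_dualizing_iff hdim hH hω hΛ hNc hfin htw hsoc,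
    ← existsLF_twist_iff (M := U) (N := CohB1.tensorMod L (ClSub.idealMod I)) hR hUR (by
      show _ = PicF.cl (CohB1.tensorMod Λ (ClSub.idealMod I))
      rw [cl_tensor, cl_tensor, ← hΛc]
      exact mul_right_comm _ _ _)]
  refine ⟨fun ⟨E, i, p, w, hE, hS⟩ => ⟨E, i, p, w, hS, H28.KvbModel.lf_of_rank hE⟩, ?_⟩
  rintro ⟨E, i, p, w, hS, hE⟩
  obtain ⟨-, hmonoL, htwL⟩ := tw_facts (k := k) hL I
  haveI : Mono (DivisorExt.mulIdeal I L) := hmonoL
  exact ⟨E, i, p, w, rank_two (k := k) hU hL (ι := DivisorExt.mulIdeal I L) htwL hη hS hE, hS⟩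

end Groth.Agent.Synt29.SerreMain

end
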