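import Groth.Agent.Pic13Lib.HypSeq
import Groth.Agent.Synt29.SerreMain
import Groth.Agent.Synt29.PnBott
import Groth.Agent.Synt29.SurfRankOne
import Groth.Agent.Synt29.LMHom
import Groth.Agent.Lib.SurfCone
import Groth.Agent.Lib.SurfAdj
import Groth.Agent.CurveDual.Dual

/-!
First cohomology of the multiples of a very ample anticanonical class on a regular surface
-/

set_option autoImplicit false
set_option linter.style.haveILetI false
set_option linter.unusedSectionVars false
set_option backward.isDefEq.respectTransparency false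
set_option backward.isDefEq.respectTransparency.types false
set_option maxHeartbeats 1000000

universe u

open CategoryTheory CategoryTheory.Limits AlgebraicGeometry TopologicalSpace Opposite
open Groth.Agent Groth.Agent.H23 Groth.Agent.H23.PicMul Groth.Agent.Pic13Lib

attribute [local instance] H23.PicMul.clMonoid

noncomputable section

namespace Groth.Agent.Synt29.AntiCanonical

variable {k : Type u} [Field k] [IsAlgClosed k] {X : Scheme.{u}} [X.Over (Spec (CommRingCat.of k))]
  [IsProper (X ↘ Spec (CommRingCat.of k))] [Smooth (X ↘ Spec (CommRingCat.of k))] [IsIntegral X]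

omit [IsAlgClosed k] [IsProper (X ↘ Spec (CommRingCat.of k))] [Smooth (X ↘ Spec (CommRingCat.of k))] [IsIntegral X] in
theorem finrank_of_cl {M N : X.Modules} (h : PicF.cl M = PicF.cl N) (q : ℕ) :
    Module.finrank k (Coh.HH X M q) = Module.finrank k (Coh.HH X N q) :=
  (CurveCohLib.hhEquiv (k := k) (cl_eq_iff.1 h).some q).finrank_eq

omit [IsAlgClosed k] [IsProper (X ↘ Spec (CommRingCat.of k))] [Smooth (X ↘ Spec (CommRingCat.of k))] [IsIntegral X] in
theorem euler_of_cl {M N : X.Modules} (h : PicF.cl M = PicF.cl N) :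
    Curv2.euler k X M = Curv2.euler k X N :=
  CurveCohLib.euler_congr (k := k) (cl_eq_iff.1 h).some

variable (hdim : topologicalKrullDim X = 2) {H : X.Modules} (hH : CohB1.IsAmple H)
  {ω : X.Modules} (hω : Canon.IsTopDiff (X ↘ Spec (CommRingCat.of k)) 2 ω)

include hdim hH hω in
/-- Serre duality for line bundles in degree one. -/
theorem h1_dual {A B : X.Modules} (hA : PicF.IsInvertible A) (h : PicF.cl A * PicF.cl B = PicF.cl ω) :
    Module.finrank k (Coh.HH X A 1) = Module.finrank k (Coh.HH X B 1) := by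
  haveI : IsNoetherian X := CurveCohLib.isNoetherian_of_proper (k := k)
  haveI : HasExt.{u} X.Modules := IsGrothendieckAbelian.hasExt _
  have hF := H23.PullPush.isFinLocFree_of_isInvertible hA
  obtain ⟨e⟩ := PnDual.nonempty_ext_linearEquiv_HH (A := k) hF ω 1
  obtain ⟨t⟩ := LMHom.nonempty_tensor_dual hF ω
  obtain ⟨t₀⟩ := LMHom.nonempty_tensor_dual hF (Coh.structureModule X)
  have hd : PicF.cl (RefHull.dual A) * PicF.cl A = 1 := by
    rw [← LMHom.cl_hom_unit hA, cl_eq_iff.2 ⟨t₀⟩, cl_tensor, ← H23.PicMul.one_def, mul_one]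
  have hx := (SerreCore.finrank_ext (k := k) hdim hH hω (CurveDeg.isCoh_of_isInvertible hA) (i := 1) one_le_two).2
  rw [show (2 - 1 : ℕ) = 1 from rfl] at hx
  rw [← hx, e.finrank_eq]
  refine finrank_of_cl ?_ 1
  rw [cl_eq_iff.2 ⟨t⟩, cl_tensor, ← h, ← mul_assoc, hd, one_mul]

variable {N : ℕ} (ι : X ⟶ CohB1.ProjSpace N k) [IsClosedImmersion ι]

/-- The twists on the surface. -/
@[irreducible] def pt (j : ℤ) : X.Modules := (Scheme.Modules.pullback ι).obj (Twist.twistProjSpace N k j)

theorem cl_pt (j : ℤ) : PicF.cl (pt ι j) = tw ι j := by unfold pt; rfl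

theorem isInvertible_pt (j : ℤ) : PicF.IsInvertible (pt ι j) := by unfold pt; exact isInvertible_tw ι j

include hdim hω in
/-- No first cohomology of the negative twists. -/
theorem h1_neg (hωι : PicF.cl ω = tw ι (-1)) (hG : CohB1.IsAmple ((Scheme.Modules.pullback ι).obj (Twist.twistProjSpace N k 1)))
    (hq : Module.finrank k (Coh.HH X (Coh.structureModule X) 1) = 0) (m : ℕ) :
    Module.finrank k (Coh.HH X ((Scheme.Modules.pullback ι).obj (Twist.twistProjSpace N k (-(m : ℤ)))) 1) = 0 := by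
  classical
  haveI : IsNoetherian X := CurveCohLib.isNoetherian_of_proper (k := k)
  haveI : Infinite k := IsAlgClosed.instInfinite
  refine (finrank_of_cl (N := pt ι (-(m : ℤ))) ((tw_eq ι _).symm.trans (cl_pt ι _).symm) 1).trans ?_
  have hG' : CohB1.IsAmple (pt ι 1) :=
    AmpleX.isAmple_of_iso (cl_eq_iff.1 (cl_pt ι 1).symm).some hG
  have hO : ∀ j, PicF.IsInvertible (pt ι j) := isInvertible_pt ι
  have hS1 : PicF.IsInvertible (Coh.structureModule X) := H23.InvStalk.isInvertible_structureModule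
  have h0 : PicF.cl (pt ι 0) = 1 := (cl_pt ι 0).trans (tw_zero ι)
  have hbase : Module.finrank k (Coh.HH X (pt ι (-1)) 1) = 0 := by
    rw [← hq]
    refine (h1_dual (k := k) hdim hG hω (hO (-1)) (B := Coh.structureModule X) ?_).trans rfl
    rw [← H23.PicMul.one_def, mul_one, hωι, cl_pt]
  -- the hyperplane section and its restriction
  obtain ⟨C, hC, -, hCs⟩ := exists_hyp ι (F := Coh.structureModule X) QCoh.isCoh_structureModule'
  obtain ⟨Z, hZ, -, hZs⟩ := exists_hyp ι (F := C) hC
  obtain ⟨S₀, hS₀, h₀1, h₀2, h₀3, c₀1, c₀2, c₀3⟩ := hCs _ hS1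
  rw [← H23.PicMul.one_def, one_mul, mul_one, ← cl_pt] at c₀1
  rw [← H23.PicMul.one_def, one_mul] at c₀2
  rw [← H23.PicMul.one_def, mul_one] at c₀3
  obtain ⟨T, hT, hT1, hT2, hT3, d1, d2, d3⟩ := hZs _ hS1
  rw [← H23.PicMul.one_def, mul_one] at d1 d2 d3
  haveI := CurveCohLib.finite_HH (k := k) h₀2 0
  haveI := CurveCohLib.finite_HH (k := k) hT2 0
  haveI := CurveCohLib.finite_HH (k := k) hT1 0
  -- at most the constants on the section
  have hle : Module.finrank k (Coh.HH X T.X₂ 0) ≤ 1 := by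
    rw [finrank_of_cl (d2.trans c₀3.symm)]
    have h := PnBott.finrank_ses k hS₀ 0 (fun r hr => absurd hr (Nat.succ_ne_zero r)) (by
      haveI := CurveCohLib.finite_HH (k := k) h₀1 1
      refine (Module.finrank_zero_iff (R := k) (M := Coh.HH X S₀.X₁ 1)).1 ?_
      rw [finrank_of_cl (N := pt ι (-1)) c₀1, hbase])
    rw [finrank_of_cl (N := Coh.structureModule X) c₀2, SurfAdj.finrank_h0] at h
    omega
  -- no sections on the section twisted down once
  have hK1 : Module.finrank k (Coh.HH X T.X₁ 0) = 0 := by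
    by_contra hne
    haveI := hT.mono_f
    haveI := hT.epi_g
    haveI : Module.Finite k (Coh.structureModule X ⟶ T.X₂) := Module.Finite.equiv (CurveDual.homH0 T.X₂).symm
    obtain ⟨v, hv⟩ : ∃ v : Coh.HH X T.X₁ 0, v ≠ 0 := by
      by_contra! hall
      haveI : Subsingleton (Coh.HH X T.X₁ 0) := subsingleton_of_forall_eq 0 hall
      exact hne Module.finrank_zero_of_subsingleton
    let σ := (CurveDual.homH0 (k := k) T.X₁).symm v
    have hσ : σ ≫ T.f ≠ 0 := fun h => hv (by
      rw [← (CurveDual.homH0 (k := k) T.X₁).apply_symm_apply v]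
      show CurveDual.homH0 (k := k) T.X₁ σ = 0
      rw [(cancel_mono T.f).1 (h.trans zero_comp.symm), map_zero])
    haveI := hS₀.epi_g
    let p : Coh.structureModule X ⟶ T.X₂ := (cl_eq_iff.1 (c₀2.trans H23.PicMul.one_def)).some.inv ≫ S₀.g ≫
      (cl_eq_iff.1 (c₀3.trans d2.symm)).some.hom
    haveI : Epi p := inferInstance
    have h1 : Module.finrank k (Coh.structureModule X ⟶ T.X₂) = 1 := by
      have hle' : Module.finrank k (Coh.structureModule X ⟶ T.X₂) ≤ 1 :=
        (CurveDual.homH0 (k := k) T.X₂).finrank_eq.trans_le hle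
      refine le_antisymm hle' (Nat.one_le_iff_ne_zero.2 fun h => hσ ?_)
      haveI := Module.finrank_zero_iff.1 h
      exact Subsingleton.elim _ _
    obtain ⟨c, hc⟩ := exists_smul_eq_of_finrank_eq_one h1 hσ p
    have hpg : p ≫ T.g = 0 := by
      rw [← hc, Linear.smul_comp, Category.assoc, T.zero, comp_zero, smul_zero]
    have hg0 : T.g = 0 := zero_of_epi_comp p hpg
    have hZ0 : IsZero T.X₃ := IsZero.of_epi_eq_zero T.g hg0
    haveI : Mono T.f := hT.mono_f
    haveI : Epi T.f := hT.exact.epi_f hg0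
    haveI : IsIso T.f := isIso_of_mono_of_epi T.f
    have hχ := CurveCohLib.euler_congr (k := k) (asIso T.f)
    obtain ⟨S₁, hS₁, h₁1, h₁2, h₁3, c₁1, c₁2, c₁3⟩ := hCs _ (hO (-1))
    rw [← H23.PicMul.one_def, one_mul] at c₁1 c₁2
    have e₀ := CurveCohLib.euler_additive (k := k) hS₀ h₀1 h₀2 h₀3
    have e₁ := CurveCohLib.euler_additive (k := k) hS₁ h₁1 h₁2 h₁3
    rw [euler_of_cl (N := pt ι (-1)) c₀1, euler_of_cl (N := Coh.structureModule X) c₀2,
      euler_of_cl (N := T.X₂) (c₀3.trans d2.symm)] at e₀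
    rw [euler_of_cl (N := pt ι (-2)) (c₁1.trans (by
        simp only [cl_pt]
        rw [← tw_add]; norm_num)), euler_of_cl (N := pt ι (-1)) c₁2,
      euler_of_cl (N := T.X₁) (c₁3.trans (by rw [d1, cl_pt]))] at e₁
    haveI : PicGrp.Law X := H23.PicMul.law X
    have hp := SurfCone.pair_self_pos (k := k) hdim hG'
    have h2 := SurfPairing.pair_inv k hdim.le (hO (-1)) (hO 1) (hO (-1)) (by
      simp only [cl_pt]
      rw [← tw_add, add_neg_cancel, tw_zero])
    have h3 := SurfPairing.pair_inv k hdim.le (hO 1) (hO 1) (hO (-1)) (by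
      simp only [cl_pt]
      rw [← tw_add, add_neg_cancel, tw_zero])
    rw [SurfPairing.pair_comm k (PicF.cl (pt ι (-1))) (PicF.cl (pt ι 1)), h3, neg_neg] at h2
    simp only [SurfPairing.pair, SurfPairing.χ_one, SurfPairing.χ_cl,
      show PicF.cl (pt ι (-1)) * PicF.cl (pt ι (-1)) = PicF.cl (pt ι (-2)) from by
        simp only [cl_pt]
        rw [← tw_add]; norm_num] at h2 hp
    linarith
  -- no sections on any negative twist of the section
  have hK : ∀ (j : ℕ) (M : X.Modules), PicF.cl M = PicF.cl C * tw ι (-((j : ℤ) + 1)) →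
      Subsingleton (Coh.HH X M 0) := by
    intro j
    induction j with
    | zero =>
      intro M hM
      haveI : Subsingleton (Coh.HH X T.X₁ 0) := Module.finrank_zero_iff.1 hK1
      exact (CurveCohLib.hhEquiv (k := k) (cl_eq_iff.1 (hM.trans (by simpa using d1.symm))).some 0).toEquiv.subsingleton (β := Coh.HH X T.X₁ 0)
    | succ j ih =>
      intro M hM
      obtain ⟨U, hU, -, -, -, u1, u2, -⟩ := hZs _ (hO (-((j : ℤ) + 1)))
      haveI := ih U.X₂ (u2.trans (by rw [cl_pt]))
      haveI : Subsingleton (Coh.HH X U.X₁ 0) :=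
        Function.Injective.subsingleton (f := Groth.Agent.PnCoh.Finite.mapLin k U.f 0)
          (LinearMap.ker_eq_bot.1 (Groth.Agent.Euler.ker_mapLin_f_zero k hU))
      refine (CurveCohLib.hhEquiv (k := k) (cl_eq_iff.1 (hM.trans ?_)).some 0).toEquiv.subsingleton (β := Coh.HH X U.X₁ 0)
      rw [u1, cl_pt, mul_assoc, ← tw_add]
      congr 2
      push_cast; ring
  -- induction
  induction m with
  | zero =>
    refine ((finrank_of_cl (M := pt ι (-((0 : ℕ) : ℤ))) (N := Coh.structureModule X) (by rw [Nat.cast_zero, neg_zero, h0, H23.PicMul.one_def]) 1).trans hq)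
  | succ m ih =>
    rcases Nat.eq_zero_or_pos m with rfl | hm
    · simpa using hbase
    obtain ⟨S, hS, hS1, hS2, -, s1, s2, s3⟩ := hCs _ (hO (-(m : ℤ)))
    rw [← H23.PicMul.one_def, one_mul] at s1 s2
    obtain ⟨j, rfl⟩ : ∃ j, m = j + 1 := ⟨m - 1, by omega⟩
    haveI := hK j S.X₃ (by rw [s3, cl_pt]; push_cast; rfl)
    haveI : Subsingleton (Coh.HH X S.X₂ 1) := by
      haveI := CurveCohLib.finite_HH (k := k) hS2 1
      exact Module.finrank_zero_iff.1 ((finrank_of_cl s2 1).trans ih)
    haveI : Subsingleton (Coh.HH X S.X₁ 1) := by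
      have hk := CurveCohLib.ker_mapLin_f_succ k hS 0
      have hd : LinearMap.range (PnCoh.Finite.deltaLin k hS 0) = ⊥ :=
        LinearMap.range_eq_bot.2 (LinearMap.ext fun z => by
          rw [Subsingleton.elim (α := Coh.HH X S.X₃ 0) z 0, map_zero]; rfl)
      rw [hd] at hk
      exact (LinearMap.ker_eq_bot.1 hk).subsingleton
    rw [finrank_of_cl (N := S.X₁) (by
      rw [s1, cl_pt, cl_pt, ← tw_add]
      congr 1
      push_cast; ring) 1, Module.finrank_zero_of_subsingleton]

end Groth.Agent.Synt29.AntiCanonical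

end
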