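import Mathlib
import Groth.Prelude.Def_KLinDR
import Groth.Agent.Synt29.HyperVanish

/-! Finiteness of the hypercohomology of a bounded complex with linear differentials. -/

set_option autoImplicit false
set_option linter.style.haveILetI false
set_option backward.isDefEq.respectTransparency false
set_option backward.isDefEq.respectTransparency.types false

universe u

open CategoryTheory CategoryTheory.Limits Abelian DerivedCategory

namespace Groth.Agent.Synt29.FiniteHT

variable {C : Type u} [SmallCategory C] {J : GrothendieckTopology C} {k : Type u} [CommRing k]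

/-- `Ext^q(T, G)` is finitely generated for the action `σ` of `k`. -/
def FinExt (T G : Sheaf J AddCommGrpCat.{u}) (σ : k →+* End G) (q : ℕ) : Prop :=
  ∃ (m : ℕ) (e : Fin m → Ext T G q), ∀ x : Ext T G q, ∃ c : Fin m → k,
    x = ∑ i, (e i).comp (Ext.mk₀ (σ (c i) : G ⟶ G)) (add_zero q)

theorem finExt_of_iso {T G G' : Sheaf J AddCommGrpCat.{u}} {σ : k →+* End G} {σ' : k →+* End G'} {q : ℕ}
    (e : G ≅ G') (he : ∀ a, (σ a : G ⟶ G) ≫ e.hom = e.hom ≫ (σ' a : G' ⟶ G')) (h : FinExt T G σ q) :
    FinExt T G' σ' q := by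
  obtain ⟨m, v, hv⟩ := h
  refine ⟨m, fun i => (v i).comp (Ext.mk₀ e.hom) (add_zero q), fun x => ?_⟩
  obtain ⟨c, hc⟩ := hv (x.comp (Ext.mk₀ e.inv) (add_zero q))
  refine ⟨c, ?_⟩
  have := congrArg (fun z => z.comp (Ext.mk₀ e.hom) (add_zero q)) hc
  simp only [Ext.comp_assoc_of_third_deg_zero, Ext.mk₀_comp_mk₀, Iso.inv_hom_id, Ext.comp_mk₀_id] at this
  rw [this]
  simp only [Ext.sum_comp, Ext.comp_assoc_of_third_deg_zero, Ext.mk₀_comp_mk₀, he]

variable [HasDerivedCategory.{u} (Sheaf J AddCommGrpCat.{u})]

/-- The action on a single complex. -/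
noncomputable def singleEnd {G : Sheaf J AddCommGrpCat.{u}} (σ : k →+* End G) (b : ℤ) :
    k →+* End ((CochainComplex.singleFunctor (Sheaf J AddCommGrpCat.{u}) b).obj G) where
  toFun a := (CochainComplex.singleFunctor _ b).map (σ a : G ⟶ G)
  map_one' := by rw [map_one]; exact CategoryTheory.Functor.map_id _ _
  map_mul' a c := by rw [map_mul]; exact Functor.map_comp _ _ _
  map_zero' := by rw [map_zero]; exact Functor.map_zero _ _ _
  map_add' a c := by rw [map_add]; exact Functor.map_add _

theorem finite_single {T G : Sheaf J AddCommGrpCat.{u}} (σ : k →+* End G) (b n : ℤ)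
    (h : ∀ q : ℕ, b + q = n → FinExt T G σ q) :
    Module.Finite k (KLinDR.HTρ T ((CochainComplex.singleFunctor (Sheaf J AddCommGrpCat.{u}) b).obj G) (singleEnd σ b) n) := by
  let K := (CochainComplex.singleFunctor (Sheaf J AddCommGrpCat.{u}) b).obj G
  rcases lt_or_ge n b with hnb | hnb
  · haveI : K.IsStrictlyGE b := (CochainComplex.isStrictlyGE_iff K b).2 fun i hi =>
      HomologicalComplex.isZero_single_obj_X _ _ _ _ (show i ≠ b by omega)
    haveI : (Q.obj K).IsGE b := inferInstance
    haveI : Subsingleton (KLinDR.HTρ T K (singleEnd σ b) n) := ⟨fun x y =>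
      (DLim.hom_to_shift_eq_zero_of_isGE (Q.obj K) b n hnb (KLinDR.HTρ.toHT x)).trans
        (DLim.hom_to_shift_eq_zero_of_isGE (Q.obj K) b n hnb (KLinDR.HTρ.toHT y)).symm⟩
    exact Module.Finite.of_finite
  · obtain ⟨q, hq⟩ : ∃ q : ℕ, b + q = n := ⟨(n - b).toNat, by omega⟩
    obtain ⟨m, e, he⟩ := h q hq
    let A := Sheaf J AddCommGrpCat.{u}
    let N : singleFunctor A 0 ⋙ shiftFunctor (DerivedCategory A) (q : ℤ) ≅
        (CochainComplex.singleFunctor A b ⋙ Q) ⋙ shiftFunctor (DerivedCategory A) n :=
      Functor.isoWhiskerRight ((singleFunctors A).shiftIso b 0 b (add_zero b)).symm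
          (shiftFunctor (DerivedCategory A) (q : ℤ)) ≪≫
        Functor.associator _ _ _ ≪≫
        Functor.isoWhiskerLeft (singleFunctor A b) (shiftFunctorAdd' (DerivedCategory A) b (q : ℤ) n hq).symm ≪≫
        Functor.isoWhiskerRight (singleFunctorIsoCompQ A b) (shiftFunctor (DerivedCategory A) n)
    let Φ : Ext T G q → KLinDR.HTρ T K (singleEnd σ b) n := fun x =>
      KLinDR.HTρ.toHT.symm (x.hom ≫ N.hom.app G)
    have hΦ : ∀ (a : k) (x : Ext T G q), Φ (x.comp (Ext.mk₀ (σ a : G ⟶ G)) (add_zero q)) = a • Φ x := by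
      intro a x
      apply KLinDR.HTρ.toHT.injective
      rw [KLinDR.smul_def]
      show (x.comp (Ext.mk₀ (σ a : G ⟶ G)) (add_zero q)).hom ≫ N.hom.app G = _
      rw [Ext.comp_hom, Ext.mk₀_hom, ShiftedHom.comp_mk₀, Category.assoc]
      exact (congrArg (x.hom ≫ ·) (N.hom.naturality (σ a : G ⟶ G))).trans (Category.assoc _ _ _).symm
    have hadd : ∀ (s : Finset (Fin m)) (g : Fin m → Ext T G q), Φ (∑ i ∈ s, g i) = ∑ i ∈ s, Φ (g i) := fun s g => by
      refine map_sum (AddMonoidHom.mk' Φ fun x y => ?_) g s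
      apply KLinDR.HTρ.toHT.injective
      show (x + y).hom ≫ N.hom.app G = x.hom ≫ N.hom.app G + y.hom ≫ N.hom.app G
      rw [← Preadditive.add_comp]
      exact congrArg (· ≫ N.hom.app G) (Ext.homAddEquiv.map_add x y)
    classical
    refine Module.finite_def.mpr ⟨Finset.univ.image fun i => Φ (e i), ?_⟩
    rw [eq_top_iff]
    intro y _
    obtain ⟨c, hc⟩ := he (Ext.homEquiv.symm (KLinDR.HTρ.toHT y ≫ N.inv.app G))
    have hy : y = Φ (Ext.homEquiv.symm (KLinDR.HTρ.toHT y ≫ N.inv.app G)) := by
      apply KLinDR.HTρ.toHT.injective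
      show _ = Ext.homEquiv (Ext.homEquiv.symm _) ≫ N.hom.app G
      rw [Equiv.apply_symm_apply, Category.assoc, Iso.inv_hom_id_app]
      exact (Category.comp_id _).symm
    rw [hy, hc, hadd]
    refine Submodule.sum_mem _ fun i _ => ?_
    rw [hΦ]
    exact Submodule.smul_mem _ _ (Submodule.subset_span (by simp))

/-- The action on one term. -/
noncomputable def termEnd {K : CochainComplex (Sheaf J AddCommGrpCat.{u}) ℤ} (ρ : k →+* End K) (b : ℤ) :
    k →+* End (K.X b) where
  toFun a := (ρ a : K ⟶ K).f b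
  map_one' := by rw [map_one]; rfl
  map_mul' a c := by rw [map_mul]; rfl
  map_zero' := by rw [map_zero]; rfl
  map_add' a c := by rw [map_add]; rfl

theorem finite_hyper [IsNoetherianRing k] (T : Sheaf J AddCommGrpCat.{u}) (n a : ℤ) :
    ∀ (d : ℕ) (K : CochainComplex (Sheaf J AddCommGrpCat.{u}) ℤ) (ρ : k →+* End K), (∀ i, i < a → IsZero (K.X i)) →
      (∀ i, a + d ≤ i → IsZero (K.X i)) →
      (∀ (i : ℤ) (q : ℕ), i + q = n → FinExt T (K.X i) (termEnd ρ i) q) →
      Module.Finite k (KLinDR.HTρ T K ρ n) := by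
  intro d
  induction d with
  | zero =>
    intro K ρ h1 h2 _
    have hK : IsZero K := by
      rw [IsZero.iff_id_eq_zero]
      refine HomologicalComplex.hom_ext _ _ fun i => ?_
      exact (by
        rcases lt_or_ge i a with hi | hi
        · exact h1 i hi
        · exact h2 i (by simpa using hi) : IsZero (K.X i)).eq_of_src _ _
    have hz : IsZero ((shiftFunctor (DerivedCategory (Sheaf J AddCommGrpCat.{u})) n).obj (Q.obj K)) :=
      Functor.map_isZero _ (Functor.map_isZero _ hK)
    haveI : Subsingleton (KLinDR.HTρ T K ρ n) := ⟨fun x y => hz.eq_of_tgt x y⟩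
    exact Module.Finite.of_finite
  | succ d ih =>
    intro K ρ h1 h2 h
    let b : ℤ := a + d
    have hd : ∀ j, (ComplexShape.up ℤ).Rel b j → 𝟙 (K.X b) ≫ K.d b j = 0 := fun j hj =>
      (h2 j (by simp at hj; omega)).eq_of_tgt _ _
    let s : CochainComplex (Sheaf J AddCommGrpCat.{u}) ℤ := (CochainComplex.singleFunctor _ b).obj (K.X b)
    let φ : s ⟶ K := HomologicalComplex.mkHomFromSingle (𝟙 (K.X b)) hd
    haveI : IsIso (φ.f b) := by
      rw [HomologicalComplex.mkHomFromSingle_f]
      infer_instance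
    have hφ : ∀ i, i ≠ b → IsZero (s.X i) := fun i hi => HomologicalComplex.isZero_single_obj_X _ _ _ _ hi
    haveI : ∀ i, Mono (φ.f i) := fun i => by
      rcases eq_or_ne i b with rfl | hi
      · infer_instance
      · exact ⟨fun g g' _ => (hφ i hi).eq_of_tgt g g'⟩
    haveI : Mono φ := HomologicalComplex.mono_of_mono_f φ inferInstance
    have hcomm : KLinDR.Commutes (singleEnd (termEnd ρ b) b) ρ φ := fun r => by
      refine HomologicalComplex.from_single_hom_ext ?_
      show ((CochainComplex.singleFunctor _ b).map ((ρ r : K ⟶ K).f b)).f b ≫ φ.f b = φ.f b ≫ (ρ r : K ⟶ K).f b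
      simp [φ, CochainComplex.singleFunctor, CochainComplex.singleFunctors, HomologicalComplex.single_map_f_self]
    let ρC : k →+* End (cokernel φ) :=
      { toFun := fun r => cokernel.map φ φ (singleEnd (termEnd ρ b) b r) (ρ r) (hcomm r).symm
        map_one' := by rw [← cancel_epi (cokernel.π φ)]; simp [End.one_def]
        map_mul' := fun r t => by
          rw [← cancel_epi (cokernel.π φ)]
          simp [End.mul_def]
        map_zero' := by rw [← cancel_epi (cokernel.π φ)]; simp
        map_add' := fun r t => by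
          rw [← cancel_epi (cokernel.π φ)]
          simp
          erw [Preadditive.comp_add, Preadditive.add_comp, cokernel.π_desc, cokernel.π_desc] }
    have hπ : KLinDR.Commutes ρ ρC (cokernel.π φ) := fun r => (cokernel.π_desc φ _ _).symm
    let S : ShortComplex (CochainComplex (Sheaf J AddCommGrpCat.{u}) ℤ) :=
      ShortComplex.mk φ (cokernel.π φ) (cokernel.condition φ)
    haveI : CategoryWithHomology (CochainComplex (Sheaf J AddCommGrpCat.{u}) ℤ) :=
      categoryWithHomology_of_abelian (C := CochainComplex (Sheaf J AddCommGrpCat.{u}) ℤ)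
    haveI : S.HasHomology := CategoryWithHomology.hasHomology S
    have hS : S.ShortExact :=
      { exact := ShortComplex.exact_of_g_is_cokernel S (cokernelIsCokernel φ)
        mono_f := inferInstanceAs (Mono φ)
        epi_g := inferInstanceAs (Epi (cokernel.π φ)) }
    have hSi := fun i => (HomologicalComplex.shortExact_iff_degreewise_shortExact S).1 hS i
    have hiso : ∀ i, i ≠ b → IsIso ((cokernel.π φ).f i) := fun i hi => by
      haveI : Mono ((cokernel.π φ).f i) := (hSi i).exact.mono_g ((hφ i hi).eq_of_src _ _)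
      haveI : Epi ((cokernel.π φ).f i) := (hSi i).epi_g
      exact isIso_of_mono_of_epi _
    have hzero : IsZero ((cokernel φ).X b) := by
      haveI : Epi ((cokernel.π φ).f b) := (hSi b).epi_g
      have h0 : φ.f b ≫ (cokernel.π φ).f b = 0 := by
        rw [← HomologicalComplex.comp_f, cokernel.condition]; rfl
      rw [IsZero.iff_id_eq_zero, ← cancel_epi ((cokernel.π φ).f b), ← cancel_epi (φ.f b)]
      simp [reassoc_of% h0, h0]
    haveI hC : Module.Finite k (KLinDR.HTρ T (cokernel φ) ρC n) := by
      refine ih (cokernel φ) ρC (fun i hi => ?_) (fun i hi => ?_) fun i q hiq => ?_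
      · haveI := hiso i (by omega)
        exact (h1 i hi).of_iso (asIso ((cokernel.π φ).f i)).symm
      · rcases eq_or_ne i b with rfl | hi'
        · exact hzero
        · haveI := hiso i hi'
          exact (h2 i (by omega)).of_iso (asIso ((cokernel.π φ).f i)).symm
      · rcases eq_or_ne i b with rfl | hi'
        · refine ⟨0, Fin.elim0, fun x => ⟨Fin.elim0, ?_⟩⟩
          rw [Fin.sum_univ_zero, ← Ext.comp_mk₀_id x, (IsZero.iff_id_eq_zero _).1 hzero, Ext.mk₀_zero,
            Ext.comp_zero]
        · haveI := hiso i hi'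
          exact finExt_of_iso (asIso ((cokernel.π φ).f i))
            (fun r => congrArg (fun g => HomologicalComplex.Hom.f g i) (hπ r)) (h i q hiq)
    haveI hA : Module.Finite k (KLinDR.HTρ T s (singleEnd (termEnd ρ b) b) n) :=
      finite_single (termEnd ρ b) b n fun q hq => h b q hq
    let F := KLinDR.HTρmap T φ hcomm n
    let G := KLinDR.HTρmap T (cokernel.π φ) hπ n
    haveI : Module.Finite k (LinearMap.ker G) := by
      have hle : LinearMap.ker G = LinearMap.range F := by
        refine le_antisymm (fun x hx => ?_) ?_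
        · obtain ⟨y, hy⟩ := DLim.exact₂_shift (triangleOfSES hS) (triangleOfSES_distinguished hS) n
            (KLinDR.HTρ.toHT x) (congrArg KLinDR.HTρ.toHT (LinearMap.mem_ker.1 hx))
          exact ⟨KLinDR.HTρ.toHT.symm y, KLinDR.HTρ.toHT.injective hy⟩
        · rintro _ ⟨y, rfl⟩
          refine LinearMap.mem_ker.2 (KLinDR.HTρ.toHT.injective ?_)
          show (KLinDR.HTρ.toHT y ≫ (shiftFunctor _ n).map (Q.map φ)) ≫
            (shiftFunctor _ n).map (Q.map (cokernel.π φ)) = 0
          rw [Category.assoc, ← Functor.map_comp, ← Q.map_comp, cokernel.condition, Functor.map_zero,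
            Functor.map_zero, comp_zero]
      rw [hle]
      exact Module.Finite.range F
    haveI : Module.Finite k (LinearMap.range G) := inferInstance
    haveI : Module.Finite k (KLinDR.HTρ T K ρ n ⧸ LinearMap.ker G) :=
      Module.Finite.equiv G.quotKerEquivRange.symm
    exact Module.Finite.of_submodule_quotient (LinearMap.ker G)

end Groth.Agent.Synt29.FiniteHT
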