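import Mathlib
import Groth.Prelude.Def_KLinDR
import Groth.Agent.Synt29.FiniteHT
import Groth.Agent.Synt29.DRVanish
import Groth.Agent.Synt29.ExtPowPull
import Groth.Agent.QCoh.Support
import Groth.Agent.S0002

/-! Finiteness of de Rham cohomology of proper schemes over noetherian rings. -/

set_option autoImplicit false
set_option linter.style.haveILetI false
set_option backward.isDefEq.respectTransparency false
set_option backward.isDefEq.respectTransparency.types false

universe u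

open CategoryTheory CategoryTheory.Limits AlgebraicGeometry TopologicalSpace Opposite Abelian

namespace Groth.Agent.Synt29.DRFinite

variable {A : Type u} [CommRing A] {X : Scheme.{u}} (f : X ⟶ Spec (CommRingCat.of A)) [QuasiSeparated f]

theorem finite_omega [LocallyOfFiniteType f] (U : X.affineOpens) :
    Module.Finite Γ(X, U.1) Γ(Omega.sheaf f, U.1) := by
  have hV : IsAffineOpen (⊤ : (Spec (CommRingCat.of A)).Opens) := isAffineOpen_top _
  have e : U.1 ≤ f ⁻¹ᵁ ⊤ := le_top
  letI := (f.appLE ⊤ U.1 e).hom.toAlgebra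
  haveI : Algebra.FiniteType Γ(Spec (CommRingCat.of A), ⊤) Γ(X, U.1) := f.finiteType_appLE hV U.2 e
  exact Module.Finite.equiv (SmoothAdapted.secEquiv f U.2 hV e)

theorem isQCoh_term (D : DeRhamSh.OmegaCx f) (p : ℕ) : Coh.IsQCoh (D.term p) :=
  ExtPowPull.isQCoh_of_isExtPow (OmegaUniv.isQCoh_omega f) (D.isExtPow p)

theorem isCoh_term [LocallyOfFiniteType f] (D : DeRhamSh.OmegaCx f) (p : ℕ) : Coh.IsCoh (D.term p) :=
  QCoh.isCoh_iff.2 ⟨isQCoh_term f D p, fun U => by
    haveI := finite_omega f U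
    exact Module.Finite.equiv (D.loc p U).symm⟩

theorem exists_bound [LocallyOfFiniteType f] [CompactSpace ↥X] (D : DeRhamSh.OmegaCx f) :
    ∃ N : ℕ, ∀ p, N ≤ p → IsZero (D.term p) := by
  classical
  have hcov : ∀ x : X, ∃ U : X.affineOpens, x ∈ U.1 := fun x =>
    let ⟨W, hW, hxW, _⟩ := exists_isAffineOpen_mem_and_subset (U := (⊤ : X.Opens)) (x := x) trivial
    ⟨⟨W, hW⟩, hxW⟩
  choose U hU using hcov
  obtain ⟨F, hF⟩ := isCompact_univ.elim_finite_subcover (fun x : X => ((U x).1 : Set X)) (fun x => (U x).1.2)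
    fun x _ => Set.mem_iUnion.2 ⟨x, hU x⟩
  have hgen : ∀ W : X.affineOpens, ∃ (m : ℕ) (g : (Fin m → Γ(X, W.1)) →ₗ[Γ(X, W.1)] Γ(Omega.sheaf f, W.1)),
      Function.Surjective g := fun W => by
    haveI := finite_omega f W
    exact Module.Finite.exists_fin' _ _
  choose m g hg using hgen
  refine ⟨(F.image fun x => m (U x)).sup id + 1, fun p hp => ?_⟩
  refine QCoh.isZero_of_cover (isQCoh_term f D p) (fun x : ↥F => (U x.1).1) (fun x => (U x.1).2)
    (fun y => ?_) fun x => ?_
  · obtain ⟨x, hx, hy⟩ := Set.mem_iUnion₂.1 (hF (Set.mem_univ y))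
    exact ⟨⟨x, hx⟩, hy⟩
  · have hm : m (U x.1) < p := lt_of_lt_of_le
      (Nat.lt_succ_of_le (Finset.le_sup (f := id) (Finset.mem_image_of_mem (fun y => m (U y)) x.2))) hp
    haveI := DRVanish.subsingleton_exteriorPower (Pi.basisFun Γ(X, (U x.1).1) (Fin (m (U x.1)))) hm
    haveI : Subsingleton ↥(⋀[Γ(X, (U x.1).1)]^p Γ(Omega.sheaf f, (U x.1).1)) :=
      (exteriorPower.map_surjective (n := p) (hg (U x.1))).subsingleton
    exact (D.loc p (U x.1)).toEquiv.subsingleton

theorem finite_hdR [IsNoetherianRing A] [IsProper f] (D : DeRhamSh.OmegaCx f)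
    (h : KLinDR.TermwiseLinear (Coh.toGlobal f) D.K D.term D.iso)
    [HasDerivedCategory.{u} (Sheaf (Opens.grothendieckTopology X) AddCommGrpCat.{u})] (i : ℤ) :
    Module.Finite A (KLinDR.HdR (Coh.toGlobal f) D h i) := by
  haveI : CompactSpace ↥X := QuasiCompact.compactSpace_of_compactSpace f
  obtain ⟨N, hN⟩ := exists_bound f D
  have hneg : ∀ j : ℤ, j < 0 → IsZero (D.KZ.X j) := fun j hj =>
    D.K.isZero_extend_X ComplexShape.embeddingUpNat j fun l hl => by simp at hl; omega
  refine FiniteHT.finite_hyper (CohCx.freeSheaf (Opens.grothendieckTopology X) (⊤ : Opens ↥X)) i 0 N D.KZ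
    (KLinDR.scalar h) hneg (fun j hj => ?_) fun j q hjq => ?_
  · obtain ⟨p, rfl⟩ : ∃ p : ℕ, (p : ℤ) = j := ⟨j.toNat, by omega⟩
    exact (Functor.map_isZero (SheafOfModules.toSheaf X.ringCatSheaf) (hN p (by omega))).of_iso
      (D.K.extendXIso ComplexShape.embeddingUpNat (ComplexShape.embeddingUpNat_f p) ≪≫ D.iso p)
  · rcases lt_or_ge j 0 with hj | hj
    · refine ⟨0, Fin.elim0, fun x => ⟨Fin.elim0, ?_⟩⟩
      rw [Fin.sum_univ_zero, ← Ext.comp_mk₀_id x, (IsZero.iff_id_eq_zero _).1 (hneg j hj), Ext.mk₀_zero,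
        Ext.comp_zero]
    obtain ⟨p, rfl⟩ : ∃ p : ℕ, (p : ℤ) = j := ⟨j.toNat, by omega⟩
    letI : X.Over (Spec (CommRingCat.of A)) := ⟨f⟩
    haveI : IsProper (X ↘ Spec (CommRingCat.of A)) := ‹IsProper f›
    haveI := S0002.result A X (D.term p) (isCoh_term f D p) q
    let M := Coh.toAb (D.term p)
    let σ : A →+* End M :=
      { toFun := fun a => Coh.smulAb (D.term p) (Coh.toGlobal f a)
        map_one' := by rw [map_one, Coh.smulAb_one]; rfl
        map_mul' := fun a b => by rw [map_mul, Coh.smulAb_mul]; rfl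
        map_zero' := by rw [map_zero, Coh.smulAb_zero]
        map_add' := fun a b => by rw [map_add, Coh.smulAb_add] }
    let E := SiteBase.huTerminalEquiv (isTerminalTop : IsTerminal (⊤ : Opens ↥X)) M q
    have hfin : FiniteHT.FinExt (CohCx.freeSheaf (Opens.grothendieckTopology X) (⊤ : Opens ↥X)) M σ q := by
      obtain ⟨m, s, hs⟩ := Module.Finite.exists_fin (R := A) (M := Coh.HH X (D.term p) q)
      refine ⟨m, fun l => E.symm (s l), fun x => ?_⟩
      obtain ⟨c, hc⟩ := (Submodule.mem_span_range_iff_exists_fun A).1 (hs ▸ Submodule.mem_top : E x ∈ _)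
      refine ⟨c, E.injective ?_⟩
      rw [map_sum, ← hc]
      refine Finset.sum_congr rfl fun l _ => ?_
      show Sheaf.H.map (Coh.smulAb (D.term p) (Coh.toGlobal f (c l))) q (s l) =
        (Ext.mk₀ (SiteBase.freeSheafIsoConst _ isTerminalTop).inv).comp
          (((Ext.mk₀ (SiteBase.freeSheafIsoConst _ isTerminalTop).hom).comp (s l) (zero_add q)).comp
            (Ext.mk₀ (Coh.smulAb (D.term p) (Coh.toGlobal f (c l)))) (add_zero q)) (zero_add q)
      rw [Ext.comp_assoc_of_third_deg_zero, Ext.mk₀_comp_mk₀_assoc, Iso.inv_hom_id, Ext.mk₀_id_comp]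
      rfl
    refine FiniteHT.finExt_of_iso
      (D.K.extendXIso ComplexShape.embeddingUpNat (ComplexShape.embeddingUpNat_f p) ≪≫ D.iso p).symm (fun a => ?_) hfin
    show Coh.smulAb (D.term p) (Coh.toGlobal f a) ≫ _ = _ ≫ (KLinDR.scalar h a : D.KZ ⟶ D.KZ).f (p : ℤ)
    rw [KLinDR.scalar_f h a p]
    simp [KLinDR.scalarEnd]

end Groth.Agent.Synt29.DRFinite
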