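import Mathlib
import Groth.Agent.Synt29.FiniteHT

/-! Hypercohomology of a complex with a single relevant term. -/

set_option autoImplicit false
set_option linter.style.haveILetI false
set_option backward.isDefEq.respectTransparency false
set_option backward.isDefEq.respectTransparency.types false
set_option maxHeartbeats 1000000

universe u

open CategoryTheory CategoryTheory.Limits Abelian DerivedCategory

namespace Groth.Agent.Synt29.LinHyper

open FiniteHT

variable {C : Type u} [SmallCategory C] {J : GrothendieckTopology C} {k : Type u} [CommRing k]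
  [HasDerivedCategory.{u} (Sheaf J AddCommGrpCat.{u})]

theorem exists_single {T G : Sheaf J AddCommGrpCat.{u}} (σ : k →+* End G) (b n : ℤ) (q : ℕ) (hq : b + q = n) :
    ∃ Ψ : Ext T G q ≃+ KLinDR.HTρ T ((CochainComplex.singleFunctor (Sheaf J AddCommGrpCat.{u}) b).obj G) (singleEnd σ b) n,
      ∀ (a : k) (x : Ext T G q), Ψ (x.comp (Ext.mk₀ (σ a : G ⟶ G)) (add_zero q)) = a • Ψ x := by
    let K := (CochainComplex.singleFunctor (Sheaf J AddCommGrpCat.{u}) b).obj G
    let A := Sheaf J AddCommGrpCat.{u}
    let N : singleFunctor A 0 ⋙ shiftFunctor (DerivedCategory A) (q : ℤ) ≅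
        (CochainComplex.singleFunctor A b ⋙ Q) ⋙ shiftFunctor (DerivedCategory A) n :=
      Functor.isoWhiskerRight ((singleFunctors A).shiftIso b 0 b (add_zero b)).symm
          (shiftFunctor (DerivedCategory A) (q : ℤ)) ≪≫
        Functor.associator _ _ _ ≪≫
        Functor.isoWhiskerLeft (singleFunctor A b) (shiftFunctorAdd' (DerivedCategory A) b (q : ℤ) n hq).symm ≪≫
        Functor.isoWhiskerRight (singleFunctorIsoCompQ A b) (shiftFunctor (DerivedCategory A) n)
    let Φ : Ext T G q → KLinDR.HTρ T K (singleEnd σ b) n := fun x =>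
      KLinDR.HTρ.toHT.symm (x.hom ≫ N.hom.app G)
    have hΦ : ∀ (a : k) (x : Ext T G q), Φ (x.comp (Ext.mk₀ (σ a : G ⟶ G)) (add_zero q)) = a • Φ x := by
      intro a x
      apply KLinDR.HTρ.toHT.injective
      rw [KLinDR.smul_def]
      show (x.comp (Ext.mk₀ (σ a : G ⟶ G)) (add_zero q)).hom ≫ N.hom.app G = _
      rw [Ext.comp_hom, Ext.mk₀_hom, ShiftedHom.comp_mk₀, Category.assoc]
      exact (congrArg (x.hom ≫ ·) (N.hom.naturality (σ a : G ⟶ G))).trans (Category.assoc _ _ _).symm
    refine ⟨{ toFun := Φ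
              invFun := fun y => Ext.homEquiv.symm (KLinDR.HTρ.toHT y ≫ N.inv.app G)
              left_inv := fun x => ?_
              right_inv := fun y => ?_
              map_add' := fun x y => ?_ }, hΦ⟩
    · refine Ext.homEquiv.injective ?_
      rw [Equiv.apply_symm_apply]
      show (x.hom ≫ N.hom.app G) ≫ N.inv.app G = x.hom
      rw [Category.assoc, Iso.hom_inv_id_app]
      exact Category.comp_id _
    · apply KLinDR.HTρ.toHT.injective
      show Ext.homEquiv (Ext.homEquiv.symm _) ≫ N.hom.app G = _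
      rw [Equiv.apply_symm_apply, Category.assoc, Iso.inv_hom_id_app]
      exact Category.comp_id _
    · apply KLinDR.HTρ.toHT.injective
      show (x + y).hom ≫ N.hom.app G = x.hom ≫ N.hom.app G + y.hom ≫ N.hom.app G
      rw [← Preadditive.add_comp]
      exact congrArg (· ≫ N.hom.app G) (Ext.homAddEquiv.map_add x y)

/-- Only the term in degree `i₀` contributes. -/
theorem nonempty_equiv (U : C) (n a : ℤ) :
    ∀ (d : ℕ) (K : CochainComplex (Sheaf J AddCommGrpCat.{u}) ℤ) (ρ : k →+* End K), (∀ i, i < a → IsZero (K.X i)) →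
      (∀ i, a + d ≤ i → IsZero (K.X i)) → ∀ i₀ : ℤ, a ≤ i₀ → i₀ < a + d →
      (∀ (i : ℤ) (q : ℕ), (i + q = n ∧ i ≠ i₀) ∨ (i + q = n + 1 ∧ i₀ < i) ∨ (i + q = n - 1 ∧ i < i₀) →
        Subsingleton (CohSite.HU (K.X i) q U)) →
      Nonempty (KLinDR.HTρ (CohCx.freeSheaf J U) K ρ n ≃ₗ[k]
        KLinDR.HTρ (CohCx.freeSheaf J U) ((CochainComplex.singleFunctor _ i₀).obj (K.X i₀))
          (singleEnd (termEnd ρ i₀) i₀) n) := by
  intro d
  induction d with
  | zero => intro K ρ _ _ i₀ h3 h4; omega
  | succ d ih =>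
    intro K ρ h1 h2 i₀ h3 h4 h
    let b : ℤ := a + d
    have hd : ∀ j, (ComplexShape.up ℤ).Rel b j → 𝟙 (K.X b) ≫ K.d b j = 0 := fun j hj =>
      (h2 j (by simp at hj; omega)).eq_of_tgt _ _
    let s : CochainComplex (Sheaf J AddCommGrpCat.{u}) ℤ := (CochainComplex.singleFunctor _ b).obj (K.X b)
    let φ : s ⟶ K := HomologicalComplex.mkHomFromSingle (𝟙 (K.X b)) hd
    haveI : IsIso (φ.f b) := by
      rw [HomologicalComplex.mkHomFromSingle_f]
      infer_instance
    have hφ : ∀ i, i ≠ b → IsZero (s.X i) := fun i hi => HomologicalComplex.isZero_single_obj_X _ _ _ _ hi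
    haveI : ∀ i, Mono (φ.f i) := fun i => by
      rcases eq_or_ne i b with rfl | hi
      · infer_instance
      · exact ⟨fun g g' _ => (hφ i hi).eq_of_tgt g g'⟩
    haveI : Mono φ := HomologicalComplex.mono_of_mono_f φ inferInstance
    have hcomm : KLinDR.Commutes (singleEnd (termEnd ρ b) b) ρ φ := fun r => by
      refine HomologicalComplex.from_single_hom_ext ?_
      show ((CochainComplex.singleFunctor _ b).map ((ρ r : K ⟶ K).f b)).f b ≫ φ.f b = φ.f b ≫ (ρ r : K ⟶ K).f b
      simp [φ, CochainComplex.singleFunctor, CochainComplex.singleFunctors, HomologicalComplex.single_map_f_self]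
    let ρC : k →+* End (cokernel φ) :=
      { toFun := fun r => cokernel.map φ φ (singleEnd (termEnd ρ b) b r) (ρ r) (hcomm r).symm
        map_one' := by rw [← cancel_epi (cokernel.π φ)]; simp [End.one_def]
        map_mul' := fun r t => by
          rw [← cancel_epi (cokernel.π φ)]
          simp [End.mul_def]
        map_zero' := by rw [← cancel_epi (cokernel.π φ)]; simp
        map_add' := fun r t => by
          rw [← cancel_epi (cokernel.π φ)]
          simp
          erw [Preadditive.comp_add, Preadditive.add_comp, cokernel.π_desc, cokernel.π_desc] }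
    have hπ : KLinDR.Commutes ρ ρC (cokernel.π φ) := fun r => (cokernel.π_desc φ _ _).symm
    let S : ShortComplex (CochainComplex (Sheaf J AddCommGrpCat.{u}) ℤ) :=
      ShortComplex.mk φ (cokernel.π φ) (cokernel.condition φ)
    haveI : CategoryWithHomology (CochainComplex (Sheaf J AddCommGrpCat.{u}) ℤ) :=
      categoryWithHomology_of_abelian (C := CochainComplex (Sheaf J AddCommGrpCat.{u}) ℤ)
    haveI : S.HasHomology := CategoryWithHomology.hasHomology S
    have hS : S.ShortExact :=
      { exact := ShortComplex.exact_of_g_is_cokernel S (cokernelIsCokernel φ)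
        mono_f := inferInstanceAs (Mono φ)
        epi_g := inferInstanceAs (Epi (cokernel.π φ)) }
    have hSi := fun i => (HomologicalComplex.shortExact_iff_degreewise_shortExact S).1 hS i
    have hiso : ∀ i, i ≠ b → IsIso ((cokernel.π φ).f i) := fun i hi => by
      haveI : Mono ((cokernel.π φ).f i) := (hSi i).exact.mono_g ((hφ i hi).eq_of_src _ _)
      haveI : Epi ((cokernel.π φ).f i) := (hSi i).epi_g
      exact isIso_of_mono_of_epi _
    have hzero : IsZero ((cokernel φ).X b) := by
      haveI : Epi ((cokernel.π φ).f b) := (hSi b).epi_g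
      have h0 : φ.f b ≫ (cokernel.π φ).f b = 0 := by
        rw [← HomologicalComplex.comp_f, cokernel.condition]; rfl
      rw [IsZero.iff_id_eq_zero, ← cancel_epi ((cokernel.π φ).f b), ← cancel_epi (φ.f b)]
      simp [reassoc_of% h0, h0]
    have hCz : ∀ i, i < a → IsZero ((cokernel φ).X i) := fun i hi => by
      haveI := hiso i (by omega)
      exact (h1 i hi).of_iso (asIso ((cokernel.π φ).f i)).symm
    have hCz' : ∀ i, a + d ≤ i → IsZero ((cokernel φ).X i) := fun i hi => by
      rcases eq_or_ne i b with rfl | hi'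
      · exact hzero
      · haveI := hiso i hi'
        exact (h2 i (by omega)).of_iso (asIso ((cokernel.π φ).f i)).symm
    have hCU : ∀ (i : ℤ) (q : ℕ), Subsingleton (CohSite.HU (K.X i) q U) →
        Subsingleton (CohSite.HU ((cokernel φ).X i) q U) := fun i q hs => by
      rcases eq_or_ne i b with rfl | hi'
      · exact DLim.subsingleton_HU_of_isZero hzero q U
      · haveI := hiso i hi'
        exact DLim.subsingleton_of_ext_iso (asIso ((cokernel.π φ).f i)) hs
    let F := KLinDR.HTρmap (CohCx.freeSheaf J U) φ hcomm n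
    let G := KLinDR.HTρmap (CohCx.freeSheaf J U) (cokernel.π φ) hπ n
    have hsingle : ∀ m : ℤ, (∀ q : ℕ, b + q = m → Subsingleton (CohSite.HU (K.X b) q U)) →
        Subsingleton (CohCx.HDU (Q.obj s) m U) := fun m hm => HyperVanish.subsingleton_single (K.X b) b m U hm
    by_cases hb : b = i₀
    · subst hb
      haveI hCn : Subsingleton (CohCx.HDU (Q.obj (cokernel φ)) n U) :=
        HyperVanish.subsingleton_HDU n a U d (cokernel φ) hCz hCz' fun i q hiq => by
          rcases eq_or_ne i b with rfl | hi'
          · exact DLim.subsingleton_HU_of_isZero hzero q U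
          · exact hCU i q (h i q (.inl ⟨hiq, hi'⟩))
      haveI hCn' : Subsingleton (CohCx.HDU (Q.obj (cokernel φ)) (n - 1) U) :=
        HyperVanish.subsingleton_HDU (n - 1) a U d (cokernel φ) hCz hCz' fun i q hiq => by
          rcases lt_or_ge i b with hi' | hi'
          · exact hCU i q (h i q (.inr (.inr ⟨hiq, hi'⟩)))
          · exact DLim.subsingleton_HU_of_isZero (hCz' i hi') q U
      refine ⟨(LinearEquiv.ofBijective F ⟨(injective_iff_map_eq_zero _).2 fun y hy => ?_, fun x => ?_⟩).symm⟩
      · exact KLinDR.HTρ.toHT.injective (DLim.eq_zero_of_surjective (triangleOfSES hS) (triangleOfSES_distinguished hS) n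
          (KLinDR.HTρ.toHT y) (congrArg KLinDR.HTρ.toHT hy) fun z => ⟨0, @Subsingleton.elim _ hCn' _ _⟩)
      · obtain ⟨y, hy⟩ := DLim.exact₂_shift (triangleOfSES hS) (triangleOfSES_distinguished hS) n
          (KLinDR.HTρ.toHT x) (@Subsingleton.elim _ hCn _ _)
        exact ⟨KLinDR.HTρ.toHT.symm y, KLinDR.HTρ.toHT.injective hy⟩
    · have hlt : i₀ < b := by omega
      have hs0 := hsingle n fun q hq => h b q (.inl ⟨hq, hb⟩)
      have hs1 := hsingle (n + 1) fun q hq => h b q (.inr (.inl ⟨hq, hlt⟩))
      have hbij : Function.Bijective G := by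
        refine ⟨(injective_iff_map_eq_zero _).2 fun x hx => ?_, fun x => ?_⟩
        · obtain ⟨y, hy⟩ := DLim.exact₂_shift (triangleOfSES hS) (triangleOfSES_distinguished hS) n
            (KLinDR.HTρ.toHT x) (congrArg KLinDR.HTρ.toHT hx)
          refine KLinDR.HTρ.toHT.injective (hy.symm.trans ?_)
          rw [show y = 0 from @Subsingleton.elim _ hs0 y 0, zero_comp]
          exact (map_zero KLinDR.HTρ.toHT).symm
        · let e := (shiftFunctorAdd' (DerivedCategory (Sheaf J AddCommGrpCat.{u})) (1 : ℤ) n (n + 1) (by omega)).app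
            (Q.obj s)
          obtain ⟨y, hy⟩ := DLim.exact₃_shift (triangleOfSES hS) (triangleOfSES_distinguished hS) n
            (KLinDR.HTρ.toHT x) ((cancel_mono e.inv).1 (@Subsingleton.elim _ hs1 _ _))
          exact ⟨KLinDR.HTρ.toHT.symm y, KLinDR.HTρ.toHT.injective hy⟩
      obtain ⟨e₁⟩ := ih (cokernel φ) ρC hCz hCz' i₀ h3 (by omega) fun i q hiq => hCU i q (h i q hiq)
      haveI := hiso i₀ (by omega)
      let t := (CochainComplex.singleFunctor (Sheaf J AddCommGrpCat.{u}) i₀).mapIso (asIso ((cokernel.π φ).f i₀))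
      have ht : KLinDR.Commutes (singleEnd (termEnd ρC i₀) i₀) (singleEnd (termEnd ρ i₀) i₀) t.inv := fun r => by
        show (CochainComplex.singleFunctor _ i₀).map _ ≫ (CochainComplex.singleFunctor _ i₀).map _ =
          (CochainComplex.singleFunctor _ i₀).map _ ≫ (CochainComplex.singleFunctor _ i₀).map _
        rw [← Functor.map_comp, ← Functor.map_comp]
        congr 1
        rw [asIso_inv, IsIso.eq_inv_comp, ← Category.assoc, IsIso.comp_inv_eq]
        exact (congrArg (fun g => HomologicalComplex.Hom.f g i₀) (hπ r)).symm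
      have htbij : Function.Bijective (KLinDR.HTρmap (CohCx.freeSheaf J U) t.inv ht n) := by
        haveI : IsIso ((shiftFunctor (DerivedCategory (Sheaf J AddCommGrpCat.{u})) n).map (Q.map t.inv)) := inferInstance
        exact ⟨fun x y hxy => KLinDR.HTρ.toHT.injective ((cancel_mono _).1 hxy), fun z =>
          ⟨KLinDR.HTρ.toHT.symm (KLinDR.HTρ.toHT z ≫ inv ((shiftFunctor _ n).map (Q.map t.inv))),
            KLinDR.HTρ.toHT.injective ((Category.assoc _ _ _).trans (by rw [IsIso.inv_hom_id]; exact Category.comp_id _))⟩⟩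
      exact ⟨((LinearEquiv.ofBijective G hbij).trans e₁).trans (LinearEquiv.ofBijective _ htbij)⟩

end Groth.Agent.Synt29.LinHyper
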