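import Mathlib
import Groth.Agent.Synt29.LinHyper
import Groth.Agent.Synt29.DRFinite
import Groth.Agent.S15530
import Groth.Agent.S15531

/-! De Rham cohomology of projective space. -/

set_option autoImplicit false
set_option linter.style.haveILetI false
set_option backward.isDefEq.respectTransparency false
set_option backward.isDefEq.respectTransparency.types false
set_option maxHeartbeats 1000000

universe u

open CategoryTheory CategoryTheory.Limits AlgebraicGeometry TopologicalSpace Opposite Abelian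

namespace Groth.Agent.Synt29.DRPn

variable {A : Type u} [CommRing A] {n : ℕ} [QuasiSeparated (CohB1.ProjSpace.toSpec n A)]
  (D : DeRhamSh.OmegaCx (CohB1.ProjSpace.toSpec n A))

local notation "P" => CohB1.ProjSpace n A

theorem isZero_neg (j : ℤ) (hj : j < 0) : IsZero (D.KZ.X j) :=
  D.K.isZero_extend_X ComplexShape.embeddingUpNat j fun l hl => by simp at hl; omega

theorem isZero_big (hn : 1 ≤ n) (j : ℤ) (hj : (n : ℤ) < j) : IsZero (D.KZ.X j) := by
  obtain ⟨p, rfl⟩ : ∃ p : ℕ, (p : ℤ) = j := ⟨j.toNat, by omega⟩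
  have hz : IsZero (D.term p) := PnEuler.hodge_top n A (by omega) 0 (PnEuler.cl_eq_hodge_zero n A (D.isExtPow p))
  exact (Functor.map_isZero (SheafOfModules.toSheaf (CohB1.ProjSpace n A).ringCatSheaf) hz).of_iso
    (D.K.extendXIso ComplexShape.embeddingUpNat (ComplexShape.embeddingUpNat_f p) ≪≫ D.iso p)

variable [HasDerivedCategory.{u} (Sheaf (Opens.grothendieckTopology ↥(CohB1.ProjSpace n A)) AddCommGrpCat.{u})]

theorem subsingleton_HU (hn : 1 ≤ n) (i : ℤ) (q : ℕ) (h : i ≠ q ∨ (n : ℤ) < i) :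
    Subsingleton (CohSite.HU (D.KZ.X i) q (⊤ : Opens ↥(CohB1.ProjSpace n A))) := by
  rcases lt_or_ge i 0 with hi | hi
  · exact DLim.subsingleton_HU_of_isZero (isZero_neg D i hi) q _
  obtain ⟨p, rfl⟩ : ∃ p : ℕ, (p : ℤ) = i := ⟨i.toNat, by omega⟩
  refine DLim.subsingleton_of_ext_iso
    (D.K.extendXIso ComplexShape.embeddingUpNat (ComplexShape.embeddingUpNat_f p) ≪≫ D.iso p).symm ?_
  haveI := S15530.result A n hn p (D.term p) (D.isExtPow p) q (by rcases h with h | h <;> omega)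
  exact (SiteBase.huTerminalEquiv (isTerminalTop : IsTerminal (⊤ : Opens ↥(CohB1.ProjSpace n A)))
    (Coh.toAb (D.term p)) q).toEquiv.subsingleton


/-- The diagonal term in degree `2i` computes the cohomology. -/
theorem nonempty_term {k : Type u} [CommRing k] (ρ : k →+* End D.KZ) (hn : 1 ≤ n) (i : ℕ) (hi : i ≤ n) :
    ∃ e : KLinDR.HTρ (CohCx.freeSheaf (Opens.grothendieckTopology ↥(CohB1.ProjSpace n A)) (⊤ : Opens ↥(CohB1.ProjSpace n A)))
        D.KZ ρ (2 * (i : ℤ)) ≃+ Coh.HH (CohB1.ProjSpace n A) (D.term i) i,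
      ∀ (a : k) (σ : Coh.toAb (D.term i) ⟶ Coh.toAb (D.term i)),
        (ρ a : D.KZ ⟶ D.KZ).f (i : ℤ) ≫
            (D.K.extendXIso ComplexShape.embeddingUpNat (ComplexShape.embeddingUpNat_f i) ≪≫ D.iso i).hom =
          (D.K.extendXIso ComplexShape.embeddingUpNat (ComplexShape.embeddingUpNat_f i) ≪≫ D.iso i).hom ≫ σ →
        ∀ x, e (a • x) = Sheaf.H.map σ i (e x) := by
  obtain ⟨e₁⟩ := LinHyper.nonempty_equiv (⊤ : Opens ↥(CohB1.ProjSpace n A)) (2 * (i : ℤ)) 0 (n + 1) D.KZ ρ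
    (isZero_neg D) (fun j hj => isZero_big D hn j (by omega)) (i : ℤ) (by omega) (by omega)
    (fun j q hjq => subsingleton_HU D hn j q (by omega))
  obtain ⟨Ψ, hΨ⟩ := LinHyper.exists_single
    (T := CohCx.freeSheaf (Opens.grothendieckTopology ↥(CohB1.ProjSpace n A)) (⊤ : Opens ↥(CohB1.ProjSpace n A)))
    (FiniteHT.termEnd ρ (i : ℤ)) (i : ℤ) (2 * (i : ℤ)) i (by omega)
  let iX : D.KZ.X (i : ℤ) ≅ Coh.toAb (D.term i) :=
    D.K.extendXIso ComplexShape.embeddingUpNat (ComplexShape.embeddingUpNat_f i) ≪≫ D.iso i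
  let T := CohCx.freeSheaf (Opens.grothendieckTopology ↥(CohB1.ProjSpace n A)) (⊤ : Opens ↥(CohB1.ProjSpace n A))
  let c : Ext T (D.KZ.X (i : ℤ)) i ≃+ Ext T (Coh.toAb (D.term i)) i :=
    { toFun := fun x => x.comp (Ext.mk₀ iX.hom) (add_zero i)
      invFun := fun x => x.comp (Ext.mk₀ iX.inv) (add_zero i)
      left_inv := fun x => by simp only [Ext.comp_assoc_of_third_deg_zero, Ext.mk₀_comp_mk₀, Iso.hom_inv_id, Ext.comp_mk₀_id]
      right_inv := fun x => by simp only [Ext.comp_assoc_of_third_deg_zero, Ext.mk₀_comp_mk₀, Iso.inv_hom_id, Ext.comp_mk₀_id]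
      map_add' := fun x y => Ext.add_comp _ _ _ _ }
  let E := SiteBase.huTerminalEquiv (isTerminalTop : IsTerminal (⊤ : Opens ↥(CohB1.ProjSpace n A))) (Coh.toAb (D.term i)) i
  refine ⟨e₁.toAddEquiv.trans (Ψ.symm.trans (c.trans E)), fun a σ hσ x => ?_⟩
  show E (c (Ψ.symm (e₁ (a • x)))) = Sheaf.H.map σ i (E (c (Ψ.symm (e₁ x))))
  rw [map_smul, show Ψ.symm (a • e₁ x) = (Ψ.symm (e₁ x)).comp
      (Ext.mk₀ ((FiniteHT.termEnd ρ (i : ℤ)) a : D.KZ.X (i : ℤ) ⟶ D.KZ.X (i : ℤ))) (add_zero i) from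
    Ψ.symm_apply_eq.2 (by rw [hΨ, AddEquiv.apply_symm_apply])]
  generalize Ψ.symm (e₁ x) = y
  show E ((y.comp (Ext.mk₀ ((ρ a : D.KZ ⟶ D.KZ).f (i : ℤ))) (add_zero i)).comp (Ext.mk₀ iX.hom) (add_zero i)) =
    Sheaf.H.map σ i (E (c y))
  rw [Ext.comp_assoc_of_third_deg_zero, Ext.mk₀_comp_mk₀, hσ, ← Ext.mk₀_comp_mk₀, ← Ext.comp_assoc_of_third_deg_zero]
  show (Ext.mk₀ (SiteBase.freeSheafIsoConst _ isTerminalTop).inv).comp
      ((c y).comp (Ext.mk₀ σ) (add_zero i)) (zero_add i) = _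
  rw [← Ext.comp_assoc_of_third_deg_zero]
  rfl

end Groth.Agent.Synt29.DRPn
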