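import Mathlib
import Groth.Prelude.Def_DeRham

/-!
Lie derivatives on de Rham complexes, and forms of positive weight.
-/

set_option autoImplicit false

universe u v

namespace Groth.Agent.Synt29.Lie

variable {R : Type v} {A M : Type u} [CommRing R] [CommRing A] [Algebra R A] [AddCommGroup M] [Module A M]
  [Module R M] [IsScalarTower R A M]

/-- Contraction with a functional. -/
noncomputable def contr (φ : M →ₗ[A] A) (n : ℕ) : ↥(⋀[A]^(n + 1) M) →ₗ[A] ↥(⋀[A]^n M) :=
  exteriorPower.alternatingMapLinearEquiv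
    (AlternatingMap.alternatizeUncurryFin (φ.smulRight (exteriorPower.ιMulti A n)))

theorem contr_ιMulti (φ : M →ₗ[A] A) (n : ℕ) (v : Fin (n + 1) → M) :
    contr φ n (exteriorPower.ιMulti A (n + 1) v) =
      ∑ i : Fin (n + 1), (-1) ^ (i : ℕ) • (φ (v i) • exteriorPower.ιMulti A n (Fin.removeNth i v)) := by
  simp only [contr, exteriorPower.alternatingMapLinearEquiv_apply_ιMulti,
    AlternatingMap.alternatizeUncurryFin_apply]
  rfl

variable {δ : Derivation R A M} {d : ∀ p : ℕ, ↥(⋀[A]^p M) →ₗ[R] ↥(⋀[A]^(p + 1) M)}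

/-- The Lie derivative is diagonal on products of eigenfunctions. -/
theorem lie_gen (hd : DeRham.IsDiff δ d) (φ : M →ₗ[A] A) (n : ℕ) (b₀ : A) (b : Fin (n + 1) → A) (N₀ : ℕ)
    (N : Fin (n + 1) → ℕ) (h₀ : φ (δ b₀) = N₀ • b₀) (hN : ∀ i, φ (δ (b i)) = N i • b i) :
    contr φ (n + 1) (d (n + 1) (DeRham.gen δ (n + 1) b₀ b)) + d n (contr φ n (DeRham.gen δ (n + 1) b₀ b)) =
      (N₀ + ∑ i, N i) • DeRham.gen δ (n + 1) b₀ b := by
  classical
  set v : Fin (n + 1) → M := fun i => δ (b i) with hv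
  have hd' : ∀ (c : A) (I : Fin n → A), d n (c • exteriorPower.ιMulti A n fun i => δ (I i)) =
      exteriorPower.ιMulti A (n + 1) (Fin.cons (δ c) fun i => δ (I i)) := fun c I => hd.1 n c I
  have h1 : contr φ (n + 1) (d (n + 1) (DeRham.gen δ (n + 1) b₀ b)) =
      N₀ • DeRham.gen δ (n + 1) b₀ b -
        ∑ i : Fin (n + 1), (-1) ^ (i : ℕ) • (φ (v i) •
          exteriorPower.ιMulti A (n + 1) (Fin.cons (δ b₀) (Fin.removeNth i v))) := by
    rw [hd.1, contr_ιMulti, Fin.sum_univ_succ, sub_eq_add_neg, ← Finset.sum_neg_distrib]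
    refine congr_arg₂ (· + ·) ?_ (Finset.sum_congr rfl fun i _ => ?_)
    · simp only [Fin.val_zero, pow_zero, one_smul, Fin.cons_zero, Fin.removeNth_zero, Fin.tail_cons, h₀]
      rw [smul_assoc]
      rfl
    · simp only [Fin.cons_succ, Fin.val_succ, pow_succ, mul_neg_one, neg_smul]
      congr 4
      funext j
      refine Fin.cases ?_ (fun l => ?_) j
      · simp [Fin.removeNth]
      · simp [Fin.removeNth, Fin.succ_succAbove_succ, hv]
  have h2 : d n (contr φ n (DeRham.gen δ (n + 1) b₀ b)) =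
      ∑ i : Fin (n + 1), (-1) ^ (i : ℕ) • (φ (v i) •
          exteriorPower.ιMulti A (n + 1) (Fin.cons (δ b₀) (Fin.removeNth i v))) +
        (∑ i, N i) • DeRham.gen δ (n + 1) b₀ b := by
    rw [DeRham.gen, map_smul, contr_ιMulti, Finset.smul_sum, map_sum, Finset.sum_smul, ← Finset.sum_add_distrib]
    refine Finset.sum_congr rfl fun i _ => ?_
    have hrem : Fin.removeNth i v = fun j => δ (b (i.succAbove j)) := rfl
    rw [smul_comm b₀ ((-1 : ℤ) ^ (i : ℕ)), map_zsmul, smul_smul, hrem, hd', Derivation.leibniz]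
    have hsplit : ∀ (x y : M) (w : Fin n → M) (s t : A),
        exteriorPower.ιMulti A (n + 1) (Fin.cons (s • x + t • y) w) =
          s • exteriorPower.ιMulti A (n + 1) (Fin.cons x w) + t • exteriorPower.ιMulti A (n + 1) (Fin.cons y w) := by
      intro x y w s t
      have e : ∀ z, (Fin.cons z w : Fin (n + 1) → M) = Function.update (Fin.cons 0 w) 0 z :=
        fun z => (Fin.update_cons_zero ..).symm
      rw [e, AlternatingMap.map_update_add, AlternatingMap.map_update_smul, AlternatingMap.map_update_smul,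
        ← e, ← e]
    rw [hsplit, smul_add]
    refine (add_comm _ _).trans ?_
    congr 1
    have hins := (exteriorPower.ιMulti A (n + 1) (M := M)).neg_one_pow_smul_map_insertNth i (v i)
      (Fin.removeNth i v)
    rw [show Fin.insertNth i (v i) (Fin.removeNth i v) = v from Fin.insertNth_self_removeNth i v] at hins
    rw [show δ (φ (v i)) = ((N i : ℕ) : A) • v i by rw [hv, hN, map_nsmul, Nat.cast_smul_eq_nsmul],
      show (Fin.cons (((N i : ℕ) : A) • v i) fun j => δ (b (i.succAbove j)) : Fin (n + 1) → M) =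
        Function.update (Fin.cons 0 (Fin.removeNth i v)) 0 (((N i : ℕ) : A) • v i) from (Fin.update_cons_zero ..).symm,
      AlternatingMap.map_update_smul, Fin.update_cons_zero,
      show (Fin.cons (v i) (Fin.removeNth i v) : Fin (n + 1) → M) = Matrix.vecCons (v i) (Fin.removeNth i v) from rfl,
      ← hins, smul_comm b₀ ((N i : ℕ) : A), Nat.cast_smul_eq_nsmul, smul_comm ((-1 : ℤ) ^ (i : ℕ)) (N i),
      smul_comm ((-1 : ℤ) ^ (i : ℕ)) b₀, smul_smul ((-1 : ℤ) ^ (i : ℕ)), ← pow_add,
      Even.neg_one_pow ⟨(i : ℕ), rfl⟩, one_smul]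
  rw [h1, h2, add_smul]
  abel

theorem lie_gen_zero (hd : DeRham.IsDiff δ d) (φ : M →ₗ[A] A) (b₀ : A) (b : Fin 0 → A) (N₀ : ℕ)
    (h₀ : φ (δ b₀) = N₀ • b₀) :
    contr φ 0 (d 0 (DeRham.gen δ 0 b₀ b)) = N₀ • DeRham.gen δ 0 b₀ b := by
  rw [hd.1, contr_ιMulti, Fin.sum_univ_one]
  simp only [Fin.val_zero, pow_zero, one_smul, Fin.cons_zero, Fin.removeNth_zero, Fin.tail_cons, h₀]
  rw [smul_assoc]
  rfl

section Weights

variable {V : Type*} [AddCommGroup V] [Module R V]

/-- `(L - 1) ⋯ (L - N)`. -/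
noncomputable def kill (L : Module.End R V) : ℕ → Module.End R V
  | 0 => 1
  | N + 1 => kill L N * (L - ((N + 1 : ℕ) : Module.End R V))

theorem commute_kill (L : Module.End R V) (T : Module.End R V) (hT : Commute T L) :
    ∀ N, Commute T (kill L N)
  | 0 => Commute.one_right T
  | N + 1 => (commute_kill L T hT N).mul_right (hT.sub_right (Nat.commute_cast T _))

theorem kill_mono (L : Module.End R V) (w : V) {N N' : ℕ} (hNN : N ≤ N') (h : kill L N w = 0) :
    kill L N' w = 0 := by
  induction N', hNN using Nat.le_induction with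
  | base => exact h
  | succ m _ ih =>
    have := commute_kill L (L - ((m + 1 : ℕ) : Module.End R V))
      ((Commute.refl L).sub_left (Nat.commute_cast L _).symm) m
    rw [kill, ← this.eq, Module.End.mul_apply, ih, map_zero]

theorem kill_eq_zero_of_eigen (L : Module.End R V) (w : V) (N : ℕ) (h : L w = (N + 1) • w) :
    kill L (N + 1) w = 0 := by
  rw [kill, Module.End.mul_apply, LinearMap.sub_apply, Module.End.natCast_apply, h, sub_self, map_zero]

theorem mem_of_kill [Algebra ℚ R] (L : Module.End R V) (Z B : Submodule R V) (hB : ∀ z ∈ Z, L z ∈ B)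
    (hZ : ∀ z ∈ Z, L z ∈ Z) : ∀ (N : ℕ) (w : V), w ∈ Z → kill L N w = 0 → w ∈ B
  | 0, w, _, h => by
    rw [show w = 0 from h]
    exact B.zero_mem
  | N + 1, w, hw, h => by
    have hw' : L w - (N + 1) • w ∈ Z := sub_mem (hZ w hw) (nsmul_mem hw _)
    have h' := mem_of_kill L Z B hB hZ N _ hw' (by
      rw [kill, Module.End.mul_apply, LinearMap.sub_apply, Module.End.natCast_apply] at h
      exact h)
    have hm : (N + 1) • w ∈ B := by simpa using sub_mem (hB w hw) h'
    have hu : algebraMap ℚ R ((N + 1 : ℕ) : ℚ)⁻¹ * ((N + 1 : ℕ) : R) = 1 := by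
      rw [← map_natCast (algebraMap ℚ R), ← map_mul, inv_mul_cancel₀ (Nat.cast_ne_zero.2 (by omega)), map_one]
    have := B.smul_mem (algebraMap ℚ R ((N + 1 : ℕ) : ℚ)⁻¹) hm
    rwa [← Nat.cast_smul_eq_nsmul R, smul_smul, hu, one_smul] at this

end Weights

end Groth.Agent.Synt29.Lie
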