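import Groth.Agent.RingPO.Props2
import Groth.Agent.FrobSmoothLib.Global
import Groth.Prelude.Def_Frob

/-!
# The relative Frobenius of a smooth morphism is flat
-/

set_option autoImplicit false
set_option linter.style.haveILetI false

open CategoryTheory CategoryTheory.Limits AlgebraicGeometry TensorProduct

namespace Groth.Agent.Synt29

universe u

variable (p : ℕ) [Fact p.Prime]

theorem relFrob_flat_appLE {X S : Scheme.{u}} [FrobSch.IsCharP S p] (f : X ⟶ S) [Smooth f]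
    {U : X.Opens} (hU : IsAffineOpen U) {V : S.Opens} (hV : IsAffineOpen V) (hUV : U ≤ f ⁻¹ᵁ V)
    (hne : (U : Set X).Nonempty) :
    ∃ (hle : U ≤ FrobSch.relFrob f p ⁻¹ᵁ (pullback.fst f (FrobSch.frob S p) ⁻¹ᵁ U)),
      ((FrobSch.relFrob f p).appLE (pullback.fst f (FrobSch.frob S p) ⁻¹ᵁ U) U hle).hom.Flat := by
  haveI : FrobSch.IsCharP X p := FrobSch.IsCharP.of_hom f p
  haveI : IsAffineHom (FrobSch.frob S p) := ⟨fun W hW => hW⟩
  haveI : IsAffineHom (pullback.fst f (FrobSch.frob S p)) :=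
    isAffineHom_isStableUnderBaseChange.of_isPullback (IsPullback.of_hasPullback f (FrobSch.frob S p)).flip inferInstance
  let pr1 := pullback.fst f (FrobSch.frob S p)
  let pr2 := pullback.snd f (FrobSch.frob S p)
  let F := FrobSch.relFrob f p
  have h1 : F ≫ pr1 = FrobSch.frob X p := FrobSch.relFrob_fst f p
  have h2 : F ≫ pr2 = f := FrobSch.relFrob_snd f p
  have hle : U ≤ F ⁻¹ᵁ (pr1 ⁻¹ᵁ U) := by
    rw [← Scheme.Hom.comp_preimage, h1]; exact le_rfl
  have hWV : pr1 ⁻¹ᵁ U ≤ pr2 ⁻¹ᵁ V := by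
    intro z hz
    have hz' : f (pr1 z) ∈ V := hUV hz
    rw [← Scheme.Hom.comp_apply, pullback.condition, Scheme.Hom.comp_apply] at hz'
    exact hz'
  refine ⟨hle, ?_⟩
  obtain ⟨x, hx⟩ := hne
  haveI : Nontrivial Γ(S, V) := (S.presheaf.germ V (f x) (hUV hx)).hom.domain_nontrivial
  haveI : Nontrivial Γ(X, U) := (X.presheaf.germ U x hx).hom.domain_nontrivial
  haveI : CharP Γ(S, V) p :=
    (CharP.charP_iff_prime_eq_zero Fact.out).2 (FrobSch.natCast_eq_zero_app S p V)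
  haveI : CharP Γ(X, U) p :=
    (CharP.charP_iff_prime_eq_zero Fact.out).2 (FrobSch.natCast_eq_zero_app X p U)
  letI : Algebra Γ(S, V) Γ(X, U) := (f.appLE V U hUV).hom.toAlgebra
  haveI : Algebra.Smooth Γ(S, V) Γ(X, U) := by
    have h := HasRingHomProperty.appLE @Smooth f inferInstance ⟨V, hV⟩ ⟨U, hU⟩ hUV
    exact RingHom.smooth_algebraMap.1 h
  have hpo := RingPO.isPushout_appLE_of_isPullback
    (IsPullback.of_hasPullback f (FrobSch.frob S p)) hV hU hUV hV (W := V) rfl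
    (hU.preimage pr1) rfl hWV
  have hfr : (FrobSch.frob S p).appLE V V le_rfl =
      CommRingCat.ofHom (algebraMap Γ(S, V) (FrobAlg.Twist p Γ(S, V))) := by
    ext a
    change (((FrobSch.frob S p).app V ≫ S.presheaf.map (𝟙 _)) a) = a ^ p
    rw [CategoryTheory.Functor.map_id, Category.comp_id]
    rfl
  have hT : IsPushout (f.appLE V U hUV) ((FrobSch.frob S p).appLE V V le_rfl)
      (CommRingCat.ofHom (Algebra.TensorProduct.includeLeftRingHom
        (R := Γ(S, V)) (A := Γ(X, U)) (B := FrobAlg.Twist p Γ(S, V))))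
      (CommRingCat.ofHom (Algebra.TensorProduct.includeRight
        (R := Γ(S, V)) (A := Γ(X, U)) (B := FrobAlg.Twist p Γ(S, V))).toRingHom) := by
    rw [hfr]
    exact CommRingCat.isPushout_tensorProduct Γ(S, V) Γ(X, U) (FrobAlg.Twist p Γ(S, V))
  let e := hT.isoIsPushout _ _ hpo
  let φ := F.appLE (pr1 ⁻¹ᵁ U) U hle
  have appLE_congr_hom : ∀ (g g' : X ⟶ X) (_ : g = g') (e₁ : U ≤ g ⁻¹ᵁ U) (e₂ : U ≤ g' ⁻¹ᵁ U),
      g.appLE U U e₁ = g'.appLE U U e₂ := by rintro g g' rfl e₁ e₂; rfl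
  have appLE_congr_hom' : ∀ (g g' : X ⟶ S) (_ : g = g') (e₁ : U ≤ g ⁻¹ᵁ V) (e₂ : U ≤ g' ⁻¹ᵁ V),
      g.appLE V U e₁ = g'.appLE V U e₂ := by rintro g g' rfl e₁ e₂; rfl
  have ha : pr1.appLE U (pr1 ⁻¹ᵁ U) le_rfl ≫ φ = (FrobSch.frob X p).appLE U U le_rfl := by
    rw [Scheme.Hom.appLE_comp_appLE]
    exact appLE_congr_hom _ _ h1 _ _
  have hb : pr2.appLE V (pr1 ⁻¹ᵁ U) hWV ≫ φ = f.appLE V U hUV := by
    rw [Scheme.Hom.appLE_comp_appLE]
    exact appLE_congr_hom' _ _ h2 _ _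
  have key : (e.hom ≫ φ).hom = FrobAlg.relFrob p Γ(S, V) Γ(X, U) := by
    refine RingHom.ext fun z => ?_
    induction z using TensorProduct.induction_on with
    | zero => rw [map_zero, map_zero]
    | add a b iha ihb => rw [map_add, map_add, iha, ihb]
    | tmul b a =>
      have hl : (e.hom ≫ φ).hom (b ⊗ₜ[Γ(S, V)] (1 : FrobAlg.Twist p Γ(S, V))) = b ^ p := by
        have hh := congrArg (· ≫ φ) (hT.inl_isoIsPushout_hom _ _ hpo)
        simp only [Category.assoc] at hh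
        have := congr($(hh.trans ha).hom b)
        change _ = (((FrobSch.frob X p).app U ≫ X.presheaf.map (𝟙 _)) b) at this
        rw [CategoryTheory.Functor.map_id, Category.comp_id] at this
        exact this
      have hr : (e.hom ≫ φ).hom ((1 : Γ(X, U)) ⊗ₜ[Γ(S, V)] a) =
          algebraMap Γ(S, V) Γ(X, U) ((FrobAlg.toTwist p Γ(S, V)).symm a) := by
        have hh := congrArg (· ≫ φ) (hT.inr_isoIsPushout_hom _ _ hpo)
        simp only [Category.assoc] at hh
        exact congr($(hh.trans hb).hom a)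
      conv_lhs => rw [show b ⊗ₜ[Γ(S, V)] a = (b ⊗ₜ[Γ(S, V)] (1 : FrobAlg.Twist p Γ(S, V))) *
        ((1 : Γ(X, U)) ⊗ₜ[Γ(S, V)] a) from by
          rw [Algebra.TensorProduct.tmul_mul_tmul, mul_one, one_mul],
        map_mul, hl, hr]
      rw [FrobSmoothLib.relFrob_tmul']
  have hflat : (e.hom ≫ φ).hom.Flat := key ▸ FrobSmoothLib.flat_relFrob_any
  have : φ = e.inv ≫ (e.hom ≫ φ) := (e.inv_hom_id_assoc φ).symm
  show φ.hom.Flat
  rw [this, CommRingCat.hom_comp]
  exact (RingHom.Flat.of_bijective (f := e.inv.hom)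
    (ConcreteCategory.bijective_of_isIso e.inv)).comp hflat

/-- The relative Frobenius of a smooth morphism is flat. -/
theorem flat_relFrob {X S : Scheme.{u}} [FrobSch.IsCharP S p] (f : X ⟶ S) [Smooth f] :
    Flat (FrobSch.relFrob f p) := by
  haveI : IsAffineHom (FrobSch.frob S p) := ⟨fun W hW => hW⟩
  haveI : IsAffineHom (pullback.fst f (FrobSch.frob S p)) :=
    isAffineHom_isStableUnderBaseChange.of_isPullback (IsPullback.of_hasPullback f (FrobSch.frob S p)).flip inferInstance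
  refine (HasRingHomProperty.iff_exists_appLE (P := @Flat) (RingHom.Flat.stableUnderComposition.stableUnderCompositionWithLocalizationAway RingHom.Flat.holdsForLocalizationAway).left).2 fun x => ?_
  obtain ⟨V, hV, hxV, -⟩ := exists_isAffineOpen_mem_and_subset (x := f x) (U := ⊤) trivial
  obtain ⟨U, hU, hxU, hUV⟩ := exists_isAffineOpen_mem_and_subset (x := x) (U := f ⁻¹ᵁ V) hxV
  obtain ⟨hle, h⟩ := relFrob_flat_appLE p f hU hV hUV ⟨x, hxU⟩
  exact ⟨⟨_, hU.preimage (pullback.fst f (FrobSch.frob S p))⟩, ⟨U, hU⟩, hxU, hle, h⟩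

end Groth.Agent.Synt29
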