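import Groth.Agent.Synt29.LMStab
import Groth.Agent.ClosedHom7.Basic
import Groth.Agent.QCoh.DevissageP
import Groth.Agent.H28.GenPush
import Groth.Agent.Lib.CurveAmple
import Groth.Agent.Lib.CurveRR
import Groth.Agent.ParShLib.ResStalk

/-!
Kernels of evaluation maps onto line bundles of a curve on a surface (Lazarsfeld–Mukai bundles).
-/

set_option autoImplicit false
set_option linter.style.haveILetI false
set_option linter.unusedSectionVars false
set_option backward.isDefEq.respectTransparency false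
set_option backward.isDefEq.respectTransparency.types false
set_option maxHeartbeats 1000000

universe u

open CategoryTheory CategoryTheory.Limits AlgebraicGeometry TopologicalSpace Polynomial StabCat
open Groth.Agent Groth.Agent.H23.PicMul Groth.Agent.HilbPoly Groth.Agent.Synt29.SurfRankOne Groth.Agent.Synt29.K3Ext
open Groth.Agent.Synt29.LMStab
open scoped Groth.Agent.H23.PicMul

noncomputable section

namespace Groth.Agent.Synt29.LMCurve

attribute [local instance] H23.PicMul.clMonoid

section Push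

variable {X C : Scheme.{u}} (i : C ⟶ X) [IsClosedImmersion i]

/-- Surjectivity on stalks passes to direct images along closed immersions. -/
theorem surjective_push_stalk {M N : C.Modules} (f : M ⟶ N) (y : C)
    (h : Function.Surjective ((DerSch.stalkFunctor C y).map f).hom) :
    Function.Surjective ((DerSch.stalkFunctor X (i y)).map ((Coh.push i).map f)).hom := by
  intro z
  obtain ⟨V, hV, t, rfl⟩ := TopCat.Presheaf.exists_germ_eq ((Coh.push i).obj N).presheaf z
  obtain ⟨a, ha⟩ := h (N.presheaf.germ (i ⁻¹ᵁ V) y hV t)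
  obtain ⟨W, hW, c, rfl⟩ := TopCat.Presheaf.exists_germ_eq M.presheaf a
  have h1 := (DerSch.stalkFunctor_map_germ y f W hW c).symm.trans ha
  obtain ⟨W', hyW', iW, iV, heq⟩ := N.presheaf.germ_eq y hW hV _ _ h1
  obtain ⟨U₁, hU₁o, hU₁⟩ := i.isClosedEmbedding.isInducing.isOpen_iff.1 W'.2
  let V₁ : X.Opens := V ⊓ ⟨U₁, hU₁o⟩
  have hy₁ : i y ∈ V₁ := ⟨hV, by
    have : y ∈ i ⁻¹' U₁ := by rw [hU₁]; exact hyW'
    exact this⟩
  have hle : i ⁻¹ᵁ V₁ ≤ W' := fun p hp => by
    have : p ∈ i ⁻¹' U₁ := hp.2
    rw [hU₁] at this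
    exact this
  refine ⟨((Coh.push i).obj M).presheaf.germ V₁ (i y) hy₁ (AModX.res M (hle.trans iW.le) c), ?_⟩
  refine (DerSch.stalkFunctor_map_germ (i y) ((Coh.push i).map f) V₁ hy₁ _).trans ?_
  rw [← ((Coh.push i).obj N).presheaf.germ_res_apply (homOfLE (inf_le_left : V₁ ≤ V)) (i y) hy₁ t]
  refine congrArg _ ?_
  show f.app (i ⁻¹ᵁ V₁) (AModX.res M (hle.trans iW.le) c) =
    AModX.res N ((i.preimage_mono (inf_le_left : V₁ ≤ V)) : i ⁻¹ᵁ V₁ ≤ i ⁻¹ᵁ V) t
  rw [AModX.app_res, ← AModX.res_res iW.le hle]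
  refine (congrArg (AModX.res N hle) heq).trans ?_
  exact AModX.res_res _ _ _

variable [IsIntegral X] [IsLocallyNoetherian X] [IsIntegral C]

/-- A morphism to a torsion free module on the curve is determined in codimension at most one. -/
theorem eq_zero_of_comp {A : C.Modules} (hA : Coh.IsQCoh A) (htA : TorSh.IsTorsionFree A)
    (hx : Order.coheight (i (genericPoint C)) ≤ 1) {G₁ G₂ : X.Modules} (hG₁ : Coh.IsCoh G₁) (hG₂ : Coh.IsCoh G₂)
    (u : G₁ ⟶ G₂) (hu : ∀ x : X, Order.coheight x ≤ 1 → Function.Surjective ((DerSch.stalkFunctor X x).map u).hom)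
    (w : G₂ ⟶ (Coh.push i).obj A) (huw : u ≫ w = 0) : w = 0 := by
  have hc := QCoh.isCoh_cokernel hG₁.1 hG₂ u
  let U : X.Opens := ⟨(CohB1.support (cokernel u))ᶜ, (QCoh.isClosed_support_of_isFT hc.1 hc.2).isOpen_compl⟩
  have hηU : i (genericPoint C) ∈ U := notMem_support_cokernel u (hu _ hx)
  refine Scheme.Modules.hom_ext _ _ fun V => AddCommGrpCat.hom_ext (AddMonoidHom.ext fun s => ?_)
  show w.app V s = 0
  have h0 : ((Coh.push i).obj A).presheaf.map (homOfLE (inf_le_left : V ⊓ U ≤ V)).op (w.app V s) = 0 := by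
    refine TopCat.Presheaf.section_ext ⟨((Coh.push i).obj A).presheaf, ((Coh.push i).obj A).isSheaf⟩ (V ⊓ U) _ _
      fun z hz => ?_
    show ((Coh.push i).obj A).presheaf.germ (V ⊓ U) z hz _ = ((Coh.push i).obj A).presheaf.germ (V ⊓ U) z hz 0
    rw [map_zero, TopCat.Presheaf.germ_res_apply]
    refine (DerSch.stalkFunctor_map_germ z w V hz.1 s).symm.trans ?_
    obtain ⟨a, ha⟩ := surjective_of_notMem u (x := z) hz.2 (G₂.presheaf.germ V z hz.1 s)
    rw [← ha]
    show ((DerSch.stalkFunctor X z).map u ≫ (DerSch.stalkFunctor X z).map w).hom a = 0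
    haveI := DerSch.additive_stalkFunctor (X := X) z
    rw [← Functor.map_comp, huw, Functor.map_zero]
    rfl
  by_cases hV : genericPoint C ∈ i ⁻¹ᵁ V
  · refine TorLib.eq_zero_of_germ_genericPoint hA htA hV _ ?_
    have hW : genericPoint C ∈ i ⁻¹ᵁ (V ⊓ U) := ⟨hV, hηU⟩
    rw [← TopCat.Presheaf.germ_res_apply A.presheaf (homOfLE (i.preimage_mono (inf_le_left : V ⊓ U ≤ V)))
      (genericPoint C) hW]
    refine Eq.trans (congrArg _ (?_ : _ = (0 : Γ(A, i ⁻¹ᵁ (V ⊓ U))))) (map_zero _)
    exact h0
  · refine TopCat.Presheaf.section_ext ⟨A.presheaf, A.isSheaf⟩ (i ⁻¹ᵁ V) _ _ fun z hz => ?_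
    exact absurd ((genericPoint_specializes z).mem_open (i ⁻¹ᵁ V).2 hz) hV

end Push

section Surface

variable {k : Type u} [Field k] {X : Scheme.{u}} [X.Over (Spec (CommRingCat.of k))]
  [IsProper (X ↘ Spec (CommRingCat.of k))] [IsIntegral X] (hdim : topologicalKrullDim X = 2)
  {C : Scheme.{u}} (i : C ⟶ X) [IsClosedImmersion i] [IsIntegral C] (hC : topologicalKrullDim C = 1)

include hC in
theorem dim_range : topologicalKrullDim ↥(Set.range i) = 1 := by
  rw [← IsHomeomorph.topologicalKrullDim_eq _ i.isClosedEmbedding.isEmbedding.toHomeomorph.isHomeomorph, hC]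

include hdim hC in
theorem generic_notMem_range : genericPoint X ∉ Set.range i := fun h => by
  have hu : Set.range i = Set.univ := by
    refine Set.univ_subset_iff.1 ?_
    rw [← (genericPoint_spec X).def]
    exact closure_minimal (Set.singleton_subset_iff.2 h) i.isClosedEmbedding.isClosed_range
  have h1 := dim_range i hC
  rw [hu, IsHomeomorph.topologicalKrullDim_eq _ (Homeomorph.Set.univ X).isHomeomorph, hdim] at h1
  exact absurd h1 (by decide)

include k hdim hC in
theorem coheight_generic : Order.coheight (i (genericPoint C)) ≤ 1 := by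
  by_contra h
  have hc := isClosed_of_one_lt_coheight hdim (not_le.1 h)
  haveI : IsNoetherian X := CurveCohLib.isNoetherian_of_proper (k := k)
  haveI : JacobsonSpace X := LocallyOfFiniteType.jacobsonSpace (X ↘ Spec (CommRingCat.of k))
  have hsub : Set.range i ⊆ {i (genericPoint C)} := by
    rintro _ ⟨y, rfl⟩
    rw [← hc.closure_eq]
    exact ((genericPoint_specializes y).map i.continuous).mem_closure
  have h1 := (H23.TopDim.dim_le_dim_of_subset hsub).trans (dim_le_zero hc (Set.finite_singleton _))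
  rw [dim_range i hC] at h1
  exact absurd h1 (by decide)

include k hdim hC in
/-- The other points of the curve are closed points of codimension two. -/
theorem one_lt_coheight_of_ne {x : X} (hx : x ∈ Set.range i) (hne : x ≠ i (genericPoint C)) :
    1 < Order.coheight x := by
  haveI : IsNoetherian X := CurveCohLib.isNoetherian_of_proper (k := k)
  obtain ⟨y, rfl⟩ := hx
  have hlt : i y < i (genericPoint C) :=
    lt_of_le_not_ge ((genericPoint_specializes y).map i.continuous) fun h' =>
      hne (Specializes.antisymm h' ((genericPoint_specializes y).map i.continuous)).eq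
  have h1 := Order.coheight_add_one_le hlt
  have h2 : Order.coheight (i (genericPoint C)) ≠ 0 := fun h0 => by
    rw [Order.coheight_eq_zero] at h0
    refine generic_notMem_range hdim i hC ⟨genericPoint C, ?_⟩
    exact (Specializes.antisymm (h0 (RefX.specializes_genericPoint _)) (RefX.specializes_genericPoint _)).eq.symm
      |>.symm
  calc (1 : ℕ∞) < Order.coheight (i (genericPoint C)) + 1 := by
        have := ENat.one_le_iff_ne_zero.2 h2
        calc (1 : ℕ∞) < 1 + 1 := by decide
          _ ≤ Order.coheight (i (genericPoint C)) + 1 := by gcongr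
    _ ≤ _ := h1

variable {L : X.Modules} (hL : CohB1.IsAmple L)
  {pO : ℚ[X]} (hpO : ShStab.IsHilbPoly k X L (Coh.structureModule X) pO)
  [PicGrp.Law X] (hreg : ∀ x : X, IsRegularLocalRing (X.presheaf.stalk x))
  (hgen : ∀ c : PicLoc.PicSet X, ∃ n : ℤ, c = PicGrp.cls L hL.1 ^ n) (hp1 : pO.coeff 1 = 0)
  (hI : PicF.IsInvertible (ClSub.idealMod i.ker))
  (hIL : PicF.cl (ClSub.idealMod i.ker) * PicF.cl L = 1)
  {A : C.Modules} (hA : PicF.IsInvertible A) {e : ℕ} (lam : FlatMod.freeMod X e ⟶ (Coh.push i).obj A) [Epi lam]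

include hdim hL hpO hI hIL in
/-- The degree of the structure sheaf of the curve. -/
theorem hilb_quot {p : ℚ[X]} (hp : ShStab.IsHilbPoly k X L (ClSub.quotMod i.ker) p) :
    p.coeff 1 = 2 * pO.coeff 2 := by
  haveI : IsNoetherian X := CurveCohLib.isNoetherian_of_proper (k := k)
  have hIc := CurveDeg.isCoh_of_isInvertible hI
  have hOc : Coh.IsCoh (Coh.structureModule X) := QCoh.isCoh_structureModule'
  obtain ⟨pI, hpI, -, -⟩ := HilbPoly.exists_hilb (k := k) hL.1 hIc (dim_le hdim _)
  obtain ⟨-, h1⟩ := coeff_inv hdim hL hpO hI (j := 1) (by rw [pow_one, hIL]) hpI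
  haveI := ClosedHom7.epi_toSubscheme i.ker
  let S : ShortComplex X.Modules := ShortComplex.mk (kernel.ι (ClSub.toSubscheme i.ker))
    (ClSub.toSubscheme i.ker) (kernel.condition _)
  have hS : S.ShortExact := { exact := ShortComplex.exact_kernel _ }
  have h := HilbPoly.isHilbPoly_unique hpO
    (HilbPoly.hilb_add hL.1 hS hIc hOc (ParShLib.isCoh_quotMod i.ker) hpI hp)
  have h' := congrArg (fun q : ℚ[X] => q.coeff 1) h
  simp only [coeff_add] at h'
  push_cast at h1
  linarith

include hA lam in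
/-- A nonzero section of a module generated by its sections. -/
theorem exists_section : ∃ s : Γ(A, ⊤), s ≠ 0 := by
  by_contra! hc
  have h0 : lam = 0 := by
    refine Sigma.hom_ext _ _ fun j => ?_
    rw [Limits.comp_zero]
    exact CurveRR.hom_ext_one (hc _)
  have hz : IsZero ((Coh.push i).obj A) := (IsZero.iff_id_eq_zero _).2 ((cancel_epi lam).1 (by rw [h0]; simp))
  obtain ⟨U, hU, fr, hfr⟩ := InvX.exists_frame hA (genericPoint C)
  obtain ⟨U₁, hU₁o, hU₁⟩ := i.isClosedEmbedding.isInducing.isOpen_iff.1 U.2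
  have hpre : i ⁻¹ᵁ ⟨U₁, hU₁o⟩ = U := Opens.ext hU₁
  have hs : ∀ m : Γ((Coh.push i).obj A, (⟨U₁, hU₁o⟩ : X.Opens)), m = 0 :=
    fun m => congr(($((IsZero.iff_id_eq_zero _).1 hz)).app _ m)
  have hfr0 : fr = 0 := by
    have : ∀ (W : C.Opens), i ⁻¹ᵁ (⟨U₁, hU₁o⟩ : X.Opens) = W → ∀ m : Γ(A, W), m = 0 := by
      rintro _ rfl m
      exact hs m
    exact this U hpre fr
  have hb := (hfr.germ_bijective hU).1
  rw [hfr0, map_zero] at hb
  exact zero_ne_one (hb (show (fun a : C.presheaf.stalk (genericPoint C) => a • (0 : A.presheaf.stalk _)) 0 =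
    (fun a : C.presheaf.stalk (genericPoint C) => a • (0 : A.presheaf.stalk _)) 1 by simp))

include hdim hC hL hpO hI hIL hA lam in
/-- The degree of a line bundle of the curve. -/
theorem hilb_push {p : ℚ[X]} (hp : ShStab.IsHilbPoly k X L ((Coh.push i).obj A) p) :
    p.coeff 2 = 0 ∧ p.coeff 1 = 2 * pO.coeff 2 := by
  haveI : IsNoetherian X := CurveCohLib.isNoetherian_of_proper (k := k)
  haveI : IsLocallyNoetherian C := LocallyOfFiniteType.isLocallyNoetherian i
  have hAc : Coh.IsCoh A := CurveDeg.isCoh_of_isInvertible hA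
  have hPc := QCoh.isCoh_push i hAc
  have hOCi : PicF.IsInvertible (Coh.structureModule C) := InvX.isInvertible_structureModule
  have hOC := CurveDeg.isCoh_of_isInvertible hOCi
  have hη : genericPoint X ∉ CohB1.support ((Coh.push i).obj A) :=
    fun h => generic_notMem_range hdim i hC (QCoh.support_push_subset i hAc.1 h)
  obtain ⟨hd, -⟩ := hilb_props hL.1 hPc (d := 1)
    ((H23.TopDim.dim_le_dim_of_subset (QCoh.support_push_subset i hAc.1)).trans (dim_range i hC).le) hp
  refine ⟨coeff_eq_zero_of_natDegree_lt (by omega), ?_⟩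
  obtain ⟨s, hs⟩ := exists_section i hA lam
  haveI := CurveAmple.mono_ofSect hA hs
  haveI : (Scheme.Modules.pushforward i).IsRightAdjoint :=
    (Scheme.Modules.pullbackPushforwardAdjunction i).isRightAdjoint
  let g : (Coh.push i).obj (Coh.structureModule C) ⟶ (Coh.push i).obj A := (Coh.push i).map (InvX.ofSect s)
  haveI : Mono g := inferInstanceAs (Mono ((Scheme.Modules.pushforward i).map (InvX.ofSect s)))
  have hsurj := surjective_push_stalk i (InvX.ofSect s) (genericPoint C)
    (surjective_into_line hA (InvX.ofSect s) (CurveAmple.ofSect_ne_zero hs))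
  haveI : IsIso i.toImage := inferInstance
  haveI : IsReduced i.ker.subscheme := isReduced_of_isOpenImmersion (inv i.toImage)
  have hr : Set.range i.ker.subschemeι = Set.range i := by
    rw [Scheme.IdealSheafData.range_subschemeι, Scheme.Hom.support_ker]
    exact i.isClosedEmbedding.isClosed_range.closure_eq
  obtain ⟨e₀⟩ := QCoh.push_structure_iso i i.ker.subschemeι hr
  have hQc : Coh.IsCoh ((Coh.push i).obj (Coh.structureModule C)) := QCoh.isCoh_push i hOC
  obtain ⟨pQ, hpQ, -, -⟩ := HilbPoly.exists_hilb (k := k) hL.1 hQc (dim_le hdim _)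
  have hq := hilb_quot hdim i hL hpO hI hIL (HilbPoly.hilb_iso e₀.symm hpQ)
  have hcg := QCoh.isCoh_cokernel hQc.1 hPc g
  have hsmall : topologicalKrullDim ↥(CohB1.support (cokernel g)) ≤ ((0 : ℕ) : WithBot ℕ∞) := by
    refine dim_le_zero_of_coheight (k := k) hdim (QCoh.isClosed_support_of_isFT hcg.1 hcg.2) fun x hx => ?_
    refine one_lt_coheight_of_ne (k := k) hdim i hC ?_ fun h => notMem_support_cokernel g hsurj (h ▸ hx)
    by_contra hxr
    refine notMem_support_cokernel g (fun y => ⟨0, ?_⟩) hx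
    haveI : Subsingleton (((Coh.push i).obj A).presheaf.stalk x) :=
      not_not.1 fun h' => hxr (QCoh.support_push_subset i hAc.1 h')
    exact Subsingleton.elim (α := ((Coh.push i).obj A).presheaf.stalk x) _ _
  obtain ⟨-, h1⟩ := coeff_eq_of_small hdim hL hQc hPc g hpQ hp hsmall
  linarith

include k hdim hC hA in
theorem coh_kernel : Coh.IsCoh (kernel lam) ∧ Coh.IsCoh (FlatMod.freeMod X e) ∧
    TorSh.IsTorsionFree (FlatMod.freeMod X e) ∧ CurveCohLib.genRank (kernel lam) = e := by
  haveI : IsNoetherian X := CurveCohLib.isNoetherian_of_proper (k := k)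
  haveI : IsLocallyNoetherian C := LocallyOfFiniteType.isLocallyNoetherian i
  have hAc : Coh.IsCoh A := CurveDeg.isCoh_of_isInvertible hA
  have hr := GenusOneSS.isFinLocFreeOfRank_freeMod (X := X) e
  have hlf := H28.KvbModel.lf_of_rank hr
  have hEc : Coh.IsCoh (FlatMod.freeMod X e) := CurveDeg.isCoh_of_isFinLocFree hlf
  refine ⟨QCoh.isCoh_kernel hEc (QCoh.isCoh_push i hAc) lam, hEc, GenDiff29.isTorsionFree_of_isFinLocFree hlf, ?_⟩
  have h := CurveCohLib.genRank_add (S := ShortComplex.mk (kernel.ι lam) lam (kernel.condition lam))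
    { exact := ShortComplex.exact_kernel lam } hEc
  have h0 : CurveCohLib.genRank ((Coh.push i).obj A) = 0 :=
    genRank_zero_of_notMem fun h => generic_notMem_range hdim i hC (QCoh.support_push_subset i hAc.1 h)
  have he : CurveCohLib.genRank (FlatMod.freeMod X e) = e := CurveCohLib.genRank_eq hr
  dsimp only at h
  omega

variable (hlam : Function.Bijective (Sheaf.H.map ((SheafOfModules.toSheaf _).map lam) 0))

include hlam in
theorem eq_zero_of_comp_lam (v : Coh.structureModule X ⟶ FlatMod.freeMod X e) (hv : v ≫ lam = 0) : v = 0 := by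
  let eE := Sheaf.H.equiv₀ (Coh.toAb (FlatMod.freeMod X e)) isTerminalTop
  let eA := Sheaf.H.equiv₀ (Coh.toAb ((Coh.push i).obj A)) isTerminalTop
  let t : Γ(FlatMod.freeMod X e, ⊤) := v.app ⊤ (H23.Frame.one ⊤)
  have ht : lam.app ⊤ t = 0 := by
    show (v ≫ lam).app ⊤ (H23.Frame.one ⊤) = 0
    rw [hv]
    rfl
  have h1 := Sheaf.H.equiv₀_naturality isTerminalTop ((QCoh.toAbFunctor X).map lam) (eE.symm t)
  have h2 : eA (Sheaf.H.map ((QCoh.toAbFunctor X).map lam) 0 (eE.symm t)) = 0 := by
    exact h1.symm.trans ((congrArg _ (eE.apply_symm_apply t)).trans ht)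
  have h3 : Sheaf.H.map ((QCoh.toAbFunctor X).map lam) 0 (eE.symm t) = 0 :=
    eA.injective (h2.trans (map_zero eA).symm)
  have h4 : eE.symm t = 0 := hlam.1 (h3.trans (map_zero _).symm)
  have h5 : t = 0 := eE.symm.injective (h4.trans (map_zero eE.symm).symm)
  exact CurveRR.hom_ext_one h5

include hdim hC hL hpO hreg hgen hp1 hI hIL hA hlam in
/-- Stability. -/
theorem muStable : ShStab.IsMuStable k X L (kernel lam) 2 := by
  haveI : IsNoetherian X := CurveCohLib.isNoetherian_of_proper (k := k)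
  haveI : IsLocallyNoetherian C := LocallyOfFiniteType.isLocallyNoetherian i
  obtain ⟨hFc, hEc, htE, hrF⟩ := coh_kernel (k := k) hdim i hC hA lam
  have htF := tf_of_mono (kernel.ι lam) htE
  have hc := coeff_two_pos hdim hL hpO
  have hAc : Coh.IsCoh A := CurveDeg.isCoh_of_isInvertible hA
  obtain ⟨pA, hpA, -, -⟩ := HilbPoly.exists_hilb (k := k) hL.1 (QCoh.isCoh_push i hAc) (dim_le hdim _)
  obtain ⟨pE, hpE, -, -⟩ := HilbPoly.exists_hilb (k := k) hL.1 hEc (dim_le hdim _)
  obtain ⟨pF, hpF, -, -⟩ := HilbPoly.exists_hilb (k := k) hL.1 hFc (dim_le hdim _)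
  obtain ⟨a2, a1⟩ := hilb_push hdim i hC hL hpO hI hIL hA lam hpA
  obtain ⟨e2, e1⟩ := hilb_free hdim hL hpO hp1 e hpE
  have hadd := HilbPoly.isHilbPoly_unique hpE (HilbPoly.hilb_add hL.1
    (S := ShortComplex.mk (kernel.ι lam) lam (kernel.condition lam)) { exact := ShortComplex.exact_kernel lam }
    hFc hEc (QCoh.isCoh_push i hAc) hpF hpA)
  rw [hadd, coeff_add, a2, add_zero] at e2
  rw [hadd, coeff_add, a1] at e1
  have he : 1 ≤ e := by
    by_contra h
    obtain rfl : e = 0 := by omega
    have hzE : IsZero (FlatMod.freeMod X 0) := KFlatLib.isZero_freeMod_zero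
    have hz : IsZero ((Coh.push i).obj A) :=
      (IsZero.iff_id_eq_zero _).2 ((cancel_epi lam).1 (hzE.eq_of_src _ _))
    rw [HilbPoly.isHilbPoly_unique hpA (HilbPoly.hilb_isZero hz)] at a1
    simp at a1
    linarith
  have hF0 : ¬ IsZero (kernel lam) := fun hz => by
    have : CurveCohLib.genRank (kernel lam) = 0 := genRank_zero_of_notMem (by
      rw [QCoh.support_eq_empty_of_isZero hz hFc.1]
      exact Set.notMem_empty _)
    omega
  refine ⟨hFc, hF0, dim_support_eq hdim hFc (mem_support hFc htF hF0), fun G f hf hG hcon => ?_, ?_⟩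
  · haveI := hf
    by_cases hGη : genericPoint X ∈ CohB1.support G
    · rw [dim_support_eq hdim hG hGη] at hcon
      exact absurd hcon (by decide)
    · have hz : IsZero G := by
        by_contra h0
        exact hGη (mem_support hG (tf_of_mono f htF) h0)
      rw [QCoh.support_eq_empty_of_isZero hz hG.1] at hcon
      haveI : IsEmpty (IrreducibleCloseds ↥(∅ : Set X)) :=
        ⟨fun s => s.2.1.ne_empty (Set.eq_empty_of_isEmpty s.1)⟩
      rw [topologicalKrullDim, Order.krullDim_eq_bot_iff.2 inferInstance, WithBot.bot_add] at hcon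
      exact absurd hcon (by simp)
  intro G f hf hG pG pF' hpG hpF' hpos hlt
  haveI := hf
  obtain rfl := HilbPoly.isHilbPoly_unique hpF' hpF
  obtain ⟨g2, t, g1⟩ := rank_deg hdim hL hpO hreg hgen hp1 hG (tf_of_mono f htF) hpG
  simp only [alpha] at hpos hlt
  norm_num at hpos hlt
  rw [g2, e2] at hlt
  rw [g2] at hpos
  have hr1 : 0 < CurveCohLib.genRank G := by
    by_contra h
    rw [Nat.eq_zero_of_not_pos h] at hpos
    simp at hpos
  have hr2 : CurveCohLib.genRank G < e := by
    have : (CurveCohLib.genRank G : ℚ) < e := by nlinarith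
    exact_mod_cast this
  have hjoint : ∀ {M : X.Modules} (φ : M ⟶ FlatMod.freeMod X e), (∀ j, φ ≫ H23.Frame.proj X e j = 0) → φ = 0 :=
    fun φ h => by
      rw [← Category.comp_id φ, ← H23.Frame.total X e, Preadditive.comp_sum]
      exact Finset.sum_eq_zero fun j _ => by rw [← Category.assoc, h j, Limits.zero_comp]
  obtain ⟨hle, hex⟩ := le_free hdim hL hpO hreg hgen hp1 htE (H23.Frame.proj X e) hjoint (f ≫ kernel.ι lam) hG hpG
  have hG0 : ¬ IsZero G := fun hz => by
    rw [HilbPoly.isHilbPoly_unique hpG (HilbPoly.hilb_isZero hz), coeff_zero] at g2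
    have : (CurveCohLib.genRank G : ℚ) = 0 := by nlinarith
    exact hr1.ne' (by exact_mod_cast this)
  have hne : pG.coeff 1 ≠ 0 := fun h0 => by
    obtain ⟨G₁, g, hg, hG₁, p₁, hp₁, h₁2, h₁1⟩ := hex h0.ge hG0
    haveI := hg
    obtain ⟨u, v, huv, hv0, hu⟩ := exists_const hdim hL hpO hreg hgen hp1 hEc htE
      (reflexive_of_lf hEc (H28.KvbModel.lf_of_rank (GenusOneSS.isFinLocFreeOfRank_freeMod (X := X) e)))
      (g ≫ f ≫ kernel.ι lam) hG₁ hp₁ h₁2 h₁1
    have hw : v ≫ lam = 0 := by
      refine eq_zero_of_comp i hAc.1 (tf_line hA) (coheight_generic (k := k) hdim i hC) hG₁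
        QCoh.isCoh_structureModule' u hu (v ≫ lam) ?_
      rw [← Category.assoc, huv]
      simp
    exact hv0 (eq_zero_of_comp_lam i lam hlam v hw)
  have ht : t ≤ -1 := by
    by_contra h
    have : (0 : ℚ) ≤ t := by exact_mod_cast (by omega : (0 : ℤ) ≤ t)
    exact hne (le_antisymm hle (by rw [g1]; positivity))
  have ht' : (t : ℚ) ≤ -1 := by exact_mod_cast ht
  show hatSlope 2 pG < hatSlope 2 pF'
  simp only [hatSlope, alpha]
  norm_num
  rw [g2, g1, e2, show pF'.coeff 1 = -(2 * pO.coeff 2) by linarith]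
  have hr1' : (0 : ℚ) < CurveCohLib.genRank G := by exact_mod_cast hr1
  have hr2' : (CurveCohLib.genRank G : ℚ) < e := by exact_mod_cast hr2
  have hq1 : (0 : ℚ) < CurveCohLib.genRank G * pO.coeff 2 := mul_pos hr1' hc
  have hq2 : (0 : ℚ) < (e : ℚ) * pO.coeff 2 := mul_pos (hr1'.trans hr2') hc
  rw [div_lt_div_iff₀ (by linarith) (by linarith)]
  nlinarith [mul_pos hc hc, mul_le_mul_of_nonneg_right ht' (mul_pos (hr1'.trans hr2') (mul_pos hc hc)).le,
    mul_lt_mul_of_pos_right hr2' (mul_pos hc hc)]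

include k hdim hC hreg hA in
/-- The kernel is reflexive. -/
theorem isReflexive_kernel : RefHull.IsReflexive (kernel lam) := by
  haveI : IsNoetherian X := CurveCohLib.isNoetherian_of_proper (k := k)
  haveI : IsLocallyNoetherian C := LocallyOfFiniteType.isLocallyNoetherian i
  obtain ⟨hFc, hEc, htE, -⟩ := coh_kernel (k := k) hdim i hC hA lam
  have htF := tf_of_mono (kernel.ι lam) htE
  have hnorm := normal_of_regular hreg
  let F := kernel lam
  let β : F ⟶ RefHull.ddual F := RefHull.bidualMap F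
  have hDc : Coh.IsCoh (RefHull.ddual F) := RefX.isCoh_dual (RefX.isCoh_dual hFc)
  have hbij : ∀ x : X, Order.coheight x ≤ 1 → Function.Bijective ((DerSch.stalkFunctor X x).map β).hom := by
    intro x hx
    have hr : RefHull.IsReflexiveAt F x := by
      haveI := (hnorm x).1
      haveI := (hnorm x).2
      haveI := QCoh.finite_stalk_of_isFT hFc.1 hFc.2 x
      haveI : Module.IsTorsionFree (X.presheaf.stalk x) (F.presheaf.stalk x) := htF x
      rcases lt_or_eq_of_le hx with h | h
      · have hxη : x = genericPoint X := by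
          rw [ENat.lt_one_iff_eq_zero, Order.coheight_eq_zero] at h
          exact (Specializes.antisymm (h (RefX.specializes_genericPoint x)) (RefX.specializes_genericPoint x)).eq
        subst hxη
        letI : Field (X.presheaf.stalk (genericPoint X)) := inferInstanceAs (Field X.functionField)
        show Module.IsReflexive (X.presheaf.stalk (genericPoint X)) (F.presheaf.stalk (genericPoint X))
        infer_instance
      · have hd : ringKrullDim (X.presheaf.stalk x) = 1 := by
          rw [ringKrullDim_stalk_eq_coheight, h]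
          rfl
        haveI := CDiv6.isDVR_of_dim_eq_one (X.presheaf.stalk x) hd
        haveI : Module.Free (X.presheaf.stalk x) (F.presheaf.stalk x) := Module.free_of_finite_type_torsion_free'
        show Module.IsReflexive (X.presheaf.stalk x) (F.presheaf.stalk x)
        infer_instance
    have h := (RefX.stalkMap_bidual_bijective_iff hFc x).2 hr
    exact ⟨fun a b hab => h.1 (((stalkMap_eq β x a).trans hab).trans (stalkMap_eq β x b).symm), fun y => by
      obtain ⟨a, ha⟩ := h.2 y
      exact ⟨a, (stalkMap_eq β x a).symm.trans ha⟩⟩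
  have hη : Order.coheight (genericPoint X) ≤ 1 := by rw [RefX.coheight_genericPoint]; exact zero_le
  obtain ⟨ψ, hψ⟩ := exists_factor hnorm hEc
    (reflexive_of_lf hEc (H28.KvbModel.lf_of_rank (GenusOneSS.isFinLocFreeOfRank_freeMod (X := X) e)))
    β (kernel.ι lam) (hbij _ hη).1 fun x hx => (hbij x hx).2
  have hψl : ψ ≫ lam = 0 :=
    eq_zero_of_comp i (CurveDeg.isCoh_of_isInvertible hA).1 (tf_line hA) (coheight_generic (k := k) hdim i hC)
      hFc hDc β (fun x hx => (hbij x hx).2) (ψ ≫ lam) (by rw [← Category.assoc, hψ, kernel.condition])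
  let r : RefHull.ddual F ⟶ F := kernel.lift lam ψ hψl
  have hr : β ≫ r = 𝟙 F := by
    rw [← cancel_mono (kernel.ι lam), Category.assoc, kernel.lift_ι, hψ, Category.id_comp]
  have hrβ : r ≫ β = 𝟙 _ := by
    refine RefX.hom_ext_generic hDc
      (fun x => RefX.torsionFree_of_reflexive (RefX.isReflexiveAt_dual (RefX.isCoh_dual hFc) x)) fun v => ?_
    obtain ⟨a, rfl⟩ := (hbij _ hη).2 v
    rw [← stalkMap_eq, ← RefX.stalkMap_comp_apply, ← RefX.stalkMap_comp_apply, ← Category.assoc, hr,
      Category.id_comp, Category.comp_id]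
  exact ⟨r, hr, hrβ⟩

end Surface

end Groth.Agent.Synt29.LMCurve

end
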