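import Groth.Agent.Synt29.LMHom
import Groth.Agent.Synt29.LMCurve
import Groth.Agent.S15848
import Groth.Agent.Lib.SurfAdj
import Groth.Agent.PnCoh.Finite.HHLin

/-!
Numerical invariants of Lazarsfeld–Mukai bundles on a K3 surface.
-/

set_option autoImplicit false
set_option linter.style.haveILetI false
set_option linter.unusedSectionVars false
set_option backward.isDefEq.respectTransparency false
set_option backward.isDefEq.respectTransparency.types false
set_option maxHeartbeats 1000000

universe u

open CategoryTheory CategoryTheory.Limits AlgebraicGeometry TopologicalSpace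
open Groth.Agent Groth.Agent.H23.PicMul Groth.Agent.Synt29.SurfRankOne
open scoped Groth.Agent.H23.PicMul

noncomputable section

namespace Groth.Agent.Synt29.LMEuler

attribute [local instance] H23.PicMul.clMonoid

theorem arith (e h oX iI qu pO pA t F E oL IL quL pOL pAL tL FL EL HO HI Hq HpO HpA Ht HF : ℤ) {HE : ℤ}
    (a1 : pA = e - h) (b1 : oX = iI + qu) (b2 : oL - oX = IL - iI + (quL - qu)) (b3 : pA = pO + t)
    (b4 : pAL - pA = pOL - pO + (tL - t)) (b5 : E = F + pA) (b6 : EL - E = FL - F + (pAL - pA)) (b7 : tL = t)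
    (b8 : qu = pO) (b9 : quL - qu = pOL - pO) (b10 : E = e * oX) (b11 : EL - E = e * (oL - oX)) (eO : oX = 2)
    (i1 : IL = 2) (i2 : oL = iI)
    (c1 : HO = F) (c2 : HI = FL) (c3 : HO = HI + Hq) (c4 : HpA = HpO + Ht) (c5 : Ht = e * t) (c6 : HE = HF + HpA)
    (c7 : HE = e * HO) (c8 : Hq = HpO) : HF = 2 - 2 * (1 - qu - e * h) := by
  subst c8 c2 c1 i2 i1 b7 b8 a1
  rw [eO] at b1 b2 b10 b11
  have hL : oL = 2 - qu := by linarith
  rw [hL] at b11
  have ht : tL = e - h - qu := by linarith
  have hF : HO = e + h := by linarith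
  rw [ht] at c5
  rw [hF] at c7
  linarith

variable {k : Type u} [Field k] [IsAlgClosed k] [CharZero k] {X : Scheme.{u}}
  [X.Over (Spec (CommRingCat.of k))] [IsProper (X ↘ Spec (CommRingCat.of k))] [IsIntegral X]
  [Smooth (X ↘ Spec (CommRingCat.of k))] (hdim : topologicalKrullDim X = 2)
  {H : X.Modules} (hH : CohB1.IsAmple H)
  (hK : Canon.IsTopDiff (X ↘ Spec (CommRingCat.of k)) 2 (Coh.structureModule X))
  (hq : Module.finrank k (Coh.HH X (Coh.structureModule X) 1) = 0)

include hdim hH hK in
theorem finrank_h2_O : Module.finrank k (Coh.HH X (Coh.structureModule X) 2) = 1 := by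
  haveI : IsNoetherian X := CurveCohLib.isNoetherian_of_proper (k := k)
  have hOi : PicF.IsInvertible (Coh.structureModule X) := InvX.isInvertible_structureModule
  have h := LMHom.finrank_hh_hom_unit hdim hH hK (H23.PullPush.isFinLocFree_of_isInvertible hOi) (p := 2) le_rfl
  have hcl := LMHom.cl_hom_unit hOi
  rw [← one_def, mul_one, one_def] at hcl
  obtain ⟨e⟩ := cl_eq_iff.1 hcl
  rw [(CurveCohLib.hhEquiv (k := k) e 2).finrank_eq] at h
  rw [h]
  exact SurfAdj.finrank_h0 k X

include hdim hH hK hq in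
theorem euler_O : Curv2.euler k X (Coh.structureModule X) = 2 := by
  rw [LMHom.euler_three hdim hH QCoh.isQCoh_structureModule, hq, finrank_h2_O hdim hH hK, SurfAdj.finrank_h0]
  norm_num

variable {C : Scheme.{u}} [C.Over (Spec (CommRingCat.of k))] [IsIntegral C]
  (hC : topologicalKrullDim C = 1) (i : C ⟶ X) [IsClosedImmersion i]
  (hi : i ≫ (X ↘ Spec (CommRingCat.of k)) = C ↘ Spec (CommRingCat.of k))

include hi in
theorem finrank_push {M : C.Modules} (hM : Coh.IsQCoh M) (n : ℕ) :
    Module.finrank k (Coh.HH X ((Coh.push i).obj M) n) = Module.finrank k (Coh.HH C M n) := by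
  obtain ⟨l⟩ := PnCoh.exists_linearEquiv_push k i hi hM n
  exact l.finrank_eq.symm

omit [CharZero k] in
include k hi in
theorem isProper_curve : IsProper (C ↘ Spec (CommRingCat.of k)) := by
  rw [← hi]
  infer_instance

include hC hi in
theorem euler_push {M : C.Modules} (hM : Coh.IsQCoh M) :
    Curv2.euler k X ((Coh.push i).obj M) =
      (Module.finrank k (Coh.HH C M 0) : ℤ) - Module.finrank k (Coh.HH C M 1) := by
  haveI := isProper_curve (k := k) i hi
  haveI : IsNoetherian X := CurveCohLib.isNoetherian_of_proper (k := k)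
  rw [TFOneX.euler_push_closed k i hi hM, CurveRR.euler_eq_h0_sub_h1 k hC.le hM]

theorem nonempty_quot_iso : Nonempty (ClSub.quotMod i.ker ≅ (Coh.push i).obj (Coh.structureModule C)) := by
  haveI : IsIso i.toImage := inferInstance
  haveI : IsReduced i.ker.subscheme := isReduced_of_isOpenImmersion (inv i.toImage)
  have hr : Set.range i.ker.subschemeι = Set.range i := by
    rw [Scheme.IdealSheafData.range_subschemeι, Scheme.Hom.support_ker]
    exact i.isClosedEmbedding.isClosed_range.closure_eq
  exact QCoh.push_structure_iso i i.ker.subschemeι hr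

variable {A : C.Modules} (hA : PicF.IsInvertible A) {e : ℕ} (lam : FlatMod.freeMod X e ⟶ (Coh.push i).obj A) [Epi lam]

include k hdim hC hA lam in
/-- A map from the structure sheaf of the curve with finite cokernel. -/
theorem exists_finite_map : ∃ (g : (Coh.push i).obj (Coh.structureModule C) ⟶ (Coh.push i).obj A) (_ : Mono g),
    ∀ x ∈ CohB1.support (cokernel g), IsClosed ({x} : Set X) := by
  haveI : IsNoetherian X := CurveCohLib.isNoetherian_of_proper (k := k)
  haveI : IsLocallyNoetherian C := LocallyOfFiniteType.isLocallyNoetherian i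
  letI := H23.PicMul.law X
  have hAc : Coh.IsCoh A := CurveDeg.isCoh_of_isInvertible hA
  obtain ⟨s, hs⟩ := LMCurve.exists_section i hA lam
  haveI := CurveAmple.mono_ofSect hA hs
  haveI : (Scheme.Modules.pushforward i).IsRightAdjoint :=
    (Scheme.Modules.pullbackPushforwardAdjunction i).isRightAdjoint
  let g : (Coh.push i).obj (Coh.structureModule C) ⟶ (Coh.push i).obj A := (Coh.push i).map (InvX.ofSect s)
  haveI hm : Mono g := inferInstanceAs (Mono ((Scheme.Modules.pushforward i).map (InvX.ofSect s)))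
  have hsurj := LMCurve.surjective_push_stalk i (InvX.ofSect s) (genericPoint C)
    (K3Ext.surjective_into_line hA (InvX.ofSect s) (CurveAmple.ofSect_ne_zero hs))
  refine ⟨g, hm, fun x hx => isClosed_of_one_lt_coheight hdim
    (LMCurve.one_lt_coheight_of_ne (k := k) hdim i hC ?_ fun h => notMem_support_cokernel g hsurj (h ▸ hx))⟩
  by_contra hxr
  refine notMem_support_cokernel g (fun y => ⟨0, ?_⟩) hx
  haveI : Subsingleton (((Coh.push i).obj A).presheaf.stalk x) :=
    not_not.1 fun h' => hxr (QCoh.support_push_subset i hAc.1 h')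
  exact Subsingleton.elim (α := ((Coh.push i).obj A).presheaf.stalk x) _ _

include k hdim hC hA in
theorem kernel_facts : Coh.IsCoh (kernel lam) ∧ Coh.IsCoh (FlatMod.freeMod X e) ∧
    FlatMod.IsFinLocFree (kernel lam) ∧ FlatMod.IsFinLocFreeOfRank e (kernel lam) ∧
    Coh.IsCoh ((Coh.push i).obj A) := by
  haveI : IsNoetherian X := CurveCohLib.isNoetherian_of_proper (k := k)
  haveI : IsLocallyNoetherian C := LocallyOfFiniteType.isLocallyNoetherian i
  letI := H23.PicMul.law X
  have hAc : Coh.IsCoh A := CurveDeg.isCoh_of_isInvertible hA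
  obtain ⟨hFc, hEc, -, hr⟩ := LMCurve.coh_kernel (k := k) hdim i hC hA lam
  have hlf : FlatMod.IsFinLocFree (kernel lam) :=
    S15848.result k X hdim C i hC A hAc (K3Ext.tf_line hA) (FlatMod.freeMod X e)
      (H28.KvbModel.lf_of_rank (GenusOneSS.isFinLocFreeOfRank_freeMod (X := X) e)) lam
  have h := CurveCohLib.isFinLocFreeOfRank_genRank hlf
  rw [hr] at h
  exact ⟨hFc, hEc, hlf, h, QCoh.isCoh_push i hAc⟩

variable (hlam : Function.Bijective (Sheaf.H.map ((SheafOfModules.toSheaf _).map lam) 0))

include hi hA hlam in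
theorem finrank_h0_curve : Module.finrank k (Coh.HH C A 0) = e := by
  haveI : IsLocallyNoetherian X := by
    haveI := CurveCohLib.isNoetherian_of_proper (k := k) (X := X)
    infer_instance
  haveI : IsLocallyNoetherian C := LocallyOfFiniteType.isLocallyNoetherian i
  rw [← finrank_push i hi (CurveDeg.isCoh_of_isInvertible hA).1 0,
    ← (LinearEquiv.ofBijective (Canon.HHlin k lam 0) hlam).finrank_eq, GenusOneSS.finrank_h0_freeMod]

omit [IsAlgClosed k] [CharZero k] in
/-- The Euler characteristic after twisting, minus the Euler characteristic. -/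
theorem additive_twist {L : X.Modules} (hL : PicF.IsInvertible L) :
    HilbPoly.Additive fun G : X.Modules => Curv2.euler k X (CohB1.tensorMod G L) - Curv2.euler k X G := by
  haveI : IsNoetherian X := CurveCohLib.isNoetherian_of_proper (k := k)
  exact ((HilbPoly.additive_euler k).shift hL).sub (HilbPoly.additive_euler k)

omit [IsAlgClosed k] [CharZero k] in
/-- An additive function on free modules. -/
theorem additive_free {φ : X.Modules → ℤ} (hφ : HilbPoly.Additive φ) [IsNoetherian X] (n : ℕ) :
    φ (FlatMod.freeMod X n) = n * φ (Coh.structureModule X) := by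
  have hc : ∀ m, Coh.IsCoh (FlatMod.freeMod X m) := fun m =>
    CurveDeg.isCoh_of_isFinLocFree (GenusOneSS.isFinLocFree_freeMod m)
  induction n with
  | zero => rw [hφ.zero_of_isZero KFlatLib.isZero_freeMod_zero]; simp
  | succ n ih =>
    rw [hφ.add _ (GenusOneSS.shortExact_last (X := X) n) QCoh.isCoh_structureModule' (hc (n + 1)) (hc n), ih]
    push_cast
    ring

omit [IsAlgClosed k] [CharZero k] in
/-- Twisting by a line bundle does not change the Euler characteristic of a module with finite support. -/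
theorem euler_twist_finite {I L : X.Modules} (hI : PicF.IsInvertible I) (hIL : PicF.cl L * PicF.cl I = 1)
    {T : X.Modules} (hT : Coh.IsCoh T) (hfin : ∀ x ∈ CohB1.support T, IsClosed ({x} : Set X)) :
    Curv2.euler k X (CohB1.tensorMod T L) = Curv2.euler k X T := by
  haveI : IsNoetherian X := CurveCohLib.isNoetherian_of_proper (k := k)
  have hlf := H23.PullPush.isFinLocFree_of_isInvertible hI
  obtain ⟨eT⟩ := LMHom.nonempty_tensor_dual hlf T
  obtain ⟨eD⟩ := LMHom.nonempty_hom_iso_homSh (QCoh.isFP_of_isFinLocFree hlf) (Coh.structureModule X)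
  obtain ⟨eI⟩ := cl_eq_iff.1 (show PicF.cl L = PicF.cl ((SheafHomX.hom I).obj (Coh.structureModule X)) from
    (isUnit_cl hI).mul_left_injective (hIL.trans (LMHom.cl_hom_unit hI).symm))
  rw [(HilbPoly.additive_euler k).iso (CohB1.tensorMod T L) ((SheafHomX.hom I).obj T) (cl_eq_iff.1 (by
    rw [cl_eq_iff.2 ⟨eT⟩, cl_tensor, cl_tensor, cl_eq_iff.2 ⟨eI⟩, cl_eq_iff.2 ⟨eD⟩, mul_comm])), LMHom.euler_hom_finite (InvEnd.isFinLocFreeOfRank_one hI) hT hfin]
  simp

include hdim hH hK hq in
/-- Twisting by the inverse of an invertible module. -/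
theorem euler_inverse {I L : X.Modules} (hI : PicF.IsInvertible I) (hIL : PicF.cl L * PicF.cl I = 1) :
    Curv2.euler k X (CohB1.tensorMod I L) = 2 ∧
      Curv2.euler k X (CohB1.tensorMod (Coh.structureModule X) L) = Curv2.euler k X I := by
  haveI : IsNoetherian X := CurveCohLib.isNoetherian_of_proper (k := k)
  constructor
  · rw [(HilbPoly.additive_euler k).iso (CohB1.tensorMod I L) (Coh.structureModule X)
      (cl_eq_iff.1 (by rw [cl_tensor, mul_comm, hIL]; rfl))]
    exact euler_O hdim hH hK hq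
  · obtain ⟨eI⟩ := cl_eq_iff.1 (show PicF.cl (CohB1.tensorMod (Coh.structureModule X) L) =
        PicF.cl ((SheafHomX.hom I).obj (Coh.structureModule X)) by
      rw [cl_tensor, ← one_def, one_mul]
      exact (isUnit_cl hI).mul_left_injective (hIL.trans (LMHom.cl_hom_unit hI).symm))
    rw [(HilbPoly.additive_euler k).iso _ _ ⟨eI⟩]
    exact LMHom.euler_hom_unit hdim hH hK (H23.PullPush.isFinLocFree_of_isInvertible hI)

include hdim hH hK hq hC hi hA hlam in
/-- The Euler characteristic of endomorphisms. -/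
theorem euler_end : Curv2.euler k X ((SheafHomX.hom (kernel lam)).obj (kernel lam)) =
    2 - 2 * ((Curv2.genus k C : ℤ) -
      (Module.finrank k (Coh.HH C A 0) : ℤ) * (Module.finrank k (Coh.HH C A 1) : ℤ)) := by
  haveI : IsNoetherian X := CurveCohLib.isNoetherian_of_proper (k := k)
  haveI : IsLocallyNoetherian C := LocallyOfFiniteType.isLocallyNoetherian i
  haveI := isProper_curve (k := k) i hi
  obtain ⟨hFc, hEc, hlf, hr, hPc⟩ := kernel_facts (k := k) hdim hC i hA lam
  have hS : (ShortComplex.mk (kernel.ι lam) lam (kernel.condition lam)).ShortExact :=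
    { exact := ShortComplex.exact_kernel lam }
  have hOc : Coh.IsCoh (Coh.structureModule X) := QCoh.isCoh_structureModule'
  have hI : PicF.IsInvertible (ClSub.idealMod i.ker) :=
    CurveOnSurf.isInvertible_ideal (X ↘ Spec (CommRingCat.of k)) hdim (SurfHodge.regular k) i hC
  obtain ⟨L, hL, hcl⟩ := K3Ext.exists_inv_pow hI 1
  rw [pow_one] at hcl
  have hadd := HilbPoly.additive_euler (X := X) k
  have hΔ := additive_twist (k := k) hL
  have hIc := CurveDeg.isCoh_of_isInvertible hI
  haveI := ClosedHom7.epi_toSubscheme i.ker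
  have hSq : (ShortComplex.mk (kernel.ι (ClSub.toSubscheme i.ker)) (ClSub.toSubscheme i.ker)
      (kernel.condition _)).ShortExact := { exact := ShortComplex.exact_kernel _ }
  have hQc : Coh.IsCoh (ClSub.quotMod i.ker) := ParShLib.isCoh_quotMod i.ker
  obtain ⟨eQ⟩ := nonempty_quot_iso i
  obtain ⟨g, hg, hgfin⟩ := exists_finite_map (k := k) hdim hC i hA lam
  haveI := hg
  have hOCc : Coh.IsCoh (Coh.structureModule C) := QCoh.isCoh_structureModule'
  have hPOc : Coh.IsCoh ((Coh.push i).obj (Coh.structureModule C)) := QCoh.isCoh_push i hOCc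
  have hTc : Coh.IsCoh (cokernel g) := QCoh.isCoh_cokernel hPOc.1 hPc g
  have hSg : (ShortComplex.mk g (cokernel.π g) (cokernel.condition g)).ShortExact :=
    { exact := ShortComplex.exact_cokernel g }
  obtain ⟨i1, i2⟩ := euler_inverse hdim hH hK hq hI hcl
  have eO := euler_O hdim hH hK hq
  have hgen : (Curv2.genus k C : ℤ) = 1 - Curv2.euler k X (ClSub.quotMod i.ker) := by
    have h := euler_push hC i hi (QCoh.isQCoh_structureModule (X := C))
    rw [SurfAdj.finrank_h0 k C, ← hadd.iso _ _ ⟨eQ⟩] at h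
    rw [h]
    show (Module.finrank k (Coh.HH C (Coh.structureModule C) 1) : ℤ) = _
    push_cast
    ring
  have hA0 := finrank_h0_curve i hi hA lam hlam
  have a1 := euler_push hC i hi (CurveDeg.isCoh_of_isInvertible hA).1
  rw [hA0] at a1
  have b1 := hadd.add _ hSq hIc hOc hQc
  have b2 := hΔ.add _ hSq hIc hOc hQc
  have b3 := hadd.add _ hSg hPOc hPc hTc
  have b4 := hΔ.add _ hSg hPOc hPc hTc
  have b5 := hadd.add _ hS hFc hEc hPc
  have b6 := hΔ.add _ hS hFc hEc hPc
  have b7 := euler_twist_finite (k := k) hI hcl hTc hgfin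
  have b8 := hadd.iso _ _ ⟨eQ⟩
  have b9 := hΔ.iso _ _ ⟨eQ⟩
  have b10 := additive_free hadd e
  have b11 := additive_free hΔ e
  have c1 := LMHom.euler_hom_unit hdim hH hK hlf
  obtain ⟨a⟩ := LMHom.nonempty_hom_inverse (E := kernel lam) hL (I := ClSub.idealMod i.ker)
    (by rw [mul_comm, hcl])
  have c2 := (hadd.iso _ _ ⟨a⟩).trans (LMHom.euler_hom_unit hdim hH hK
      (PnEuler.isFinLocFree_tensorMod hlf (H23.PullPush.isFinLocFree_of_isInvertible hL)))
  have c3 := LMHom.euler_hom_add (k := k) hlf hSq hIc hOc hQc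
  have c4 := LMHom.euler_hom_add (k := k) hlf hSg hPOc hPc hTc
  have c5 := LMHom.euler_hom_finite (k := k) hr hTc hgfin
  have c6 := LMHom.euler_hom_add (k := k) hlf hS hFc hEc hPc
  have c7 := LMHom.euler_hom_free (k := k) hlf e
  have c8 := hadd.iso _ _ ⟨(SheafHomX.hom (kernel lam)).mapIso eQ⟩
  dsimp only at b1 b2 b3 b4 b5 b6 b9 b11 c3 c4 c6
  rw [hA0, hgen]
  exact arith _ _ _ _ _ _ _ _ _ _ _ _ _ _ _ _ _ _ _ _ _ _ _ _ _ a1 b1 b2 b3 b4 b5 b6 b7 b8 b9 b10 b11 eO i1 i2
    c1 c2 c3 c4 c5 c6 c7 c8

end Groth.Agent.Synt29.LMEuler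

end
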