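import Groth.Agent.Lib.DivisorExt
import Groth.Agent.Lib.SmoothTop
import Groth.Agent.Lib.SurfAdj
import Groth.Agent.H9Misc.LocFreeHomTensor
import Groth.Agent.SheafHomY.Ext
import Groth.Agent.Synt29.LMHom
import Groth.Agent.Synt29.K3Ext

/-!
Biduality for modules with a length one locally free resolution.
-/

set_option autoImplicit false
set_option linter.style.haveILetI false
set_option linter.unusedSectionVars false
set_option backward.isDefEq.respectTransparency false
set_option backward.isDefEq.respectTransparency.types false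
set_option maxHeartbeats 1000000

universe u

open CategoryTheory CategoryTheory.Limits AlgebraicGeometry TopologicalSpace
open Groth.Agent Groth.Agent.SheafHomX

noncomputable section

namespace Groth.Agent.Synt29.SurfBidual

variable {X : Scheme.{u}}

open H9Misc.LocFreeHomTensor H9Misc.LocFreeNat in
/-- The double dual with values in a fixed module. -/
def dd (ω : X.Modules) : X.Modules ⥤ X.Modules where
  obj E := (hom ((hom E).obj ω)).obj ω
  map h := (homMap ((homMap h).app ω)).app ω
  map_id E := by rw [homMap_id, homMap_id]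
  map_comp f g := by rw [← homMap_comp, homMap_comp]

instance (ω : X.Modules) : (dd ω).Additive where
  map_add {E E' f g} := by
    show (homMap ((homMap (f + g)).app _)).app _ = _
    rw [homMap_add, homMap_add]
    rfl

open H9Misc.LocFreeHomTensor in
/-- The map to the double dual. -/
def bidualApp (ω E : X.Modules) : E ⟶ (hom ((hom E).obj ω)).obj ω :=
  (adj ((hom E).obj ω)).homEquiv E ω ((σ E ((hom E).obj ω)).hom ≫ (adj E).counit.app ω)

open H9Misc.LocFreeHomTensor in
/-- The map to the double dual, naturally. -/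
def bidual (ω : X.Modules) : 𝟭 X.Modules ⟶ dd ω where
  app E := bidualApp ω E
  naturality E E' h := by
    show h ≫ bidualApp ω E' = bidualApp ω E ≫ (homMap ((homMap h).app ω)).app ω
    refine hom_ext ?_
    rw [bidualApp, bidualApp, Adjunction.homEquiv_naturality_left_symm, homEquiv_homMap, Equiv.symm_apply_apply,
      Equiv.symm_apply_apply]
    have h2 : ((DCoh.tensorBi (X := X)).map ((homMap h).app ω)).app E ≫ (adj E).counit.app ω =
      ((DCoh.tensorBi (X := X)).obj ((hom E').obj ω)).map h ≫ (adj E').counit.app ω :=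
      (conjugateEquiv_counit _ _ _ _ : (ten E).map ((homMap h).app ω) ≫ (adj E).counit.app ω =
        ((DCoh.tensorBi (X := X)).flip.map h).app ((hom E').obj ω) ≫ (adj E').counit.app ω)
    show ((DCoh.tensorBi (X := X)).map h).app ((hom E').obj ω) ≫ (σ E' ((hom E').obj ω)).hom ≫ _ =
      ((DCoh.tensorBi (X := X)).obj E).map ((homMap h).app ω) ≫ (σ E ((hom E).obj ω)).hom ≫ _
    rw [← Category.assoc, σ_naturality_left, ← Category.assoc (((DCoh.tensorBi (X := X)).obj E).map _),
      σ_naturality_right, Category.assoc, Category.assoc, h2]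

open H9Misc.LocFreeHomTensor in
theorem isIso_bidual_structure {ω : X.Modules} (hω : PicF.IsInvertible ω) :
    IsIso ((bidual ω).app (Coh.structureModule X)) := by
  let O := Coh.structureModule X
  haveI : (hom O).Full := Functor.Full.of_iso (SheafHomX.unitIso X).symm
  haveI : (hom O).Faithful := Functor.Faithful.of_iso (SheafHomX.unitIso X).symm
  haveI : IsIso ((adj O).counit.app ω) := inferInstance
  haveI : ((DCoh.tensorBi (X := X)).obj ω).IsEquivalence := H26.IdealCl.isEquivalence_tensor hω
  let e : ten ((hom O).obj ω) ≅ ten ω := (DCoh.tensorBi (X := X)).flip.mapIso ((SheafHomX.unitIso X).app ω)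
  haveI : (ten ω).IsEquivalence := Functor.isEquivalence_of_iso ((KFlatLib.tensorBiFlipIso X).app ω).symm
  haveI : (ten ((hom O).obj ω)).Full := Functor.Full.of_iso e.symm
  haveI : (ten ((hom O).obj ω)).Faithful := Functor.Faithful.of_iso e.symm
  haveI : IsIso ((adj ((hom O).obj ω)).unit.app O) := inferInstance
  show IsIso ((adj ((hom O).obj ω)).homEquiv _ _ ((σ O ((hom O).obj ω)).hom ≫ (adj O).counit.app ω))
  rw [Adjunction.homEquiv_unit]
  infer_instance

open H9Misc.LocFreeNat in
theorem isIso_bidual {ω : X.Modules} (hω : PicF.IsInvertible ω) {E : X.Modules} (hE : FlatMod.IsFinLocFree E) :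
    IsIso ((bidual ω).app E) := by
  haveI := isIso_bidual_structure hω
  refine isIso_of_structure (𝟙 X) (localIso_id X) (fun U P Q h hh => ?_) (bidual ω) hE
  haveI := hh
  haveI := SheafHomY.isIso_restrict_homMap U.ι h ω
  exact SheafHomY.isIso_restrict_homMap U.ι ((homMap h).app ω) ω

/-- The first local Ext sheaf out of a quotient of a locally free module. -/
theorem nonempty_ext_iso {S : ShortComplex X.Modules} (hS : S.ShortExact) (h2 : FlatMod.IsFinLocFree S.X₂)
    {ω : X.Modules} [DCoh.HasSheafHom S.X₃] [(DCoh.sheafHom S.X₃).Additive] [HasInjectiveResolutions X.Modules] :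
    Nonempty (((DCoh.sheafHom S.X₃).rightDerived 1).obj ω ≅ cokernel ((homMap S.f).app ω)) := by
  let I : InjectiveResolution ω := InjectiveResolution.of _
  haveI : (hom S.X₃).Additive := additive_hom S.X₃
  have hz : IsZero ((ExtShShift.cx I S.X₂).homology 1) :=
    ExtShShift.isZero_of_exact I S.X₂ (fun u hu => by haveI := hu; exact AmpleVan.epi_hom_map h2 u) 0
  obtain ⟨w, hc⟩ := ExtShShift.exists_shortExact I hS
  have hex := hc.homology_exact₃ 0 1 rfl
  haveI : Epi (hc.δ 0 1 rfl) := (hc.homology_exact₁ 0 1 rfl).epi_f (hz.eq_of_tgt _ _)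
  exact ⟨I.isoRightDerivedObj (DCoh.sheafHom S.X₃) 1 ≪≫
    (HomologicalComplex.homologyFunctor _ _ 1).mapIso
      ((NatIso.mapHomologicalComplex (SheafHomY.sheafHomLeftIso S.X₃) _).app I.cocomplex) ≪≫
    (IsColimit.coconePointUniqueUpToIso (cokernelIsCokernel _) hex.gIsCokernel).symm ≪≫
    cokernel.mapIso _ _ (ExtShShift.zeroIso I _).symm (ExtShShift.zeroIso I _).symm (by
      show HomologicalComplex.homologyMap (ExtShShift.cxMap I S.f) 0 ≫ (ExtShShift.zeroIso I _).inv =
        (ExtShShift.zeroIso I _).inv ≫ (homMap S.f).app ω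
      rw [Iso.eq_inv_comp, ← Category.assoc, Iso.comp_inv_eq, ExtShShift.zeroIso_naturality])⟩

variable [IsIntegral X] [IsLocallyNoetherian X]

/-- No homomorphisms out of a module with vanishing generic stalk into a torsion free one. -/
theorem isZero_hom_of_generic {F ω : X.Modules} (hω : Coh.IsQCoh ω) (htω : TorSh.IsTorsionFree ω)
    [Subsingleton (F.presheaf.stalk (genericPoint X))] : IsZero ((hom F).obj ω) := by
  refine (IsZero.iff_id_eq_zero _).2 (hom_ext ?_)
  rw [Adjunction.homEquiv_counit, Adjunction.homEquiv_counit, Functor.map_zero, zero_comp]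
  refine SurfRankOne.eq_zero_of_stalk_zero hω htω _ ?_
  let e := KFlatLib.stalkTensorIso (genericPoint X) ((hom F).obj ω) F
  haveI : Subsingleton ((DerSch.stalkFunctor X (genericPoint X)).obj F) :=
    ‹Subsingleton (F.presheaf.stalk (genericPoint X))›
  have h0 : IsZero ((DerSch.stalkFunctor X (genericPoint X)).obj ((ten F).obj ((hom F).obj ω))) :=
    ((Functor.map_isZero (MonoidalCategory.tensorLeft ((DerSch.stalkFunctor X (genericPoint X)).obj ((hom F).obj ω)))
      (ModuleCat.isZero_of_subsingleton ((DerSch.stalkFunctor X (genericPoint X)).obj F))).of_iso e.symm)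
  intro v
  rw [h0.eq_of_src ((DerSch.stalkFunctor X (genericPoint X)).map _) 0]
  rfl

/-- Biduality. -/
theorem nonempty_bidual_iso {E₁ E₀ F : X.Modules} (u : E₁ ⟶ E₀) (p : E₀ ⟶ F) (w : u ≫ p = 0)
    (hS : (ShortComplex.mk u p w).ShortExact) (h₁ : FlatMod.IsFinLocFree E₁) (h₀ : FlatMod.IsFinLocFree E₀)
    [Subsingleton (F.presheaf.stalk (genericPoint X))] {ω : X.Modules} (hω : PicF.IsInvertible ω)
    [HasInjectiveResolutions X.Modules] [DCoh.HasSheafHom F] [(DCoh.sheafHom F).Additive]
    [DCoh.HasSheafHom (((DCoh.sheafHom F).rightDerived 1).obj ω)]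
    [(DCoh.sheafHom (((DCoh.sheafHom F).rightDerived 1).obj ω)).Additive] :
    Nonempty (((DCoh.sheafHom (((DCoh.sheafHom F).rightDerived 1).obj ω)).rightDerived 1).obj ω ≅ F) := by
  let A := ((DCoh.sheafHom F).rightDerived 1).obj ω
  obtain ⟨e⟩ := nonempty_ext_iso (S := ShortComplex.mk u p w) hS h₀ (ω := ω)
  let v := (homMap u).app ω
  haveI : Epi p := hS.epi_g
  haveI : Mono v := by
    obtain ⟨z, -, hex⟩ := ExtShShift.homMap_exact hS.exact ω
    exact hex.mono_g ((isZero_hom_of_generic (CurveDeg.isCoh_of_isInvertible hω).1 (K3Ext.tf_line hω)).eq_of_src _ _)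
  let S' : ShortComplex X.Modules := ShortComplex.mk v (cokernel.π v ≫ e.inv)
    (by rw [← Category.assoc, cokernel.condition, zero_comp])
  have hS' : S'.ShortExact := by
    refine ShortComplex.shortExact_of_iso ?_
      (S₁ := ShortComplex.mk v (cokernel.π v) (cokernel.condition v)) { exact := ShortComplex.exact_cokernel v }
    exact ShortComplex.isoMk (Iso.refl _) (Iso.refl _) e.symm (by simp [S']) (by simp [S'])
  haveI : DCoh.HasSheafHom S'.X₃ := inferInstanceAs (DCoh.HasSheafHom A)
  haveI : (DCoh.sheafHom S'.X₃).Additive := inferInstanceAs (DCoh.sheafHom A).Additive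
  obtain ⟨e'⟩ := nonempty_ext_iso (S := S') hS'
    (SheafHomX.isFinLocFree_hom h₁ (H23.PullPush.isFinLocFree_of_isInvertible hω)) (ω := ω)
  haveI := isIso_bidual hω h₁
  haveI := isIso_bidual hω h₀
  exact ⟨e' ≪≫ (cokernel.mapIso u ((homMap v).app ω) (asIso ((bidual ω).app E₁)) (asIso ((bidual ω).app E₀))
      ((bidual ω).naturality u)).symm ≪≫
    IsColimit.coconePointUniqueUpToIso (cokernelIsCokernel u) hS.exact.gIsCokernel⟩

end Groth.Agent.Synt29.SurfBidual

end
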