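import Groth.Agent.Synt29.K3Ext
import Groth.Agent.RefX.Reflexive
import Groth.Agent.S18631

/-!
The saturated line subsheaf spanned by a twist section of a stable rank two sheaf.
-/

set_option autoImplicit false
set_option linter.style.haveILetI false
set_option linter.unusedSectionVars false
set_option backward.isDefEq.respectTransparency false
set_option backward.isDefEq.respectTransparency.types false
set_option maxHeartbeats 800000

universe u

open CategoryTheory CategoryTheory.Limits AlgebraicGeometry TopologicalSpace Polynomial StabCat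
open Groth.Agent Groth.Agent.H23.PicMul Groth.Agent.HilbPoly Groth.Agent.Synt29.SurfRankOne
open scoped Groth.Agent.H23.PicMul

noncomputable section

namespace Groth.Agent.Synt29.K3Ext

attribute [local instance] H23.PicMul.clMonoid

theorem eq_pow_of_mul_pow {X : Scheme.{u}} {L : X.Modules} (hL : PicF.IsInvertible L) {a b c : ℕ}
    {x : PicF.Cl X} (h : x * PicF.cl L ^ b = PicF.cl L ^ a) (hab : a = b + c) : x = PicF.cl L ^ c := by
  refine ((isUnit_cl hL).pow b).mul_left_injective ?_
  show x * PicF.cl L ^ b = PicF.cl L ^ c * PicF.cl L ^ b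
  rw [h, hab, ← pow_add, add_comm]

theorem pow_mul_eq_one {X : Scheme.{u}} {L : X.Modules} (hL : PicF.IsInvertible L) {a b m : ℕ}
    {x : PicF.Cl X} (h : x * PicF.cl L ^ b = PicF.cl L ^ a) (hab : b = a + m) : x * PicF.cl L ^ m = 1 := by
  refine ((isUnit_cl hL).pow a).mul_left_injective ?_
  show x * PicF.cl L ^ m * PicF.cl L ^ a = 1 * PicF.cl L ^ a
  rw [one_mul, mul_assoc, ← pow_add, add_comm, ← hab, h]

/-- Twisting by an isomorphism does not enlarge the support of a cokernel. -/
theorem dim_cokernel_comp {X : Scheme.{u}} {F G H : X.Modules} (f : F ⟶ G) (e : G ⟶ H) [IsIso e]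
    [IsIntegral X] [IsLocallyNoetherian X] {d : WithBot ℕ∞}
    (h : topologicalKrullDim ↥(CohB1.support (cokernel f)) ≤ d) :
    topologicalKrullDim ↥(CohB1.support (cokernel (f ≫ e))) ≤ d := by
  refine (H23.TopDim.dim_le_dim_of_subset fun x hx => ?_).trans h
  by_contra hx'
  refine notMem_support_cokernel (f ≫ e) ?_ hx
  rw [Functor.map_comp]
  have h1 : Function.Surjective ((DerSch.stalkFunctor X x).map e).hom :=
    (ConcreteCategory.bijective_of_isIso ((DerSch.stalkFunctor X x).map e)).2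
  exact h1.comp (surjective_of_notMem f hx')

variable {k : Type u} [Field k] {X : Scheme.{u}} [X.Over (Spec (CommRingCat.of k))]
  [IsProper (X ↘ Spec (CommRingCat.of k))] [IsIntegral X] (hdim : topologicalKrullDim X = 2)
  {L : X.Modules} (hL : CohB1.IsAmple L)
  {pO : ℚ[X]} (hpO : ShStab.IsHilbPoly k X L (Coh.structureModule X) pO)
  {V : X.Modules} (hV : Coh.IsCoh V) (htV : TorSh.IsTorsionFree V)
  {pV : ℚ[X]} (hpV : ShStab.IsHilbPoly k X L V pV)

include hdim hL hpO hV htV hpV in
/-- The saturation of an invertible submodule. -/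
theorem exists_saturated_line {M : X.Modules} (hM : PicF.IsInvertible M) {n : ℕ}
    (hcl : PicF.cl M * PicF.cl L ^ n = 1) (t : M ⟶ V) (ht : t ≠ 0) :
    ∃ (W : X.Modules) (ψ : V ⟶ W) (l : M ⟶ kernel ψ) (_ : Coh.IsCoh W) (_ : TorSh.IsTorsionFree W)
      (_ : Mono l) (pK pN : ℚ[X]) (_ : Coh.IsCoh (kernel ψ)) (_ : Coh.IsCoh (cokernel (kernel.ι ψ))),
      CurveCohLib.genRank (kernel ψ) = 1 ∧ ¬ Mono ψ ∧ l ≫ kernel.ι ψ = t ∧
      ShStab.IsHilbPoly k X L (kernel ψ) pK ∧ ShStab.IsHilbPoly k X L (cokernel (kernel.ι ψ)) pN ∧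
      TorSh.IsTorsionFree (cokernel (kernel.ι ψ)) ∧
      pK.coeff 2 = pO.coeff 2 ∧ pN.coeff 2 = pV.coeff 2 - pO.coeff 2 ∧ pN.coeff 1 = pV.coeff 1 - pK.coeff 1 := by
  haveI : IsNoetherian X := CurveCohLib.isNoetherian_of_proper (k := k)
  haveI := mono_of_line hM hV htV t ht
  have hc := coeff_two_pos hdim hL hpO
  have hMc := CurveDeg.isCoh_of_isInvertible hM
  let Q := cokernel t
  have hQc : Coh.IsCoh Q := QCoh.isCoh_cokernel hMc.1 hV t
  have hd1 := RefX.isCoh_dual hQc
  have hWc : Coh.IsCoh (RefHull.dual (RefHull.dual Q)) := RefX.isCoh_dual hd1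
  have htW : TorSh.IsTorsionFree (RefHull.dual (RefHull.dual Q)) :=
    fun x => RefX.torsionFree_of_reflexive (RefX.isReflexiveAt_dual hd1 x)
  let ψ : V ⟶ RefHull.dual (RefHull.dual Q) := cokernel.π t ≫ RefHull.bidualMap Q
  let l : M ⟶ kernel ψ := kernel.lift ψ t (by simp [ψ])
  have hl : l ≫ kernel.ι ψ = t := kernel.lift_ι _ _ _
  haveI : Mono l := mono_of_mono_fac hl
  have hKc : Coh.IsCoh (kernel ψ) := QCoh.isCoh_kernel hV hWc ψ
  obtain ⟨pK, hpK, -, -⟩ := HilbPoly.exists_hilb (k := k) hL.1 hKc (dim_le hdim _)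
  obtain ⟨pM, hpM, -, -⟩ := HilbPoly.exists_hilb (k := k) hL.1 hMc (dim_le hdim _)
  obtain ⟨hNc, -, hpN⟩ := cokernel_data hL hKc hV (dim_le hdim _) (kernel.ι ψ) hpK hpV
  let i : Abelian.coimage ψ ⟶ RefHull.dual (RefHull.dual Q) := Abelian.factorThruCoimage ψ
  haveI : Mono i := inferInstanceAs (Mono (Abelian.factorThruCoimage ψ))
  have htN : TorSh.IsTorsionFree (Abelian.coimage ψ) := tf_of_mono i htW
  -- at the generic point
  let η := genericPoint X
  letI : Field (X.presheaf.stalk η) := inferInstanceAs (Field X.functionField)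
  let Φ := DerSch.stalkFunctor X η
  haveI : Φ.Additive := DerSch.additive_stalkFunctor η
  have hbij : Function.Bijective (RefHull.stalkMapₗ (RefHull.bidualMap Q) η) := by
    haveI : Module.Finite (X.presheaf.stalk η) (Q.presheaf.stalk η) := QCoh.finite_stalk_of_isFT hQc.1 hQc.2 η
    refine (RefX.stalkMap_bidual_bijective_iff hQc η).2 ?_
    show Module.IsReflexive (X.presheaf.stalk η) (Q.presheaf.stalk η)
    infer_instance
  have hsurj : Function.Surjective (Φ.map l).hom := by
    intro u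
    have h1 : (Φ.map ψ).hom ((Φ.map (kernel.ι ψ)).hom u) = 0 := by
      show (Φ.map (kernel.ι ψ) ≫ Φ.map ψ).hom u = 0
      rw [← Functor.map_comp, kernel.condition, Functor.map_zero]
      rfl
    have h2 : (Φ.map (cokernel.π t)).hom ((Φ.map (kernel.ι ψ)).hom u) = 0 := by
      rw [Φ.map_comp] at h1
      refine hbij.1 ?_
      exact h1.trans (map_zero _).symm
    have hr := ((KFlatLib.exact_iff_stalk (ShortComplex.mk t (cokernel.π t) (cokernel.condition t))).1
      (ShortComplex.exact_cokernel t) η).moduleCat_range_eq_ker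
    obtain ⟨w, hw⟩ : ∃ w, (Φ.map t).hom w = (Φ.map (kernel.ι ψ)).hom u :=
      LinearMap.mem_range.1 (hr ▸ LinearMap.mem_ker.2 h2 :
        (Φ.map (kernel.ι ψ)).hom u ∈ LinearMap.range (Φ.map t).hom)
    refine ⟨w, CurveCohLib.stalk_injective (kernel.ι ψ) η ?_⟩
    rw [← hl, Φ.map_comp] at hw
    exact hw
  have hK2 : pK.coeff 2 = pO.coeff 2 :=
    (coeff_two_eq hdim hL hMc hKc l hpM hpK (notMem_support_cokernel l hsurj)).symm.trans
      (coeff_inv hdim hL hpO hM hcl hpM).1
  have hN2 : (pV - pK).coeff 2 = pV.coeff 2 - pO.coeff 2 := by rw [coeff_sub, hK2]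
  have hKr : CurveCohLib.genRank (kernel ψ) = 1 := by
    let f : M.presheaf.stalk η →ₗ[X.presheaf.stalk η] (kernel ψ).presheaf.stalk η := (Φ.map l).hom
    exact ((LinearEquiv.ofBijective f ⟨CurveCohLib.stalk_injective l η, hsurj⟩).finrank_eq).symm.trans
      (finrank_line hM)
  have hψm : ¬ Mono ψ := fun hm => ht (by
    haveI := hm
    exact (cancel_mono ψ).1 (by simp [ψ]))
  exact ⟨_, ψ, l, hWc, htW, inferInstance, pK, pV - pK, hKc, hNc, hKr, hψm, hl, hpK, hpN, htN, hK2, hN2,
    coeff_sub _ _ _⟩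

include hdim hL hpO in
/-- Torsion free of rank one: the leading coefficient of the structure module. -/
theorem coeff_two_of_rank_one {G : X.Modules} (hG : Coh.IsCoh G) (htG : TorSh.IsTorsionFree G)
    (h1 : CurveCohLib.genRank G = 1) {pG : ℚ[X]} (hpG : ShStab.IsHilbPoly k X L G pG) :
    pG.coeff 2 = pO.coeff 2 := by
  haveI : IsNoetherian X := CurveCohLib.isNoetherian_of_proper (k := k)
  let η := genericPoint X
  letI : Field (X.presheaf.stalk η) := inferInstanceAs (Field X.functionField)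
  have h0 : ¬ IsZero G := fun hz => by
    have hs : Subsingleton (G.presheaf.stalk η) :=
      not_not.1 (Set.eq_empty_iff_forall_notMem.1 (QCoh.support_eq_empty_of_isZero hz hG.1) η)
    have h2 : Module.finrank (X.presheaf.stalk η) (G.presheaf.stalk η) = 1 := h1
    rw [Module.finrank_zero_of_subsingleton] at h2
    omega
  obtain ⟨j, M, hM, hcl, t, ht⟩ := exists_hom_inv (k := k) hdim hL hG h0
  haveI := mono_of_line hM hG htG t ht
  have hMc := CurveDeg.isCoh_of_isInvertible hM
  obtain ⟨pM, hpM, -, -⟩ := HilbPoly.exists_hilb (k := k) hL.1 hMc (dim_le hdim _)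
  refine (coeff_two_eq hdim hL hMc hG t hpM hpG (notMem_support_cokernel t fun y => ?_)).symm.trans
    (coeff_inv hdim hL hpO hM hcl hpM).1
  haveI : Nontrivial (M.presheaf.stalk η) := Module.nontrivial_of_finrank_eq_succ (finrank_line hM)
  obtain ⟨v₀, hv₀⟩ := exists_ne (0 : M.presheaf.stalk η)
  have h2 : ((DerSch.stalkFunctor X η).map t).hom v₀ ≠ 0 :=
    fun h => hv₀ (CurveCohLib.stalk_injective t η (h.trans (map_zero _).symm))
  obtain ⟨c, hc⟩ := exists_smul_eq_of_finrank_eq_one h1 h2 y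
  exact ⟨c • v₀, (map_smul _ c v₀).trans hc⟩

/-- Generic ranks of a kernel and its coimage. -/
theorem genRank_kernel_add {Z : Scheme.{u}} [IsIntegral Z] [IsLocallyNoetherian Z] {A B : Z.Modules} (ψ : A ⟶ B)
    (hA : Coh.IsCoh A) :
    CurveCohLib.genRank A = CurveCohLib.genRank (kernel ψ) + CurveCohLib.genRank (cokernel (kernel.ι ψ)) :=
  CurveCohLib.genRank_add (S := ShortComplex.mk (kernel.ι ψ) (cokernel.π (kernel.ι ψ)) (cokernel.condition _))
    { exact := ShortComplex.exact_cokernel _ } hA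

set_option maxHeartbeats 2400000 in
include hdim hL hpO hV hpV in
/-- The leading coefficient of a module of rank two. -/
theorem coeff_two_rank_two (hV2 : FlatMod.IsFinLocFreeOfRank 2 V) : pV.coeff 2 = 2 * pO.coeff 2 := by
  haveI : IsNoetherian X := CurveCohLib.isNoetherian_of_proper (k := k)
  have htV : TorSh.IsTorsionFree V := GenDiff29.isTorsionFree_of_isFinLocFree (H28.KvbModel.lf_of_rank hV2)
  have hV1 : CurveCohLib.genRank V = 2 := CurveCohLib.genRank_eq hV2
  have h0 : ¬ IsZero V := fun hz => by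
    have hs : Subsingleton (V.presheaf.stalk (genericPoint X)) :=
      not_not.1 (Set.eq_empty_iff_forall_notMem.1 (QCoh.support_eq_empty_of_isZero hz hV.1) _)
    have h2 : Module.finrank (X.presheaf.stalk (genericPoint X)) (V.presheaf.stalk (genericPoint X)) = 2 := hV1
    rw [Module.finrank_zero_of_subsingleton] at h2
    omega
  obtain ⟨j, M, hM, hcl, t, ht⟩ := exists_hom_inv (k := k) hdim hL hV h0
  obtain ⟨W, ψ, l, -, -, -, pK, pN, hKc, hNc, hKr, -, -, hpK, hpN, htN, hK2, hN2, -⟩ :=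
    exists_saturated_line hdim hL hpO hV htV hpV hM hcl t ht
  have hadd := genRank_kernel_add ψ hV
  have hN1 : CurveCohLib.genRank (cokernel (kernel.ι ψ)) = 1 := by omega
  have := coeff_two_of_rank_one hdim hL hpO hNc htN hN1 hpN
  linarith

/-- A quotient of smaller leading coefficient is not zero. -/
theorem ne_zero_of_coeff {W : X.Modules} (ψ : V ⟶ W) {pK : ℚ[X]} (hpK : ShStab.IsHilbPoly k X L (kernel ψ) pK)
    {pV : ℚ[X]} (hpV : ShStab.IsHilbPoly k X L V pV) (h : pK.coeff 2 ≠ pV.coeff 2) : ψ ≠ 0 := fun h0 => h (by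
  subst h0
  rw [HilbPoly.isHilbPoly_unique hpK (HilbPoly.hilb_iso (kernelZeroIsoSource).symm hpV)])

end Groth.Agent.Synt29.K3Ext

end
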