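import Groth.Agent.Synt29.LMCurve
import Groth.Agent.AmpleX.Pow
import Groth.Agent.AmpleX.RelAffine

/-!
An ideal of a curve generating the Picard group has an ample inverse.
-/

set_option autoImplicit false
set_option linter.style.haveILetI false
set_option linter.unusedSectionVars false
set_option backward.isDefEq.respectTransparency false
set_option backward.isDefEq.respectTransparency.types false
set_option maxHeartbeats 1000000

universe u

open CategoryTheory CategoryTheory.Limits AlgebraicGeometry TopologicalSpace Polynomial StabCat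
open Groth.Agent Groth.Agent.H23.PicMul Groth.Agent.HilbPoly Groth.Agent.Synt29.SurfRankOne Groth.Agent.Synt29.K3Ext
open scoped Groth.Agent.H23.PicMul

noncomputable section

namespace Groth.Agent.Synt29.LMAmple

attribute [local instance] H23.PicMul.clMonoid

/-- Powers of a submodule of the structure module. -/
theorem exists_mono_pow {X : Scheme.{u}} {I : X.Modules} (hI : PicF.IsInvertible I)
    (ι : I ⟶ Coh.structureModule X) [Mono ι] (n : ℕ) :
    ∃ f : CohB1.tensorPow I n ⟶ Coh.structureModule X, Mono f := by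
  induction n with
  | zero =>
    obtain ⟨e⟩ := cl_eq_iff.1 (show PicF.cl (CohB1.tensorPow I 0) = PicF.cl (Coh.structureModule X) by
      rw [cl_tensorPow, pow_zero, ← one_def])
    exact ⟨e.hom, inferInstance⟩
  | succ n ih =>
    obtain ⟨f, hf⟩ := ih
    haveI := hf
    let Φ := DCoh.tensorBi.obj (CohB1.tensorPow I n)
    haveI : Φ.IsEquivalence := H26.IdealCl.isEquivalence_tensor (InvX.isInvertible_tensorPow hI n)
    obtain ⟨e₁⟩ := cl_eq_iff.1 (show PicF.cl (CohB1.tensorPow I (n + 1)) = PicF.cl (Φ.obj I) by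
      show _ = PicF.cl (CohB1.tensorMod (CohB1.tensorPow I n) I)
      rw [cl_tensor, cl_tensorPow, cl_tensorPow, pow_succ])
    obtain ⟨e₂⟩ := cl_eq_iff.1 (show PicF.cl (Φ.obj (Coh.structureModule X)) = PicF.cl (CohB1.tensorPow I n) by
      show PicF.cl (CohB1.tensorMod (CohB1.tensorPow I n) (Coh.structureModule X)) = _
      rw [cl_tensor, ← one_def, mul_one])
    exact ⟨e₁.hom ≫ Φ.map ι ≫ e₂.hom ≫ f, inferInstance⟩

variable {k : Type u} [Field k] {X : Scheme.{u}} [X.Over (Spec (CommRingCat.of k))]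
  [IsProper (X ↘ Spec (CommRingCat.of k))] [IsIntegral X] (hdim : topologicalKrullDim X = 2) [PicGrp.Law X]

include k hdim in
/-- The inverse of an effective generator is ample. -/
theorem isAmple_inverse {H : X.Modules} (hH : CohB1.IsAmple H) (I : X.IdealSheafData)
    (hI : PicF.IsInvertible (ClSub.idealMod I))
    (hgen : ∀ c : PicLoc.PicSet X, ∃ n : ℤ, c = PicGrp.cls (ClSub.idealMod I) hI ^ n) :
    ∃ (Hc : X.Modules), CohB1.IsAmple Hc ∧ PicF.cl (ClSub.idealMod I) * PicF.cl Hc = 1 := by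
  haveI : IsNoetherian X := CurveCohLib.isNoetherian_of_proper (k := k)
  obtain ⟨Hc, hHc, hcl⟩ := exists_inv_pow hI 1
  rw [pow_one] at hcl
  have hcl' : PicF.cl (ClSub.idealMod I) * PicF.cl Hc = 1 := by rw [mul_comm, hcl]
  refine ⟨Hc, ?_, hcl'⟩
  obtain ⟨n, hn⟩ := hgen (PicGrp.cls H hH.1)
  obtain ⟨pO, hpO, hdO, hc⟩ := exists_hilb_O (k := k) hdim hH
  obtain ⟨pH, hpH, -, -⟩ := HilbPoly.exists_hilb (k := k) hH.1 (CurveDeg.isCoh_of_isInvertible hH.1) (dim_le hdim _)
  have hs := HilbPoly.isHilbPoly_unique hpH (hilb_shift (k := k) (L := H) (F := Coh.structureModule X) (G := H)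
    (j := 1) (by rw [pow_one, ← one_def, one_mul]) hpO)
  obtain ⟨h2, h1⟩ := coeff_comp pO hdO ((1 : ℕ) : ℚ)
  rw [← hs] at h2 h1
  rcases n with m | m
  · exfalso
    rw [Int.ofNat_eq_natCast, zpow_natCast] at hn
    have h := congrArg Subtype.val hn
    rw [PicGrp.cls_val, PicGrp.cls_pow_val, cl_tensorPow] at h
    obtain ⟨e⟩ := cl_eq_iff.1 (h.trans (cl_tensorPow (ClSub.idealMod I) m).symm)
    haveI : Mono (ClSub.idealModι I) := inferInstanceAs (Mono (kernel.ι _))
    obtain ⟨f, hf⟩ := exists_mono_pow hI (ClSub.idealModι I) m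
    haveI := hf
    have := coeff_one_le hdim hH (CurveDeg.isCoh_of_isInvertible hH.1) QCoh.isCoh_structureModule' (e.hom ≫ f)
      hpH hpO h2
    push_cast at h1
    linarith
  · have h3 : PicGrp.cls H hH.1 * PicGrp.cls (ClSub.idealMod I) hI ^ (m + 1) = 1 := by
      rw [hn, zpow_negSucc, inv_mul_cancel]
    have h := congrArg Subtype.val h3
    have hv : (PicGrp.cls (ClSub.idealMod I) hI ^ (m + 1)).1 = PicF.cl (CohB1.tensorPow (ClSub.idealMod I) (m + 1)) :=
      PicGrp.cls_pow_val _ _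
    rw [PicGrp.mul_val, PicGrp.cls_val, hv, PicGrp.mulCl_cl, PicGrp.one_val, cl_tensor, cl_tensorPow] at h
    obtain ⟨e⟩ := cl_eq_iff.1 (show PicF.cl H = PicF.cl (CohB1.tensorPow Hc (m + 1)) by
      rw [cl_tensorPow, ← mul_one (PicF.cl H), ← one_pow (m + 1), ← hcl', mul_pow, ← mul_assoc, h]
      exact one_mul _)
    exact AmpleX.isAmple_of_tensorPow hHc (Nat.succ_pos m) (AmpleX.isAmple_of_iso e hH)

/-- Generation by an inverse. -/
theorem gen_inverse {I L : X.Modules} (hI : PicF.IsInvertible I) (hL : PicF.IsInvertible L)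
    (hIL : PicF.cl I * PicF.cl L = 1) (hgen : ∀ c : PicLoc.PicSet X, ∃ n : ℤ, c = PicGrp.cls I hI ^ n) :
    ∀ c : PicLoc.PicSet X, ∃ n : ℤ, c = PicGrp.cls L hL ^ n := fun c => by
  have h : PicGrp.cls I hI * PicGrp.cls L hL = 1 := Subtype.ext (by
    rw [PicGrp.mul_val, PicGrp.cls_val, PicGrp.cls_val, PicGrp.mulCl_cl, PicGrp.one_val, cl_tensor]
    exact hIL)
  obtain ⟨n, hn⟩ := hgen c
  exact ⟨-n, by rw [hn, eq_inv_of_mul_eq_one_left h, inv_zpow, zpow_neg]⟩

end Groth.Agent.Synt29.LMAmple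

end
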