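import Groth.Agent.Synt29.LMSimple
import Groth.Agent.S18132
import Groth.Agent.S0047
import Groth.Agent.S13792
import Groth.Agent.FFun.Basic
import Groth.Agent.NormalLib.H0
import Groth.Agent.NormalLib.Finite
import Groth.Agent.AmpleVan.AdicBase
import Groth.Agent.CurveCohLib.SubBundle

/-!
The Brill–Noether number of a line bundle on a curve generating the Picard group of a K3 surface.
-/

set_option autoImplicit false
set_option linter.style.haveILetI false
set_option linter.unusedSectionVars false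
set_option backward.isDefEq.respectTransparency false
set_option backward.isDefEq.respectTransparency.types false
set_option maxHeartbeats 1000000

universe u

open CategoryTheory CategoryTheory.Limits AlgebraicGeometry TopologicalSpace
open Groth.Agent Groth.Agent.Synt29.SurfRankOne

noncomputable section

namespace Groth.Agent.Synt29.LMBN

section HH

variable (k : Type u) [Field k] {C : Scheme.{u}} [C.Over (Spec (CommRingCat.of k))]

/-- The unit section as a class. -/
def oneH : Coh.HH C (Coh.structureModule C) 0 :=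
  (Sheaf.H.equiv₀ (Coh.toAb (Coh.structureModule C)) isTerminalTop).symm
    (H23.Frame.one (X := C) ⊤)

/-- Every class of degree zero comes from a morphism out of the structure sheaf. -/
theorem exists_hom_h0 {M : C.Modules} (y : Coh.HH C M 0) :
    ∃ (a : Coh.structureModule C ⟶ M) (z : Coh.HH C (Coh.structureModule C) 0),
      PnCoh.Finite.mapLin k a 0 z = y := by
  let t : Γ(M, ⊤) := Sheaf.H.equiv₀ (Coh.toAb M) isTerminalTop y
  refine ⟨QCoh.homOfTop t, oneH, ?_⟩
  refine (Sheaf.H.equiv₀ (Coh.toAb M) isTerminalTop).injective ?_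
  refine (Sheaf.H.equiv₀_naturality isTerminalTop ((QCoh.toAbFunctor C).map (QCoh.homOfTop t)) _).symm.trans ?_
  refine (congrArg _ (AddEquiv.apply_symm_apply _ _)).trans ?_
  refine (QCoh.homOfTop_app t (1 : Γ(C, ⊤))).trans ?_
  rw [one_smul]
  exact ConcreteCategory.congr_hom (M.presheaf.map_id _) t

/-- A nonzero morphism out of the structure sheaf is nonzero on sections. -/
theorem exists_mapLin_ne_zero {M : C.Modules} {a : Coh.structureModule C ⟶ M} (ha : a ≠ 0) :
    ∃ z : Coh.HH C (Coh.structureModule C) 0, PnCoh.Finite.mapLin k a 0 z ≠ 0 := by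
  refine ⟨oneH, fun h => ha (QCoh.hom_ext_app fun W r => ?_)⟩
  have h1 := congrArg (Sheaf.H.equiv₀ (Coh.toAb M) isTerminalTop) h
  rw [map_zero] at h1
  have h2 := (Sheaf.H.equiv₀_naturality isTerminalTop ((QCoh.toAbFunctor C).map a) _).trans h1
  have h3 : InvX.one a = 0 := (congrArg (a.app ⊤) (AddEquiv.apply_symm_apply _ _)).symm.trans h2
  rw [InvX.app_eq_smul a r, h3, AModX.res, map_zero, smul_zero]
  rfl

end HH

theorem exists_coimage {C : Scheme.{u}} [IsLocallyNoetherian C] {P A : C.Modules} (hP : Coh.IsCoh P)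
    (hA : Coh.IsCoh A) (p : P ⟶ A) :
    ∃ (A' : C.Modules) (p' : P ⟶ A') (ι : A' ⟶ A), Mono ι ∧ Epi p' ∧ p' ≫ ι = p ∧ Coh.IsCoh A' :=
  ⟨Abelian.coimage p, Abelian.coimage.π p, Abelian.factorThruCoimage p, inferInstance, inferInstance,
    Abelian.coimage.fac p, QCoh.isCoh_cokernel (QCoh.isQCoh_kernel hP.1 hA.1 p) hP (kernel.ι p)⟩

section Curve

variable {k : Type u} [Field k] [IsAlgClosed k] {C : Scheme.{u}} [C.Over (Spec (CommRingCat.of k))]
  [IsIntegral C] [IsProper (C ↘ Spec (CommRingCat.of k))] [Smooth (C ↘ Spec (CommRingCat.of k))]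
  (hC : topologicalKrullDim C = 1)

include k hC in
/-- A submodule of an invertible module with the same sections. -/
theorem sub_line {A A' : C.Modules} (hA : PicF.IsInvertible A) (hA'c : Coh.IsCoh A') (ι : A' ⟶ A) [Mono ι]
    (hι : ι ≠ 0) :
    PicF.IsInvertible A' ∧ Module.finrank k (Coh.HH C A 1) ≤ Module.finrank k (Coh.HH C A' 1) := by
  haveI : IsNoetherian C := CurveCohLib.isNoetherian_of_proper (k := k)
  have hAc : Coh.IsCoh A := CurveDeg.isCoh_of_isInvertible hA
  let S : ShortComplex C.Modules := ShortComplex.mk ι (cokernel.π ι) (cokernel.condition ι)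
  have hS : S.ShortExact := { exact := ShortComplex.exact_cokernel ι }
  have hη := K3Ext.surjective_into_line hA ι hι
  refine ⟨?_, ?_⟩
  · have hr : CurveCohLib.genRank A' = 1 := by
      rw [LMStab.genRank_eq_of_surjective ι hη]
      exact CurveCohLib.genRank_eq (InvEnd.isFinLocFreeOfRank_one hA)
    have h := CurveCohLib.isFinLocFreeOfRank_of_mono
      (fun x => CurveCohLib.isPrincipalIdealRing_stalk_of_smooth (C ↘ Spec (CommRingCat.of k)) hC.le x) ι hA'c
      (H23.PullPush.isFinLocFree_of_isInvertible hA)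
    rw [hr] at h
    exact CurveDuality.isInvertible_of_rank_one h
  have hTc : Coh.IsCoh (cokernel ι) := QCoh.isCoh_cokernel hA'c.1 hAc ι
  have hfin : ∀ x ∈ CohB1.support (cokernel ι), IsClosed ({x} : Set C) := fun x hx =>
    S13792.isClosed_singleton_of_ne_top hC.le (QCoh.isClosed_support_of_isFT hTc.1 hTc.2)
      (fun h => notMem_support_cokernel ι hη (h ▸ Set.mem_univ (genericPoint C))) hx
  haveI : Subsingleton (Coh.HH C S.X₃ 1) := S0047.result C (cokernel ι) hTc hfin 1 one_pos
  haveI := CurveCohLib.finite_HH (k := k) hA'c 1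
  refine LinearMap.finrank_le_finrank_of_surjective (f := PnCoh.Finite.mapLin k S.f 1) ?_
  rw [← LinearMap.range_eq_top, ← CurveCohLib.ker_mapLin_g k hS 1]
  exact LinearMap.ker_eq_top.2 (LinearMap.ext fun x => Subsingleton.elim _ _)

include k hC in
/-- The globally generated part of an invertible module with a section. -/
theorem exists_gen_part {A : C.Modules} (hA : PicF.IsInvertible A) {e : ℕ}
    (he : Module.finrank k (Coh.HH C A 0) = e) (h0 : e ≠ 0) :
    ∃ (A' : C.Modules) (p' : FlatMod.freeMod C e ⟶ A'), PicF.IsInvertible A' ∧ Epi p' ∧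
      Function.Surjective (PnCoh.Finite.mapLin k p' 0) ∧
      Module.finrank k (Coh.HH C A' 0) = e ∧
      Module.finrank k (Coh.HH C A 1) ≤ Module.finrank k (Coh.HH C A' 1) := by
  haveI : IsNoetherian C := CurveCohLib.isNoetherian_of_proper (k := k)
  letI := H23.PicMul.law C
  have hAc : Coh.IsCoh A := CurveDeg.isCoh_of_isInvertible hA
  haveI := CurveCohLib.finite_HH (k := k) hAc 0
  let b := Module.finBasisOfFinrankEq k (Coh.HH C A 0) he
  choose a z haz using fun j => exists_hom_h0 k (b j)
  let p : FlatMod.freeMod C e ⟶ A := Sigma.desc a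
  have hp : ∀ j, H23.Frame.incl C e j ≫ p = a j := fun j => Sigma.ι_desc _ _
  have hps : Function.Surjective (PnCoh.Finite.mapLin k p 0) := by
    rw [← LinearMap.range_eq_top, ← top_le_iff, ← b.span_eq, Submodule.span_le]
    rintro _ ⟨j, rfl⟩
    refine ⟨PnCoh.Finite.mapLin k (H23.Frame.incl C e j) 0 (z j), ?_⟩
    rw [FFun.mapLin_comp, hp, haz]
  have hEc : Coh.IsCoh (FlatMod.freeMod C e) := GenusOneSS.isCoh_freeMod (X := C) k e
  obtain ⟨A', p', ι, hmι, hep', hfac, hA'c⟩ := exists_coimage hEc hAc p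
  haveI := hmι
  have hιi : Function.Injective (PnCoh.Finite.mapLin k ι 0) :=
    CurveCohLib.mapLin_f_zero_injective k (S := ShortComplex.mk ι (cokernel.π ι) (cokernel.condition ι))
      { exact := ShortComplex.exact_cokernel ι }
  have hιb : Function.Bijective (PnCoh.Finite.mapLin k ι 0) := ⟨hιi, fun y => by
    obtain ⟨x, rfl⟩ := hps y
    exact ⟨PnCoh.Finite.mapLin k p' 0 x, (FFun.mapLin_comp (A := k) p' ι 0 x).trans (FFun.mapLin_congr hfac 0 x)⟩⟩
  have hι : ι ≠ 0 := fun h => h0 (he.symm.trans (by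
    haveI : Subsingleton (Coh.HH C A 0) := subsingleton_of_forall_eq 0 fun y => by
      obtain ⟨x, rfl⟩ := hιb.2 y
      rw [h, CurveDuality.mapLin_zero]
    exact Module.finrank_zero_of_subsingleton))
  have hp's : Function.Surjective (PnCoh.Finite.mapLin k p' 0) := fun y => by
    obtain ⟨x, hx⟩ := hps (PnCoh.Finite.mapLin k ι 0 y)
    exact ⟨x, hιi (((FFun.mapLin_comp (A := k) p' ι 0 x).trans (FFun.mapLin_congr hfac 0 x)).trans hx)⟩
  obtain ⟨hinv, hle⟩ := sub_line (k := k) hC hA hA'c ι hι
  exact ⟨A', p', hinv, hep', hp's,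
    ((LinearEquiv.ofBijective _ hιb).finrank_eq).trans he, hle⟩

end Curve

section Surface

variable {k : Type u} [Field k] [IsAlgClosed k] [CharZero k] {X : Scheme.{u}}
  [X.Over (Spec (CommRingCat.of k))] [IsProper (X ↘ Spec (CommRingCat.of k))] [IsIntegral X]
  [Smooth (X ↘ Spec (CommRingCat.of k))]
  {C : Scheme.{u}} [C.Over (Spec (CommRingCat.of k))] [IsIntegral C] (i : C ⟶ X) [IsClosedImmersion i]
  (hi : i ≫ (X ↘ Spec (CommRingCat.of k)) = C ↘ Spec (CommRingCat.of k))

include hi in
/-- The evaluation map from the free module on the surface. -/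
theorem exists_lam {A' : C.Modules} {e : ℕ} (p' : FlatMod.freeMod C e ⟶ A') [Epi p'] (hA : Coh.IsQCoh A')
    (hp's : Function.Surjective (PnCoh.Finite.mapLin k p' 0))
    (he : Module.finrank k (Coh.HH C A' 0) = e) :
    ∃ lam : FlatMod.freeMod X e ⟶ (Coh.push i).obj A', Epi lam ∧
      Function.Bijective (Sheaf.H.map ((SheafOfModules.toSheaf _).map lam) 0) := by
  haveI : IsProper (C ↘ Spec (CommRingCat.of k)) := by rw [← hi]; infer_instance
  haveI : IsNoetherian X := CurveCohLib.isNoetherian_of_proper (k := k)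
  haveI : IsNoetherian C := CurveCohLib.isNoetherian_of_proper (k := k)
  obtain ⟨eQ⟩ := LMEuler.nonempty_quot_iso i
  haveI := ClosedHom7.epi_toSubscheme i.ker
  let u : Coh.structureModule X ⟶ (Coh.push i).obj (Coh.structureModule C) := ClSub.toSubscheme i.ker ≫ eQ.hom
  haveI : Epi u := inferInstanceAs (Epi (ClSub.toSubscheme i.ker ≫ eQ.hom))
  let g : Fin e → (Coh.structureModule X ⟶ (Coh.push i).obj A') := fun j =>
    u ≫ (Coh.push i).map (H23.Frame.incl C e j ≫ p')
  let lam : FlatMod.freeMod X e ⟶ (Coh.push i).obj A' := Sigma.desc g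
  have hg : ∀ j, H23.Frame.incl X e j ≫ lam = u ≫ (Coh.push i).map (H23.Frame.incl C e j ≫ p') :=
    fun j => Sigma.ι_desc _ _
  have hEq : Coh.IsQCoh (FlatMod.freeMod C e) := (GenusOneSS.isCoh_freeMod (X := C) k e).1
  haveI : Epi ((Coh.push i).map p') := AmpleVan.epi_push i hEq hA p'
  haveI : (Coh.push i).Additive := inferInstanceAs (Scheme.Modules.pushforward i).Additive
  have hdec : (Coh.push i).map p' = ∑ j, (Coh.push i).map (H23.Frame.proj C e j) ≫
      (Coh.push i).map (H23.Frame.incl C e j ≫ p') := by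
    conv_lhs => rw [← Category.id_comp p', ← H23.Frame.total C e, Preadditive.sum_comp, Functor.map_sum]
    exact Finset.sum_congr rfl fun j _ => by rw [Category.assoc, Functor.map_comp]
  haveI hle : Epi lam := Preadditive.epi_of_cancel_zero _ fun {W} w hw => by
    rw [← cancel_epi ((Coh.push i).map p'), comp_zero, hdec, Preadditive.sum_comp]
    refine Finset.sum_eq_zero fun j _ => ?_
    have h : u ≫ (Coh.push i).map (H23.Frame.incl C e j ≫ p') ≫ w = u ≫ 0 := by
      rw [← Category.assoc, ← hg, Category.assoc, hw, comp_zero, comp_zero]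
    rw [Category.assoc, (cancel_epi u).1 h, comp_zero]
  refine ⟨lam, hle, ?_⟩
  have hOC : Coh.IsQCoh (Coh.structureModule C) := QCoh.isQCoh_structureModule
  have hPc : Coh.IsCoh ((Coh.push i).obj (Coh.structureModule C)) := QCoh.isCoh_push i QCoh.isCoh_structureModule'
  have h1 : Module.finrank k (Coh.HH X ((Coh.push i).obj (Coh.structureModule C)) 0) = 1 := by
    rw [LMEuler.finrank_push i hi hOC 0]
    exact SurfAdj.finrank_h0 k C
  have hu : Function.Surjective (PnCoh.Finite.mapLin k u 0) := by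
    haveI := CurveCohLib.finite_HH (k := k) hPc 0
    have hu0 : u ≠ 0 := fun h => by
      haveI : Subsingleton (Coh.HH X ((Coh.push i).obj (Coh.structureModule C)) 0) := by
        have hz : 𝟙 ((Coh.push i).obj (Coh.structureModule C)) = 0 := by
          rw [← cancel_epi u, Category.comp_id, comp_zero, h]
        exact subsingleton_of_forall_eq 0 fun x => by
          rw [← CurveDuality.mapLin_id k _ 0 x, hz, CurveDuality.mapLin_zero]
      rw [Module.finrank_zero_of_subsingleton] at h1
      exact zero_ne_one h1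
    obtain ⟨z, hz⟩ := exists_mapLin_ne_zero k hu0
    intro y
    obtain ⟨c, hc⟩ := (finrank_eq_one_iff_of_nonzero' _ hz).1 h1 y
    exact ⟨c • z, by rw [map_smul, hc]⟩
  have hsur : Function.Surjective (PnCoh.Finite.mapLin k lam 0) := by
    intro y
    have hpp : Function.Surjective (PnCoh.Finite.mapLin k ((Coh.push i).map p') 0) := fun y => by
      obtain ⟨x, hx⟩ := hp's ((Sheaf.H.equiv₀ (Coh.toAb A') isTerminalTop).symm
        (Sheaf.H.equiv₀ (Coh.toAb ((Coh.push i).obj A')) isTerminalTop y))
      refine ⟨(Sheaf.H.equiv₀ (Coh.toAb ((Coh.push i).obj (FlatMod.freeMod C e))) isTerminalTop).symm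
        ((Sheaf.H.equiv₀ (Coh.toAb (FlatMod.freeMod C e)) isTerminalTop) x),
        (Sheaf.H.equiv₀ (Coh.toAb ((Coh.push i).obj A')) isTerminalTop).injective ?_⟩
      refine (Sheaf.H.equiv₀_naturality isTerminalTop
        ((QCoh.toAbFunctor X).map ((Coh.push i).map p')) _).symm.trans ?_
      refine (congrArg _ (AddEquiv.apply_symm_apply _ _)).trans ?_
      refine (Sheaf.H.equiv₀_naturality isTerminalTop ((QCoh.toAbFunctor C).map p') x).trans ?_
      exact (congrArg (Sheaf.H.equiv₀ (Coh.toAb A') isTerminalTop) hx).trans (AddEquiv.apply_symm_apply _ _)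
    obtain ⟨w, rfl⟩ := hpp y
    choose v hv using fun j => hu (PnCoh.Finite.mapLin k ((Coh.push i).map (H23.Frame.proj C e j)) 0 w)
    refine ⟨∑ j, PnCoh.Finite.mapLin k (H23.Frame.incl X e j) 0 (v j), ?_⟩
    rw [map_sum, hdec]
    refine Eq.trans ?_ (map_sum ({ toFun := fun φ => PnCoh.Finite.mapLin k φ 0 w,
                                   map_zero' := CurveDuality.mapLin_zero k 0 w,
                                   map_add' := fun φ ψ => CurveDuality.mapLin_add k φ ψ 0 w } :
      ((Coh.push i).obj (FlatMod.freeMod C e) ⟶ (Coh.push i).obj A') →+ Coh.HH X ((Coh.push i).obj A') 0) _ _).symm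
    refine Finset.sum_congr rfl fun j _ => ?_
    rw [FFun.mapLin_comp, hg, ← FFun.mapLin_comp, hv, FFun.mapLin_comp]
    rfl
  haveI := CurveCohLib.finite_HH (k := k) (GenusOneSS.isCoh_freeMod (X := X) k e) 0
  have hA'c : Module.finrank k (Coh.HH X ((Coh.push i).obj A') 0) = e := by
    rw [LMEuler.finrank_push i hi hA 0, he]
  haveI : Module.Finite k (Coh.HH X ((Coh.push i).obj A') 0) := Module.Finite.of_surjective _ hsur
  exact ⟨(LinearMap.injective_iff_surjective_of_finrank_eq_finrank
    (f := PnCoh.Finite.mapLin k lam 0) (by rw [GenusOneSS.finrank_h0_freeMod, hA'c])).2 hsur, hsur⟩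

/-- Only scalar endomorphisms: at most one global endomorphism. -/
theorem finrank_h0_end_le {F : X.Modules} (h : ∀ φ : F ⟶ F, ∃ c : k, ∀ (V : X.Opens) (s : Γ(F, V)),
      φ.app V s = X.presheaf.map (homOfLE (le_top : V ≤ ⊤)).op (Coh.toGlobal (X ↘ Spec (CommRingCat.of k)) c) • s) :
    Module.finrank k (Coh.HH X ((SheafHomX.hom F).obj F) 0) ≤ 1 := by
  haveI := NormalLib.hasSheafHom F
  obtain ⟨e⟩ := NormalLib.nonempty_hom_linearEquiv_HH (A := k) F F
  rw [← (CurveCohLib.hhEquiv (k := k) ((AmpleVan.sheafHomIso F).app F) 0).finrank_eq, ← e.finrank_eq]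
  refine finrank_le_one (𝟙 F) fun φ => ?_
  obtain ⟨c, hc⟩ := h φ
  refine ⟨c, Scheme.Modules.hom_ext _ _ fun V => AddCommGrpCat.hom_ext (AddMonoidHom.ext fun s => ?_)⟩
  exact (KLin.smul_app_apply c (𝟙 F) V s).trans (hc V s).symm

end Surface

end Groth.Agent.Synt29.LMBN

end
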