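import Groth.Agent.Synt29.ExtOneCoh
import Groth.Agent.Synt29.LMBN
import Groth.Agent.PicClLib.Basic
import Groth.Agent.Lib.NegVanClosed
import Groth.Agent.R1Push.Support

/-!
Globally generated parts of duals of rank one sheaves on curves in a surface.
-/

set_option autoImplicit false
set_option linter.style.haveILetI false
set_option linter.unusedSectionVars false
set_option backward.isDefEq.respectTransparency false
set_option backward.isDefEq.respectTransparency.types false
set_option maxHeartbeats 1000000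

universe u

open CategoryTheory CategoryTheory.Limits AlgebraicGeometry TopologicalSpace
open Groth.Agent Groth.Agent.H23.PicMul Groth.Agent.SheafHomX Groth.Agent.Synt29.SurfRankOne
open scoped Groth.Agent.H23.PicMul

noncomputable section

namespace Groth.Agent.Synt29.GenDual

attribute [local instance] H23.PicMul.clMonoid

/-- An extension of globally generated modules with surjectivity on sections is globally generated. -/
theorem gg_extension {k : Type u} [Field k] {X : Scheme.{u}} [X.Over (Spec (CommRingCat.of k))]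
    {S : ShortComplex X.Modules} (hS : S.ShortExact) (h₁ : Curv2.IsGloballyGenerated S.X₁)
    (h₃ : Curv2.IsGloballyGenerated S.X₃) (hsur : Function.Surjective (PnCoh.Finite.mapLin k S.g 0)) :
    Curv2.IsGloballyGenerated S.X₂ := by
  let q : (SheafOfModules.free (Coh.HH X S.X₂ 0) : X.Modules) ⟶ S.X₂ :=
    Sigma.desc fun t => CurveSpecial.homOfClass t
  refine ⟨Coh.HH X S.X₂ 0, q, Preadditive.epi_of_cancel_zero _ fun {W} g hg => ?_⟩
  have hgt : ∀ t : Coh.HH X S.X₂ 0, PnCoh.Finite.mapLin k g 0 t = 0 := fun t => by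
    have h : CurveSpecial.homOfClass t ≫ g = 0 := by
      rw [← (Sigma.ι_desc _ _ : Sigma.ι (fun _ : Coh.HH X S.X₂ 0 => SheafOfModules.unit X.ringCatSheaf) t ≫ q =
        CurveSpecial.homOfClass t), Category.assoc, hg, comp_zero]
    rw [← GenusOneSS.toH_homOfClass (M := S.X₂) t, GenusOneSS.toH_comp, h]
    exact map_zero (Sheaf.H.equiv₀ (Coh.toAb W) isTerminalTop).symm
  have hfg : S.f ≫ g = 0 := CurveCohLib.PointTwist.eq_zero_of_gg k h₁ _ fun t => by
    rw [← FFun.mapLin_comp]
    exact hgt _
  haveI := hS.mono_f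
  haveI := hS.epi_g
  let d := hS.exact.desc g hfg
  have hd : S.g ≫ d = g := hS.exact.g_desc _ _
  have hd0 : d = 0 := CurveCohLib.PointTwist.eq_zero_of_gg k h₃ _ fun t => by
    obtain ⟨a, rfl⟩ := hsur t
    rw [FFun.mapLin_comp, hd]
    exact hgt _
  rw [← hd, hd0, comp_zero]

variable {k : Type u} [Field k] [IsAlgClosed k] [CharZero k] {X : Scheme.{u}}
  [X.Over (Spec (CommRingCat.of k))] [IsProper (X ↘ Spec (CommRingCat.of k))] [IsIntegral X]
  [Smooth (X ↘ Spec (CommRingCat.of k))] (hdim : topologicalKrullDim X = 2)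
  {C : Scheme.{u}} (j : C ⟶ X) [IsClosedImmersion j] [IsIntegral C] (hC : topologicalKrullDim C = 1)

include k hdim hC in
/-- Modules on the curve without stalk at its generic point are supported at finitely many closed points. -/
theorem finite_support {T : X.Modules} (hT : Coh.IsCoh T) (hZ : CohB1.support T ⊆ Set.range j)
    (hξ : j (genericPoint C) ∉ CohB1.support T) :
    (CohB1.support T).Finite ∧ ∀ x ∈ CohB1.support T, IsClosed ({x} : Set X) := by
  haveI : IsNoetherian X := CurveCohLib.isNoetherian_of_proper (k := k)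
  have h : ∀ x ∈ CohB1.support T, IsClosed ({x} : Set X) := fun x hx =>
    isClosed_of_one_lt_coheight hdim
      (LMCurve.one_lt_coheight_of_ne (k := k) hdim j hC (hZ hx) fun h => hξ (h ▸ hx))
  exact ⟨PointBlow.finite_of_closed_points (QCoh.isClosed_support_of_isFT hT.1 hT.2) h, h⟩

theorem support_mono {A B : X.Modules} (f : A ⟶ B) [Mono f] : CohB1.support A ⊆ CohB1.support B := fun x hx h =>
  hx ⟨fun a b => CurveCohLib.stalk_injective f x (Subsingleton.elim (α := B.presheaf.stalk x) _ _)⟩

theorem support_epi {A B : X.Modules} (f : A ⟶ B) [Epi f] : CohB1.support B ⊆ CohB1.support A := fun x hx h => by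
  refine hx ⟨fun a b => ?_⟩
  have hf : Function.Surjective ((DerSch.stalkFunctor X x).map f).hom := (ModuleCat.epi_iff_surjective _).1
    (inferInstanceAs (Epi ((DerSch.stalkFunctor X x).map f)))
  obtain ⟨a', rfl⟩ := hf a
  obtain ⟨b', rfl⟩ := hf b
  exact congrArg _ (Subsingleton.elim (α := A.presheaf.stalk x) _ _)

/-- A nonzero morphism to a line bundle on the curve is surjective at its generic point. -/
theorem surjective_push_line {N : C.Modules} (hN : PicF.IsInvertible N) {B : X.Modules} (f : B ⟶ (Coh.push j).obj N)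
    [IsLocallyNoetherian C] (hf : ∃ b, ((DerSch.stalkFunctor X (j (genericPoint C))).map f).hom b ≠ 0) :
    Function.Surjective ((DerSch.stalkFunctor X (j (genericPoint C))).map f).hom := by
  letI : Module (X.presheaf.stalk (j (genericPoint C))) (N.presheaf.stalk (genericPoint C)) :=
    Module.compHom _ (j.stalkMap (genericPoint C)).hom
  obtain ⟨e⟩ := NegVanClosed.nonempty_stalk_push_equiv j N (genericPoint C)
  obtain ⟨b, hb⟩ := hf
  letI : Field (C.presheaf.stalk (genericPoint C)) := inferInstanceAs (Field C.functionField)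
  intro y
  have hb' : e (((DerSch.stalkFunctor X (j (genericPoint C))).map f).hom b) ≠ 0 := fun h =>
    hb (e.injective (h.trans (map_zero e).symm))
  obtain ⟨c, hc⟩ := exists_smul_eq_of_finrank_eq_one (K3Ext.finrank_line hN) hb' (e y)
  obtain ⟨r, rfl⟩ := SurjectiveOnStalks.stalkMap_surjective (f := j) (genericPoint C) c
  refine ⟨r • b, e.injective ?_⟩
  rw [map_smul]
  exact (e.map_smul r _).trans hc

variable {H : X.Modules} (hH : CohB1.IsAmple H)
  {ω : X.Modules} (hω : Canon.IsTopDiff (X ↘ Spec (CommRingCat.of k)) 2 ω) (I : InjectiveResolution ω)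

include k hdim hC hω in
/-- The local Ext sheaf of the curve is a line bundle on it. -/
theorem exists_E1_curve : ∃ (N : C.Modules), PicF.IsInvertible N ∧
    Nonempty (ExtOne.E1 I ((Coh.push j).obj (Coh.structureModule C)) ≅ (Coh.push j).obj N) := by
  haveI : IsNoetherian X := CurveCohLib.isNoetherian_of_proper (k := k)
  haveI := CurveFin.smoothOfRelativeDimension_of_dim (f := X ↘ Spec (CommRingCat.of k)) (d := 2) hdim
  have hωi : PicF.IsInvertible ω := SmoothTop.isInvertible_top (X ↘ Spec (CommRingCat.of k)) 2 hω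
  have hI := CurveOnSurf.isInvertible_ideal (X ↘ Spec (CommRingCat.of k)) hdim (SurfHodge.regular k) j hC
  obtain ⟨L, hL, e⟩ := H23.PicInv.exists_inverse hI
  have hLinv : ClSub.IsInverseOf L (ClSub.idealMod j.ker) := by
    refine cl_eq_iff.1 ?_
    rw [cl_tensor, mul_comm, ← cl_tensor, cl_eq_iff.2 e]
  obtain ⟨q⟩ := DivisorExt.nonempty_quotMod_iso j
  have hS := DivisorExt.ideal_shortExact j.ker
  have hS' : (ShortComplex.mk (ClSub.idealModι j.ker) (ClSub.toSubscheme j.ker ≫ q.hom)
      (((Category.assoc _ _ _).symm.trans (congrArg (· ≫ q.hom) (kernel.condition _))).trans zero_comp)).ShortExact :=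
    ShortComplex.shortExact_of_iso
      (S₁ := ShortComplex.mk (ClSub.idealModι j.ker) (ClSub.toSubscheme j.ker) (kernel.condition _))
      (ShortComplex.isoMk (Iso.refl _) (Iso.refl _) q (by simp) (by simp)) hS
  obtain ⟨a⟩ := ExtOne.nonempty_E1_iso I hS'
    (H23.PullPush.isFinLocFree_of_isInvertible InvX.isInvertible_structureModule)
  obtain ⟨c⟩ := DivisorExt.exists_cokernel_iso j.ker ω L hLinv
  obtain ⟨d⟩ := DivisorExt.nonempty_cokernel_mulIdeal j.ker ((DCoh.tensorBi.obj L).obj ω)
  obtain ⟨s⟩ := H23.PicMul.comm ((DCoh.tensorBi.obj L).obj ω) ((Coh.push j).obj (Coh.structureModule C))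
  have hP : PicF.IsInvertible ((DCoh.tensorBi.obj L).obj ω) := InvX.isInvertible_tensorMod hL hωi
  let P := (DCoh.tensorBi.obj L).obj ω
  refine ⟨(ten ((Scheme.Modules.pullback j).obj P)).obj (Coh.structureModule C), ?_, ⟨a ≪≫ c ≪≫ d ≪≫
    (DCoh.tensorBi.obj _).mapIso q ≪≫ s ≪≫
    ((H9Misc.LocFreeHomTensor.projIso' j (H23.PullPush.isFinLocFree_of_isInvertible hP)).app
      (Coh.structureModule C))⟩⟩
  exact InvX.isInvertible_tensorMod InvX.isInvertible_structureModule (PicClLib.isInvertible_pullback j hP)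

variable {M : C.Modules} (hM : Coh.IsCoh M) (hMtf : TorSh.IsTorsionFree M)
  (hrk : Module.finrank (C.presheaf.stalk (genericPoint C)) (M.presheaf.stalk (genericPoint C)) = 1)
  {A' : X.Modules} (ι₁ : A' ⟶ (Coh.push j).obj M) [Mono ι₁] (hA'c : Coh.IsCoh A')
  (hA'0 : Function.Surjective (PnCoh.Finite.mapLin k ι₁ 0))
  (h0 : 0 < Module.finrank k (Coh.HH X ((Coh.push j).obj M) 0))

include k hM hMtf hrk hA'0 h0 in
/-- A map from the structure sheaf of the curve which is an isomorphism at its generic point. -/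
theorem exists_curve_hom : ∃ a : (Coh.push j).obj (Coh.structureModule C) ⟶ A', Mono a ∧
    Function.Surjective ((DerSch.stalkFunctor X (j (genericPoint C))).map (a ≫ ι₁)).hom := by
  haveI : IsNoetherian X := CurveCohLib.isNoetherian_of_proper (k := k)
  haveI : IsLocallyNoetherian C := LocallyOfFiniteType.isLocallyNoetherian j
  obtain ⟨z, hz⟩ : ∃ z : Coh.HH X ((Coh.push j).obj M) 0, z ≠ 0 := by
    haveI := Module.nontrivial_of_finrank_pos h0
    exact exists_ne 0
  obtain ⟨z', hz'⟩ := hA'0 z
  let u : Coh.structureModule X ⟶ (Coh.push j).obj (Coh.structureModule C) := ClSub.unitToPush j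
  haveI hu : Epi u := Preadditive.epi_of_cancel_zero _ fun {T} g hg => by
    refine Scheme.Modules.hom_ext g 0 fun V => AddCommGrpCat.ext fun y => ?_
    refine (QCoh.eq_zero_of_locally V _ fun p hp => ?_).trans rfl
    obtain ⟨_, ⟨W, hW, rfl⟩, hpW, hWV⟩ :=
      X.isBasis_affineOpens.exists_subset_of_mem_open (show p ∈ V from hp) V.isOpen
    refine ⟨W, homOfLE hWV, hpW, ?_⟩
    rw [← QCoh.map_app_comm]
    obtain ⟨r, hr⟩ := Scheme.Hom.app_surjective j W hW
      (show Γ(C, j ⁻¹ᵁ W) from ((Coh.push j).obj (Coh.structureModule C)).presheaf.map (homOfLE hWV).op y)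
    exact (congrArg (g.app W) hr.symm).trans congr(($hg).app W r)
  let s := CurveSpecial.homOfClass z'
  have hs : s ≫ ι₁ ≠ 0 := fun h => hz (by
    rw [← hz', ← GenusOneSS.toH_homOfClass (M := A') z', GenusOneSS.toH_comp, h]
    exact map_zero (Sheaf.H.equiv₀ (Coh.toAb ((Coh.push j).obj M)) isTerminalTop).symm)
  -- the section comes from the curve
  let t : Γ(M, ⊤) := (InvX.one (s ≫ ι₁) : Γ((Coh.push j).obj M, ⊤))
  let g := (Coh.push j).map (InvX.ofSect t)
  have hg : u ≫ g = s ≫ ι₁ := CurveRR.hom_ext_one (by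
    show (InvX.ofSect t).app ⊤ (j.app ⊤ (1 : Γ(X, ⊤))) = _
    rw [map_one]
    exact InvX.one_ofSect t)
  have ht : InvX.ofSect t ≠ 0 := fun h => hs (by
    rw [← hg]
    show u ≫ (Coh.push j).map (InvX.ofSect t) = 0
    rw [h, show (Coh.push j).map (0 : Coh.structureModule C ⟶ M) = 0 from
      (Scheme.Modules.pushforward j).map_zero _ _, comp_zero])
  letI : Field (C.presheaf.stalk (genericPoint C)) := inferInstanceAs (Field C.functionField)
  obtain ⟨v, hv⟩ : ∃ v, ((DerSch.stalkFunctor C (genericPoint C)).map (InvX.ofSect t)).hom v ≠ 0 := by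
    by_contra hc
    push Not at hc
    exact ht (eq_zero_of_stalk_zero hM.1 hMtf _ hc)
  have hone := K3Ext.finrank_line (X := C) InvX.isInvertible_structureModule
  have hsurj : Function.Surjective ((DerSch.stalkFunctor C (genericPoint C)).map (InvX.ofSect t)).hom := fun y => by
    obtain ⟨c, hc⟩ := exists_smul_eq_of_finrank_eq_one hrk hv y
    exact ⟨c • v, by rw [map_smul]; exact hc⟩
  haveI : Mono (InvX.ofSect t) := K3Ext.mono_of_line InvX.isInvertible_structureModule hM hMtf _ ht
  haveI : (Scheme.Modules.pushforward j).IsRightAdjoint :=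
    (Scheme.Modules.pullbackPushforwardAdjunction j).isRightAdjoint
  haveI hgm : Mono g := inferInstanceAs (Mono ((Scheme.Modules.pushforward j).map (InvX.ofSect t)))
  have hku : kernel.ι u ≫ s = 0 := by
    rw [← cancel_mono ι₁, Category.assoc, ← hg, ← Category.assoc, kernel.condition, zero_comp, zero_comp]
  let a := (ShortComplex.exact_kernel u).desc s hku
  have ha : a ≫ ι₁ = g := by
    rw [← cancel_epi u, ← Category.assoc, hg]
    exact congrArg (· ≫ ι₁) ((ShortComplex.exact_kernel u).g_desc s hku)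
  haveI : Mono a := mono_of_mono_fac ha
  refine ⟨a, inferInstance, ?_⟩
  rw [ha]
  exact LMCurve.surjective_push_stalk j _ (genericPoint C) hsurj

omit [IsAlgClosed k] [CharZero k] in
/-- Surjectivity of a composite with a monomorphism gives bijectivity on stalks. -/
theorem bijective_of_comp {A B D : X.Modules} (f : A ⟶ B) (g : B ⟶ D) [Mono f] [Mono g] {x : X}
    (h : Function.Surjective ((DerSch.stalkFunctor X x).map (f ≫ g)).hom) :
    Function.Bijective ((DerSch.stalkFunctor X x).map f).hom ∧ Function.Bijective ((DerSch.stalkFunctor X x).map g).hom := by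
  have h' : Function.Surjective (((DerSch.stalkFunctor X x).map g).hom ∘ ((DerSch.stalkFunctor X x).map f).hom) := by
    rw [Functor.map_comp] at h
    exact h
  refine ⟨⟨CurveCohLib.stalk_injective f x, fun y => ?_⟩, CurveCohLib.stalk_injective g x, Function.Surjective.of_comp h'⟩
  obtain ⟨a, ha⟩ := h' (((DerSch.stalkFunctor X x).map g).hom y)
  exact ⟨a, CurveCohLib.stalk_injective g x ha⟩

include k hdim hH hω in
/-- Biduality, coherence and kernels for the local Ext sheaf. -/
theorem exists_bidual {F : X.Modules} (hF : Coh.IsCoh F) [Subsingleton (F.presheaf.stalk (genericPoint X))]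
    (hker : ∀ {E : X.Modules}, FlatMod.IsFinLocFree E → ∀ f : E ⟶ F, FlatMod.IsFinLocFree (kernel f)) :
    Coh.IsCoh (ExtOne.E1 I F) ∧ Nonempty (ExtOne.E1 I (ExtOne.E1 I F) ≅ F) ∧
      ∀ {E B : X.Modules}, FlatMod.IsFinLocFree E → ∀ (f : E ⟶ B) (g : B ⟶ ExtOne.E1 I F), Mono g →
        FlatMod.IsFinLocFree (kernel f) := by
  haveI : IsNoetherian X := CurveCohLib.isNoetherian_of_proper (k := k)
  haveI := CurveFin.smoothOfRelativeDimension_of_dim (f := X ↘ Spec (CommRingCat.of k)) (d := 2) hdim
  have hωi : PicF.IsInvertible ω := SmoothTop.isInvertible_top (X ↘ Spec (CommRingCat.of k)) 2 hω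
  have hωl := H23.PullPush.isFinLocFree_of_isInvertible hωi
  have hωc := CurveDeg.isCoh_of_isInvertible hωi
  obtain ⟨E₀, p, hE₀, hp, -, -⟩ := ExtOne.exists_res (k := k) hdim hH hF
  haveI := hp
  have hE₁ := hker hE₀ p
  let u := kernel.ι p
  let S : ShortComplex X.Modules := ShortComplex.mk u p (kernel.condition p)
  have hS : S.ShortExact := { exact := ShortComplex.exact_kernel p }
  let v := (homMap u).app ω
  haveI : Mono v := by
    obtain ⟨z, -, hex⟩ := ExtShShift.homMap_exact hS.exact ω
    exact hex.mono_g ((SurfBidual.isZero_hom_of_generic (F := F) hωc.1 (K3Ext.tf_line hωi)).eq_of_src _ _)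
  obtain ⟨e⟩ := ExtOne.nonempty_E1_iso I hS hE₀
  have hP := SheafHomX.isFinLocFree_hom hE₀ hωl
  have hQ := SheafHomX.isFinLocFree_hom hE₁ hωl
  let T : ShortComplex X.Modules := ShortComplex.mk v (cokernel.π v ≫ e.inv)
    (by rw [← Category.assoc, cokernel.condition, zero_comp])
  have hT : T.ShortExact := by
    refine ShortComplex.shortExact_of_iso ?_
      (S₁ := ShortComplex.mk v (cokernel.π v) (cokernel.condition v)) { exact := ShortComplex.exact_cokernel v }
    exact ShortComplex.isoMk (Iso.refl _) (Iso.refl _) e.symm (by simp [T]) (by simp [T])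
  obtain ⟨e'⟩ := ExtOne.nonempty_E1_iso I hT hQ
  haveI := SurfBidual.isIso_bidual hωi hE₁
  haveI := SurfBidual.isIso_bidual hωi hE₀
  refine ⟨?_, ⟨e' ≪≫ (cokernel.mapIso u ((homMap v).app ω) (asIso ((SurfBidual.bidual ω).app (kernel p)))
      (asIso ((SurfBidual.bidual ω).app E₀)) ((SurfBidual.bidual ω).naturality u)).symm ≪≫
    IsColimit.coconePointUniqueUpToIso (cokernelIsCokernel u) hS.exact.gIsCokernel⟩, fun {E B} hE f g hg => ?_⟩
  · exact SheafHomX.isCoh_of_iso e.symm
      (QCoh.isCoh_cokernel (LMHom.isCoh_hom hE₀ hωc).1 (LMHom.isCoh_hom hE₁ hωc) v)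
  · haveI := hg
    exact H23.PullPush.isFinLocFree_of_iso (kernelCompMono f g)
      (ExtOne.lf_kernel_of_res (SurfHodge.regular k) hdim.le v _ T.zero hT hP hQ hE (f ≫ g))

variable (hA'g : Curv2.IsGloballyGenerated A') (h1 : 0 < Module.finrank k (Coh.HH X ((Coh.push j).obj M) 1))
  {B : X.Modules} (ι₂ : B ⟶ ExtOne.E1 I A') [Mono ι₂] (hBc : Coh.IsCoh B) (hBg : Curv2.IsGloballyGenerated B)
  (hB0 : Function.Surjective (PnCoh.Finite.mapLin k ι₂ 0))

include k hdim hC hM hMtf hrk hH hω hA'c hA'g hA'0 h0 h1 hBc hBg hB0 in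
/-- Both duals of the globally generated part are globally generated. -/
theorem gg_duals : Curv2.IsGloballyGenerated (ExtOne.E1 I B) ∧
    Curv2.IsGloballyGenerated (ExtOne.E1 I (ExtOne.E1 I B)) := by
  haveI : IsNoetherian X := CurveCohLib.isNoetherian_of_proper (k := k)
  haveI : IsLocallyNoetherian C := LocallyOfFiniteType.isLocallyNoetherian j
  let ξ := j (genericPoint C)
  have hJc : Coh.IsCoh ((Coh.push j).obj M) := QCoh.isCoh_push j hM
  have hcl : IsClosed (Set.range j) := j.isClosedEmbedding.isClosed_range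
  have hJs : CohB1.support ((Coh.push j).obj M) ⊆ Set.range j := QCoh.support_push_subset j hM.1
  have hAs : CohB1.support A' ⊆ Set.range j := (support_mono ι₁).trans hJs
  have hDs : CohB1.support (ExtOne.E1 I A') ⊆ Set.range j := ExtOne.support_E1 I hcl hAs
  have hBs : CohB1.support B ⊆ Set.range j := (support_mono ι₂).trans hDs
  have hη : ∀ {F : X.Modules}, CohB1.support F ⊆ Set.range j → Subsingleton (F.presheaf.stalk (genericPoint X)) :=
    fun h => not_not.1 fun h' => LMCurve.generic_notMem_range hdim j hC (h h')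
  haveI := hη hJs
  haveI := hη hAs
  haveI := hη hDs
  haveI := hη hBs
  -- kernels
  obtain ⟨E, p, hE, hp, -, -⟩ := ExtOne.exists_res (k := k) hdim hH hJc
  haveI := hp
  have hkerA : ∀ {E' : X.Modules}, FlatMod.IsFinLocFree E' → ∀ f : E' ⟶ A', FlatMod.IsFinLocFree (kernel f) :=
    fun hE' f => H23.PullPush.isFinLocFree_of_iso (kernelCompMono f ι₁)
      (ExtOne.lf_kernel_of_res (SurfHodge.regular k) hdim.le (kernel.ι p) p (kernel.condition p)
        { exact := ShortComplex.exact_kernel p } (S15848.result k X hdim C j hC M hM hMtf E hE p) hE hE' (f ≫ ι₁))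
  obtain ⟨hDc, ⟨bA⟩, hkerB⟩ := exists_bidual hdim hH hω I hA'c hkerA
  have hkerD : ∀ {E' : X.Modules}, FlatMod.IsFinLocFree E' → ∀ f : E' ⟶ ExtOne.E1 I A',
      FlatMod.IsFinLocFree (kernel f) := fun hE' f => hkerB hE' f (𝟙 _) inferInstance
  have hkerB' : ∀ {E' : X.Modules}, FlatMod.IsFinLocFree E' → ∀ f : E' ⟶ B, FlatMod.IsFinLocFree (kernel f) :=
    fun hE' f => hkerB hE' f ι₂ inferInstance
  obtain ⟨hGc, ⟨bB⟩, -⟩ := exists_bidual hdim hH hω I hBc hkerB'
  refine ⟨?_, AmpleX.isGloballyGenerated_of_iso bB.symm hBg⟩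
  -- numbers
  have nB := ExtOne.finrank_h1_E1 hdim hH hω I hBc hkerB'
  have nD := ExtOne.finrank_h1_E1 hdim hH hω I hDc hkerD
  rw [(CurveCohLib.hhEquiv (k := k) bA 1).finrank_eq] at nD
  have nBD : Module.finrank k (Coh.HH X B 0) = Module.finrank k (Coh.HH X (ExtOne.E1 I A') 0) :=
    (LinearEquiv.ofBijective _ ⟨CurveCohLib.mapLin_f_zero_injective k
      (S := ShortComplex.mk ι₂ (cokernel.π ι₂) (cokernel.condition ι₂)) { exact := ShortComplex.exact_cokernel ι₂ },
      hB0⟩).finrank_eq
  -- the curve at its generic point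
  obtain ⟨a, ha, has⟩ := exists_curve_hom (k := k) j hM hMtf hrk ι₁ hA'0 h0
  haveI := ha
  obtain ⟨haξ, hι₁ξ⟩ := bijective_of_comp a ι₁ has
  have hQ₁c := QCoh.isCoh_cokernel hA'c.1 hJc ι₁
  have hA1 : Module.finrank k (Coh.HH X ((Coh.push j).obj M) 1) ≤ Module.finrank k (Coh.HH X A' 1) := by
    let S : ShortComplex X.Modules := ShortComplex.mk ι₁ (cokernel.π ι₁) (cokernel.condition ι₁)
    have hS : S.ShortExact := { exact := ShortComplex.exact_cokernel ι₁ }
    obtain ⟨-, hfin⟩ := finite_support (k := k) hdim j hC hQ₁c ((support_epi (cokernel.π ι₁)).trans hJs)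
      (notMem_support_cokernel ι₁ hι₁ξ.2)
    haveI : Subsingleton (Coh.HH X S.X₃ 1) := S0047.result X _ hQ₁c hfin 1 one_pos
    haveI := CurveCohLib.finite_HH (k := k) hA'c 1
    refine LinearMap.finrank_le_finrank_of_surjective (f := PnCoh.Finite.mapLin k S.f 1) ?_
    rw [← LinearMap.range_eq_top, ← CurveCohLib.ker_mapLin_g k hS 1]
    exact LinearMap.ker_eq_top.2 (LinearMap.ext fun x => Subsingleton.elim _ _)
  have hBξ : ξ ∈ CohB1.support B := by
    by_contra hξ
    obtain ⟨-, hfin⟩ := finite_support (k := k) hdim j hC hBc hBs hξ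
    have hs := ExtOne.support_E1 I (QCoh.isClosed_support_of_isFT hBc.1 hBc.2) (le_refl (CohB1.support B))
    haveI : Subsingleton (Coh.HH X (ExtOne.E1 I B) 1) := S0047.result X _ hGc (fun x hx => hfin x (hs hx)) 1 one_pos
    rw [Module.finrank_zero_of_subsingleton] at nB
    omega
  obtain ⟨N, hN, ⟨eN⟩⟩ := exists_E1_curve (k := k) hdim j hC hω I
  -- the Ext sheaf is a line bundle near the generic point of the curve
  let ψ := ExtOne.E1map I a ≫ eN.hom
  have hDξ : Function.Bijective ((DerSch.stalkFunctor X ξ).map ψ).hom := by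
    let U : X.Opens := ⟨(CohB1.support (cokernel a))ᶜ, (QCoh.isClosed_support_of_isFT
      (QCoh.isCoh_cokernel (QCoh.isCoh_push j QCoh.isCoh_structureModule').1 hA'c a).1
      (QCoh.isCoh_cokernel (QCoh.isCoh_push j QCoh.isCoh_structureModule').1 hA'c a).2).isOpen_compl⟩
    have hξU : ξ ∈ U := notMem_support_cokernel a haξ.2
    haveI := ExtOne.isIso_restrict_of_stalk U a fun x hx => ⟨CurveCohLib.stalk_injective a x, surjective_of_notMem a hx⟩
    haveI := ExtOne.isIso_restrict_E1map I U a
    haveI : IsIso ((Scheme.Modules.restrictFunctor U.ι).map ψ) := by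
      rw [Functor.map_comp]
      infer_instance
    haveI := H9Misc.LocFreeNat.isIso_stalk_of_restrict U ψ inferInstance ⟨ξ, hξU⟩
    exact ConcreteCategory.bijective_of_isIso ((DerSch.stalkFunctor X ξ).map ψ)
  have hι₂ξ : Function.Surjective ((DerSch.stalkFunctor X ξ).map ι₂).hom := by
    have hne : ∃ b, ((DerSch.stalkFunctor X ξ).map (ι₂ ≫ ψ)).hom b ≠ 0 := by
      by_contra hc
      push Not at hc
      refine hBξ ⟨fun b c => CurveCohLib.stalk_injective ι₂ ξ (hDξ.1 ?_)⟩
      have hb := hc b
      have hc' := hc c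
      rw [Functor.map_comp] at hb hc'
      exact hb.trans hc'.symm
    intro y
    obtain ⟨b, hb⟩ := surjective_push_line j hN (ι₂ ≫ ψ) hne (((DerSch.stalkFunctor X ξ).map ψ).hom y)
    rw [Functor.map_comp] at hb
    exact ⟨b, hDξ.1 hb⟩
  -- the dual map
  have hQ₂c := QCoh.isCoh_cokernel hBc.1 hDc ι₂
  obtain ⟨hfinS, hfin⟩ := finite_support (k := k) hdim j hC hQ₂c ((support_epi (cokernel.π ι₂)).trans hDs)
    (notMem_support_cokernel ι₂ hι₂ξ)
  let φ : A' ⟶ ExtOne.E1 I B := bA.inv ≫ ExtOne.E1map I ι₂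
  have hφ : ∀ x ∉ CohB1.support (cokernel ι₂), Function.Bijective ((DerSch.stalkFunctor X x).map φ).hom := by
    intro x hx
    let U : X.Opens := ⟨(CohB1.support (cokernel ι₂))ᶜ,
      (QCoh.isClosed_support_of_isFT hQ₂c.1 hQ₂c.2).isOpen_compl⟩
    haveI := ExtOne.isIso_restrict_of_stalk U ι₂ fun z hz => ⟨CurveCohLib.stalk_injective ι₂ z, surjective_of_notMem ι₂ hz⟩
    haveI := ExtOne.isIso_restrict_E1map I U ι₂
    haveI : IsIso ((Scheme.Modules.restrictFunctor U.ι).map φ) := by
      rw [Functor.map_comp]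
      infer_instance
    haveI := H9Misc.LocFreeNat.isIso_stalk_of_restrict U φ inferInstance ⟨x, hx⟩
    exact ConcreteCategory.bijective_of_isIso ((DerSch.stalkFunctor X x).map φ)
  obtain ⟨G, p', i', hi', hp', hfac, hG⟩ := LMBN.exists_coimage hA'c hGc φ
  haveI := hi'
  haveI := hp'
  let Sp : ShortComplex X.Modules := ShortComplex.mk (kernel.ι p') p' (kernel.condition p')
  have hSp : Sp.ShortExact := { exact := ShortComplex.exact_kernel p' }
  let Si : ShortComplex X.Modules := ShortComplex.mk i' (cokernel.π i') (cokernel.condition i')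
  have hSi : Si.ShortExact := { exact := ShortComplex.exact_cokernel i' }
  have hTc := QCoh.isCoh_cokernel hG.1 hGc i'
  have hTS : CohB1.support (cokernel i') ⊆ CohB1.support (cokernel ι₂) := fun x hx => by
    by_contra hne
    refine notMem_support_cokernel i' (fun y => ?_) hx
    obtain ⟨b, hb⟩ := (hφ x hne).2 y
    rw [← hfac, Functor.map_comp] at hb
    exact ⟨_, hb⟩
  have hKS : CohB1.support (kernel p') ⊆ CohB1.support (cokernel ι₂) := fun x hx => by
    by_contra hne
    refine hx ⟨fun b c => CurveCohLib.stalk_injective (kernel.ι p') x ((hφ x hne).1 ?_)⟩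
    have h := congrArg (DerSch.stalkFunctor X x).map (show kernel.ι p' ≫ φ = 0 by
      rw [← hfac, ← Category.assoc, kernel.condition, zero_comp])
    haveI := DerSch.additive_stalkFunctor (X := X) x
    rw [Functor.map_comp, Functor.map_zero] at h
    exact (congrArg (fun q => q.hom b) h).trans (congrArg (fun q => q.hom c) h).symm
  haveI : Subsingleton (Coh.HH X Sp.X₁ (1 + 1)) :=
    S0047.result X _ (QCoh.isCoh_kernel hA'c hG p') (fun x hx => hfin x (hKS hx)) 2 two_pos
  haveI : Subsingleton (Coh.HH X Si.X₃ 1) := S0047.result X _ hTc (fun x hx => hfin x (hTS hx)) 1 one_pos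
  have hps : Function.Surjective (PnCoh.Finite.mapLin k Sp.g 1) := by
    rw [← LinearMap.range_eq_top, ← CurveCohLib.ker_deltaLin k hSp 1]
    exact LinearMap.ker_eq_top.2 (LinearMap.ext fun _ => Subsingleton.elim _ _)
  have his : Function.Surjective (PnCoh.Finite.mapLin k Si.f 1) := by
    rw [← LinearMap.range_eq_top, ← CurveCohLib.ker_mapLin_g k hSi 1]
    exact LinearMap.ker_eq_top.2 (LinearMap.ext fun _ => Subsingleton.elim _ _)
  haveI := CurveCohLib.finite_HH (k := k) hA'c 1
  haveI := CurveCohLib.finite_HH (k := k) hGc 1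
  haveI := CurveCohLib.finite_HH (k := k) hG 1
  have h₁ : Module.finrank k (Coh.HH X G 1) ≤ Module.finrank k (Coh.HH X A' 1) :=
    LinearMap.finrank_le_finrank_of_surjective (f := PnCoh.Finite.mapLin k Sp.g 1) hps
  have h₂ : Module.finrank k (Coh.HH X (ExtOne.E1 I B) 1) ≤ Module.finrank k (Coh.HH X G 1) :=
    LinearMap.finrank_le_finrank_of_surjective (f := PnCoh.Finite.mapLin k Si.f 1) his
  have hii : Function.Injective (PnCoh.Finite.mapLin k Si.f 1) :=
    (LinearMap.injective_iff_surjective_of_finrank_eq_finrank (f := PnCoh.Finite.mapLin k Si.f 1) (by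
      show Module.finrank k (Coh.HH X G 1) = Module.finrank k (Coh.HH X (ExtOne.E1 I B) 1)
      omega)).2 his
  have hsur : Function.Surjective (PnCoh.Finite.mapLin k Si.g 0) := by
    have h : LinearMap.range (PnCoh.Finite.deltaLin k hSi 0) = ⊥ := by
      rw [← CurveCohLib.ker_mapLin_f_succ k hSi 0, LinearMap.ker_eq_bot]
      exact hii
    rw [← LinearMap.range_eq_top, ← CurveCohLib.ker_deltaLin k hSi 0]
    exact LinearMap.ker_eq_top.2 (LinearMap.range_eq_bot.1 h)
  refine gg_extension (k := k) hSi ?_ (R1Push.isGloballyGenerated_of_finite_support _ _ hfinS hfin fun x hx =>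
    not_not.1 fun h => hx (hTS h)) hsur
  obtain ⟨J, q, hq⟩ := hA'g
  haveI := hq
  exact ⟨J, q ≫ p', inferInstance⟩

end Groth.Agent.Synt29.GenDual

end
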