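import Groth.Agent.Synt29.SurfRankOne
import Groth.Agent.Synt29.LMEuler
import Groth.Agent.Lib.SurfAmple
import Groth.Agent.Lib.SurfCone
import Groth.Agent.Lib.SurfAdj
import Groth.Agent.Lib.CurveOnSurf
import Groth.Agent.AffCompl.Lift
import Groth.Agent.H26.VertDiv

/-!
Line bundles on a K3 surface with infinite cyclic Picard group have no first cohomology.
-/

set_option autoImplicit false
set_option linter.style.haveILetI false
set_option linter.unusedSectionVars false
set_option backward.isDefEq.respectTransparency false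
set_option backward.isDefEq.respectTransparency.types false
set_option maxHeartbeats 1000000

universe u

open CategoryTheory CategoryTheory.Limits AlgebraicGeometry TopologicalSpace
open Groth.Agent Groth.Agent.H23 Groth.Agent.H23.PicMul Groth.Agent.H23.TrivBasic
open scoped Groth.Agent.H23.PicMul

attribute [local instance] H23.PicMul.clMonoid

noncomputable section

namespace Groth.Agent.Synt29.SerreK3

variable {k : Type u} [Field k] [IsAlgClosed k] [CharZero k] {X : Scheme.{u}} [X.Over (Spec (CommRingCat.of k))]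
  [IsProper (X ↘ Spec (CommRingCat.of k))] [Smooth (X ↘ Spec (CommRingCat.of k))] [IsIntegral X]
  (hdim : topologicalKrullDim X = 2) {G : X.Modules} (hG : CohB1.IsAmple G)
  (hK : Canon.IsTopDiff (X ↘ Spec (CommRingCat.of k)) 2 (Coh.structureModule X))
  (hq : Module.finrank k (Coh.HH X (Coh.structureModule X) 1) = 0)
  [PicGrp.Law X] (hgen : ∀ c : PicLoc.PicSet X, ∃ n : ℤ, c = PicGrp.cls G hG.1 ^ n)
  (hfree : ∀ n : ℤ, PicGrp.cls G hG.1 ^ n = 1 → n = 0)

include hgen in
/-- Every class is a power or an inverse power of the generator. -/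
theorem cases_line {M : X.Modules} (hM : PicF.IsInvertible M) :
    (∃ n : ℕ, PicF.cl M = PicF.cl G ^ n) ∨ ∃ n : ℕ, 1 ≤ n ∧ PicF.cl M * PicF.cl G ^ n = 1 := by
  obtain ⟨z, hz⟩ := hgen (PicGrp.cls M hM)
  rcases z with m | m
  · refine Or.inl ⟨m, ?_⟩
    rw [Int.ofNat_eq_natCast, zpow_natCast] at hz
    have h := congrArg Subtype.val hz
    rwa [PicGrp.cls_val, PicGrp.cls_pow_val, cl_tensorPow] at h
  · refine Or.inr ⟨m + 1, Nat.succ_pos m, ?_⟩
    rw [zpow_negSucc] at hz
    have h1 : PicGrp.cls M hM * PicGrp.cls G hG.1 ^ (m + 1) = 1 := by rw [hz, inv_mul_cancel]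
    have h := congrArg Subtype.val h1
    have hv : (PicGrp.cls G hG.1 ^ (m + 1)).1 = PicF.cl (CohB1.tensorPow G (m + 1)) := PicGrp.cls_pow_val _ _
    rw [PicGrp.mul_val, PicGrp.cls_val, hv, PicGrp.mulCl_cl, PicGrp.one_val, cl_tensor, cl_tensorPow] at h
    rw [h]
    exact one_def

include hfree in
theorem pow_ne_one {n : ℕ} (hn : 1 ≤ n) : PicF.cl G ^ n ≠ 1 := fun h => by
  have h1 : PicGrp.cls G hG.1 ^ (n : ℤ) = 1 := Subtype.ext (by
    rw [zpow_natCast, PicGrp.cls_pow_val, PicGrp.one_val, cl_tensorPow, h]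
    exact one_def.symm)
  have := hfree _ h1
  omega

omit [IsAlgClosed k] [CharZero k] [IsProper (X ↘ Spec (CommRingCat.of k))] [Smooth (X ↘ Spec (CommRingCat.of k))] [IsIntegral X]
  [PicGrp.Law X] in
theorem exists_section_of_ne_zero {M : X.Modules} (h : Module.finrank k (Coh.HH X M 0) ≠ 0) :
    ∃ s : Γ(M, ⊤), s ≠ 0 := by
  by_contra! hc
  refine h ?_
  haveI : Subsingleton (Coh.HH X M 0) :=
    ⟨fun a b => (Sheaf.H.equiv₀ (Coh.toAb M) isTerminalTop).injective ((hc _).trans (hc _).symm)⟩
  exact Module.finrank_zero_of_subsingleton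

include hdim in
theorem pair_pow_self (n : ℕ) {M : X.Modules} (hM : PicF.IsInvertible M) (hG' : PicF.IsInvertible G) :
    SurfPairing.pair k (PicF.cl M) (PicF.cl G ^ n) = n * SurfPairing.pair k (PicF.cl M) (PicF.cl G) := by
  rw [← cl_tensorPow]
  exact SurfAmple.pair_pow hdim.le hM hG' n

include hdim hG in
/-- An inverse power pairs negatively with the generator. -/
theorem pair_inverse {M : X.Modules} (hM : PicF.IsInvertible M) {n : ℕ} (hMn : PicF.cl M * PicF.cl G ^ n = 1) :
    SurfPairing.pair k (PicF.cl M) (PicF.cl G) = -(n * SurfPairing.pair k (PicF.cl G) (PicF.cl G)) := by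
  have hP := InvX.isInvertible_tensorPow hG.1 n
  have h := SurfPairing.pair_mul k hdim.le hG.1 hM hP
  rw [cl_tensorPow, hMn, SurfPairing.pair_one, pair_pow_self hdim n hG.1 hG.1] at h
  rw [SurfPairing.pair_comm]
  linarith

include hdim hG hfree in
/-- Inverse powers of the generator have no sections. -/
theorem h0_inverse {M : X.Modules} (hM : PicF.IsInvertible M) {n : ℕ} (hn : 1 ≤ n)
    (hMn : PicF.cl M * PicF.cl G ^ n = 1) : Module.finrank k (Coh.HH X M 0) = 0 := by
  by_contra hne
  obtain ⟨s, hs⟩ := exists_section_of_ne_zero hne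
  by_cases htop : locus s = ⊤
  · obtain ⟨e⟩ := H26.VertDiv.nonempty_iso_of_frame_top (locus_eq_top_iff.1 htop)
    have h1 : PicF.cl M = 1 := by rw [cl_eq_iff.2 ⟨e⟩]; rfl
    rw [h1, one_mul] at hMn
    exact pow_ne_one hG hfree hn hMn
  · have h := SurfAmple.pair_pos (k := k) hdim (SurfHodge.regular k) hM hG hs htop
    rw [pair_inverse hdim hG hM hMn] at h
    have := SurfCone.pair_self_pos (k := k) hdim hG
    have h2 : (1 : ℤ) ≤ n := by exact_mod_cast hn
    nlinarith

include hdim hG hK in
theorem finrank_dual {M M' : X.Modules} (hM : PicF.IsInvertible M) (hM' : PicF.IsInvertible M')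
    (h : PicF.cl M * PicF.cl M' = 1) {p : ℕ} (hp : p ≤ 2) :
    Module.finrank k (Coh.HH X M p) = Module.finrank k (Coh.HH X M' (2 - p)) := by
  obtain ⟨e⟩ := cl_eq_iff.1 (by
    have hc := LMHom.cl_hom_unit hM'
    show PicF.cl ((SheafHomX.hom M').obj (Coh.structureModule X)) = PicF.cl M
    calc PicF.cl ((SheafHomX.hom M').obj (Coh.structureModule X))
        = PicF.cl ((SheafHomX.hom M').obj (Coh.structureModule X)) * (PicF.cl M * PicF.cl M') := by rw [h, mul_one]
      _ = PicF.cl M := by rw [mul_comm (PicF.cl M), ← mul_assoc, hc, one_mul])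
  rw [← (CurveCohLib.hhEquiv (k := k) e p).finrank_eq]
  exact LMHom.finrank_hh_hom_unit hdim hG hK (H23.PullPush.isFinLocFree_of_isInvertible hM') hp

include hdim hG hK hq hfree in
/-- Positive powers of the generator have sections. -/
theorem h0_power {M : X.Modules} (hM : PicF.IsInvertible M) {n : ℕ} (hn : 1 ≤ n) (hMn : PicF.cl M = PicF.cl G ^ n) :
    Module.finrank k (Coh.HH X M 0) ≠ 0 := fun h0 => by
  haveI : IsNoetherian X := CurveCohLib.isNoetherian_of_proper (k := k)
  obtain ⟨M', hM', e⟩ := H23.PicInv.exists_inverse hM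
  have hinv : PicF.cl M * PicF.cl M' = 1 := cl_eq_iff.2 e
  have h2 := finrank_dual hdim hG hK hM hM' hinv (p := 2) le_rfl
  rw [h0_inverse hdim hG hfree hM' hn (by rw [← hMn, mul_comm, hinv])] at h2
  have h3 := LMHom.euler_three (k := k) hdim hG (CurveDeg.isCoh_of_isInvertible hM).1
  rw [h0, h2] at h3
  have hrr := SurfAdj.rr k hdim hK hM
  rw [LMEuler.euler_O hdim hG hK hq, ← one_def, SurfPairing.pair_one, sub_zero, h3] at hrr
  have hp := SurfCone.pair_self_pos (k := k) hdim hG
  have hMM : SurfPairing.pair k (PicF.cl M) (PicF.cl M) = n * (n * SurfPairing.pair k (PicF.cl G) (PicF.cl G)) := by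
    nth_rewrite 2 [hMn]
    rw [pair_pow_self hdim n hM hG.1, SurfPairing.pair_comm, hMn, pair_pow_self hdim n hG.1 hG.1]
  rw [hMM] at hrr
  have h4 : (0 : ℤ) ≤ n * (n * SurfPairing.pair k (PicF.cl G) (PicF.cl G)) := by positivity
  have h5 : (0 : ℤ) ≤ Module.finrank k (Coh.HH X M 1) := Int.natCast_nonneg _
  push_cast at hrr
  linarith

include hdim hG hK hq hgen hfree in
/-- A curve whose ideal is the inverse of the generator. -/
theorem exists_curve : ∃ J : X.IdealSheafData, IsIntegral J.subscheme ∧ topologicalKrullDim J.subscheme = 1 ∧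
    PicF.IsInvertible (ClSub.idealMod J) ∧ PicF.cl (ClSub.idealMod J) * PicF.cl G = 1 := by
  haveI : IsNoetherian X := CurveCohLib.isNoetherian_of_proper (k := k)
  obtain ⟨s, hs⟩ := exists_section_of_ne_zero (h0_power hdim hG hK hq hfree hG.1 le_rfl (pow_one _).symm)
  have hne : locus s ≠ ⊤ := fun ht => by
    obtain ⟨e⟩ := H26.VertDiv.nonempty_iso_of_frame_top (locus_eq_top_iff.1 ht)
    refine pow_ne_one hG hfree le_rfl ?_
    rw [pow_one, cl_eq_iff.2 ⟨e⟩]
    rfl
  obtain ⟨J, hJi, hJd, hJs⟩ := SurfAmple.exists_curve k hdim hG.1 hs hne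
  haveI := hJi
  let i := J.subschemeι
  have hker : i.ker = J := Scheme.IdealSheafData.ker_subschemeι J
  have hI0 := CurveOnSurf.isInvertible_ideal (X ↘ Spec (CommRingCat.of k)) hdim (SurfHodge.regular k) i hJd
  rw [hker] at hI0
  refine ⟨J, hJi, hJd, hI0, ?_⟩
  haveI : ConnectedSpace X := inferInstance
  have hh0 := CurveOnSurf.finrank_h0_ideal (k := k) J
  obtain ⟨t, ht⟩ := AffCompl.exists_preimage J hG.1 s hJs
  have ht0 : t ≠ 0 := fun h => hs (by rw [← ht, h, map_zero])
  rcases cases_line hG hgen hI0 with ⟨n, hn⟩ | ⟨n, hn1, hn⟩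
  · exfalso
    rcases Nat.eq_zero_or_pos n with rfl | hpos
    · obtain ⟨e⟩ := cl_eq_iff.1 (hn.trans ((pow_zero _).trans one_def))
      rw [(CurveCohLib.hhEquiv (k := k) e 0).finrank_eq, SurfAdj.finrank_h0] at hh0
      exact one_ne_zero hh0
    · exact h0_power hdim hG hK hq hfree hI0 hpos hn hh0
  · rcases Nat.lt_or_ge n 2 with h | h
    · obtain rfl : n = 1 := by omega
      rwa [pow_one] at hn
    · exfalso
      have hT := InvX.isInvertible_tensorMod hG.1 hI0
      have h0 := h0_inverse (k := k) hdim hG hfree hT (n := n - 1) (by omega) (by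
        rw [cl_tensor, mul_comm (PicF.cl G), mul_assoc, ← pow_succ', show n - 1 + 1 = n by omega, hn])
      haveI := CurveCohLib.finite_HH (k := k) (CurveDeg.isCoh_of_isInvertible hT) 0
      haveI := Module.finrank_zero_iff.1 h0
      exact ht0 ((Sheaf.H.equiv₀ (Coh.toAb (CohB1.tensorMod G (ClSub.idealMod J))) isTerminalTop).symm.injective
        (Subsingleton.elim _ _))

omit [Smooth (X ↘ Spec (CommRingCat.of k))] in
/-- A line bundle of negative degree on a curve has no sections. -/
theorem h0_neg {C : Scheme.{u}} [C.Over (Spec (CommRingCat.of k))] [IsProper (C ↘ Spec (CommRingCat.of k))]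
    [IsIntegral C] (hC : topologicalKrullDim C = 1) {N : C.Modules} (hN : PicF.IsInvertible N)
    (hdeg : Curv2.deg k C N 1 < 0) : Module.finrank k (Coh.HH C N 0) = 0 := by
  by_contra hne
  obtain ⟨s, hs⟩ := exists_section_of_ne_zero hne
  by_cases htop : locus s = ⊤
  · obtain ⟨e⟩ := H26.VertDiv.nonempty_iso_of_frame_top (locus_eq_top_iff.1 htop)
    haveI : IsNoetherian C := CurveCohLib.isNoetherian_of_proper (k := k)
    have he := (HilbPoly.additive_euler k).iso _ _ ⟨e⟩
    unfold Curv2.deg at hdeg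
    push_cast at hdeg
    linarith
  · have := CurveAmple.deg_pos_of_section (k := k) hC hN hs htop
    linarith

include hdim hG hK hq hgen hfree in
/-- Inverse powers of the generator. -/
theorem h1_inverse {n : ℕ} (hn : 1 ≤ n) : ∀ {M : X.Modules}, PicF.IsInvertible M → PicF.cl M * PicF.cl G ^ n = 1 →
    Module.finrank k (Coh.HH X M 1) = 0 := by
  haveI : IsNoetherian X := CurveCohLib.isNoetherian_of_proper (k := k)
  obtain ⟨J, hJi, hJd, hI, hIG⟩ := exists_curve hdim hG hK hq hgen hfree
  haveI := hJi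
  let C := J.subscheme
  let i := J.subschemeι
  letI : C.Over (Spec (CommRingCat.of k)) := ⟨i ≫ (X ↘ Spec (CommRingCat.of k))⟩
  haveI : IsProper (C ↘ Spec (CommRingCat.of k)) :=
    show IsProper (i ≫ (X ↘ Spec (CommRingCat.of k))) from inferInstance
  haveI : IsLocallyNoetherian C := LocallyOfFiniteType.isLocallyNoetherian i
  have hker : i.ker = J := Scheme.IdealSheafData.ker_subschemeι J
  induction n, hn using Nat.le_induction with
  | base =>
    intro M hM hMn
    rw [pow_one] at hMn
    obtain ⟨e⟩ := cl_eq_iff.1 (show PicF.cl M = PicF.cl (ClSub.idealMod J) by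
      calc PicF.cl M = PicF.cl M * (PicF.cl (ClSub.idealMod J) * PicF.cl G) := by rw [hIG, mul_one]
        _ = PicF.cl (ClSub.idealMod J) := by rw [mul_comm (PicF.cl (ClSub.idealMod J)), ← mul_assoc, hMn, one_mul])
    rw [(CurveCohLib.hhEquiv (k := k) e 1).finrank_eq]
    refine CurveOnSurf.finrank_h1_ideal (k := k) J ?_ ?_
    · obtain ⟨eq⟩ := DivisorExt.nonempty_quotMod_iso i
      rw [hker] at eq
      obtain ⟨a⟩ := PnCoh.exists_linearEquiv_push k i rfl
        (CurveDeg.isCoh_of_isInvertible (InvX.isInvertible_structureModule (X := C))).1 0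
      exact ((CurveCohLib.hhEquiv (k := k) eq 0).finrank_eq.trans a.finrank_eq.symm).trans (SurfAdj.finrank_h0 k C)
    · haveI := CurveCohLib.finite_HH (k := k) (X := X) QCoh.isCoh_structureModule' 1
      exact Module.finrank_zero_iff.1 hq
  | succ m hm ih =>
    intro M hM hMn
    obtain ⟨A, hA, eA⟩ := H23.PicInv.exists_inverse (InvX.isInvertible_tensorPow hG.1 m)
    have hAm : PicF.cl A * PicF.cl G ^ m = 1 := by
      rw [mul_comm, ← cl_tensorPow]; exact cl_eq_iff.2 eA
    obtain ⟨e⟩ := cl_eq_iff.1 (show PicF.cl M = PicF.cl (CohB1.tensorMod A (ClSub.idealMod J)) by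
      rw [cl_tensor]
      calc PicF.cl M = PicF.cl M * ((PicF.cl A * PicF.cl G ^ m) * (PicF.cl (ClSub.idealMod J) * PicF.cl G)) := by
            rw [hAm, hIG, mul_one, mul_one]
        _ = (PicF.cl M * PicF.cl G ^ (m + 1)) * (PicF.cl A * PicF.cl (ClSub.idealMod J)) := by
            rw [pow_succ]; ac_rfl
        _ = PicF.cl A * PicF.cl (ClSub.idealMod J) := by rw [hMn, one_mul])
    rw [(CurveCohLib.hhEquiv (k := k) e 1).finrank_eq]
    haveI := AffCompl.mono_mulIdeal J hA
    let f := DivisorExt.mulIdeal J A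
    let S := ShortComplex.mk f (cokernel.π f) (cokernel.condition f)
    have hS : S.ShortExact := { exact := ShortComplex.exact_cokernel f }
    have hiA : PicF.IsInvertible ((Scheme.Modules.pullback i).obj A) := PicClLib.isInvertible_pullback i hA
    have hdeg : Curv2.deg k C ((Scheme.Modules.pullback i).obj A) 1 < 0 := by
      have h := CurveOnSurf.pair_ideal (k := k) i hA (hker.symm ▸ hI)
      rw [hker] at h
      have hp := SurfCone.pair_self_pos (k := k) hdim hG
      have h1 : SurfPairing.pair k (PicF.cl (ClSub.idealMod J)) (PicF.cl A) =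
          m * SurfPairing.pair k (PicF.cl G) (PicF.cl G) := by
        have h2 := SurfPairing.pair_mul k hdim.le hI hA (InvX.isInvertible_tensorPow hG.1 m)
        rw [cl_tensorPow, hAm, SurfPairing.pair_one, pair_pow_self hdim m hI hG.1,
          pair_inverse hdim hG hI (n := 1) (by rw [pow_one]; exact hIG)] at h2
        push_cast at h2
        linarith
      rw [h1] at h
      have h3 : (1 : ℤ) ≤ m := by exact_mod_cast hm
      nlinarith
    haveI : Subsingleton (Coh.HH X (cokernel f) 0) := by
      obtain ⟨e₁⟩ := DivisorExt.nonempty_cokernel_mulIdeal J A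
      obtain ⟨e₂⟩ := DivisorExt.nonempty_quotMod_iso i
      rw [hker] at e₂
      obtain ⟨c⟩ := PicMul.comm A ((Scheme.Modules.pushforward i).obj (Coh.structureModule C))
      haveI := KFlatLib.isIso_projMod_of_isClosedImmersion i (Coh.structureModule C) A
      obtain ⟨v⟩ := PicMul.comm (Coh.structureModule C) ((Scheme.Modules.pullback i).obj A)
      let e' : cokernel f ≅ (Coh.push i).obj ((Scheme.Modules.pullback i).obj A) :=
        e₁ ≪≫ (DCoh.tensorBi.obj A).mapIso e₂ ≪≫ c ≪≫ asIso (KFlatLib.projMod i (Coh.structureModule C) A) ≪≫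
          (Scheme.Modules.pushforward i).mapIso (v ≪≫ KFlatLib.tensorUnitIso _)
      obtain ⟨a⟩ := PnCoh.exists_linearEquiv_push k i rfl (CurveDeg.isCoh_of_isInvertible hiA).1 0
      haveI := CurveCohLib.finite_HH (k := k) (CurveDeg.isCoh_of_isInvertible hiA) 0
      haveI := Module.finrank_zero_iff.1 (h0_neg (k := k) hJd hiA hdeg)
      exact ((CurveCohLib.hhEquiv (k := k) e' 0).trans a.symm).toEquiv.subsingleton
    haveI hA1 : Subsingleton (Coh.HH X A 1) := by
      haveI := CurveCohLib.finite_HH (k := k) (CurveDeg.isCoh_of_isInvertible hA) 1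
      exact Module.finrank_zero_iff.1 (ih hA hAm)
    haveI : Subsingleton (Coh.HH X (CohB1.tensorMod A (ClSub.idealMod J)) 1) := by
      have hk := CurveCohLib.ker_mapLin_f_succ k hS 0
      have hd : LinearMap.range (PnCoh.Finite.deltaLin k hS 0) = ⊥ :=
        LinearMap.range_eq_bot.2 (LinearMap.ext fun z => by
          rw [Subsingleton.elim (α := Coh.HH X (cokernel f) 0) z 0, map_zero]; rfl)
      rw [hd] at hk
      exact (LinearMap.ker_eq_bot.1 hk).subsingleton
    exact Module.finrank_zero_of_subsingleton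

include hdim hG hK hq hgen hfree in
/-- No line bundle has first cohomology. -/
theorem h1_line {M : X.Modules} (hM : PicF.IsInvertible M) : Module.finrank k (Coh.HH X M 1) = 0 := by
  haveI : IsNoetherian X := CurveCohLib.isNoetherian_of_proper (k := k)
  rcases cases_line hG hgen hM with ⟨n, hn⟩ | ⟨n, hn1, hn⟩
  · rcases Nat.eq_zero_or_pos n with rfl | hpos
    · obtain ⟨e⟩ := cl_eq_iff.1 (hn.trans ((pow_zero _).trans one_def))
      rw [(CurveCohLib.hhEquiv (k := k) e 1).finrank_eq, hq]
    · obtain ⟨M', hM', e⟩ := H23.PicInv.exists_inverse hM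
      have hinv : PicF.cl M * PicF.cl M' = 1 := cl_eq_iff.2 e
      rw [finrank_dual hdim hG hK hM hM' hinv one_le_two]
      exact h1_inverse hdim hG hK hq hgen hfree hpos hM' (by rw [← hn, mul_comm, hinv])
  · exact h1_inverse hdim hG hK hq hgen hfree hn1 hM hn

end Groth.Agent.Synt29.SerreK3

end
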