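import Groth.Agent.Synt29.SerreMain
import Groth.Agent.Synt29.SerreK3

/-!
Non split extensions which are not locally free.
-/

set_option autoImplicit false
set_option linter.style.haveILetI false
set_option linter.unusedSectionVars false
set_option backward.isDefEq.respectTransparency false
set_option backward.isDefEq.respectTransparency.types false
set_option maxHeartbeats 1000000

universe u

open CategoryTheory CategoryTheory.Limits AlgebraicGeometry TopologicalSpace MonoidalCategory
open Groth.Agent Groth.Agent.H23 Groth.Agent.H23.PicMul Groth.Agent.Synt29.SerreIdeal Groth.Agent.Synt29.SerreCover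
open Groth.Agent.Synt29.SerreCore IsLocalRing
open scoped Groth.Agent.H23.PicMul

attribute [local instance] H23.PicMul.clMonoid

noncomputable section

namespace Groth.Agent.Synt29.SerreBad

variable {X : Scheme.{u}}

/-- A non split extension whose middle is not locally free. -/
def ExistsBad (M N : X.Modules) : Prop :=
  ∃ (F : X.Modules) (a : M ⟶ F) (b : F ⟶ N) (w : a ≫ b = 0),
    (ShortComplex.mk a b w).ShortExact ∧ (∀ r : F ⟶ M, a ≫ r ≠ 𝟙 M) ∧ ¬ FlatMod.IsFinLocFree F

theorem existsBad_iso {M M' N N' : X.Modules} (eM : M ≅ M') (eN : N ≅ N') (h : ExistsBad M N) : ExistsBad M' N' := by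
  obtain ⟨F, a, b, w, hS, hr, hF⟩ := h
  refine ⟨F, eM.inv ≫ a, b ≫ eN.hom, by rw [Category.assoc, reassoc_of% w, zero_comp, comp_zero],
    ShortComplex.shortExact_of_iso
      (ShortComplex.isoMk (S₁ := ShortComplex.mk a b w) eM (Iso.refl F) eN (by simp) (by simp)) hS,
    fun r hr' => hr (r ≫ eM.inv) ?_, hF⟩
  have := congrArg (fun f => eM.hom ≫ f ≫ eM.inv) hr'
  simpa using this

theorem existsBad_twist {R S : X.Modules} (hR : PicF.IsInvertible R) (hS' : PicF.IsInvertible S)
    (hRS : PicF.cl R * PicF.cl S = 1) {M N : X.Modules} (h : ExistsBad M N) :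
    ExistsBad (CohB1.tensorMod M R) (CohB1.tensorMod N R) := by
  obtain ⟨F, a, b, w, hS, hr, hF⟩ := h
  haveI : ((DCoh.tensorBi (X := X)).obj R).IsEquivalence := H26.IdealCl.isEquivalence_tensor hR
  let T := SheafHomX.ten R
  haveI : T.IsEquivalence := Functor.isEquivalence_of_iso ((KFlatLib.tensorBiFlipIso X).app R).symm
  haveI : T.Additive := inferInstance
  refine ⟨T.obj F, T.map a, T.map b, by rw [← Functor.map_comp, w, Functor.map_zero], hS.map_of_exact T,
    fun r hr' => hr (T.preimage r) (T.map_injective ?_), fun hl => hF ?_⟩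
  · rw [Functor.map_comp, Functor.map_preimage, hr']
    exact (T.map_id M).symm
  · obtain ⟨e⟩ := cl_eq_iff.1 (show PicF.cl (CohB1.tensorMod (CohB1.tensorMod F R) S) = PicF.cl F by
      rw [cl_tensor, cl_tensor, mul_assoc, hRS, mul_one])
    exact H23.PullPush.isFinLocFree_of_iso e
      (KFlatLib.isFinLocFree_tensor (M := CohB1.tensorMod F R) (N := S) hl (H23.PullPush.isFinLocFree_of_isInvertible hS'))

theorem range_rTensor_smul {R : Type u} [CommRing R] {A J O : Type u} [AddCommGroup A] [Module R A] [AddCommGroup J]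
    [Module R J] [AddCommGroup O] [Module R O] (g : J →ₗ[R] O) (I : Ideal R)
    (hg : LinearMap.range g = I • ⊤) : LinearMap.range (g.rTensor A) = I • ⊤ := by
  have h := range_comp_iso (g.lTensor A) (TensorProduct.comm R A O).toLinearMap (LinearEquiv.surjective _) I
    (range_lTensor_smul g I hg)
  rw [show (TensorProduct.comm R A O).toLinearMap.comp (g.lTensor A) =
    (g.rTensor A).comp (TensorProduct.comm R A J).toLinearMap from
    TensorProduct.ext' fun a j => by simp] at h
  rwa [LinearMap.range_comp, LinearMap.range_eq_top.2 (LinearEquiv.surjective _), Submodule.map_top] at h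

/-- Twists are stable under tensoring with a module. -/
theorem isTwist_ten {I : X.IdealSheafData} {N L : X.Modules} {φ : N ⟶ L} (h : IsTwist I φ) (R : X.Modules) :
    IsTwist I ((SheafHomX.ten R).map φ) := fun x => by
  let Φ := DerSch.stalkFunctor X x
  have hn := KFlatLib.stalkTensorIso_naturality (x := x) φ (𝟙 R)
  rw [CategoryTheory.Functor.map_id, CategoryTheory.Functor.map_id, Category.comp_id] at hn
  have h1 : LinearMap.range ((Φ.map φ ▷ (Φ.obj R)) ≫
      (KFlatLib.stalkTensorIso x L R).hom).hom = StalkIdeal.sI I x • ⊤ := by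
    rw [ModuleCat.hom_comp]
    exact range_comp_iso _ _ (surjective_of_iso _) _ (range_rTensor_smul _ _ (h x))
  rw [← MonoidalCategory.tensorHom_id, hn, ModuleCat.hom_comp, LinearMap.range_comp,
    LinearMap.range_eq_top.2 (surjective_of_iso _), Submodule.map_top] at h1
  exact h1

variable {k : Type u} [Field k] [IsAlgClosed k] [X.Over (Spec (CommRingCat.of k))]
  [IsProper (X ↘ Spec (CommRingCat.of k))] [Smooth (X ↘ Spec (CommRingCat.of k))] [IsIntegral X]
  (hdim : topologicalKrullDim X = 2)

include k hdim in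
/-- An element killed by the maximal ideal modulo the stalk ideal at an isolated point. -/
theorem exists_killed {I : X.IdealSheafData} (hcl : ∀ y ∈ (I.support : Set X), IsClosed ({y} : Set X))
    {z : X} (hz : z ∈ (I.support : Set X)) :
    ∃ s, s ∉ StalkIdeal.sI I z ∧ ∀ r ∈ maximalIdeal (X.presheaf.stalk z), r * s ∈ StalkIdeal.sI I z := by
  classical
  haveI : IsNoetherian X := CurveCohLib.isNoetherian_of_proper (k := k)
  let J := StalkIdeal.sI I z
  have hrad : maximalIdeal (X.presheaf.stalk z) ≤ J.radical := by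
    rw [Ideal.radical_eq_sInf]
    exact le_sInf fun p hp => (SerreSocle.eq_maximal_of_le hcl p hp.2 hp.1).ge
  obtain ⟨N, hN⟩ := Ideal.exists_pow_le_of_le_radical_of_fg hrad (IsNoetherian.noetherian _)
  have hex : ∃ n, maximalIdeal (X.presheaf.stalk z) ^ n ≤ J := ⟨N, hN⟩
  obtain ⟨n, hn⟩ : ∃ n, n = Nat.find hex := ⟨_, rfl⟩
  have h1 := Nat.find_spec hex
  rw [← hn] at h1
  rcases n with _ | n
  · rw [pow_zero, Ideal.one_eq_top, top_le_iff] at h1
    exact absurd h1 (mem_support_iff.1 hz)
  · obtain ⟨t, ht, htJ⟩ := SetLike.not_le_iff_exists.1 (Nat.find_min hex (show n < Nat.find hex by omega))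
    refine ⟨t, htJ, fun r hr => h1 ?_⟩
    rw [pow_succ']
    exact Ideal.mul_mem_mul hr ht

variable {H : X.Modules} (hH : CohB1.IsAmple H) [HasExt.{u} X.Modules]
  (hω : Canon.IsTopDiff (X ↘ Spec (CommRingCat.of k)) 2 (Coh.structureModule X))

include hdim hH hω in
/-- With trivial canonical module and no first cohomology of the ambient line bundle, two classes give a bad one. -/
theorem existsBad {Λ N : X.Modules} (hΛ : PicF.IsInvertible Λ) (hΛ1 : Module.finrank k (Coh.HH X Λ 1) = 0)
    (hN : Coh.IsCoh N) {ι : N ⟶ Λ} [Mono ι] {I : X.IdealSheafData} (hι : IsTwist I ι)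
    (hfin : (I.support : Set X).Finite) (h2 : 2 ≤ Module.finrank k (Coh.HH X N 1)) :
    ExistsBad (Coh.structureModule X) N := by
  haveI : IsNoetherian X := CurveCohLib.isNoetherian_of_proper (k := k)
  haveI : JacobsonSpace X := LocallyOfFiniteType.jacobsonSpace (X ↘ Spec (CommRingCat.of k))
  have hcl := fun y (hy : y ∈ (I.support : Set X)) => SerreCover.isClosed_of_finite hfin hy
  obtain ⟨z, hz⟩ : ∃ z, z ∈ (I.support : Set X) := by
    by_contra! hc
    obtain ⟨g, hg⟩ := exists_factor (𝟙 Λ) ι fun x => by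
      rw [hι x, show StalkIdeal.sI I x = ⊤ from not_not.1 fun h => hc x (mem_support_iff.2 h), Submodule.top_smul]
      exact le_top
    haveI : IsIso ι := ⟨g, by rw [← cancel_mono ι, Category.assoc, hg, Category.comp_id, Category.id_comp], hg⟩
    rw [(CurveCohLib.hhEquiv (k := k) (asIso ι) 1).finrank_eq, hΛ1] at h2
    omega
  obtain ⟨s, hs, hms⟩ := exists_killed (k := k) hdim hcl hz
  obtain ⟨I', hle, hI'z, hI'ne⟩ := exists_enlarge hfin hcl (hcl z hz) s
  obtain ⟨hNc, hmono, htw⟩ := tw_facts (k := k) hΛ I'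
  haveI := hmono
  obtain ⟨j, hj⟩ := (le_iff_factor hΛ hι htw).1 hle
  obtain ⟨hsupp, hQc, h0⟩ := h0_quotient (k := k) (hcl z hz) hs hms hI'z hI'ne hΛ hN hNc hι htw j hj
  haveI : Mono j := mono_of_mono_fac hj
  have hQ : ∀ x ∈ CohB1.support (cokernel j), IsClosed ({x} : Set X) := fun x hx => by
    rw [Set.mem_singleton_iff.1 (hsupp hx)]; exact hcl z hz
  let S : ShortComplex X.Modules := ShortComplex.mk j (cokernel.π j) (cokernel.condition j)
  have hS : S.ShortExact := { exact := ShortComplex.exact_cokernel j }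
  haveI hQ1 : Subsingleton (Coh.HH X (cokernel j) 1) := S0047.result X _ hQc hQ 1 (by norm_num)
  haveI : Subsingleton (Abelian.Ext.{u} (cokernel j) (Coh.structureModule X) 1) := by
    obtain ⟨hf, he⟩ := finrank_ext hdim hH hω hQc one_le_two
    haveI := hf
    exact Module.finrank_zero_iff.1 (he.trans Module.finrank_zero_of_subsingleton)
  haveI := CurveCohLib.finite_HH (k := k) hN 1
  haveI := CurveCohLib.finite_HH (k := k) hNc 1
  haveI := CurveCohLib.finite_HH (k := k) hQc 0
  have hf1 : LinearMap.range (PnCoh.Finite.mapLin k S.f 1) = ⊤ := by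
    rw [← CurveCohLib.ker_mapLin_g k hS 1]
    exact LinearMap.ker_eq_top.2 (LinearMap.ext fun _ => Subsingleton.elim (α := Coh.HH X (cokernel j) 1) _ _)
  have hsum := (PnCoh.Finite.mapLin k S.f 1).finrank_range_add_finrank_ker
  rw [hf1, finrank_top, CurveCohLib.ker_mapLin_f_succ k hS 0] at hsum
  have hd := LinearMap.finrank_range_le (PnCoh.Finite.deltaLin k hS 0)
  have hN' : 1 ≤ Module.finrank k (Coh.HH X (tw Λ I') 1) := by
    have hd' : Module.finrank k (LinearMap.range (PnCoh.Finite.deltaLin k hS 0)) ≤ 1 := hd.trans h0.le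
    by_contra hlt
    have h0' : Module.finrank k (Coh.HH X (tw Λ I') 1) = 0 := by omega
    have : Module.finrank k (Coh.HH X N 1) ≤ 1 := le_of_eq_of_le
      (hsum.symm.trans (by rw [show Module.finrank k (Coh.HH X S.X₂ 1) = 0 from h0', zero_add])) hd'
    omega
  obtain ⟨hfE, hE⟩ := finrank_ext hdim hH hω hNc one_le_two
  haveI := hfE
  haveI : Nontrivial (Abelian.Ext.{u} (tw Λ I') (Coh.structureModule X) 1) :=
    Module.nontrivial_of_finrank_pos (R := k) (by rw [hE]; exact hN')
  obtain ⟨ξ', hξ'⟩ := exists_ne (0 : Abelian.Ext.{u} (tw Λ I') (Coh.structureModule X) 1)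
  obtain ⟨F, a, b, w, hT, hcl'⟩ := ExtReal.exists_shortExact_extClass_eq
    ((Abelian.Ext.mk₀ j).comp ξ' (zero_add 1))
  refine ⟨F, a, b, w, hT, fun r hr => hξ' ?_, fun hF => ?_⟩
  · have h1 : hT.extClass = 0 := by
      have := hT.extClass_comp_assoc (Abelian.Ext.mk₀ r) (n := 0) (h := add_zero 1)
      rwa [Abelian.Ext.mk₀_comp_mk₀, show (ShortComplex.mk a b w).f ≫ r = 𝟙 _ from hr,
        Abelian.Ext.comp_mk₀_id] at this
    have h3 : (Abelian.Ext.mk₀ j).comp ξ' (zero_add 1) = 0 := hcl'.symm.trans h1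
    obtain ⟨y, hy⟩ := Abelian.Ext.contravariant_sequence_exact₂ hS _ ξ' h3
    rw [← hy, Subsingleton.elim y 0]
    exact ((Abelian.Ext.mk₀ S.g).precomp _ (zero_add 1)).map_zero
  · have hiso := SerreCrit.isIso_of_mem_range (SurfHodge.regular k)
      (H23.PullPush.isFinLocFree_of_isInvertible InvX.isInvertible_structureModule) hT hF hNc
      (SurfRankOne.tf_of_mono (twι Λ I') (GenDiff29.isTorsionFree_of_isFinLocFree
        (H23.PullPush.isFinLocFree_of_isInvertible hΛ))) j (fun x hx => SurfRankOne.surjective_of_notMem j fun hmem =>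
        absurd hx (not_le.2 (SurfRankOne.one_lt_coheight_of_isClosed (k := k) hdim (hQ x hmem)))) ξ' hcl'
    haveI := hiso
    have he := (HilbPoly.additive_euler k).zero_of_isZero (isZero_cokernel_of_epi j)
    rw [CurveCohLib.euler_eq_finrank_zero (k := k) hQc hQ, h0] at he
    exact one_ne_zero he

end Groth.Agent.Synt29.SerreBad

end
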