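import Groth.Agent.Synt29.TrivDef
import Mathlib

/-!
Adjusting an infinitesimal section so that it passes through prescribed points.
-/

set_option autoImplicit false

universe u v

open CategoryTheory AlgebraicGeometry

namespace Groth.Agent.Synt29.Marked

open TrivSqZeroExt

/-- A derivation with prescribed values at finitely many distinct rational points. -/
theorem interp {K B : Type u} [Field K] [CommRing B] [Algebra K B] [Module.Projective B Ω[B⁄K]]
    {ι : Type v} [Finite ι] (q : ι → B →ₐ[K] K) (hq : Function.Injective q) (δ : ι → B →ₗ[K] K)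
    (hδ : ∀ j a b, δ j (a * b) = q j a * δ j b + q j b * δ j a) :
    ∃ D : Derivation K B B, ∀ j b, q j (D b) = δ j b := by
  let Q : B →ₐ[K] (ι → K) := Pi.algHom K _ q
  letI : Algebra B (ι → K) := Q.toRingHom.toAlgebra
  haveI : IsScalarTower K B (ι → K) := .of_algebraMap_eq fun x => (Q.commutes x).symm
  have hsurj : Function.Surjective Q := by
    intro y
    have hco : Pairwise (Function.onFun IsCoprime fun j => RingHom.ker (q j).toRingHom) := by
      intro a b hab
      have hm : ∀ j, (RingHom.ker (q j).toRingHom).IsMaximal := fun j =>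
        RingHom.ker_isMaximal_of_surjective _ fun c => ⟨algebraMap K B c, (q j).commutes c⟩
      refine Ideal.isCoprime_iff_sup_eq.2 ((hm a).coprime_of_ne (hm b) fun h => hab (hq (AlgHom.ext fun x => ?_)))
      have hx : x - algebraMap K B (q a x) ∈ RingHom.ker (q a).toRingHom := by simp [RingHom.mem_ker]
      rw [h, RingHom.mem_ker, AlgHom.toRingHom_eq_coe, RingHom.coe_coe, map_sub, AlgHom.commutes, sub_eq_zero] at hx
      exact hx.symm
    obtain ⟨r, hr⟩ := Ideal.exists_forall_sub_mem_ideal hco fun j => algebraMap K B (y j)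
    refine ⟨r, funext fun j => ?_⟩
    have := hr j
    rw [RingHom.mem_ker, map_sub, sub_eq_zero] at this
    exact this.trans ((q j).commutes (y j))
  let D0 : Derivation K B (ι → K) := Derivation.mk' (LinearMap.pi δ) fun a b => by
    funext j
    exact hδ j a b
  obtain ⟨L, hL⟩ := Module.projective_lifting_property (Algebra.linearMap B (ι → K)) D0.liftKaehlerDifferential hsurj
  refine ⟨L.compDer (KaehlerDifferential.D K B), fun j b => ?_⟩
  have h := LinearMap.congr_fun hL (KaehlerDifferential.D K B b)
  rw [LinearMap.comp_apply, Derivation.liftKaehlerDifferential_comp_D] at h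
  exact congrFun h j

/-- Twisting a section by a derivation. -/
theorem twist {K B C : Type u} [Field K] [CommRing B] [CommRing C] [Algebra K B] (π : C →+* B)
    (c : K →+* C) (η : C) (hη : η * η = 0) (hπη : π η = 0) (D : Derivation K B B) (s : B →+* C)
    (hs : ∀ b, π (s b) = b) (hsk : s.comp (algebraMap K B) = c) :
    ∃ s' : B →+* C, (∀ b, π (s' b) = b) ∧ s'.comp (algebraMap K B) = c ∧ ∀ b, s' b = s b - η * s (D b) := by
  refine ⟨{ toFun := fun b => s b - η * s (D b)
            map_one' := by simp
            map_zero' := by simp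
            map_add' := fun a b => by simp only [map_add]; ring
            map_mul' := fun a b => ?_ }, fun b => ?_, ?_, fun b => rfl⟩
  · simp only [Derivation.leibniz, smul_eq_mul, map_add, map_mul]
    linear_combination -(s (D a) * s (D b)) * hη
  · show π (s b - η * s (D b)) = b
    rw [map_sub, map_mul, hπη, zero_mul, sub_zero, hs]
  · ext x
    show s (algebraMap K B x) - η * s (D (algebraMap K B x)) = c x
    rw [Derivation.map_algebraMap, map_zero, mul_zero, sub_zero]
    exact RingHom.congr_fun hsk x

/-- First-order sections through prescribed infinitesimal points. -/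
theorem exists_adapted {K B C : Type u} [Field K] [CommRing B] [CommRing C] [Algebra K B]
    [Module.Projective B Ω[B⁄K]] {ι : Type v} [Finite ι] (π : C →+* B) (cg : DualNumber K →+* C)
    (hπ : ∀ x, π (cg x) = algebraMap K B x.fst) (q : ι → B →ₐ[K] K) (hq : Function.Injective q)
    (q' : ι → C →+* DualNumber K) (hq' : ∀ j x, q' j (cg x) = x)
    (hfst : ∀ j x, (q' j x).fst = q j (π x)) (s : B →+* C) (hs : ∀ b, π (s b) = b)
    (hsk : s.comp (algebraMap K B) = cg.comp (algebraMap K (DualNumber K))) :
    ∃ s' : B →+* C, (∀ b, π (s' b) = b) ∧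
      s'.comp (algebraMap K B) = cg.comp (algebraMap K (DualNumber K)) ∧
      ∀ j b, q' j (s' b) = algebraMap K (DualNumber K) (q j b) := by
  have hsc : ∀ x, s (algebraMap K B x) = cg (algebraMap K (DualNumber K) x) := RingHom.congr_fun hsk
  let δ : ι → B →ₗ[K] K := fun j =>
    { toFun := fun b => (q' j (s b)).snd
      map_add' := fun a b => by simp
      map_smul' := fun c b => by
        simp [Algebra.smul_def, hsc, hq', TrivSqZeroExt.algebraMap_eq_inl] }
  have h0 : ∀ j b, (q' j (s b)).fst = q j b := fun j b => by rw [hfst, hs]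
  obtain ⟨D, hD⟩ := interp q hq δ fun j a b => by
    simp only [δ, LinearMap.coe_mk, AddHom.coe_mk, map_mul, TrivSqZeroExt.snd_mul, h0, smul_eq_mul,
      MulOpposite.smul_eq_mul_unop, MulOpposite.unop_op]
    ring
  obtain ⟨s', h1, h2, h3⟩ := twist π _ (cg DualNumber.eps) (by rw [← map_mul, DualNumber.eps_mul_eps, map_zero])
    (by rw [hπ, DualNumber.fst_eps, map_zero]) D s hs hsk
  refine ⟨s', h1, h2, fun j b => ?_⟩
  rw [h3, map_sub, map_mul, hq']
  refine TrivSqZeroExt.ext ?_ ?_
  · simp [h0, TrivSqZeroExt.algebraMap_eq_inl]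
  · have := hD j b
    simp only [δ, LinearMap.coe_mk, AddHom.coe_mk] at this
    simp [h0, TrivSqZeroExt.algebraMap_eq_inl, this]

end Groth.Agent.Synt29.Marked
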