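import Mathlib.LinearAlgebra.Dual.Lemmas
import Mathlib.RingTheory.Ideal.Quotient.Basic
import Mathlib.RingTheory.Nilpotent.Basic
import Mathlib.Algebra.MvPolynomial.Eval
import Mathlib.Algebra.BigOperators.Fin
import Mathlib.Tactic.LinearCombination
import Mathlib.Tactic.FieldSimp

/-!
# Forms of degree one of corank at most one on a finite scheme: quadrics are surjective
-/

set_option autoImplicit false

universe u v

open MvPolynomial

namespace Groth.Agent.Synt29.CorankOne

variable {k : Type u} [Field k] {R : Type v} [CommRing R] [Algebra k R] {m : ℕ}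

theorem span_mul_eq_top (a ε : Fin m → R) (hε : ∀ j, ε j * ε j = ε j) (hsum : ∑ j, ε j = 1)
    (hεa : ∀ j, ε j * a j = ε j) (hnil : ∀ j l, l < j → IsNilpotent (ε j * a l))
    (hgen : ∀ (r : R) (j : Fin m), ∃ p : MvPolynomial (Fin m) k, ε j * r = ε j * aeval a p)
    (v : R) (hv : ∀ r : R, ∃ s ∈ Submodule.span k (Set.range a), ∃ c : k, r = s + c • v) :
    Submodule.span k (Set.range fun q : Fin m × Fin m => a q.1 * a q.2) = ⊤ := by
  classical
  by_contra hne
  obtain ⟨φ, hφ0, hφ⟩ := Submodule.exists_dual_map_eq_bot_of_lt_top (lt_top_iff_ne_top.2 hne) inferInstance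
  have hprod : ∀ i l, φ (a i * a l) = 0 := fun i l => by
    have : φ (a i * a l) ∈ (Submodule.span k (Set.range fun q : Fin m × Fin m => a q.1 * a q.2)).map φ :=
      Submodule.mem_map_of_mem (Submodule.subset_span ⟨(i, l), rfl⟩)
    rw [hφ] at this
    exact this
  let K : Ideal R :=
    { carrier := {x | ∀ r, φ (x * r) = 0}
      zero_mem' := fun r => by simp
      add_mem' := fun {x y} hx hy r => by simp [add_mul, hx r, hy r]
      smul_mem' := fun c x hx r => by
        rw [smul_eq_mul, mul_comm c x, mul_assoc]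
        exact hx _ }
  have hK : ∀ x, x ∈ K ↔ ∀ r, φ (x * r) = 0 := fun x => Iff.rfl
  have h1K : (1 : R) ∉ K := fun h => hφ0 (LinearMap.ext fun r => by simpa using (hK 1).1 h r)
  have hWW : ∀ i, ∀ s ∈ Submodule.span k (Set.range a), φ (a i * s) = 0 := fun i s hs => by
    induction hs using Submodule.span_induction with
    | mem x hx => obtain ⟨l, rfl⟩ := hx; exact hprod i l
    | zero => simp
    | add x y _ _ hx hy => simp [mul_add, hx, hy]
    | smul c x _ hx => simp [hx]
  have hW2 : ∀ w ∈ Submodule.span k (Set.range a), φ (w * v) = 0 → w ∈ K := by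
    intro w hw hwv r
    obtain ⟨s, hs, c, rfl⟩ := hv r
    have : φ (w * s) = 0 := by
      clear hwv
      induction hw using Submodule.span_induction with
      | mem x hx => obtain ⟨l, rfl⟩ := hx; exact hWW l s hs
      | zero => simp
      | add x y _ _ hx hy => simp [add_mul, hx, hy]
      | smul c x _ hx => simp [hx]
    rw [mul_add, map_add, this, mul_smul_comm, map_smul, hwv, smul_zero, add_zero]
  have h2 : ∀ x : R, x ∈ K → ∀ y, x * y ∈ K := fun x hx y => K.mul_mem_right y hx
  obtain ⟨l₀, hl₀⟩ : ∃ l, φ (a l * v) ≠ 0 := by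
    by_contra hc
    push Not at hc
    refine h1K ?_
    rw [← hsum]
    refine K.sum_mem fun j _ => ?_
    rw [← hεa j]
    exact K.mul_mem_left _ (hW2 _ (Submodule.subset_span ⟨j, rfl⟩) (hc j))
  let x₀ : R := (φ (a l₀ * v))⁻¹ • a l₀
  let c : Fin m → k := fun i => φ (a i * v)
  have hx₀ : x₀ ∈ Submodule.span k (Set.range a) :=
    Submodule.smul_mem _ _ (Submodule.subset_span ⟨l₀, rfl⟩)
  have hc : ∀ i, a i - c i • x₀ ∈ K := fun i => by
    refine hW2 _ (Submodule.sub_mem _ (Submodule.subset_span ⟨i, rfl⟩) (Submodule.smul_mem _ _ hx₀)) ?_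
    simp [c, x₀, sub_mul, inv_mul_cancel₀ hl₀]
  obtain ⟨j₀, hj₀, hmin⟩ : ∃ j, ε j ∉ K ∧ ∀ l, l < j → ε l ∈ K := by
    have hne : (Finset.univ.filter fun j => ε j ∉ K).Nonempty := by
      by_contra he
      refine h1K ?_
      rw [← hsum]
      refine K.sum_mem fun j _ => ?_
      by_contra hj
      exact he ⟨j, Finset.mem_filter.2 ⟨Finset.mem_univ _, hj⟩⟩
    refine ⟨Finset.min' _ hne, (Finset.mem_filter.1 (Finset.min'_mem _ hne)).2, fun l hl => ?_⟩
    by_contra hlK
    exact (Finset.min'_le _ l (Finset.mem_filter.2 ⟨Finset.mem_univ _, hlK⟩)).not_gt hl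
  let π := Ideal.Quotient.mk K
  let q : k →+* R ⧸ K := π.comp (algebraMap k R)
  have hπK : ∀ x, π x = 0 ↔ x ∈ K := fun x => Ideal.Quotient.eq_zero_iff_mem
  have hπc : ∀ i, π (a i) = q (c i) * π x₀ := fun i => by
    have := (hπK _).2 (hc i)
    rw [map_sub, Algebra.smul_def, map_mul, sub_eq_zero] at this
    exact this
  have hc₀ : c j₀ ≠ 0 := fun h => hj₀ ((hπK _).1 (by rw [← hεa j₀, map_mul, hπc, h, map_zero, zero_mul, mul_zero]))
  have hother : ∀ j, j ≠ j₀ → π (ε j) = 0 := fun j hj => by
    rcases lt_or_gt_of_ne hj with hlt | hgt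
    · exact (hπK _).2 (hmin j hlt)
    · obtain ⟨d, hd⟩ := hnil j j₀ hgt
      have h3 : π (ε j) = (π (ε j) * π (a j₀)) * (q (c j₀)⁻¹ * q (c j) * π (ε j)) := by
        have h4 : π (ε j) = π (ε j) * (q (c j) * π x₀) := by rw [← hπc, ← map_mul, hεa]
        have h5 : π (ε j) * π (ε j) = π (ε j) := by rw [← map_mul, hε]
        have h6 : q (c j₀) * q (c j₀)⁻¹ = 1 := by rw [← map_mul, mul_inv_cancel₀ hc₀, map_one]
        rw [hπc j₀]
        linear_combination h4 - (q (c j) * π x₀) * h5 - (π (ε j) * π (ε j) * q (c j) * π x₀) * h6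
      have h7 : ∀ e, π (ε j) ^ (e + 1) = π (ε j) := fun e => by
        induction e with
        | zero => rw [zero_add, pow_one]
        | succ e ih => rw [pow_succ, ih, ← map_mul, hε]
      have h8 := congrArg (· ^ (d + 1)) h3
      simp only [h7] at h8
      rw [h8, mul_pow, ← map_mul, ← map_pow, pow_succ, hd, zero_mul, map_zero, zero_mul]
  have hone : π (ε j₀) = 1 := by
    have := congrArg π hsum
    rw [map_sum, map_one, Finset.sum_eq_single j₀ (fun j _ hj => hother j hj) (fun h => absurd (Finset.mem_univ _) h)] at this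
    exact this
  have ha₀ : π (a j₀) = 1 := by
    have h := congrArg π (hεa j₀)
    rwa [map_mul, hone, one_mul] at h
  let dd : Fin m → k := fun i => c i / c j₀
  have hd : ∀ i, π (a i) = q (dd i) := fun i => by
    have h9 : q (c j₀) * π x₀ = 1 := (hπc j₀).symm.trans ha₀
    have h10 : q (dd i) * q (c j₀) = q (c i) := by rw [← map_mul, div_mul_cancel₀ _ hc₀]
    rw [hπc i]
    linear_combination q (dd i) * h9 - π x₀ * h10
  refine hφ0 (LinearMap.ext fun r => ?_)
  obtain ⟨p, hp⟩ := hgen r j₀
  have hr : π r = q (MvPolynomial.eval dd p) := by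
    have h := congrArg π hp
    rw [map_mul, map_mul, hone, one_mul, one_mul] at h
    rw [h]
    have : π.comp (aeval a).toRingHom = q.comp (MvPolynomial.eval dd) :=
      MvPolynomial.ringHom_ext (fun x => by simp [q]) (fun i => by simpa using hd i)
    exact DFunLike.congr_fun this p
  have hz : ∀ x, x ∈ K → φ x = 0 := fun x hx => by simpa using (hK x).1 hx 1
  have h11 := hz _ ((hπK _).1 (show π (r - MvPolynomial.eval dd p • (a j₀ * a j₀)) = 0 by
    rw [map_sub, Algebra.smul_def, map_mul, map_mul, ha₀, one_mul, mul_one]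
    exact sub_eq_zero.2 hr))
  rw [map_sub, map_smul, hprod, smul_zero, sub_zero] at h11
  exact h11

end Groth.Agent.Synt29.CorankOne
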