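import Groth.Prelude.Def_Formal
import Groth.Prelude.Def_ProjUP
import Groth.Agent.FFun.Basic
import Groth.Agent.AVTate.ConeField
import Groth.Agent.PnCoh.Chow.PullFrame
import Groth.Agent.PnCoh.TwistH0
import Groth.Agent.H23.TopDim
import Groth.Agent.Synt29.BlowPts
import Groth.Agent.Synt29.CorankOne

/-!
# Sections of `O(d)` on a finite subscheme of projective space
-/

set_option autoImplicit false
set_option linter.style.haveILetI false
set_option linter.unusedSectionVars false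
set_option backward.isDefEq.respectTransparency false
set_option backward.isDefEq.respectTransparency.types false
set_option maxHeartbeats 800000

universe u

open CategoryTheory CategoryTheory.Limits AlgebraicGeometry TopologicalSpace Opposite HomogeneousLocalization

noncomputable section

namespace Groth.Agent.Synt29.PnZeroDim

open Groth.Agent Groth.Agent.AModX
open Groth.Agent.AVTate (Dp chartHom chartC coordFn)

/-! ## Gluing along a finite partition -/

section Glue

variable {X : Scheme.{u}} {m : ℕ} (U : Fin m → X.Opens) (hdj : ∀ i j, ∀ x ∈ U i, x ∈ U j → i = j)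
  (hcv : ∀ x, ∃ i, x ∈ U i)

include hdj hcv in
theorem bijective_res (M : X.Modules) :
    Function.Bijective fun (s : Γ(M, ⊤)) (j : Fin m) => res M (le_top : U j ≤ ⊤) s := by
  refine ⟨fun s t h => eq_of_locally _ _ fun x _ => ?_, fun f => ?_⟩
  · obtain ⟨j, hj⟩ := hcv x
    exact ⟨U j, le_top, hj, congrFun h j⟩
  · obtain ⟨s, hs, -⟩ := existsUnique_glue (M := M) (V := (⊤ : X.Opens)) (ι := ULift.{u} (Fin m))
      (fun j => U j.down) (fun _ => le_top) (fun x _ => (hcv x).imp' ULift.up fun _ h => h) (fun j => f j.down)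
      (fun ⟨i⟩ ⟨j⟩ => eq_of_locally _ _ fun x hx => by
        obtain rfl := hdj i j x hx.1 hx.2
        exact ⟨U i ⊓ U i, le_rfl, hx, rfl⟩)
    exact ⟨s, funext fun j => hs ⟨j⟩⟩

include hdj hcv in
theorem bijective_resR :
    Function.Bijective fun (s : Γ(X, ⊤)) (j : Fin m) => resR (le_top : U j ≤ ⊤) s :=
  bijective_res U hdj hcv (Coh.structureModule X)

end Glue

/-! ## Homogeneous elements near a non-vanishing coordinate -/

section ProjSect

variable {R A : Type u} [CommRing R] [CommRing A] [Algebra R A]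
  {𝒜 : ℕ → Submodule R A} [GradedAlgebra 𝒜]

theorem res_globalOf {t : A} (ht : t ∈ 𝒜 1) (d : ℕ) (a : 𝒜 d) (ha : (a : A) ∈ 𝒜 (d • 1)) :
    res (Twist.twist 𝒜 (d : ℤ)) (le_top : Proj.basicOpen 𝒜 t ≤ ⊤) (Twist.globalOf 𝒜 a) =
      (Proj.awayToSection 𝒜 t).hom (Away.mk 𝒜 ht d a ha) • PnCoh.Chow.twF ht (d : ℤ) := by
  refine Subtype.ext (funext fun x => Subtype.ext ?_)
  refine Eq.trans ?_ (Twist.coe_smul_val (d : ℤ) x.1 _ _).symm
  show (Localization.mk (a : A) 1 : Twist.Loc 𝒜 x.1) =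
    (((Proj.awayToSection 𝒜 t).hom (Away.mk 𝒜 ht d a ha)).1 x).val *
      Localization.mk (t ^ ((d : ℤ)).toNat) _
  erw [ProjectiveSpectrum.Proj.awayToSection_apply]
  rw [Away.val_mk, Localization.mk_eq_mk' (M := Submonoid.powers t), IsLocalization.map_mk',
    ← Localization.mk_eq_mk', Localization.mk_mul, Localization.mk_eq_mk_iff, Localization.r_iff_exists]
  exact ⟨1, by simp [mul_comm]⟩

end ProjSect

/-! ## The partition of a finite subscheme -/

variable {k : Type u} [Field k] {N : ℕ} {W : Scheme.{u}} (r : W ⟶ CohB1.ProjSpace N k)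

/-- Coordinates of a finite subscheme. -/
structure Coords where
  U : Fin (N + 1) → W.Opens
  le : ∀ j, U j ≤ r ⁻¹ᵁ Dp (k := k) j
  dj : ∀ i j, ∀ x ∈ U i, x ∈ U j → i = j
  cover : ∀ x, ∃ i, x ∈ U i
  notMem : ∀ i j, i < j → ∀ x ∈ U j, x ∉ r ⁻¹ᵁ Dp (k := k) i

theorem exists_coords [DiscreteTopology W] : Nonempty (Coords r) := by
  classical
  have hc : ∀ x : W, ∃ i, x ∈ r ⁻¹ᵁ Dp (k := k) i := fun x => by
    have h : r x ∈ (⨆ i : Fin (N + 1), Proj.basicOpen (CohB1.polyGrading N k) (MvPolynomial.X i)) := by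
      rw [AmpleEmbed.iSup_basicOpen_X]
      trivial
    obtain ⟨i, hi⟩ := Opens.mem_iSup.1 h
    exact ⟨i, hi⟩
  choose g hg using fun x => (⟨Finset.min' (Finset.univ.filter fun i => x ∈ r ⁻¹ᵁ Dp (k := k) i)
      (by obtain ⟨i, hi⟩ := hc x; exact ⟨i, Finset.mem_filter.2 ⟨Finset.mem_univ _, hi⟩⟩), rfl⟩ :
    ∃ i, i = Finset.min' (Finset.univ.filter fun i => x ∈ r ⁻¹ᵁ Dp (k := k) i)
      (by obtain ⟨i, hi⟩ := hc x; exact ⟨i, Finset.mem_filter.2 ⟨Finset.mem_univ _, hi⟩⟩))
  refine ⟨⟨fun j => ⟨{x | g x = j}, isOpen_discrete _⟩, fun j x hx => ?_, fun i j x hi hj => hi.symm.trans hj,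
    fun x => ⟨g x, rfl⟩, fun i j hij x hx hxi => ?_⟩⟩
  · obtain rfl : g x = j := hx
    rw [hg x]
    exact (Finset.mem_filter.1 (Finset.min'_mem (Finset.univ.filter fun i => x ∈ r ⁻¹ᵁ Dp (k := k) i) _)).2
  · obtain rfl : g x = j := hx
    refine (Finset.min'_le (Finset.univ.filter fun i => x ∈ r ⁻¹ᵁ Dp (k := k) i) i
      (Finset.mem_filter.2 ⟨Finset.mem_univ _, hxi⟩)).not_gt ?_
    rwa [← hg x]

variable {r} (C : Coords r)

/-- The scalars. -/
abbrev scal (r : W ⟶ CohB1.ProjSpace N k) : k →+* Γ(W, ⊤) :=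
  Coh.toGlobal (r ≫ CohB1.ProjSpace.toSpec N k)

theorem resR_scal (r : W ⟶ CohB1.ProjSpace N k) (j : Fin (N + 1)) (c : k) {V : W.Opens}
    (hV : V ≤ r ⁻¹ᵁ Dp j) : resR (le_top : V ≤ ⊤) (scal r c) = resR hV (chartC r j c) := by
  have h := ConcreteCategory.congr_hom (AVTate.chartC_eq r j) c
  have h' : chartC r j c = resR (le_top : r ⁻¹ᵁ Dp (k := k) j ≤ ⊤) (scal r c) := by
    refine h.trans ?_
    show ((r ≫ CohB1.ProjSpace.toSpec N k).appLE ⊤ (r ⁻¹ᵁ Dp j) _).hom _ = _
    rfl
  rw [h', resR_resR]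

/-- The bijection to the product. -/
def glue : Γ(W, ⊤) ≃ ∀ j, Γ(W, C.U j) := Equiv.ofBijective _ (bijective_resR C.U C.dj C.cover)

theorem res_glue (f : ∀ j, Γ(W, C.U j)) (j : Fin (N + 1)) :
    resR (le_top : C.U j ≤ ⊤) ((glue C).symm f) = f j :=
  congrFun ((glue C).apply_symm_apply f) j

theorem glue_ext {a b : Γ(W, ⊤)} (h : ∀ j, resR (le_top : C.U j ≤ ⊤) a = resR (le_top : C.U j ≤ ⊤) b) :
    a = b := (glue C).injective (funext h)

/-- The coordinate functions. -/
def a (i : Fin (N + 1)) : Γ(W, ⊤) := (glue C).symm fun j => resR (C.le j) (coordFn r j i)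

/-- The idempotents. -/
def ε (l : Fin (N + 1)) : Γ(W, ⊤) := (glue C).symm fun j => if j = l then 1 else 0

theorem res_a (i j : Fin (N + 1)) : resR (le_top : C.U j ≤ ⊤) (a C i) = resR (C.le j) (coordFn r j i) :=
  res_glue C _ j

theorem res_ε (l j : Fin (N + 1)) :
    resR (le_top : C.U j ≤ ⊤) (ε C l) = if j = l then 1 else 0 := res_glue C _ j

theorem res_aeval (j : Fin (N + 1)) (p : MvPolynomial (Fin (N + 1)) k) :
    resR (le_top : C.U j ≤ ⊤) (MvPolynomial.eval₂Hom (scal r) (a C) p) =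
      resR (C.le j) (MvPolynomial.aeval (coordFn r j) p) := by
  have : (resR (le_top : C.U j ≤ ⊤)).comp (MvPolynomial.eval₂Hom (scal r) (a C)) =
      (resR (C.le j)).comp (MvPolynomial.aeval (coordFn r j)).toRingHom :=
    MvPolynomial.ringHom_ext (fun c => by
      simp only [RingHom.comp_apply, MvPolynomial.eval₂Hom_C, AlgHom.toRingHom_eq_coe, RingHom.coe_coe,
        MvPolynomial.aeval_C]
      exact resR_scal r j c (C.le j))
      (fun i => by
        simp only [RingHom.comp_apply, MvPolynomial.eval₂Hom_X', AlgHom.toRingHom_eq_coe, RingHom.coe_coe,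
          MvPolynomial.aeval_X]
        exact res_a C i j)
  exact DFunLike.congr_fun this p

theorem ε_mul_self (l : Fin (N + 1)) : ε C l * ε C l = ε C l :=
  glue_ext C fun j => by rw [map_mul, res_ε]; split <;> simp

theorem sum_ε : ∑ l, ε C l = 1 :=
  glue_ext C fun j => by
    rw [map_sum, map_one, Finset.sum_congr rfl fun l _ => res_ε C l j, Finset.sum_ite_eq]
    simp

theorem ε_mul_a (l : Fin (N + 1)) : ε C l * a C l = ε C l :=
  glue_ext C fun j => by
    rw [map_mul, res_ε, res_a]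
    split_ifs with h
    · subst h
      rw [AVTate.coordFn_self, map_one, mul_one]
    · rw [zero_mul]

theorem isNilpotent_ε_mul_a [CompactSpace W] (j l : Fin (N + 1)) (hlj : l < j) :
    IsNilpotent (ε C j * a C l) := by
  rw [Scheme.isNilpotent_iff_basicOpen_eq_bot, eq_bot_iff]
  intro x hx
  obtain ⟨i, hi⟩ := C.cover x
  have h1 : x ∈ W.basicOpen (resR (le_top : C.U i ≤ ⊤) (ε C j * a C l)) := by
    rw [resR, Scheme.basicOpen_res]
    exact ⟨hi, hx⟩
  rw [map_mul, res_ε, res_a] at h1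
  split_ifs at h1 with h
  · subst h
    rw [one_mul, resR, Scheme.basicOpen_res] at h1
    refine absurd ?_ (C.notMem l i hlj x hi)
    have h2 := h1.2
    have hl : (MvPolynomial.X l : MvPolynomial (Fin (N + 1)) k) ∈ CohB1.polyGrading N k (1 • 1) := by
      rw [one_smul]; exact ProjPt.X_mem l
    rw [AVTate.coordFn, AVTate.chartHom, RingHom.comp_apply, ← Scheme.preimage_basicOpen] at h2
    have h3 : r x ∈ Proj.basicOpen (CohB1.polyGrading N k)
        ((MvPolynomial.X i : MvPolynomial (Fin (N + 1)) k) * MvPolynomial.X l) :=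
      (GrModX.basicOpen_awayToSection _ (ProjPt.X_mem i) 1 hl).le h2
    rw [Proj.basicOpen_mul] at h3
    exact h3.2
  · rw [zero_mul, Scheme.basicOpen_zero] at h1
    exact h1.elim

theorem exists_poly [IsClosedImmersion r] (x : Γ(W, ⊤)) (j : Fin (N + 1)) :
    ∃ p : MvPolynomial (Fin (N + 1)) k, ε C j * x = ε C j * MvPolynomial.eval₂Hom (scal r) (a C) p := by
  have hx : resR (le_top : r ⁻¹ᵁ Dp (k := k) j ≤ ⊤) x ∈
      Algebra.adjoin k (Set.range (coordFn r j)) := by
    rw [AVTate.adjoin_coordFn r j]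
    trivial
  rw [Algebra.adjoin_range_eq_range_aeval] at hx
  obtain ⟨p, hp⟩ := hx
  refine ⟨p, glue_ext C fun i => ?_⟩
  rw [map_mul, map_mul, res_ε]
  split_ifs with h
  · subst h
    rw [res_aeval, show MvPolynomial.aeval (coordFn r i) p = _ from hp, resR_resR]
  · rw [zero_mul, zero_mul]

/-- The frame of the inverse image of `O(d)`. -/
def frame (d : ℕ) : Γ(PnCoh.Chow.pullTw r (d : ℤ), ⊤) :=
  (Equiv.ofBijective _ (bijective_res C.U C.dj C.cover (PnCoh.Chow.pullTw r (d : ℤ)))).symm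
    fun j => res _ (C.le j) (PnCoh.Chow.pFrame r (ProjPt.X_mem j) (d : ℤ))

theorem res_frame (d : ℕ) (j : Fin (N + 1)) :
    res _ (le_top : C.U j ≤ ⊤) (frame C d) = res _ (C.le j) (PnCoh.Chow.pFrame r (ProjPt.X_mem j) (d : ℤ)) :=
  congrFun ((Equiv.ofBijective _ (bijective_res C.U C.dj C.cover (PnCoh.Chow.pullTw r (d : ℤ)))).apply_symm_apply
    fun j => res _ (C.le j) (PnCoh.Chow.pFrame r (ProjPt.X_mem j) (d : ℤ))) j

theorem bijective_smul_frame (d : ℕ) :
    Function.Bijective fun x : Γ(W, ⊤) => x • frame C d := by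
  have hb := fun j => PnCoh.Chow.isFrame_pFrame r (ProjPt.X_mem j) (d : ℤ) (C.U j) (C.le j)
  refine ⟨fun x y h => glue_ext C fun j => (hb j).1 ?_, fun s => ?_⟩
  · have := congrArg (res _ (le_top : C.U j ≤ ⊤)) h
    simp only [res_smul, res_frame] at this
    exact this
  · choose y hy using fun j => (hb j).2 (res _ (le_top : C.U j ≤ ⊤) s)
    refine ⟨(glue C).symm y, (bijective_res C.U C.dj C.cover _).1 (funext fun j => ?_)⟩
    show res _ _ (_ • frame C d) = _
    rw [res_smul, res_frame, res_glue]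
    exact hy j

/-- The inverse image of a global section. -/
def pullS (d : ℤ) (s : Γ(Twist.twistProjSpace N k d, ⊤)) : Γ(PnCoh.Chow.pullTw r d, ⊤) :=
  ((Scheme.Modules.pullbackPushforwardAdjunction r).unit.app (Twist.twistProjSpace N k d)).app ⊤ s

theorem pullS_globalOf (d : ℕ) (p : CohB1.polyGrading N k d) :
    pullS (r := r) (d : ℤ) (Twist.globalOf (CohB1.polyGrading N k) p) =
      MvPolynomial.eval₂Hom (scal r) (a C) p.1 • frame C d := by
  refine (bijective_res C.U C.dj C.cover _).1 (funext fun j => ?_)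
  show res _ _ _ = res _ _ (_ • frame C d)
  rw [res_smul, res_frame, res_aeval]
  let η := (Scheme.Modules.pullbackPushforwardAdjunction r).unit.app (Twist.twistProjSpace N k (d : ℤ))
  have hp : (p.1 : MvPolynomial (Fin (N + 1)) k) ∈ CohB1.polyGrading N k (d • 1) := by
    rw [smul_eq_mul, mul_one]; exact p.2
  have h1 := congrArg (η.app (Dp (k := k) j)) (res_globalOf (ProjPt.X_mem j) d p hp)
  rw [Scheme.Modules.Hom.app_smul] at h1
  have h2 : res _ (le_top : r ⁻¹ᵁ Dp (k := k) j ≤ ⊤) (pullS (r := r) (d : ℤ) (Twist.globalOf _ p)) =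
      chartHom r j (Away.mk _ (ProjPt.X_mem j) d p.1 hp) •
        PnCoh.Chow.pFrame r (ProjPt.X_mem j) (d : ℤ) := (app_res η _ _).symm.trans h1
  rw [AVTate.chartHom_mk] at h2
  have h3 := congrArg (res _ (C.le j)) h2
  rw [res_res, res_smul] at h3
  exact h3

end Groth.Agent.Synt29.PnZeroDim
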