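import Mathlib
import Groth.Prelude.Def_DeRham
import Groth.Prelude.Def_LogDiff

/-! The logarithmic de Rham complex of affine space in characteristic `p`. -/

set_option autoImplicit false
set_option linter.style.haveILetI false

universe u

namespace Groth.Agent.Synt29.PolyLog

open exteriorPower

section Euler

variable {R A L : Type u} [CommRing R] [CommRing A] [Algebra R A] [AddCommGroup L] [Module A L] [Module R L]
  [IsScalarTower R A L] {σ : Type} (b : σ → L) (δ : Derivation R A L)
  (d : ∀ q : ℕ, ↥(⋀[A]^q L) →ₗ[R] ↥(⋀[A]^(q + 1) L))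

/-- The Lie derivative along a vector field is diagonal. -/
theorem exists_lie
    (hd' : ∀ (q : ℕ) (c : A) (I : Fin q → σ),
      d q (c • ιMulti A q (fun i => b (I i))) = ιMulti A (q + 1) (Fin.cons (δ c) fun i => b (I i)))
    (φ : L →ₗ[A] A) (κ : σ → A) (hφ : ∀ j, δ (φ (b j)) = κ j • b j) :
    ∃ h : ∀ q, ↥(⋀[A]^(q + 1) L) →ₗ[A] ↥(⋀[A]^q L),
      (∀ (c : A) (I : Fin 0 → σ), h 0 (d 0 (c • ιMulti A 0 fun i => b (I i))) = φ (δ c) • ιMulti A 0 fun i => b (I i)) ∧
      ∀ (q : ℕ) (I : Fin (q + 1) → σ) (c : A),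
        h (q + 1) (d (q + 1) (c • ιMulti A (q + 1) fun i => b (I i))) +
          d q (h q (c • ιMulti A (q + 1) fun i => b (I i))) =
        (φ (δ c) + (∑ i, κ (I i)) * c) • ιMulti A (q + 1) fun i => b (I i) := by
  classical
  let ι' : ∀ q, ↥(⋀[A]^(q + 1) L) →ₗ[A] ↥(⋀[A]^q L) := fun q =>
    exteriorPower.alternatingMapLinearEquiv
      (AlternatingMap.alternatizeUncurryFin (φ.smulRight (exteriorPower.ιMulti A q)))
  have hι : ∀ (q : ℕ) (v : Fin (q + 1) → L), ι' q (ιMulti A (q + 1) v) =
      ∑ i : Fin (q + 1), (-1) ^ (i : ℕ) • (φ (v i) • ιMulti A q (Fin.removeNth i v)) := by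
    intro q v
    simp only [ι', exteriorPower.alternatingMapLinearEquiv_apply_ιMulti,
      AlternatingMap.alternatizeUncurryFin_apply]
    rfl
  refine ⟨ι', fun c I => ?_, fun q I c => ?_⟩
  · rw [hd' 0 c I, hι, Fin.sum_univ_one]
    simp [Fin.removeNth_zero]
  set v : Fin (q + 1) → L := fun i => b (I i) with hv
  have h1 : ι' (q + 1) (d (q + 1) (c • ιMulti A (q + 1) v)) =
      φ (δ c) • ιMulti A (q + 1) v -
        ∑ i : Fin (q + 1), (-1) ^ (i : ℕ) • (φ (v i) •
          ιMulti A (q + 1) (Fin.cons (δ c) (Fin.removeNth i v))) := by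
    rw [hd' (q + 1) c I, hι, Fin.sum_univ_succ, sub_eq_add_neg, ← Finset.sum_neg_distrib]
    refine congr_arg₂ (· + ·) ?_ (Finset.sum_congr rfl fun i _ => ?_)
    · simp only [Fin.val_zero, pow_zero, one_smul, Fin.cons_zero, Fin.removeNth_zero, Fin.tail_cons]
      rfl
    · simp only [Fin.cons_succ, Fin.val_succ, pow_succ, mul_neg_one, neg_smul]
      congr 4
      funext j
      refine Fin.cases ?_ (fun l => ?_) j
      · simp [Fin.removeNth]
      · simp [Fin.removeNth, Fin.succ_succAbove_succ, hv]
  have h2 : d q (ι' q (c • ιMulti A (q + 1) v)) =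
      ∑ i : Fin (q + 1), (-1) ^ (i : ℕ) • (φ (v i) •
          ιMulti A (q + 1) (Fin.cons (δ c) (Fin.removeNth i v))) +
        ((∑ i, κ (I i)) * c) • ιMulti A (q + 1) v := by
    rw [map_smul, hι, Finset.smul_sum, map_sum, Finset.sum_mul, Finset.sum_smul,
      ← Finset.sum_add_distrib]
    refine Finset.sum_congr rfl fun i _ => ?_
    have hrem : Fin.removeNth i v = fun j => b (I (i.succAbove j)) := rfl
    rw [smul_comm c ((-1 : ℤ) ^ (i : ℕ)), map_zsmul, smul_smul, hrem, hd', hv, Derivation.leibniz, hφ]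
    have hsplit : ∀ (x y : L) (w : Fin q → L) (s t : A),
        ιMulti A (q + 1) (Fin.cons (s • x + t • y) w) =
          s • ιMulti A (q + 1) (Fin.cons x w) + t • ιMulti A (q + 1) (Fin.cons y w) := by
      intro x y w s t
      have e : ∀ z, (Fin.cons z w : Fin (q + 1) → L) = Function.update (Fin.cons 0 w) 0 z :=
        fun z => (Fin.update_cons_zero ..).symm
      rw [e, AlternatingMap.map_update_add, AlternatingMap.map_update_smul, AlternatingMap.map_update_smul,
        ← e, ← e]
    rw [smul_smul, hsplit, smul_add]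
    refine (add_comm _ _).trans ?_
    congr 1
    have hins := (ιMulti A (q + 1) (M := L)).neg_one_pow_smul_map_insertNth i (b (I i)) (Fin.removeNth i v)
    rw [show Fin.insertNth i (b (I i)) (Fin.removeNth i v) = v from Fin.insertNth_self_removeNth i v] at hins
    rw [smul_comm ((-1 : ℤ) ^ (i : ℕ)), mul_comm (κ (I i)) c]
    congr 1
    rw [show (Fin.cons (b (I i)) fun j => b (I (i.succAbove j)) : Fin (q + 1) → L) =
      Matrix.vecCons (b (I i)) (Fin.removeNth i v) from rfl, ← hins, smul_smul, ← pow_add,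
      Even.neg_one_pow ⟨(i : ℕ), rfl⟩, one_smul]
  rw [h1, h2, add_smul]
  abel

end Euler

section Log

open MvPolynomial

variable {R : Type u} [CommRing R] {n r : ℕ} (hr : r ≤ n)
  {L : Type u} [AddCommGroup L] [Module (MvPolynomial (Fin n) R) L] [Module R L]
  [IsScalarTower R (MvPolynomial (Fin n) R) L]
  {ι : (Ω[MvPolynomial (Fin n) R⁄R]) →ₗ[MvPolynomial (Fin n) R] L} {dl : Fin r → L}

/-- The standard logarithmic coframe. -/
noncomputable def frame (ι : (Ω[MvPolynomial (Fin n) R⁄R]) →ₗ[MvPolynomial (Fin n) R] L) (dl : Fin r → L)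
    (ν : Fin n) : L :=
  if h : (ν : ℕ) < r then dl ⟨ν, h⟩ else ι (KaehlerDifferential.D R _ (X ν))

theorem exists_basis
    (hL : LogDiff.IsLog (KaehlerDifferential.D R (MvPolynomial (Fin n) R))
      (fun i : Fin r => (X (Fin.castLE hr i) : MvPolynomial (Fin n) R)) ι dl) :
    ∃ b : Module.Basis (Fin n) (MvPolynomial (Fin n) R) L, ∀ ν, b ν = frame ι dl ν := by
  classical
  obtain ⟨hdl, hspan, -, hker⟩ := hL
  let bΩ := KaehlerDifferential.mvPolynomialBasis R (Fin n)
  let c : Fin n → MvPolynomial (Fin n) R := fun ν => if (ν : ℕ) < r then X ν else 1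
  have hιb : ∀ ν, ι (bΩ ν) = c ν • frame ι dl ν := fun ν => by
    rw [KaehlerDifferential.mvPolynomialBasis_apply]
    unfold frame
    by_cases h : (ν : ℕ) < r
    · simp only [c, if_pos h, dif_pos h]
      exact (hdl ⟨ν, h⟩).symm
    · simp only [c, if_neg h, dif_neg h, one_smul]
  have hsp : ⊤ ≤ Submodule.span (MvPolynomial (Fin n) R) (Set.range (frame ι dl)) := by
    rw [← hspan, Submodule.span_le]
    rintro x (⟨ω, rfl⟩ | ⟨i, rfl⟩)
    · rw [← bΩ.sum_repr ω, map_sum]
      refine Submodule.sum_mem _ fun ν _ => ?_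
      rw [map_smul, hιb, smul_smul]
      exact Submodule.smul_mem _ _ (Submodule.subset_span ⟨ν, rfl⟩)
    · refine Submodule.subset_span ⟨Fin.castLE hr i, ?_⟩
      unfold frame
      rw [dif_pos (by simp)]
      congr 1
  have hind : LinearIndependent (MvPolynomial (Fin n) R) (frame ι dl) := by
    rw [Fintype.linearIndependent_iff]
    intro g hg
    let P := ∏ i : Fin r, (X (Fin.castLE hr i) : MvPolynomial (Fin n) R)
    have hP : IsRegular P :=
      IsRegular.prod (fun i _ => MvPolynomial.isRegular_X)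
    let c' : Fin n → MvPolynomial (Fin n) R := fun ν =>
      if h : (ν : ℕ) < r then ∏ i ∈ Finset.univ.erase (⟨ν, h⟩ : Fin r), X (Fin.castLE hr i) else P
    have hcc : ∀ ν, c' ν * c ν = P := fun ν => by
      by_cases h : (ν : ℕ) < r
      · simp only [c, c', if_pos h, dif_pos h]
        exact Finset.prod_erase_mul (s := Finset.univ) (fun i : Fin r => (X (Fin.castLE hr i) : MvPolynomial (Fin n) R))
          (a := ⟨ν, h⟩) (Finset.mem_univ _)
      · simp only [c, c', if_neg h, dif_neg h, mul_one]
    have h0 : ι (∑ ν, (g ν * c' ν) • bΩ ν) = 0 := by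
      rw [map_sum, Finset.sum_congr rfl (g := fun ν => P • (g ν • frame ι dl ν)) fun ν _ => by
        rw [map_smul, hιb, smul_smul, mul_assoc, hcc, smul_smul, mul_comm], ← Finset.smul_sum, hg, smul_zero]
    obtain ⟨m, hm⟩ := (hker _).1 h0
    rw [Finset.smul_sum] at hm
    simp only [smul_smul] at hm
    intro ν
    have := Fintype.linearIndependent_iff.1 bΩ.linearIndependent _ hm ν
    have h1 : g ν * c' ν = 0 := (hP.pow m).left (by simpa using this)
    have h2 : g ν * P = 0 := by rw [← hcc ν, ← mul_assoc, h1, zero_mul]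
    exact hP.right (by simpa using h2)
  exact ⟨Module.Basis.mk hind hsp, fun ν => Module.Basis.mk_apply hind hsp ν⟩

variable (d : ∀ q : ℕ, ↥(⋀[MvPolynomial (Fin n) R]^q L) →ₗ[R] ↥(⋀[MvPolynomial (Fin n) R]^(q + 1) L))

theorem d_gen
    (hlog : LogDiff.IsLogRule (KaehlerDifferential.D R (MvPolynomial (Fin n) R)) ι dl d)
    (q : ℕ) (c : MvPolynomial (Fin n) R) (I : Fin q → Fin n) :
    d q (c • ιMulti _ q (fun i => frame ι dl (I i))) =
      ιMulti _ (q + 1) (Fin.cons (ι.compDer (KaehlerDifferential.D R _) c) fun i => frame ι dl (I i)) :=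
  hlog q c _ fun k => by
    unfold frame
    by_cases h : ((I k : Fin n) : ℕ) < r
    · exact .inr ⟨_, dif_pos h⟩
    · exact .inl ⟨_, dif_neg h⟩

variable (r) in
/-- The poles-free part of a set of indices. -/
def polefree (ν : Fin n) : Prop := r ≤ (ν : ℕ)

theorem frame_eq (b : Module.Basis (Fin n) (MvPolynomial (Fin n) R) L) (hb : ∀ ν, b ν = frame ι dl ν)
    (hL : LogDiff.IsLog (KaehlerDifferential.D R (MvPolynomial (Fin n) R))
      (fun i : Fin r => (X (Fin.castLE hr i) : MvPolynomial (Fin n) R)) ι dl)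
    (c : MvPolynomial (Fin n) R) :
    ι.compDer (KaehlerDifferential.D R _) c =
      ∑ ν : Fin n, (if (ν : ℕ) < r then X ν * pderiv ν c else pderiv ν c) • b ν := by
  classical
  show ι (KaehlerDifferential.D R _ c) = _
  rw [← (KaehlerDifferential.mvPolynomialBasis R (Fin n)).sum_repr (KaehlerDifferential.D R _ c), map_sum]
  refine Finset.sum_congr rfl fun ν _ => ?_
  rw [map_smul, KaehlerDifferential.mvPolynomialBasis_repr_apply, KaehlerDifferential.mvPolynomialBasis_apply, hb]
  unfold frame
  by_cases h : (ν : ℕ) < r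
  · rw [dif_pos h, if_pos h, mul_comm, ← smul_smul]
    congr 1
    exact (hL.1 ⟨ν, h⟩).symm
  · rw [dif_neg h, if_neg h]

variable (p : ℕ) [Fact p.Prime] [CharP R p]

/-- The weight of `t^m` times the coframe element of `s`. -/
def weight (r : ℕ) (m : Fin n →₀ ℕ) (s : Finset (Fin n)) (ν : Fin n) : ℕ :=
  m ν + if ν ∈ s ∧ r ≤ (ν : ℕ) then 1 else 0

omit [Fact p.Prime] in
theorem cast_eq_zero {A : Type u} [CommRing A] [Algebra R A] {k : ℕ} (h : p ∣ k) : (k : A) = 0 := by
  rw [← map_natCast (algebraMap R A), (CharP.cast_eq_zero_iff R p k).2 h, map_zero]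

theorem one_sub_pow (A : Type u) [CommRing A] [Algebra R A] (k : ℕ) :
    (1 : A) - (k : A) ^ (p - 1) = if p ∣ k then 1 else 0 := by
  have hp := (Fact.out : p.Prime)
  split_ifs with h
  · rw [cast_eq_zero (R := R) p h, zero_pow (by have := hp.two_le; omega), sub_zero]
  · have hk : ((k : ZMod p)) ≠ 0 := fun hk => h ((CharP.cast_eq_zero_iff (ZMod p) p k).1 hk)
    have := congrArg (ZMod.castHom (dvd_refl p) R) (ZMod.pow_card_sub_one_eq_one hk)
    rw [map_pow, map_natCast, map_one] at this
    rw [← map_natCast (algebraMap R A), ← map_pow, this, map_one, sub_self]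

/-- Closed forms are exact modulo combinations of weight divisible by `p`, on which `d` vanishes. -/
theorem exists_proj
    (hL : LogDiff.IsLog (KaehlerDifferential.D R (MvPolynomial (Fin n) R))
      (fun i : Fin r => (X (Fin.castLE hr i) : MvPolynomial (Fin n) R)) ι dl)
    (b : Module.Basis (Fin n) (MvPolynomial (Fin n) R) L) (hb : ∀ ν, b ν = frame ι dl ν)
    (hdd : ∀ q x, d (q + 1) (d q x) = 0)
    (hlog : LogDiff.IsLogRule (KaehlerDifferential.D R (MvPolynomial (Fin n) R)) ι dl d) :
    ∃ P : ∀ q, ↥(⋀[MvPolynomial (Fin n) R]^q L) →+ ↥(⋀[MvPolynomial (Fin n) R]^q L),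
      (∀ q (s : Set.powersetCard (Fin n) q) (m : Fin n →₀ ℕ) (a : R),
        (P q (monomial m a • b.exteriorPower q s) = if ∀ ν, p ∣ weight r m s.1 ν
          then monomial m a • b.exteriorPower q s else 0) ∧
        ((∀ ν, p ∣ weight r m s.1 ν) → d q (monomial m a • b.exteriorPower q s) = 0)) ∧
      (∀ q x, d q x = 0 → P q x - x ∈ DeRham.coboundaries d q) ∧
      ∀ q x, d q (P q x) = P (q + 1) (d q x) := by
  classical
  let A := MvPolynomial (Fin n) R
  have hbb : (⇑b : Fin n → L) = frame ι dl := funext hb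
  have hd' : ∀ (q : ℕ) (c : A) (I : Fin q → Fin n), d q (c • ιMulti A q (fun i => b (I i))) =
      ιMulti A (q + 1) (Fin.cons (ι.compDer (KaehlerDifferential.D R A) c) fun i => b (I i)) := by
    rw [hbb]; exact d_gen d hlog
  let δ := ι.compDer (KaehlerDifferential.D R A)
  let fac : Fin n → A := fun ν => if (ν : ℕ) < r then 1 else X ν
  let φ : Fin n → L →ₗ[A] A := fun ν => fac ν • b.coord ν
  let κ : Fin n → Fin n → A := fun ν j => if j = ν ∧ r ≤ (ν : ℕ) then 1 else 0
  have hφ : ∀ ν j, δ (φ ν (b j)) = κ ν j • b j := by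
    intro ν j
    simp only [φ, κ, fac, LinearMap.smul_apply, Module.Basis.coord_apply, Module.Basis.repr_self,
      Finsupp.single_apply, smul_eq_mul]
    rcases eq_or_ne j ν with rfl | hj
    · rw [if_pos rfl, mul_one]
      by_cases h : (j : ℕ) < r
      · rw [if_pos h, if_neg (by simp; omega), zero_smul, Derivation.map_one_eq_zero]
      · rw [if_neg h, if_pos ⟨rfl, by omega⟩, one_smul, hb]
        unfold frame
        rw [dif_neg h]
        rfl
    · rw [if_neg hj, mul_zero, map_zero, if_neg (by tauto), zero_smul]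
  choose h h0 h1 using fun ν => exists_lie (⇑b) δ d hd' (φ ν) (κ ν) (hφ ν)
  let Lie : Fin n → ∀ q, ↥(⋀[A]^q L) →ₗ[R] ↥(⋀[A]^q L) := fun ν q =>
    match q with
    | 0 => ((h ν 0).restrictScalars R).comp (d 0)
    | q + 1 => ((h ν (q + 1)).restrictScalars R).comp (d (q + 1)) + (d q).comp ((h ν q).restrictScalars R)
  have hE : ∀ (ν : Fin n) (m : Fin n →₀ ℕ) (a : R), φ ν (δ (monomial m a)) = (m ν : A) * monomial m a := by
    intro ν m a
    have hX : X ν * pderiv ν (monomial m a) = (m ν : A) * monomial m a := by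
      rw [X_mul_pderiv_monomial, nsmul_eq_mul]
    rw [show δ (monomial m a) = _ from frame_eq hr b hb hL _, map_sum, Finset.sum_eq_single ν]
    · simp only [φ, fac, map_smul, LinearMap.smul_apply, Module.Basis.coord_apply, Module.Basis.repr_self,
        Finsupp.single_eq_same, smul_eq_mul, mul_one]
      by_cases hν : (ν : ℕ) < r
      · rw [if_pos hν, if_pos hν, mul_one, hX]
      · rw [if_neg hν, if_neg hν, mul_comm, hX]
    · intro j _ hj
      rw [map_smul, show φ ν (b j) = 0 by simp [φ, Finsupp.single_apply, hj], smul_zero]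
    · simp
  have hLie : ∀ (ν : Fin n) q (s : Set.powersetCard (Fin n) q) (m : Fin n →₀ ℕ) (a : R),
      Lie ν q (monomial m a • b.exteriorPower q s) =
        (weight r m s.1 ν : A) • (monomial m a • b.exteriorPower q s) := by
    intro ν q s m a
    rw [exteriorPower.basis_apply]
    unfold exteriorPower.ιMulti_family
    set I : Fin q → Fin n := ⇑(Set.powersetCard.ofFinEmbEquiv.symm s) with hI
    rcases q with _ | q
    · refine (h0 ν _ I).trans ?_
      rw [hE, ← smul_smul]
      congr 1
      have : s.1 = ∅ := Finset.card_eq_zero.1 s.2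
      simp [weight, this]
    · refine (h1 ν q I _).trans ?_
      rw [hE, ← add_mul, ← smul_smul]
      congr 1
      rw [weight, Nat.cast_add]
      congr 1
      have himg : Finset.univ.image I = s.1 := by
        rw [hI, Set.powersetCard.ofFinEmbEquiv_symm_apply]
        exact Finset.image_orderEmbOfFin_univ _ _
      have hinj : Function.Injective I := (Set.powersetCard.ofFinEmbEquiv.symm s).injective
      rw [← Finset.sum_image (f := fun j => κ ν j) (g := I) (fun x _ y _ hxy => hinj hxy), himg]
      simp only [κ]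
      by_cases hν : ν ∈ s.1 ∧ r ≤ (ν : ℕ)
      · rw [if_pos hν, Finset.sum_eq_single ν (fun j _ hj => if_neg (by tauto)) (fun h' => absurd hν.1 h'),
          if_pos ⟨rfl, hν.2⟩, Nat.cast_one]
      · rw [if_neg hν, Nat.cast_zero]
        refine Finset.sum_eq_zero fun j hj => if_neg fun (hj' : j = ν ∧ r ≤ (ν : ℕ)) => hν ⟨hj'.1 ▸ hj, hj'.2⟩
  have hLd : ∀ ν q x, d q (Lie ν q x) = Lie ν (q + 1) (d q x) := by
    intro ν q x
    rcases q with _ | q <;>
      simp only [Lie, LinearMap.add_apply, LinearMap.comp_apply, LinearMap.coe_restrictScalars, map_add, hdd,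
        map_zero, zero_add, add_zero]
  have hLB : ∀ ν q x, d q x = 0 → Lie ν q x ∈ DeRham.coboundaries d q := by
    intro ν q x hx
    rcases q with _ | q
    · simp only [Lie, LinearMap.comp_apply, LinearMap.coe_restrictScalars, hx, map_zero]
      exact Submodule.zero_mem _
    · simp only [Lie, LinearMap.add_apply, LinearMap.comp_apply, LinearMap.coe_restrictScalars, hx, map_zero,
        zero_add]
      exact LinearMap.mem_range_self _ _
  let Q : Fin n → ∀ q, ↥(⋀[A]^q L) →ₗ[R] ↥(⋀[A]^q L) := fun ν q => 1 - (Lie ν q) ^ (p - 1)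
  let W : List (Fin n) → ∀ q, ↥(⋀[A]^q L) →ₗ[R] ↥(⋀[A]^q L) := fun l q => (l.map fun ν => Q ν q).prod
  have hpowd : ∀ ν (k : ℕ) q x, d q ((Lie ν q ^ k) x) = (Lie ν (q + 1) ^ k) (d q x) := by
    intro ν k
    induction k with
    | zero => intro q x; rfl
    | succ k ih => intro q x; rw [pow_succ', pow_succ', Module.End.mul_apply, Module.End.mul_apply, hLd, ih]
  have hQd : ∀ ν q x, d q (Q ν q x) = Q ν (q + 1) (d q x) := fun ν q x => by
    simp only [Q, LinearMap.sub_apply, Module.End.one_apply, map_sub, hpowd]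
  have hWd : ∀ l q x, d q (W l q x) = W l (q + 1) (d q x) := by
    intro l
    induction l with
    | nil => intro q x; rfl
    | cons ν l ih =>
      intro q x
      simp only [W, List.map_cons, List.prod_cons, Module.End.mul_apply] at ih ⊢
      rw [hQd, ih]
  have hWB : ∀ l q x, d q x = 0 → W l q x - x ∈ DeRham.coboundaries d q := by
    intro l
    induction l with
    | nil => intro q x _; simp [W]
    | cons ν l ih =>
      intro q x hx
      simp only [W, List.map_cons, List.prod_cons, Module.End.mul_apply] at ih ⊢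
      have hy : d q ((List.map (fun ν => Q ν q) l).prod x) = 0 := by
        have := hWd l q x
        simp only [W] at this
        rw [this, hx, map_zero]
      set y := (List.map (fun ν => Q ν q) l).prod x with hy'
      have h2 : Q ν q y - y ∈ DeRham.coboundaries d q := by
        obtain ⟨k, hk⟩ : ∃ k, p - 1 = k + 1 := ⟨p - 2, by have := (Fact.out : p.Prime).two_le; omega⟩
        have : Q ν q y - y = -(Lie ν q ((Lie ν q ^ k) y)) := by
          simp only [Q, hk, LinearMap.sub_apply, Module.End.one_apply, pow_succ', Module.End.mul_apply]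
          abel
        rw [this]
        exact Submodule.neg_mem _ (hLB ν q _ (by rw [hpowd, hy, map_zero]))
      have := Submodule.add_mem _ h2 (ih q x hx)
      rwa [sub_add_sub_cancel] at this
  have hW : ∀ l q (s : Set.powersetCard (Fin n) q) (m : Fin n →₀ ℕ) (a : R),
      W l q (monomial m a • b.exteriorPower q s) = (if ∀ ν ∈ l, p ∣ weight r m s.1 ν
        then monomial m a • b.exteriorPower q s else 0) := by
    intro l q s m a
    induction l with
    | nil => simp [W]
    | cons ν l ih =>
      simp only [W, List.map_cons, List.prod_cons, Module.End.mul_apply] at ih ⊢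
      rw [ih]
      have hpow : ∀ k : ℕ, (Lie ν q ^ k) (monomial m a • b.exteriorPower q s) =
          (weight r m s.1 ν : A) ^ k • (monomial m a • b.exteriorPower q s) := by
        intro k
        induction k with
        | zero => simp
        | succ k ihk =>
          rw [pow_succ', Module.End.mul_apply, ihk,
            show (weight r m s.1 ν : A) ^ k = algebraMap R A ((weight r m s.1 ν : R) ^ k) by simp,
            algebraMap_smul, map_smul, hLie, ← algebraMap_smul A ((weight r m s.1 ν : R) ^ k), smul_smul]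
          congr 1
          simp [pow_succ]
      by_cases hl : ∀ x ∈ l, p ∣ weight r m s.1 x
      · rw [if_pos hl]
        simp only [Q, LinearMap.sub_apply, Module.End.one_apply, hpow]
        nth_rw 1 [← one_smul A (monomial m a • b.exteriorPower q s)]
        rw [← sub_smul, one_sub_pow (R := R) p A]
        by_cases hν : p ∣ weight r m s.1 ν
        · rw [if_pos hν, one_smul, if_pos (by simp [hν, hl]; exact hl)]
        · rw [if_neg hν, zero_smul, if_neg (by simp [hν])]
      · rw [if_neg hl, map_zero, if_neg (fun h' => hl fun x hx => h' x (List.mem_cons_of_mem _ hx))]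
  refine ⟨fun q => (W Finset.univ.toList q).toAddMonoidHom, fun q s m a => ⟨?_, fun hw => ?_⟩,
    fun q x hx => hWB _ q x hx, fun q x => hWd _ q x⟩
  · simpa using hW Finset.univ.toList q s m a
  · rw [exteriorPower.basis_apply]
    unfold exteriorPower.ιMulti_family
    set I : Fin q → Fin n := ⇑(Set.powersetCard.ofFinEmbEquiv.symm s) with hI
    refine (hd' q _ I).trans ?_
    rw [show ι.compDer (KaehlerDifferential.D R A) (monomial m a) = _ from frame_eq hr b hb hL _]
    have e : ∀ z, (Fin.cons z (fun i => b (I i)) : Fin (q + 1) → L) = Function.update (Fin.cons 0 fun i => b (I i)) 0 z :=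
      fun z => (Fin.update_cons_zero ..).symm
    rw [e, AlternatingMap.map_update_sum]
    refine Finset.sum_eq_zero fun ν _ => ?_
    rw [AlternatingMap.map_update_smul, ← e]
    by_cases hν : ν ∈ Finset.univ.image I
    · obtain ⟨j, -, rfl⟩ := Finset.mem_image.1 hν
      rw [(ιMulti A (q + 1)).map_eq_zero_of_eq (Fin.cons (b (I j)) fun i => b (I i))
        (i := 0) (j := j.succ) (by simp) (Fin.succ_ne_zero j).symm, smul_zero]
    · have hm : p ∣ m ν := by
        have := hw ν
        rw [show Finset.univ.image I = s.1 by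
          rw [hI, Set.powersetCard.ofFinEmbEquiv_symm_apply]; exact Finset.image_orderEmbOfFin_univ _ _] at hν
        rwa [weight, if_neg (by tauto), add_zero] at this
      have hz : pderiv ν (monomial m a) = 0 := by
        rw [pderiv_monomial, (CharP.cast_eq_zero_iff R p (m ν)).2 hm, mul_zero, monomial_zero]
      rw [hz, mul_zero, ite_self, zero_smul]

theorem weight_split {m : Fin n →₀ ℕ} {s : Finset (Fin n)} (hw : ∀ ν, p ∣ weight r m s ν) :
    ∃ m' : Fin n →₀ ℕ, m = p • m' + Finsupp.equivFunOnFinite.symm (fun ν => if ν ∈ s ∧ r ≤ (ν : ℕ) then p - 1 else 0) := by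
  classical
  have hp := (Fact.out : p.Prime).two_le
  refine ⟨Finsupp.equivFunOnFinite.symm fun ν => m ν / p, Finsupp.ext fun ν => ?_⟩
  simp only [Finsupp.add_apply, Finsupp.smul_apply, Finsupp.coe_equivFunOnFinite_symm, smul_eq_mul]
  obtain ⟨k, hk⟩ := hw ν
  unfold weight at hk
  split_ifs at hk ⊢ with h
  · obtain ⟨j, rfl⟩ : ∃ j, k = j + 1 := ⟨k - 1, by rcases k with _ | k <;> simp at hk ⊢⟩
    have hm : m ν = p - 1 + p * j := by rw [mul_add, mul_one] at hk; omega
    rw [hm, Nat.add_mul_div_left _ _ (by omega), Nat.div_eq_of_lt (by omega), zero_add, add_comm]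
  · have : m ν = p * k := by omega
    rw [this, Nat.mul_div_cancel_left _ (by omega), add_zero]

end Log

end Groth.Agent.Synt29.PolyLog
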