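import Groth.Agent.Synt29.LogLam

/-!
The coordinate data attached to `dt_i` basis of differentials; commutation and changes of coordinates.
-/

universe v u

open TensorProduct

namespace Groth.Agent.Synt29.LogLam

variable {A : Type v} {B L E : Type u} [CommRing A] [CommRing B] [Algebra A B]
  [AddCommGroup L] [Module B L] [Module A L] [IsScalarTower A B L]
  [AddCommGroup E] [Module B E] [Module A E] [IsScalarTower A B E]
  {n : ℕ} {t : Fin n → B} {ω : Module.Basis (Fin n) B L} {nabla : E →ₗ[A] E ⊗[B] L} {lam : B}

omit [Module A L] [IsScalarTower A B L] in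
/-- coordinate of the forms without poles -/
lemma coord_ι (bΩ : Module.Basis (Fin n) B (KaehlerDifferential A B))
    (hbΩ : ∀ i, bΩ i = KaehlerDifferential.D A B (t i))
    (ι : KaehlerDifferential A B →ₗ[B] L)
    (hι : ∀ i, ι (KaehlerDifferential.D A B (t i)) = t i • ω i)
    (i : Fin n) (η : KaehlerDifferential A B) :
    ω.coord i (ι η) = t i * bΩ.coord i η := by
  have h : ω.coord i ∘ₗ ι = t i • bΩ.coord i := by
    refine bΩ.ext fun j => ?_
    rw [LinearMap.comp_apply, LinearMap.smul_apply, Module.Basis.coord_apply,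
      Module.Basis.coord_apply, Module.Basis.repr_self, hbΩ j, hι, map_smul,
      Module.Basis.repr_self, Finsupp.smul_apply]
    by_cases hji : j = i
    · subst hji; simp
    · simp [Finsupp.single_eq_of_ne (Ne.symm hji)]
  exact LinearMap.congr_fun h η

/-- the coordinate data -/
noncomputable def coordOfBasis (bΩ : Module.Basis (Fin n) B (KaehlerDifferential A B))
    (hbΩ : ∀ i, bΩ i = KaehlerDifferential.D A B (t i))
    (ι : KaehlerDifferential A B →ₗ[B] L)
    (hι : ∀ i, ι (KaehlerDifferential.D A B (t i)) = t i • ω i)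
    (hc : Conn.IsLamConn (ι.compDer (KaehlerDifferential.D A B)) lam nabla) :
    Coord lam n t ω nabla where
  der i := (bΩ.coord i).compDer (KaehlerDifferential.D A B)
  der_t i j := by
    show bΩ.coord i (KaehlerDifferential.D A B (t j)) = _
    rw [← hbΩ, Module.Basis.coord_apply, Module.Basis.repr_self, Finsupp.single_apply]
    by_cases h : i = j
    · simp [h]
    · simp [h, Ne.symm h]
  comp_smul i b e := by
    rw [LogConn.comp, Conn.along_apply, hc b e, map_add, map_add, map_smul, map_smul, map_smul,
      map_smul, TensorProduct.map_tmul, LinearMap.id_apply, TensorProduct.rid_tmul,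
      ← Conn.along_apply, smul_smul]
    show _ + (lam * ω.coord i (ι (KaehlerDifferential.D A B b))) • e = _
    rw [coord_ι bΩ hbΩ ι hι]
    rfl

omit [Module A L] [IsScalarTower A B L] in
lemma nabla_eq_sum (nabla : E →ₗ[A] E ⊗[B] L) (ω : Module.Basis (Fin n) B L) (e : E) :
    nabla e = ∑ i, LogConn.comp nabla ω i e ⊗ₜ[B] ω i := by
  simp only [LogConn.comp, Conn.along_apply]
  induction nabla e using TensorProduct.induction_on with
  | zero => simp
  | tmul x l =>
      simp only [TensorProduct.map_tmul, LinearMap.id_apply, TensorProduct.rid_tmul,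
        TensorProduct.smul_tmul]
      rw [← TensorProduct.tmul_sum]
      simp only [Module.Basis.coord_apply, Module.Basis.sum_repr]
  | add x y hx hy =>
      simp only [map_add, TensorProduct.add_tmul, Finset.sum_add_distrib]
      rw [← hx, ← hy]

omit [Module A L] [IsScalarTower A B L] in
lemma toOne_nabla (nabla : E →ₗ[A] E ⊗[B] L) (ω : Module.Basis (Fin n) B L) (e : E) :
    Conn.toOne (nabla e) =
      ∑ i, LogConn.comp nabla ω i e ⊗ₜ[B] exteriorPower.ιMulti B 1 (fun _ => ω i) := by
  rw [nabla_eq_sum nabla ω e, map_sum]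
  refine Finset.sum_congr rfl fun i _ => ?_
  rw [Conn.toOne_tmul, oneEquiv_symm]

omit [Module A L] [IsScalarTower A B L] in
lemma twedge_toOne (nabla : E →ₗ[A] E ⊗[B] L) (ω : Module.Basis (Fin n) B L) (e : E) (p : ℕ)
    (w : Fin p → L) :
    Conn.twedge p (Conn.toOne (nabla e)) (exteriorPower.ιMulti B p w) =
      ∑ i, LogConn.comp nabla ω i e ⊗ₜ[B] exteriorPower.ιMulti B (p + 1) (Fin.cons (ω i) w) := by
  rw [toOne_nabla nabla ω e, map_sum, LinearMap.sum_apply]
  refine Finset.sum_congr rfl fun i _ => ?_
  rw [Conn.twedge_tmul, wedge_ιMulti]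

/-- integrability gives commutation of the components in any basis of closed forms -/
lemma comp_comm (d : ∀ p : ℕ, ↥(⋀[B]^p L) →ₗ[A] ↥(⋀[B]^(p + 1) L))
    (nablas : ∀ p : ℕ, E ⊗[B] ↥(⋀[B]^p L) →ₗ[A] E ⊗[B] ↥(⋀[B]^(p + 1) L))
    (hint : Conn.IsIntegrable nabla (fun p => lam • d p) nablas)
    (hd1 : ∀ i, d 1 (exteriorPower.ιMulti B 1 (fun _ => ω i)) = 0)
    (i j : Fin n) (e : E) :
    LogConn.comp nabla ω i (LogConn.comp nabla ω j e) =
      LogConn.comp nabla ω j (LogConn.comp nabla ω i e) := by
  classical
  suffices key : ∀ a b : Fin n, a < b → LogConn.comp nabla ω a (LogConn.comp nabla ω b e) =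
      LogConn.comp nabla ω b (LogConn.comp nabla ω a e) by
    rcases lt_trichotomy i j with h | h | h
    · exact key i j h
    · rw [h]
    · exact (key j i h).symm
  intro a b hab
  have h0 := hint.2 e
  rw [toOne_nabla nabla ω e, map_sum] at h0
  have hterm : ∀ k, nablas 1 (LogConn.comp nabla ω k e ⊗ₜ[B]
      exteriorPower.ιMulti B 1 (fun _ => ω k)) =
      ∑ l, LogConn.comp nabla ω l (LogConn.comp nabla ω k e) ⊗ₜ[B]
        exteriorPower.ιMulti B 2 (Fin.cons (ω l) (fun _ : Fin 1 => ω k)) := by
    intro k
    rw [hint.1, LinearMap.smul_apply, hd1, smul_zero, TensorProduct.tmul_zero, add_zero,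
      twedge_toOne nabla ω]
  simp only [hterm] at h0
  have hmono : StrictMono (![a, b] : Fin 2 → Fin n) := by
    rw [Fin.strictMono_iff_lt_succ]
    intro k
    fin_cases k
    simpa using hab
  set K : Set.powersetCard (Fin n) 2 :=
    Set.powersetCard.ofFinEmbEquiv (OrderEmbedding.ofStrictMono _ hmono) with hK
  have h1 := congrArg (LogConn.coordE (E := E) ω 2 K) h0
  simp only [map_sum, map_zero, coordE_tmul, Matrix.det_fin_two, Matrix.of_apply, hK,
    Equiv.symm_apply_apply, OrderEmbedding.coe_ofStrictMono, Matrix.cons_val_zero,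
    Matrix.cons_val_one, Fin.cons_zero, Fin.cons_one, Module.Basis.coord_apply,
    Module.Basis.repr_self, Finsupp.single_apply, sub_smul, Finset.sum_sub_distrib,
    mul_ite, mul_one, mul_zero, ite_smul, one_smul, zero_smul] at h1
  simp only [Finset.sum_ite_irrel, Finset.sum_const_zero, Finset.sum_ite_eq', Finset.mem_univ,
    if_true] at h1
  exact sub_eq_zero.mp h1

variable (hcomm : ∀ i j (e : E), LogConn.comp nabla ω i (LogConn.comp nabla ω j e) =
      LogConn.comp nabla ω j (LogConn.comp nabla ω i e))

omit [Module A L] [IsScalarTower A B L] in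
include hcomm in
lemma comp_compProd (i : Fin n) (J : Finset (Fin n)) (e : E) :
    LogConn.comp nabla ω i (LogConn.compProd nabla ω J e) =
      LogConn.compProd nabla ω J (LogConn.comp nabla ω i e) := by
  induction J using Finset.induction_on_min with
  | empty => simp [compProd_empty]
  | insert a J haJ ih =>
      rw [compProd_insert_min haJ, compProd_insert_min haJ, hcomm, ih]

omit [Module A L] [IsScalarTower A B L] in
include hcomm in
lemma compProd_insert {j : Fin n} (J : Finset (Fin n)) (hj : j ∉ J) (e : E) :
    LogConn.compProd nabla ω (insert j J) e =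
      LogConn.comp nabla ω j (LogConn.compProd nabla ω J e) := by
  induction J using Finset.induction_on_min with
  | empty => exact compProd_insert_min (by simp) e
  | insert a J haJ ih =>
      have hja : j ≠ a := fun h => hj (h ▸ Finset.mem_insert_self a J)
      have hjJ : j ∉ J := fun h => hj (Finset.mem_insert_of_mem h)
      rcases lt_or_gt_of_ne hja with h | h
      · refine compProd_insert_min (fun x hx => ?_) e
        rcases Finset.mem_insert.mp hx with rfl | hx
        · exact h
        · exact h.trans (haJ x hx)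
      · rw [Finset.insert_comm, compProd_insert_min (fun x hx => ?_), ih hjJ,
          compProd_insert_min haJ, hcomm]
        rcases Finset.mem_insert.mp hx with rfl | hx
        · exact h
        · exact haJ x hx

omit [Module A L] [IsScalarTower A B L] in
include hcomm in
lemma compProd_union (J J' : Finset (Fin n)) (hd : Disjoint J J') (e : E) :
    LogConn.compProd nabla ω (J ∪ J') e =
      LogConn.compProd nabla ω J (LogConn.compProd nabla ω J' e) := by
  induction J using Finset.induction_on with
  | empty => simp [compProd_empty]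
  | @insert a J ha ih =>
      rw [Finset.disjoint_insert_left] at hd
      rw [Finset.insert_union, compProd_insert hcomm _ (by simp [ha, hd.1]), ih hd.2,
        compProd_insert hcomm _ ha]

omit [Module A L] [IsScalarTower A B L] in
include hcomm in
/-- the pieces decrease -/
lemma pieceB_antitone {F I : Finset (Fin n)} (hFI : F ⊆ I) :
    pieceB nabla ω t I ≤ pieceB nabla ω t F := by
  refine Submodule.span_le.mpr ?_
  rintro _ ⟨J, hJ, e, rfl⟩
  have h1 : J ∩ F ∪ J \ F = J := by
    ext a; simp only [Finset.mem_union, Finset.mem_inter, Finset.mem_sdiff]; tauto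
  have h2 : (I \ J) = ((I \ J) \ (F \ J)) ∪ (F \ J) := by
    rw [Finset.sdiff_union_of_subset]
    exact Finset.sdiff_subset_sdiff hFI (subset_refl J)
  have h3 : F \ (J ∩ F) = F \ J := by
    ext a; simp only [Finset.mem_sdiff, Finset.mem_inter]; tauto
  have key : gen nabla ω t I J e = (∏ i ∈ (I \ J) \ (F \ J), t i) •
      gen nabla ω t F (J ∩ F) (LogConn.compProd nabla ω (J \ F) e) := by
    rw [gen, gen, h3, smul_smul, ← Finset.prod_union Finset.sdiff_disjoint, ← h2,
      ← compProd_union hcomm _ _ (by
        rw [Finset.disjoint_left]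
        intro a ha hb
        exact (Finset.mem_sdiff.mp hb).2 (Finset.mem_inter.mp ha).2), h1]
  rw [SetLike.mem_coe, key]
  exact Submodule.smul_mem _ _ (gen_mem_pieceB Finset.inter_subset_right _)

omit [Module A L] [IsScalarTower A B L] in
include hcomm in
/-- the components preserve every piece -/
lemma comp_mem_pieceB (C : Coord lam n t ω nabla) (i : Fin n) {I : Finset (Fin n)} {x : E}
    (hx : x ∈ pieceB nabla ω t I) : LogConn.comp nabla ω i x ∈ pieceB nabla ω t I := by
  induction hx using Submodule.span_induction with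
  | zero => simp
  | add x y _ _ hx hy => rw [map_add]; exact add_mem hx hy
  | smul c x hx' hx =>
      rw [C.comp_smul]
      exact add_mem (Submodule.smul_mem _ c hx) (Submodule.smul_mem _ _ hx')
  | mem r hr =>
      obtain ⟨J, hJ, e, rfl⟩ := hr
      rw [gen, C.comp_smul, comp_compProd hcomm]
      refine add_mem (gen_mem_pieceB hJ _) ?_
      by_cases hi : i ∈ I \ J
      · have h2 : lam * (t i * C.der i (∏ k ∈ I \ J, t k)) = lam * ∏ k ∈ I \ J, t k := by
          rw [← Finset.mul_prod_erase _ _ hi, Derivation.leibniz, C.der_t, if_pos rfl,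
            der_prod C (Finset.notMem_erase i _)]
          simp
        rw [h2, mul_smul]
        exact Submodule.smul_mem _ _ (gen_mem_pieceB hJ e)
      · rw [der_prod C hi, mul_zero, mul_zero, zero_smul]
        exact zero_mem _

omit [Module A L] [IsScalarTower A B L] in
include hcomm in
/-- a component moves the piece to the next one -/
lemma comp_mem_pieceB_insert (C : Coord lam n t ω nabla) {j : Fin n} {I : Finset (Fin n)}
    (hj : j ∉ I) {x : E} (hx : x ∈ pieceB nabla ω t I) :
    LogConn.comp nabla ω j x ∈ pieceB nabla ω t (insert j I) := by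
  have ht : ∀ y ∈ pieceB nabla ω t I, t j • y ∈ pieceB nabla ω t (insert j I) := by
    intro y hy
    have h := prod_smul_mem_pieceB (Finset.subset_insert j I) hy
    rwa [Finset.insert_sdiff_of_notMem _ hj, Finset.sdiff_self, insert_empty_eq,
      Finset.prod_singleton] at h
  induction hx using Submodule.span_induction with
  | zero => simp
  | add x y _ _ hx hy => rw [map_add]; exact add_mem hx hy
  | smul c x hx' hx =>
      rw [C.comp_smul]
      refine add_mem (Submodule.smul_mem _ c hx) ?_
      rw [show lam * (t j * C.der j c) = (lam * C.der j c) * t j by ring, mul_smul]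
      exact Submodule.smul_mem _ _ (ht x hx')
  | mem r hr =>
      obtain ⟨J, hJ, e, rfl⟩ := hr
      have hjJ : j ∉ J := fun h => hj (hJ h)
      rw [gen, C.comp_smul, ← compProd_insert hcomm _ hjJ,
        der_prod C (fun h => hj (Finset.mem_sdiff.mp h).1), mul_zero, mul_zero, zero_smul, add_zero]
      have h1 : I \ J = (insert j I) \ (insert j J) := by
        ext a
        simp only [Finset.mem_sdiff, Finset.mem_insert]
        constructor
        · rintro ⟨h1, h2⟩
          exact ⟨Or.inr h1, fun h => h.elim (fun h => hj (h ▸ h1)) h2⟩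
        · rintro ⟨h1, h2⟩
          exact ⟨h1.resolve_left (fun h => h2 (Or.inl h)), fun h => h2 (Or.inr h)⟩
      rw [h1]
      exact gen_mem_pieceB (Finset.insert_subset_insert _ hJ) e

omit [Module A L] [IsScalarTower A B L] in
include hcomm in
/-- the extension of `∇` maps layers to layers -/
lemma cons_mem_layer (C : Coord lam n t ω nabla) {p : ℕ} (K : Set.powersetCard (Fin n) p)
    (j : Fin n) {y : E} (hy : y ∈ pieceB nabla ω t (K : Finset (Fin n))) :
    LogConn.comp nabla ω j y ⊗ₜ[B] exteriorPower.ιMulti B (p + 1)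
      (Fin.cons (ω j) (fun k => ω (Set.powersetCard.ofFinEmbEquiv.symm K k))) ∈
      LogConn.layer nabla ω t (p + 1) := by
  classical
  rw [mem_layer_iff C]
  intro K'
  rw [coordE_tmul]
  set f' : Fin (p + 1) → Fin n := fun l => Set.powersetCard.ofFinEmbEquiv.symm K' l with hf'
  by_cases hsub : (K' : Finset (Fin n)) ⊆ insert j (K : Finset (Fin n))
  · have hK : (K : Finset (Fin n)).card = p := K.2
    have hK' : (K' : Finset (Fin n)).card = p + 1 := K'.2
    have hjK : j ∉ (K : Finset (Fin n)) := by
      intro h
      rw [Finset.insert_eq_of_mem h] at hsub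
      have := Finset.card_le_card hsub
      omega
    have heq : (K' : Finset (Fin n)) = insert j (K : Finset (Fin n)) :=
      Finset.eq_of_subset_of_card_le hsub (by rw [Finset.card_insert_of_notMem hjK, hK, hK'])
    rw [heq]
    exact Submodule.smul_mem _ _ (comp_mem_pieceB_insert hcomm C hjK hy)
  · obtain ⟨i, hi, hni⟩ := Finset.not_subset.mp hsub
    rw [← emb_image] at hi
    obtain ⟨l, -, rfl⟩ := Finset.mem_image.mp hi
    rw [Matrix.det_eq_zero_of_column_eq_zero l, zero_smul]
    · exact zero_mem _
    · intro k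
      rw [Matrix.of_apply]
      refine Fin.cases ?_ (fun k => ?_) k
      · rw [Fin.cons_zero, Module.Basis.coord_apply, Module.Basis.repr_self,
          Finsupp.single_eq_of_ne]
        exact fun h => hni (h ▸ Finset.mem_insert_self _ _)
      · rw [Fin.cons_succ, Module.Basis.coord_apply, Module.Basis.repr_self,
          Finsupp.single_eq_of_ne]
        intro h
        refine hni (Finset.mem_insert_of_mem ?_)
        rw [h, ← emb_image p K]
        exact Finset.mem_image_of_mem _ (Finset.mem_univ _)

omit hcomm in
/-- the log differential kills the standard basis forms -/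
lemma d_ιMulti_basis {ι : KaehlerDifferential A B →ₗ[B] L}
    {d : ∀ p : ℕ, ↥(⋀[B]^p L) →ₗ[A] ↥(⋀[B]^(p + 1) L)}
    (hd : LogDiff.IsLogRule (KaehlerDifferential.D A B) ι (⇑ω) d) (p : ℕ) (f : Fin p → Fin n) :
    d p (exteriorPower.ιMulti B p (fun k => ω (f k))) = 0 := by
  have h := hd p 1 (fun k => ω (f k)) (fun k => Or.inr ⟨f k, rfl⟩)
  rw [one_smul, Derivation.map_one_eq_zero, map_zero] at h
  rw [h]
  exact (exteriorPower.ιMulti B (p + 1)).map_coord_zero 0 (by simp)

/-- `∇^p` maps the layer into the next layer -/
lemma nablas_mem_layer (C : Coord lam n t ω nabla) {ι : KaehlerDifferential A B →ₗ[B] L}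
    {d : ∀ p : ℕ, ↥(⋀[B]^p L) →ₗ[A] ↥(⋀[B]^(p + 1) L)}
    (hd : LogDiff.IsLogRule (KaehlerDifferential.D A B) ι (⇑ω) d)
    {nablas : ∀ p : ℕ, E ⊗[B] ↥(⋀[B]^p L) →ₗ[A] E ⊗[B] ↥(⋀[B]^(p + 1) L)}
    (hint : Conn.IsIntegrable nabla (fun p => lam • d p) nablas)
    (p : ℕ) {x : E ⊗[B] ↥(⋀[B]^p L)} (hx : x ∈ LogConn.layer nabla ω t p) :
    nablas p x ∈ LogConn.layer nabla ω t (p + 1) := by
  classical
  have : Fintype (Set.powersetCard (Fin n) p) := Fintype.ofFinite _
  have hcomm := comp_comm d nablas hint (fun i => d_ιMulti_basis hd 1 (fun _ => i))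
  rw [← sum_coordE ω p x, map_sum]
  refine sum_mem fun K _ => ?_
  rw [hint.1, LinearMap.smul_apply, basis_eq_ιMulti, d_ιMulti_basis hd, smul_zero,
    TensorProduct.tmul_zero, add_zero, twedge_toOne nabla ω]
  exact sum_mem fun j _ => cons_mem_layer hcomm C K j ((mem_layer_iff C).mp hx K)

variable (bΩ : Module.Basis (Fin n) B (KaehlerDifferential A B))
    (hbΩ : ∀ i, bΩ i = KaehlerDifferential.D A B (t i))
    (ι : KaehlerDifferential A B →ₗ[B] L)
    (hι : ∀ i, ι (KaehlerDifferential.D A B (t i)) = t i • ω i)
    (hc : Conn.IsLamConn (ι.compDer (KaehlerDifferential.D A B)) lam nabla)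

include bΩ hbΩ hι hc hcomm in
/-- one inclusion for a change of coordinates `t' = w t`, `ω' = ω + ι η` -/
lemma layer_le_layer {t' : Fin n → B} (ω' : Module.Basis (Fin n) B L) (w : Fin n → B)
    (ht' : ∀ i, t' i = w i * t i) (η : Fin n → KaehlerDifferential A B)
    (hω' : ∀ i, ω' i = ω i + ι (η i))
    (bΩ' : Module.Basis (Fin n) B (KaehlerDifferential A B))
    (hbΩ' : ∀ i, bΩ' i = KaehlerDifferential.D A B (t' i))
    (hι' : ∀ i, ι (KaehlerDifferential.D A B (t' i)) = t' i • ω' i) (p : ℕ) :
    LogConn.layer nabla ω' t' p ≤ LogConn.layer nabla ω t p := by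
  classical
  let C := coordOfBasis bΩ hbΩ ι hι hc
  let C' := coordOfBasis bΩ' hbΩ' ι hι' hc
  -- the new components
  have hcomp : ∀ (j : Fin n) (e : E), LogConn.comp nabla ω' j e =
      LogConn.comp nabla ω j e -
        t j • ∑ i, (w j * bΩ'.coord j (η i)) • LogConn.comp nabla ω i e := by
    intro j e
    have h1 : LogConn.comp nabla ω' j e = ∑ i, ω'.coord j (ω i) • LogConn.comp nabla ω i e := by
      conv_lhs => rw [LogConn.comp, Conn.along_apply, nabla_eq_sum nabla ω e]
      simp only [map_sum, TensorProduct.map_tmul, LinearMap.id_apply, TensorProduct.rid_tmul]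
    have h2 : ∀ i, ω'.coord j (ω i) • LogConn.comp nabla ω i e =
        (if j = i then LogConn.comp nabla ω i e else 0) -
          t j • ((w j * bΩ'.coord j (η i)) • LogConn.comp nabla ω i e) := by
      intro i
      rw [show ω i = ω' i - ι (η i) by rw [hω' i]; abel, map_sub,
        coord_ι bΩ' hbΩ' ι hι', sub_smul, smul_smul, ht' j]
      congr 1
      · rw [Module.Basis.coord_apply, Module.Basis.repr_self, Finsupp.single_apply]
        by_cases h : j = i
        · simp [h]
        · simp [h, Ne.symm h]
      · congr 1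
        ring
    rw [h1, Finset.sum_congr rfl fun i _ => h2 i, Finset.sum_sub_distrib, Finset.sum_ite_eq,
      if_pos (Finset.mem_univ j), ← Finset.smul_sum]
  have hmem : ∀ (J : Finset (Fin n)) (e : E),
      LogConn.compProd nabla ω' J e ∈ pieceB nabla ω t J := by
    intro J e
    induction J using Finset.induction_on_min with
    | empty =>
        have := compProd_mem_pieceB (nabla := nabla) (ω := ω) (t := t) ∅ e
        rwa [compProd_empty] at this ⊢
    | insert j J hjJ ih =>
        have hj : j ∉ J := fun hm => lt_irrefl _ (hjJ j hm)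
        rw [compProd_insert_min hjJ, hcomp]
        refine sub_mem (comp_mem_pieceB_insert hcomm C hj ih) ?_
        have hS : (∑ i, (w j * bΩ'.coord j (η i)) •
            LogConn.comp nabla ω i (LogConn.compProd nabla ω' J e)) ∈ pieceB nabla ω t J :=
          sum_mem fun i _ => Submodule.smul_mem _ _ (comp_mem_pieceB hcomm C i ih)
        have h := prod_smul_mem_pieceB (Finset.subset_insert j J) hS
        rwa [Finset.insert_sdiff_of_notMem _ hj, Finset.sdiff_self, insert_empty_eq,
          Finset.prod_singleton] at h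
  intro x hx
  have hx' := layer_le_span_gens C' ι (fun i => ⟨_, hι' i⟩) p hx
  suffices h : ∀ c : B, c • x ∈ LogConn.layer nabla ω t p by simpa using h 1
  clear hx
  induction hx' using Submodule.span_induction with
  | zero => intro c; simp
  | add x y _ _ hx hy => intro c; rw [smul_add]; exact add_mem (hx c) (hy c)
  | smul a x _ hx => intro c; rw [smul_smul]; exact hx (c * a)
  | mem r hr =>
      intro c
      obtain ⟨I, hI, e, v, h1, h2, rfl⟩ := hr
      refine layer_smul_mem C c (tmul_ιMulti_mem_layer C I _ v ?_
        (Or.inl fun F hF => pieceB_antitone hcomm hF (hmem I e)))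
      intro k i hk
      by_cases h : k.val < I.card
      · rw [h1 k h, hω', map_add, coord_ι bΩ hbΩ ι hι, Module.Basis.coord_apply,
          Module.Basis.repr_self, Finsupp.single_eq_of_ne (hk h), zero_add]
        exact dvd_mul_right _ _
      · obtain ⟨ξ, hξ⟩ := h2 k (not_lt.mp h)
        rw [← hξ, coord_ι bΩ hbΩ ι hι]
        exact dvd_mul_right _ _

end Groth.Agent.Synt29.LogLam
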