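import Groth.Agent.Synt29.LMEuler
import Groth.Agent.QCoh.HHExact
import Groth.Agent.Lib.Euler
import Groth.Agent.RefX.Reflexive

/-!
Cohomology of Lazarsfeld–Mukai bundles and of their endomorphisms.
-/

set_option autoImplicit false
set_option linter.style.haveILetI false
set_option linter.unusedSectionVars false
set_option backward.isDefEq.respectTransparency false
set_option backward.isDefEq.respectTransparency.types false
set_option maxHeartbeats 1000000

universe u

open CategoryTheory CategoryTheory.Limits AlgebraicGeometry TopologicalSpace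
open Groth.Agent Groth.Agent.H23.PicMul
open scoped Groth.Agent.H23.PicMul

noncomputable section

namespace Groth.Agent.Synt29.LMSimple

attribute [local instance] H23.PicMul.clMonoid

variable {k : Type u} [Field k] [IsAlgClosed k] [CharZero k] {X : Scheme.{u}}
  [X.Over (Spec (CommRingCat.of k))] [IsProper (X ↘ Spec (CommRingCat.of k))] [IsIntegral X]
  [Smooth (X ↘ Spec (CommRingCat.of k))] (hdim : topologicalKrullDim X = 2)
  {H : X.Modules} (hH : CohB1.IsAmple H)
  (hK : Canon.IsTopDiff (X ↘ Spec (CommRingCat.of k)) 2 (Coh.structureModule X))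
  (hq : Module.finrank k (Coh.HH X (Coh.structureModule X) 1) = 0)

include k in
theorem subsingleton_of_finrank_zero {M : X.Modules} (hM : Coh.IsCoh M) {n : ℕ}
    (h : Module.finrank k (Coh.HH X M n) = 0) : Subsingleton (Coh.HH X M n) := by
  haveI : IsNoetherian X := CurveCohLib.isNoetherian_of_proper (k := k)
  haveI := CurveCohLib.finite_HH (k := k) hM n
  exact Module.finrank_zero_iff.1 h

omit [IsAlgClosed k] [CharZero k] in
include k in
theorem subsingleton_free {G : X.Modules ⥤ X.Modules} [G.Additive] (hG : ∀ {S : ShortComplex X.Modules},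
      S.ShortExact → (S.map G).ShortExact) {n : ℕ} (h : Subsingleton (Coh.HH X (G.obj (Coh.structureModule X)) n))
    (m : ℕ) : Subsingleton (Coh.HH X (G.obj (FlatMod.freeMod X m)) n) := by
  induction m with
  | zero =>
    have hz : IsZero (G.obj (FlatMod.freeMod X 0)) := Functor.map_isZero _ KFlatLib.isZero_freeMod_zero
    haveI : IsNoetherian X := CurveCohLib.isNoetherian_of_proper (k := k)
    exact Euler.subsingleton_HH_of_isZero hz n
  | succ m ih => exact QCoh.subsingleton_HH_X₂ (hG (GenusOneSS.shortExact_last (X := X) m)) n h ih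

variable {C : Scheme.{u}} [C.Over (Spec (CommRingCat.of k))] [IsIntegral C]
  (hC : topologicalKrullDim C = 1) (i : C ⟶ X) [IsClosedImmersion i]
  (hi : i ≫ (X ↘ Spec (CommRingCat.of k)) = C ↘ Spec (CommRingCat.of k))
  {A : C.Modules} (hA : PicF.IsInvertible A) {e : ℕ} (lam : FlatMod.freeMod X e ⟶ (Coh.push i).obj A) [Epi lam]
  (hlam : Function.Bijective (Sheaf.H.map ((SheafOfModules.toSheaf _).map lam) 0))

include hdim hC hA hq hlam in
/-- No sections and no first cohomology. -/
theorem kernel_acyclic : Subsingleton (Coh.HH X (kernel lam) 0) ∧ Subsingleton (Coh.HH X (kernel lam) 1) := by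
  haveI : IsNoetherian X := CurveCohLib.isNoetherian_of_proper (k := k)
  obtain ⟨hFc, hEc, -, -, -⟩ := LMEuler.kernel_facts (k := k) hdim hC i hA lam
  let S : ShortComplex X.Modules := ShortComplex.mk (kernel.ι lam) lam (kernel.condition lam)
  have hS : S.ShortExact := { exact := ShortComplex.exact_kernel lam }
  have hinj : Function.Injective (PnCoh.Finite.mapLin k S.g 0) := hlam.1
  have hsurj : Function.Surjective (PnCoh.Finite.mapLin k S.g 0) := hlam.2
  constructor
  · refine subsingleton_of_forall_eq 0 fun x => ?_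
    have h1 : PnCoh.Finite.mapLin k S.f 0 x ∈ LinearMap.ker (PnCoh.Finite.mapLin k S.g 0) := by
      rw [CurveCohLib.ker_mapLin_g k hS 0]
      exact ⟨x, rfl⟩
    have h2 : PnCoh.Finite.mapLin k S.f 0 x = 0 := hinj ((LinearMap.mem_ker.1 h1).trans (map_zero _).symm)
    exact CurveCohLib.mapLin_f_zero_injective k hS (h2.trans (map_zero _).symm)
  · haveI : Subsingleton (Coh.HH X S.X₂ 1) :=
      subsingleton_free (k := k) (G := 𝟭 X.Modules) (fun {T} hT => by rwa [ShortComplex.map_id T])
        (subsingleton_of_finrank_zero (k := k) QCoh.isCoh_structureModule' hq) e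
    refine subsingleton_of_forall_eq 0 fun x => ?_
    have h1 : x ∈ LinearMap.ker (PnCoh.Finite.mapLin k S.f (0 + 1)) :=
      LinearMap.mem_ker.2 (Subsingleton.elim (α := Coh.HH X S.X₂ 1) _ _)
    rw [CurveCohLib.ker_mapLin_f_succ k hS 0] at h1
    obtain ⟨y, rfl⟩ := h1
    have h2 : y ∈ LinearMap.ker (PnCoh.Finite.deltaLin k hS 0) := by
      rw [CurveCohLib.ker_deltaLin k hS 0]
      exact hsurj y
    exact LinearMap.mem_ker.1 h2

include hdim hH hK hC hA in
/-- Endomorphisms are self-dual. -/
theorem finrank_h2_end :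
    Module.finrank k (Coh.HH X ((SheafHomX.hom (kernel lam)).obj (kernel lam)) 2) =
      Module.finrank k (Coh.HH X ((SheafHomX.hom (kernel lam)).obj (kernel lam)) 0) := by
  haveI : IsNoetherian X := CurveCohLib.isNoetherian_of_proper (k := k)
  obtain ⟨hFc, -, hlf, -, -⟩ := LMEuler.kernel_facts (k := k) hdim hC i hA lam
  let F := kernel lam
  let D := RefHull.dual F
  obtain ⟨dF⟩ := LMHom.nonempty_hom_iso_homSh (QCoh.isFP_of_isFinLocFree hlf) (Coh.structureModule X)
  have hD : FlatMod.IsFinLocFree D :=
    H23.PullPush.isFinLocFree_of_iso dF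
      (SheafHomX.isFinLocFree_hom hlf (H23.PullPush.isFinLocFree_of_isInvertible InvX.isInvertible_structureModule))
  let W := CohB1.tensorMod F D
  have hW : FlatMod.IsFinLocFree W := PnEuler.isFinLocFree_tensorMod hlf hD
  obtain ⟨eT⟩ := LMHom.nonempty_tensor_dual hlf F
  obtain ⟨c⟩ := cl_eq_iff.1 (show PicF.cl W = PicF.cl ((SheafHomX.hom F).obj F) by
    rw [cl_eq_iff.2 ⟨eT⟩, cl_tensor, cl_tensor, mul_comm])
  obtain ⟨dD⟩ := LMHom.nonempty_hom_iso_homSh (QCoh.isFP_of_isFinLocFree hD) (Coh.structureModule X)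
  haveI : IsIso (RefHull.bidualMap F) := LMStab.reflexive_of_lf hFc hlf
  let c' : (SheafHomX.hom W).obj (Coh.structureModule X) ≅ (SheafHomX.hom F).obj F :=
    (H9Misc.RelExtTensor.homTensorIso F D).app (Coh.structureModule X) ≪≫
      (SheafHomX.hom F).mapIso (dD ≪≫ (asIso (RefHull.bidualMap F)).symm)
  have h := LMHom.finrank_hh_hom_unit hdim hH hK hW (p := 0) (by norm_num)
  rw [(CurveCohLib.hhEquiv (k := k) c' 0).finrank_eq] at h
  exact ((CurveCohLib.hhEquiv (k := k) c 2).finrank_eq.symm.trans h.symm)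

include hdim hH hK hq hC hA hlam in
/-- The connecting map onto the top cohomology of endomorphisms. -/
theorem finrank_h1_dual_tensor :
    Module.finrank k (Coh.HH X (CohB1.tensorMod (RefHull.dual (kernel lam)) ((Coh.push i).obj A)) 1) =
      Module.finrank k (Coh.HH X ((SheafHomX.hom (kernel lam)).obj (kernel lam)) 0) := by
  haveI : IsNoetherian X := CurveCohLib.isNoetherian_of_proper (k := k)
  obtain ⟨hFc, hEc, hlf, -, hPc⟩ := LMEuler.kernel_facts (k := k) hdim hC i hA lam
  obtain ⟨h0, h1⟩ := kernel_acyclic hdim hq hC i hA lam hlam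
  let F := kernel lam
  let G := SheafHomX.hom F
  haveI : G.Additive := SheafHomX.additive_hom F
  have hS : (ShortComplex.mk (kernel.ι lam) lam (kernel.condition lam)).ShortExact :=
    { exact := ShortComplex.exact_kernel lam }
  let S := (ShortComplex.mk (kernel.ι lam) lam (kernel.condition lam)).map G
  have hGS : S.ShortExact := PnDual.shortExact_hom hlf hS
  have hz : ∀ p : ℕ, p ≤ 2 → Subsingleton (Coh.HH X F (2 - p)) →
      Subsingleton (Coh.HH X S.X₂ p) := fun p hp hF => by
    refine subsingleton_free (k := k) (G := G) (fun {T} hT => PnDual.shortExact_hom hlf hT) ?_ e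
    refine subsingleton_of_finrank_zero (k := k) (LMHom.isCoh_hom hlf QCoh.isCoh_structureModule') ?_
    rw [LMHom.finrank_hh_hom_unit hdim hH hK hlf hp]
    haveI := hF
    exact Module.finrank_zero_of_subsingleton
  haveI : Subsingleton (Coh.HH X S.X₂ 1) := hz 1 (by norm_num) h1
  haveI : Subsingleton (Coh.HH X S.X₂ (1 + 1)) := hz 2 le_rfl h0
  have hinj : Function.Injective (PnCoh.Finite.deltaLin k hGS 1) := by
    rw [← LinearMap.ker_eq_bot, CurveCohLib.ker_deltaLin k hGS 1, LinearMap.range_eq_bot]
    exact LinearMap.ext fun z => by rw [Subsingleton.elim z 0, map_zero, map_zero]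
  have hsurj : Function.Surjective (PnCoh.Finite.deltaLin k hGS 1) := by
    rw [← LinearMap.range_eq_top, ← CurveCohLib.ker_mapLin_f_succ k hGS 1]
    exact LinearMap.ker_eq_top.2 (LinearMap.ext fun z => Subsingleton.elim _ _)
  have h2 := (LinearEquiv.ofBijective _ ⟨hinj, hsurj⟩).finrank_eq
  obtain ⟨eT⟩ := LMHom.nonempty_tensor_dual hlf ((Coh.push i).obj A)
  rw [← (CurveCohLib.hhEquiv (k := k) eT 1).finrank_eq]
  exact h2.trans (finrank_h2_end hdim hH hK hC i hA lam)

end Groth.Agent.Synt29.LMSimple

end
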