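import Groth.Agent.RegConormal.Free
import Groth.Agent.Synt29.RibbonClosed
import Groth.Agent.InvX.Frame
import Groth.Agent.H23.RatSec
import Groth.Prelude.Def_MultCurve
import Groth.Prelude.Def_Pic

/-! Square-zero ideals with invertible conormal sheaf. -/

set_option autoImplicit false
set_option backward.isDefEq.respectTransparency.types false

universe u

open CategoryTheory CategoryTheory.Limits AlgebraicGeometry TopologicalSpace Opposite

namespace Groth.Agent.Synt29.PrincipalTwo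

open OmegaStalk ConormalStalk Groth.Agent.RegConormal Groth.Agent.KFlatLib Groth.Agent.PPSheaf

variable {D C : Scheme.{u}} (i : D ⟶ C) [IsClosedImmersion i] (h2 : i.ker ^ 2 = ⊥)

include h2 in
theorem ker_sq_eq_bot (d : D) : RingHom.ker (i.stalkMap d).hom ^ 2 = ⊥ := by
  rw [sq, eq_bot_iff, Ideal.mul_le]
  exact fun a ha b hb => Ideal.mem_bot.2
    (RibbonClosed.mul_eq_zero_of_stalkMap i h2 d a b (RingHom.mem_ker.1 ha) (RingHom.mem_ker.1 hb))

include h2 in
theorem isInvertible_of_principal (h : MultCurve.IsPrincipalOfOrder i.ker 2) :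
    PicF.IsInvertible (Omega.conormal i) := by
  intro y
  obtain ⟨U, hU, z, hz, ha⟩ := h (i y)
  have hz' : RingHom.ker (i.app U.1).hom = Ideal.ofList [z] := by
    rw [← Scheme.Hom.ker_apply, hz, Ideal.ofList_singleton]
  have hcl : IsClosedImmersion (i ∣_ U.1) := IsZariskiLocalAtTarget.restrict ‹IsClosedImmersion i› U.1
  obtain ⟨g, hg⟩ := exists_freeIso_conormal i U hcl [z] hz' fun y hy a ha' l => by
    rw [ker_sq_eq_bot i h2] at ha'
    have h1 : a 0 * C.presheaf.germ U.1 (i y) hy z = 0 := by simpa using ha'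
    letI : Algebra Γ(C, U.1) (C.presheaf.stalk (i y)) := (C.presheaf.germ U.1 (i y) hy).hom.toAlgebra
    haveI : IsLocalization.AtPrime (C.presheaf.stalk (i y)) (U.2.primeIdealOf ⟨i y, hy⟩).asIdeal :=
      U.2.isLocalization_stalk ⟨i y, hy⟩
    obtain ⟨r, s, hrs⟩ := IsLocalization.exists_mk'_eq (U.2.primeIdealOf ⟨i y, hy⟩).asIdeal.primeCompl (a 0)
    rw [← hrs, show C.presheaf.germ U.1 (i y) hy z = algebraMap _ (C.presheaf.stalk (i y)) z from rfl,
      mul_comm, IsLocalization.mul_mk'_eq_mk'_of_mul, IsLocalization.mk'_eq_zero_iff] at h1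
    obtain ⟨m, hm⟩ := h1
    have h3 : (m : Γ(C, U.1)) * r ∈ i.ker.ideal U := ha _ (by rw [← hm]; ring)
    rw [show l = (0 : Fin 1) from Subsingleton.elim (α := Fin 1) l 0]
    show a 0 ∈ RingHom.ker (i.stalkMap y).hom
    rw [← hrs, ker_stalkMap_eq_map i y U hy hcl, ← Scheme.Hom.ker_apply]
    refine (IsLocalization.mk'_mem_map_algebraMap_iff (U.2.primeIdealOf ⟨i y, hy⟩).asIdeal.primeCompl _ _ r s).2
      ⟨m, m.2, h3⟩
  exact ⟨i ⁻¹ᵁ U.1, hU, ⟨(asIso g).symm ≪≫ QCoh.freeModRestrict (i ⁻¹ᵁ U.1).ι 1 ≪≫ coproductUniqueIso _⟩⟩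

include h2 in
theorem principal_of_isInvertible (hL : PicF.IsInvertible (Omega.conormal i)) :
    MultCurve.IsPrincipalOfOrder i.ker 2 := by
  intro c
  obtain ⟨y, rfl⟩ := RibbonClosed.surjective_of_sq i h2 c
  obtain ⟨W, hy, e, he⟩ := InvX.exists_frame hL y
  obtain ⟨V, hyV, k, hk⟩ := exists_conormalSect i y (gm (Omega.conormal i) hy e)
  have hk' := hk
  obtain ⟨T, hyT, i₁, i₂, hT⟩ := TopCat.Presheaf.germ_eq (Omega.conormal i).presheaf y hy hyV _ _ hk'.symm
  obtain ⟨T', hT', hTT'⟩ := i.isEmbedding.isInducing.isOpen_iff.mp T.2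
  have hyT' : i y ∈ T' := (Set.ext_iff.mp hTT' y).mpr hyT
  obtain ⟨U, hU, hxU, hle⟩ := Opens.isBasis_iff_nbhd.mp C.isBasis_affineOpens
    (show i y ∈ V ⊓ ⟨T', hT'⟩ from ⟨hyV, hyT'⟩)
  have hUV : U ≤ V := fun w hw => (hle hw).1
  have hUT : i ⁻¹ᵁ U ≤ T := fun w hw => (Set.ext_iff.mp hTT' w).mp (hle hw).2
  let z : Γ(C, U) := C.presheaf.map (homOfLE hUV).op (OmegaSh.idealSect i.ker V k)
  have key : ∀ (w : D) (hw : i w ∈ U) (a : C.presheaf.stalk (i w)),
      (i.stalkMap w a = 0 ↔ ∃ b, a = b * C.presheaf.germ U (i w) hw z) ∧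
        (a * C.presheaf.germ U (i w) hw z = 0 → i.stalkMap w a = 0) := by
    intro w hw
    have hwT : w ∈ T := hUT hw
    have hwW : w ∈ W := i₁.le hwT
    have hwV : i w ∈ V := hUV hw
    have hgen := H23.RatSec.isGen_germ he w hwW
    have he1 : (Omega.conormal i).presheaf.germ W w hwW e = cls i w (gm (I i) hwV k) := by
      rw [← cls_gm i w hwV k]
      exact ((Omega.conormal i).presheaf.germ_res_apply i₁ w hwT e).symm.trans
        ((congrArg _ hT).trans ((Omega.conormal i).presheaf.germ_res_apply i₂ w hwT _))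
    rw [he1] at hgen
    have hz : C.presheaf.germ U (i w) hw z = C.presheaf.germ V (i w) hwV (OmegaSh.idealSect i.ker V k) :=
      C.presheaf.germ_res_apply _ _ _ _
    have hrep : Rep i (i w) (gm (I i) hwV k) (C.presheaf.germ U (i w) hw z) := ⟨V, hwV, k, rfl, hz.symm⟩
    have hsq := ker_sq_eq_bot i h2 w
    intro a
    refine ⟨⟨fun ha => ?_, ?_⟩, fun ha => ?_⟩
    · obtain ⟨m, hm⟩ := exists_rep i ha
      have h1 : cls i w m ∈ Submodule.span (D.presheaf.stalk w) {cls i w (gm (I i) hwV k)} := by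
        exact hgen.1.ge Submodule.mem_top
      obtain ⟨r, hr⟩ := Submodule.mem_span_singleton.1 h1
      obtain ⟨b, rfl⟩ := i.stalkMap_surjective w r
      rw [← cls_smul] at hr
      refine ⟨b, sub_eq_zero.1 (Ideal.mem_bot.1 (hsq.le ?_))⟩
      have h3 : Rep i (i w) (m + (-b) • gm (I i) hwV k) (a - b * C.presheaf.germ U (i w) hw z) := by
        rw [sub_eq_add_neg, ← neg_mul]
        exact rep_add i hm (rep_smul i hrep _)
      refine (cls_eq_zero_iff i w h3).1 ?_
      rw [cls_add, cls_smul, map_neg, neg_smul, ← cls_smul, hr, add_neg_cancel]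
    · rintro ⟨b, rfl⟩
      rw [map_mul, rep_mem i hrep, mul_zero]
    · refine hgen.2 _ ?_
      show i.stalkMap w a • cls i w (gm (I i) hwV k) = 0
      rw [← cls_smul]
      exact (cls_eq_zero_iff i w (rep_smul i hrep a)).2 (by rw [ha]; exact zero_mem _)
  refine ⟨⟨U, hU⟩, hxU, z, le_antisymm (fun (a : Γ(C, U)) ha => ?_) ?_, fun (a : Γ(C, U)) ha => ?_⟩
  · by_contra hna
    have hJ : Submodule.comap (LinearMap.mulRight Γ(C, U) a) (Ideal.span {z}) ≠ ⊤ := fun h => hna (by
      have h1 : (1 : Γ(C, U)) ∈ Submodule.comap (LinearMap.mulRight Γ(C, U) a) (Ideal.span {z}) := h ▸ Submodule.mem_top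
      simpa using h1)
    obtain ⟨P, hP, hle'⟩ := Ideal.exists_le_maximal _ hJ
    let x := IsAffineOpen.fromSpec hU ⟨P, hP.isPrime⟩
    obtain ⟨w, hw⟩ := RibbonClosed.surjective_of_sq i h2 x
    have hxU' : x ∈ U := by
      rw [← SetLike.mem_coe, ← IsAffineOpen.range_fromSpec hU]; exact ⟨_, rfl⟩
    have hwU : i w ∈ U := by rw [hw]; exact hxU'
    letI : Algebra Γ(C, U) (C.presheaf.stalk (i w)) := (C.presheaf.germ U (i w) hwU).hom.toAlgebra
    haveI : IsLocalization.AtPrime (C.presheaf.stalk (i w)) P := by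
      have e1 : IsAffineOpen.primeIdealOf hU ⟨i w, hwU⟩ = ⟨P, hP.isPrime⟩ :=
        (IsAffineOpen.fromSpec hU).isOpenEmbedding.injective ((IsAffineOpen.fromSpec_primeIdealOf hU _).trans hw)
      have := IsAffineOpen.isLocalization_stalk hU ⟨i w, hwU⟩
      rw [e1] at this
      exact this
    obtain ⟨b, hb⟩ := ((key w hwU _).1).1 (show i.stalkMap w (C.presheaf.germ U (i w) hwU a) = 0 by
      rw [Scheme.Hom.germ_stalkMap_apply, RingHom.mem_ker.1 ((Scheme.Hom.ker_apply i ⟨U, hU⟩).le ha), map_zero])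
    obtain ⟨r, s, hrs⟩ := IsLocalization.exists_mk'_eq P.primeCompl b
    rw [← hrs, show C.presheaf.germ U (i w) hwU a = algebraMap _ (C.presheaf.stalk (i w)) a from rfl,
      show C.presheaf.germ U (i w) hwU z = algebraMap _ (C.presheaf.stalk (i w)) z from rfl,
      mul_comm, IsLocalization.mul_mk'_eq_mk'_of_mul, IsLocalization.eq_mk'_iff_mul_eq, ← map_mul,
      IsLocalization.eq_iff_exists P.primeCompl] at hb
    obtain ⟨m, hm⟩ := hb
    refine (m * s : P.primeCompl).2 (hle' ?_)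
    show (m : Γ(C, U)) * s * a ∈ Ideal.span {z}
    refine Ideal.mem_span_singleton'.2 ⟨(m : Γ(C, U)) * r, ?_⟩
    linear_combination -hm
  · rw [Ideal.span_le, Set.singleton_subset_iff, SetLike.mem_coe, Scheme.Hom.ker_apply, RingHom.mem_ker]
    refine TopCat.Presheaf.section_ext D.sheaf (i ⁻¹ᵁ U) _ _ fun w hw => ?_
    exact ((Scheme.Hom.germ_stalkMap_apply i U w hw z).symm.trans
      (((key w hw _).1).2 ⟨1, (one_mul _).symm⟩)).trans (map_zero _).symm
  · rw [pow_one] at ha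
    rw [Scheme.Hom.ker_apply, RingHom.mem_ker]
    refine TopCat.Presheaf.section_ext D.sheaf (i ⁻¹ᵁ U) _ _ fun w hw => ?_
    refine ((Scheme.Hom.germ_stalkMap_apply i U w hw a).symm.trans ((key w hw _).2 ?_)).trans (map_zero _).symm
    rw [← map_mul, ha, map_zero]

end Groth.Agent.Synt29.PrincipalTwo
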