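import Groth.Agent.Synt29.BlowPts
import Groth.Agent.Synt29.LineSimple

/-!
# Cokernels of matrices of linear forms on a blow-up of projective space in points
-/

set_option autoImplicit false
set_option linter.style.haveILetI false
set_option linter.unusedSectionVars false
set_option backward.isDefEq.respectTransparency false
set_option backward.isDefEq.respectTransparency.types false
set_option maxHeartbeats 1000000
set_option synthInstance.maxHeartbeats 400000

universe u

open CategoryTheory CategoryTheory.Limits AlgebraicGeometry TopologicalSpace Opposite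

noncomputable section

namespace Groth.Agent.Synt29.BlowPts

open Groth.Agent Groth.Agent.H23.PicMul

variable {k : Type u} [Field k] {n : ℕ} {X : Scheme.{u}}

/-- `π^*O(c)` with its inverse. -/
def line (π : X ⟶ CohB1.ProjSpace n k) (c : ℤ) : LineSimple.Line X where
  L := pO π c
  inv := pO π (-c)
  lf := lf_pO π c
  lfInv := lf_pO π (-c)
  iso := by
    obtain ⟨e⟩ := cl_pO_mul π (-c) c
    obtain ⟨z⟩ := pO_zero π
    exact ⟨e ≪≫ eqToIso (by rw [neg_add_cancel]) ≪≫ z⟩

theorem hh_line (π : X ⟶ CohB1.ProjSpace n k) (c c' : ℤ) (q : ℕ) (h : Subsingleton (Coh.HH X (pO π (-c + c')) q)) :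
    Subsingleton (Coh.HH X (CohB1.tensorMod (line π c).inv (pO π c')) q) :=
  QCoh.subsingleton_HH_of_iso (cl_pO_mul π (-c) c').some.symm q h

variable (Zs : Set ↥(CohB1.ProjSpace n k)) (hfin : Zs.Finite)
  (hpt : ∀ x ∈ Zs, IsClosed ({x} : Set ↥(CohB1.ProjSpace n k))) (hZ : IsClosed Zs) (hn : 1 ≤ n)
  {π : X ⟶ CohB1.ProjSpace n k} (hπ : BlowUp.IsBlowUp π (J Zs hZ))

attribute [local instance] GeomField.globalAlgebra

include hfin hpt hn hπ in
theorem finrank_h0_structure [IsAlgClosed k] :
    letI : X.Over (Spec (CommRingCat.of k)) := ⟨π ≫ CohB1.ProjSpace.toSpec n k⟩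
    Module.finrank k (Coh.HH X (Coh.structureModule X) 0) = 1 := by
  letI : X.Over (Spec (CommRingCat.of k)) := ⟨π ≫ CohB1.ProjSpace.toSpec n k⟩
  have hb : Function.Bijective (algebraMap k Γ(X, ⊤)) :=
    (bijective_appTop Zs hfin hpt hZ hn hπ).comp
      (ConcreteCategory.bijective_of_isIso (Scheme.ΓSpecIso (CommRingCat.of k)).inv)
  rw [GeomField.finrank_HH_zero]
  let e : k ≃ₗ[k] Γ(X, ⊤) := LinearEquiv.ofBijective (Algebra.linearMap k Γ(X, ⊤)) hb
  rw [← e.finrank_eq, Module.finrank_self]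

variable (π) in
theorem toSheaf_smul_id (M : X.Modules) (c : k) :
    letI : X.Over (Spec (CommRingCat.of k)) := ⟨π ≫ CohB1.ProjSpace.toSpec n k⟩
    (SheafOfModules.toSheaf _).map (c • 𝟙 M) =
      Coh.smulAb M (Coh.toGlobal (π ≫ CohB1.ProjSpace.toSpec n k) c) := by
  let : X.Over (Spec (CommRingCat.of k)) := ⟨π ≫ CohB1.ProjSpace.toSpec n k⟩
  rw [KLin.smul_id]
  rfl

end Groth.Agent.Synt29.BlowPts

end
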