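import Groth.Agent.ZetaLib.ProjPoints
import Groth.Agent.H23.PnChart
import Groth.Agent.TwistX.Global
import Groth.Agent.TwistPull17.Basic
import Groth.Agent.AModX.Res
import Groth.Agent.Lib.AmpleEmbed
import Mathlib.RingTheory.Nullstellensatz

/-!
# Forms of degree `c` surject onto the jets of order `c` at a point of projective space
-/

set_option autoImplicit false
set_option linter.style.haveILetI false
set_option linter.unusedSectionVars false
set_option backward.isDefEq.respectTransparency false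
set_option backward.isDefEq.respectTransparency.types false
set_option maxHeartbeats 1000000

universe u

open CategoryTheory AlgebraicGeometry TopologicalSpace Opposite HomogeneousLocalization

noncomputable section

namespace Groth.Agent.Synt29.PnJets

open Groth.Agent Groth.Agent.ZetaLib

variable (n : ℕ) (k : Type u) [Field k]

local notation "𝒜" => CohB1.polyGrading n k
local notation "T" => (MvPolynomial.X : Fin (n + 1) → MvPolynomial (Fin (n + 1)) k)

theorem exists_eval [IsAlgClosed k] (i : Fin (n + 1)) (M : Ideal (Away 𝒜 (T i))) [M.IsMaximal] :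
    ∃ a : Fin (n + 1) → k, ∀ j, coord n k i j - base n k i (a j) ∈ M := by
  let e : MvPolynomial (H23.PnChart.Idx.{u} n i) k →+* Away 𝒜 (T i) := H23.PnChart.fromChart n k i
  haveI : (M.comap e).IsMaximal :=
    Ideal.comap_isMaximal_of_surjective e (H23.PnChart.fromChart_surjective n k i)
  obtain ⟨x, hx⟩ := MvPolynomial.isMaximal_iff_eq_vanishingIdeal_singleton.1 (this : (M.comap e).IsMaximal)
  refine ⟨fun j => if h : j = i then 1 else x (ULift.up ⟨j, h⟩), fun j => ?_⟩
  by_cases h : j = i
  · subst h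
    simp [H23.PnChart.coord_self]
  · simp only [h, dite_false]
    have h1 : MvPolynomial.X (ULift.up ⟨j, h⟩) - MvPolynomial.C (x (ULift.up ⟨j, h⟩)) ∈ M.comap e := by
      rw [hx, MvPolynomial.mem_vanishingIdeal_singleton_iff]
      simp
    simpa [e, H23.PnChart.fromChart] using h1

/-- Modulo the `c+1`-st power of a point, everything comes from a form of degree `c`. -/
theorem exists_form (i : Fin (n + 1)) (M : Ideal (Away 𝒜 (T i))) (a : Fin (n + 1) → k)
    (ha : ∀ j, coord n k i j - base n k i (a j) ∈ M) (c : ℕ) (r : Away 𝒜 (T i)) :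
    ∃ F : MvPolynomial (Fin (n + 1)) k, F.IsHomogeneous c ∧ r - dehom n k i F ∈ M ^ (c + 1) := by
  classical
  let u : Fin (n + 1) → MvPolynomial (Fin (n + 1)) k := fun j =>
    if j = i then T i else T j - MvPolynomial.C (a j) * T i
  let w : Fin (n + 1) → MvPolynomial (Fin (n + 1)) k := fun j =>
    if j = i then T i else T j + MvPolynomial.C (a j) * T i
  have hwu : ∀ j, MvPolynomial.aeval u (w j) = T j := fun j => by
    by_cases h : j = i <;> simp [u, w, h, MvPolynomial.algebraMap_eq]
  obtain ⟨x, rfl⟩ := surjective_dehom n k i r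
  have hx : MvPolynomial.aeval u (MvPolynomial.aeval w x) = x := by
    rw [← AlgHom.comp_apply, show (MvPolynomial.aeval u).comp (MvPolynomial.aeval w) = AlgHom.id k _ from
      MvPolynomial.algHom_ext fun j => by simpa using hwu j]
    rfl
  rw [← hx]
  generalize MvPolynomial.aeval w x = y
  have hu : ∀ j, (u j).IsHomogeneous 1 := fun j => by
    by_cases h : j = i
    · simp [u, h, MvPolynomial.isHomogeneous_X]
    · simp only [u, h, if_false]
      exact (MvPolynomial.isHomogeneous_X k j).sub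
        (by simpa using (MvPolynomial.isHomogeneous_C _ (a j)).mul (MvPolynomial.isHomogeneous_X k i))
  have hdi : dehom n k i (T i) = 1 := by simp [dehom, H23.PnChart.coord_self]
  have huM : ∀ j, j ≠ i → dehom n k i (u j) ∈ M := fun j h => by
    simpa [u, h, dehom, H23.PnChart.coord_self] using ha j
  induction y using MvPolynomial.induction_on' with
  | monomial m α =>
    let s := ∑ j ∈ Finset.univ.erase i, m j
    let P := ∏ j ∈ Finset.univ.erase i, u j ^ m j
    have hmon : dehom n k i (MvPolynomial.aeval u (MvPolynomial.monomial m α)) =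
        base n k i α * dehom n k i P := by
      rw [MvPolynomial.aeval_monomial, Finsupp.prod_fintype _ _ (fun j => pow_zero _),
        ← Finset.mul_prod_erase Finset.univ _ (Finset.mem_univ i), map_mul, map_mul, map_pow]
      simp [u, P, hdi, MvPolynomial.algebraMap_eq, dehom, H23.PnChart.coord_self]
    by_cases hs : s ≤ c
    · refine ⟨MvPolynomial.C α * (T i ^ (c - s) * P), ?_, ?_⟩
      · have hP : P.IsHomogeneous s :=
          MvPolynomial.IsHomogeneous.prod _ _ _ fun j _ => by simpa using (hu j).pow (m j)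
        have := (MvPolynomial.isHomogeneous_C (Fin (n + 1)) α).mul
          (((MvPolynomial.isHomogeneous_X k i).pow (c - s)).mul hP)
        rwa [show 0 + (1 * (c - s) + s) = c by omega] at this
      · rw [hmon, map_mul, map_mul, map_pow, hdi, one_pow, one_mul]
        simp [dehom]
    · refine ⟨0, MvPolynomial.isHomogeneous_zero _ _ c, ?_⟩
      rw [map_zero, sub_zero, hmon]
      refine Ideal.mul_mem_left _ _ (Ideal.pow_le_pow_right (show c + 1 ≤ s by omega) ?_)
      rw [map_prod, ← Finset.prod_pow_eq_pow_sum]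
      exact Ideal.prod_mem_prod fun j hj => by
        rw [map_pow]
        exact Ideal.pow_mem_pow (huM j (Finset.ne_of_mem_erase hj)) _
  | add p q hp hq =>
    obtain ⟨F, hF, hp⟩ := hp
    obtain ⟨G, hG, hq⟩ := hq
    refine ⟨F + G, hF.add hG, ?_⟩
    rw [map_add, map_add, map_add, add_sub_add_comm]
    exact add_mem hp hq

variable {n k}

/-- Forms of degree `c` give all jets of order at most `c` at a closed point. -/
theorem exists_jets [IsAlgClosed k] (p : ↥(CohB1.ProjSpace n k)) (hp : IsClosed ({p} : Set ↥(CohB1.ProjSpace n k)))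
    (c d : ℕ) (hd : d ≤ c + 1) :
    ∃ (V : (CohB1.ProjSpace n k).affineOpens) (_ : p ∈ V.1)
      (e : Γ(Twist.twistProjSpace n k (c : ℤ), V.1)), InvX.IsFrame e ∧
      ∀ r : Γ(CohB1.ProjSpace n k, V.1), ∃ (r' : Γ(CohB1.ProjSpace n k, V.1))
        (τ : Γ(Twist.twistProjSpace n k (c : ℤ), ⊤)),
        AModX.res _ (le_top : V.1 ≤ ⊤) τ = r' • e ∧
          r - r' ∈ (Scheme.IdealSheafData.vanishingIdeal ⟨{p}, hp⟩).ideal V ^ d := by
  obtain ⟨i, hi⟩ := Opens.mem_iSup.1 ((AmpleEmbed.iSup_basicOpen_X n k).ge (trivial : p ∈ (⊤ : Opens _)))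
  have hTi : T i ∈ 𝒜 1 := X_mem_one n k i
  let V : (CohB1.ProjSpace n k).affineOpens :=
    ⟨Proj.basicOpen 𝒜 (T i), Proj.isAffineOpen_basicOpen 𝒜 _ hTi Nat.one_pos⟩
  let Φ : Away 𝒜 (T i) ≃+* Γ(CohB1.ProjSpace n k, V.1) := (Proj.basicOpenIsoAway 𝒜 (T i) hTi Nat.one_pos).commRingCatIsoToRingEquiv
  let M := ((V.2.primeIdealOf ⟨p, hi⟩).asIdeal).comap Φ.toRingHom
  haveI : ((V.2.primeIdealOf ⟨p, hi⟩).asIdeal).IsMaximal := V.2.primeIdealOf_isMaximal_of_isClosed ⟨p, hi⟩ hp
  haveI : M.IsMaximal := Ideal.comap_isMaximal_of_surjective Φ.toRingHom Φ.surjective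
  obtain ⟨a, ha⟩ := exists_eval n k i M
  have hnv : ∀ x : V.1, T i ^ c ∉ x.1.asHomogeneousIdeal := fun x => TwistX.notMem_pow x.2 c
  have hTc : T i ^ c ∈ 𝒜 c := by simpa using SetLike.pow_mem_graded c hTi
  refine ⟨V, hi, AModX.res (Twist.twist 𝒜 (c : ℤ)) le_top (Twist.globalOf 𝒜 ⟨T i ^ c, hTc⟩),
    TwistX.isFrame_res_globalOf hTc hnv, fun r => ?_⟩
  obtain ⟨F, hF, hr⟩ := exists_form n k i M a ha c (Φ.symm r)
  have hF' : F ∈ 𝒜 c := hF
  refine ⟨Φ (dehom n k i F), Twist.globalOf 𝒜 ⟨F, hF'⟩, ?_, ?_⟩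
  · refine Subtype.ext (funext fun x => Subtype.ext ?_)
    refine Eq.trans ?_ (Twist.coe_smul_val _ x.1 _ _).symm
    obtain ⟨N, num, hnum, hN⟩ := HomogeneousLocalization.Away.mk_surjective 𝒜 hTi (dehom n k i F)
    have hval := val_dehom_mul n k i hF
    rw [← hN, HomogeneousLocalization.Away.val_mk] at hval
    show (Localization.mk F _ : Twist.Loc 𝒜 x.1) =
      (((Proj.awayToSection 𝒜 (T i)).hom (dehom n k i F)).1 x).val * Localization.mk (T i ^ c) _
    rw [← hN]
    erw [TwistPull17.awayToSection_val hTi hnum x]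
    rw [← map_pow, ← Localization.mk_one_eq_algebraMap, ← Localization.mk_one_eq_algebraMap,
      Localization.mk_mul, Localization.mk_eq_mk_iff, Localization.r_iff_exists] at hval
    obtain ⟨⟨t, ⟨m, rfl⟩⟩, ht⟩ := hval
    rw [Localization.mk_mul, Localization.mk_eq_mk_iff, Localization.r_iff_exists]
    refine ⟨⟨T i ^ m, TwistX.notMem_pow x.2 m⟩, ?_⟩
    simp only [Submonoid.coe_mul, Submonoid.coe_one, mul_one] at ht ⊢
    exact ht.symm
  · have h1 : r - Φ (dehom n k i F) ∈ (V.2.primeIdealOf ⟨p, hi⟩).asIdeal ^ (c + 1) := by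
      have := Ideal.mem_map_of_mem Φ.toRingHom hr
      rw [Ideal.map_pow, map_sub] at this
      refine Ideal.pow_right_mono ?_ _ (by simpa using this)
      exact Ideal.map_comap_le
    refine Ideal.pow_right_mono ?_ d (Ideal.pow_le_pow_right hd h1)
    intro m hm
    rw [Scheme.IdealSheafData.vanishingIdeal_ideal]
    rw [PrimeSpectrum.mem_vanishingIdeal]
    intro q hq
    have hqp : V.2.fromSpec q = p := hq
    have : q = V.2.primeIdealOf ⟨p, hi⟩ :=
      V.2.fromSpec.isOpenEmbedding.injective (hqp.trans (V.2.fromSpec_primeIdealOf ⟨p, hi⟩).symm)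
    rw [this]
    exact hm

end Groth.Agent.Synt29.PnJets

end
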