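import Groth.Agent.Synt29.BlowPtsMulti
import Groth.Agent.Synt29.PnJets
import Groth.Agent.QCoh.Support
import Groth.Agent.H23.EndInv

/-!
# `H^1` of `O(c e₀ - d e₁)` on the blow-up of projective space in one point
-/

set_option autoImplicit false
set_option linter.style.haveILetI false
set_option linter.unusedSectionVars false
set_option backward.isDefEq.respectTransparency false
set_option backward.isDefEq.respectTransparency.types false
set_option maxHeartbeats 1000000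

universe u

open CategoryTheory CategoryTheory.Limits AlgebraicGeometry TopologicalSpace Opposite

noncomputable section

namespace Groth.Agent.Synt29.BlowPts

open Groth.Agent Groth.Agent.H23.PicMul Groth.Agent.H28

variable {k : Type u} [Field k] {n : ℕ} {X : Scheme.{u}} (π : X ⟶ CohB1.ProjSpace n k)

/-- Functions in the `d`-th power of an ideal die on the `d`-th power of its inverse image. -/
theorem app_eq_zero (Jd : (CohB1.ProjSpace n k).IdealSheafData) (d : ℕ) (V : (CohB1.ProjSpace n k).affineOpens)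
    {m : Γ(CohB1.ProjSpace n k, V.1)} (hm : m ∈ Jd.ideal V ^ d) :
    ((Jd.comap π) ^ d).subschemeι.app (π ⁻¹ᵁ V.1) (π.app V.1 m) = 0 := by
  let I := (Jd.comap π) ^ d
  refine AModX.eq_of_locally (M := Coh.structureModule I.subscheme) _ _ fun z hz => ?_
  obtain ⟨W, hW, hzW, hWV⟩ := exists_isAffineOpen_mem_and_subset (x := I.subschemeι z) (U := π ⁻¹ᵁ V.1) hz
  refine ⟨I.subschemeι ⁻¹ᵁ W, fun w hw => hWV hw, hzW, ?_⟩
  rw [map_zero]
  have h1 : π.appLE V.1 W hWV m ∈ I.ideal ⟨W, hW⟩ := by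
    have h2 : π.appLE V.1 W hWV m ∈ ((Jd.comap π).ideal ⟨W, hW⟩) ^ d := by
      rw [ModPairLib.ideal_comap Jd π V ⟨W, hW⟩ hWV, ← Ideal.map_pow]
      exact Ideal.mem_map_of_mem _ hm
    have h3 : I.ideal ⟨W, hW⟩ = (Jd.comap π).ideal ⟨W, hW⟩ ^ d := by
      simp [I]
    rwa [h3]
  rw [← I.ker_subschemeι_app, RingHom.mem_ker] at h1
  refine Eq.trans ?_ h1
  exact (congr($(I.subschemeι.naturality (homOfLE hWV).op) (π.app V.1 m))).symm

variable {π}

/-- Sections of a module on a divisor inside `π⁻¹V` are determined there. -/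
theorem injective_res_push {E : Scheme.{u}} (a : E ⟶ X) (U : X.Opens) (hU : a ⁻¹ᵁ U = ⊤) (N : E.Modules) :
    Function.Injective (AModX.res ((Scheme.Modules.pushforward a).obj N) (le_top : U ≤ ⊤)) := by
  intro x y hxy
  refine AModX.eq_of_locally (M := N) (show Γ(N, a ⁻¹ᵁ ⊤) from x) y fun z hz => ?_
  refine ⟨a ⁻¹ᵁ U, fun w _ => trivial, by rw [hU]; trivial, ?_⟩
  exact hxy

theorem support_pow_le (I : X.IdealSheafData) :
    ∀ (d : ℕ) {y : X}, y ∈ ((I ^ (d + 1)).support : Set X) → y ∈ (I.support : Set X)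
  | 0, y, hy => by simpa using hy
  | m + 1, y, hy => by
    rw [pow_succ, Scheme.IdealSheafData.support_mul] at hy
    exact hy.elim (support_pow_le I m) id

variable {p : ↥(CohB1.ProjSpace n k)} (hp : IsClosed ({p} : Set ↥(CohB1.ProjSpace n k)))
  (hπ : BlowUp.IsBlowUp π (J ({p} : Set ↥(CohB1.ProjSpace n k)) hp))

include hπ in
theorem exists_iso_pow (d : ℕ) :
    Nonempty (CohB1.tensorPow (ClSub.idealMod (BlowUp.exceptional π (J ({p} : Set _) hp))) d ≅
      ClSub.idealMod ((BlowUp.exceptional π (J ({p} : Set _) hp)) ^ d)) := by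
  obtain ⟨-, h2⟩ := H26.IdealCl.eff_and_cl_prod ({()} : Finset Unit)
    (fun _ => BlowUp.exceptional π (J ({p} : Set _) hp)) (fun _ => hπ.1) (fun _ => d)
  rw [Finset.prod_singleton, Finset.prod_singleton, ← cl_tensorPow] at h2
  exact cl_eq_iff.1 h2.symm

include hπ in
theorem rz_pow (hn : 1 ≤ n) (c : ℤ) (d : ℕ) : RKoszul.RZ π
    (CohB1.tensorMod (pO π c) (CohB1.tensorPow (ClSub.idealMod (BlowUp.exceptional π (J ({p} : Set _) hp))) d)) 1 := by
  have hpt : ∀ x ∈ ({p} : Set ↥(CohB1.ProjSpace n k)), IsClosed ({x} : Set ↥(CohB1.ProjSpace n k)) := fun x hx => hx ▸ hp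
  obtain ⟨hX, hprop⟩ := geom _ hp hπ
  haveI := hX; haveI := hprop
  haveI : HasInjectiveResolutions X.Modules := KFlatLib.hasInjectiveResolutions_modules
  haveI := SpObjSS.enoughInjectives_of_hasInjectiveResolutions (C := X.Modules)
  obtain ⟨e₀⟩ := S0927.result π
    (CohB1.tensorPow (ClSub.idealMod (BlowUp.exceptional π (J ({p} : Set _) hp))) d) _ (lf_twist c) (0 + 1)
  exact BlowExact.rz_of_isZero_Rpush π 0 (IsZero.of_iso
    ((DCoh.tensorBi.obj (Twist.twistProjSpace n k c)).map_isZero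
      (BlowExact.isZero_Rpush_of_rz π 0 (van _ (Set.finite_singleton p) hpt hp hn hπ d 1 le_rfl))) e₀.symm)

include hπ in
theorem hh_one_point [IsAlgClosed k] (hn : 2 ≤ n) (c d : ℕ) (hd : d ≤ c + 1) :
    Subsingleton (Coh.HH X (CohB1.tensorMod (pO π (c : ℤ))
      (CohB1.tensorPow (ClSub.idealMod (BlowUp.exceptional π (J ({p} : Set _) hp))) d)) 1) := by
  have hpt : ∀ x ∈ ({p} : Set ↥(CohB1.ProjSpace n k)), IsClosed ({x} : Set ↥(CohB1.ProjSpace n k)) := fun x hx => hx ▸ hp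
  have hfin := Set.finite_singleton p
  obtain ⟨hX, hprop⟩ := geom _ hp hπ
  haveI := hX; haveI := hprop
  let I := BlowUp.exceptional π (J ({p} : Set _) hp)
  let T := DCoh.tensorBi.obj (pO π (c : ℤ))
  haveI : T.Additive := Functor.additive_of_preserves_binary_products _
  obtain ⟨eD⟩ := exists_iso_pow hp hπ d
  let S : ShortComplex X.Modules :=
    (ShortComplex.mk _ _ (show ClSub.idealModι (I ^ d) ≫ ClSub.toSubscheme (I ^ d) = 0 from kernel.condition _)).map T
  have hS : S.ShortExact := PBPush.shortExact_tens (lf_pO π c) (DivisorExt.ideal_shortExact _)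
  let e₁ : S.X₁ ≅ CohB1.tensorMod (pO π (c : ℤ)) (CohB1.tensorPow (ClSub.idealMod I) d) := T.mapIso eD.symm
  let e₂ : S.X₂ ≅ pO π (c : ℤ) := (H23.PicMul.unit (pO π (c : ℤ))).some
  obtain ⟨N, hN, ⟨e₃⟩⟩ := exists_quot_push (pO π (c : ℤ)) (lf_pO π c) (I ^ d)
  let e₃' : S.X₃ ≅ (Scheme.Modules.pushforward (I ^ d).subschemeι).obj N := e₃
  refine QCoh.subsingleton_HH_of_iso e₁ 1 ?_
  obtain ⟨V, hpV, e, he, hjet⟩ := PnJets.exists_jets p hp c d hd
  let U : X.Opens := π ⁻¹ᵁ V.1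
  have hsupp : (I ^ d).subschemeι ⁻¹ᵁ U = ⊤ := by
    refine top_le_iff.1 fun z _ => ?_
    have hz : (I ^ d).subschemeι z ∈ Set.range (I ^ d).subschemeι := ⟨z, rfl⟩
    rw [Scheme.IdealSheafData.range_subschemeι] at hz
    show π ((I ^ d).subschemeι z) ∈ V.1
    rcases Nat.eq_zero_or_pos d with hd0 | hd0
    · exfalso
      simp [hd0] at hz
    · obtain ⟨d', hd'⟩ : ∃ d', d = d' + 1 := ⟨d - 1, by omega⟩
      have h1 : (I ^ d).subschemeι z ∈ (I.support : Set X) :=
        support_pow_le I d' (by rw [← hd']; exact hz)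
      rw [Scheme.IdealSheafData.support_comap] at h1
      have h2 : π ((I ^ d).subschemeι z) ∈ ((J ({p} : Set _) hp).support : Set _) := h1
      rw [Scheme.IdealSheafData.coe_support_vanishingIdeal] at h2
      rw [show π ((I ^ d).subschemeι z) = p from h2]
      exact hpV
  -- the local lifts
  have hrz : RKoszul.RZ π S.X₁ 1 := RKoszul.rz_of_iso π e₁.symm 1 (rz_pow hp hπ (by omega) c d)
  haveI := RKoszul.epi_push_map π hS hrz
  have hQ2 : Coh.IsQCoh S.X₂ := (QCoh.isQCoh_iff_iso e₂).2 (QCoh.isQCoh_of_isFinLocFree (lf_pO π c))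
  have hQ3 : Coh.IsQCoh S.X₃ := (QCoh.isQCoh_iff_iso e₃').2 (QCoh.isQCoh_pushforward _ hN)
  have hloc : Function.Surjective (S.g.app U) :=
    QCoh.app_surjective_of_epi (QCoh.isQCoh_pushforward π hQ2) (QCoh.isQCoh_pushforward π hQ3)
      ((Scheme.Modules.pushforward π).map S.g) V.2
  -- the frame on `U`
  let ê : Γ(pO π (c : ℤ), U) := InvX.pullElt π e
  have hê : InvX.IsFrame ê := InvX.isFrame_pullElt π he
  have hglob : Function.Surjective (S.g.app ⊤) := by
    intro w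
    obtain ⟨σ, hσ⟩ := hloc (AModX.res S.X₃ (le_top : U ≤ ⊤) w)
    obtain ⟨h, hh⟩ := hê.exists_coord le_rfl (e₂.hom.app U σ)
    rw [AModX.res_self] at hh
    haveI := isIso_app _ hfin hpt hp (by omega) hπ V.1
    obtain ⟨r, hr⟩ := (ConcreteCategory.bijective_of_isIso (π.app V.1)).2 h
    obtain ⟨r', τ, hτ, hrr⟩ := hjet r
    let t : Γ(S.X₂, ⊤) := e₂.inv.app ⊤ (InvX.pullElt π τ)
    refine ⟨t, ?_⟩
    let ψ : Γ(pO π (c : ℤ), U) → Γ(S.X₃, U) := fun x => S.g.app U (e₂.inv.app U x)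
    have h1 : AModX.res S.X₃ (le_top : U ≤ ⊤) (S.g.app ⊤ t) = π.app V.1 r' • ψ ê := by
      rw [← AModX.app_res S.g, ← AModX.app_res e₂.inv]
      have h3 : AModX.res (pO π (c : ℤ)) (le_top : U ≤ ⊤) (InvX.pullElt π τ) = π.app V.1 r' • ê := by
        rw [← H23.EndInv.pullElt_smul, ← hτ]
        exact (AModX.app_res ((Scheme.Modules.pullbackPushforwardAdjunction π).unit.app _)
          (le_top : V.1 ≤ ⊤) τ).symm
      rw [h3, Scheme.Modules.Hom.app_smul, Scheme.Modules.Hom.app_smul]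
    have h2 : AModX.res S.X₃ (le_top : U ≤ ⊤) w = π.app V.1 r • ψ ê := by
      have hσ' : e₂.inv.app U (e₂.hom.app U σ) = σ :=
        congr(($(e₂.hom_inv_id).app U) σ)
      rw [← hσ, ← hσ', hh, hr, Scheme.Modules.Hom.app_smul, Scheme.Modules.Hom.app_smul]
    have hinj : Function.Injective (AModX.res S.X₃ (le_top : U ≤ ⊤)) := by
      intro x y hxy
      have h4 := injective_res_push (I ^ d).subschemeι U hsupp N
        (a₁ := e₃'.hom.app ⊤ x) (a₂ := e₃'.hom.app ⊤ y)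
        (by rw [← AModX.app_res, ← AModX.app_res, hxy])
      have hx : e₃'.inv.app ⊤ (e₃'.hom.app ⊤ x) = x := congr(($(e₃'.hom_inv_id).app ⊤) x)
      have hy : e₃'.inv.app ⊤ (e₃'.hom.app ⊤ y) = y := congr(($(e₃'.hom_inv_id).app ⊤) y)
      rw [← hx, ← hy, h4]
    apply hinj
    rw [h1, h2, eq_comm, ← sub_eq_zero, ← sub_smul, ← map_sub]
    have hinv : e₃'.inv.app U (e₃'.hom.app U (π.app V.1 (r - r') • ψ ê)) = π.app V.1 (r - r') • ψ ê :=
      congr(($(e₃'.hom_inv_id).app U) (π.app V.1 (r - r') • ψ ê))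
    rw [← hinv, Scheme.Modules.Hom.app_smul]
    have hz : (I ^ d).subschemeι.app U (π.app V.1 (r - r')) = 0 := app_eq_zero π (J ({p} : Set _) hp) d V hrr
    have h5 : π.app V.1 (r - r') • (e₃'.hom.app U (ψ ê)) = 0 := by
      show ((I ^ d).subschemeι.app U (π.app V.1 (r - r'))) • (show Γ(N, (I ^ d).subschemeι ⁻¹ᵁ U) from
        e₃'.hom.app U (ψ ê)) = 0
      rw [hz]
      exact zero_smul _ _
    rw [h5, map_zero]
  -- conclusion
  refine subsingleton_of_forall_eq 0 fun x => ?_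
  have hT := QCoh.toAb_shortExact hS
  have hmid := QCoh.subsingleton_HH_of_iso e₂.symm 1 (hh_vanish _ hfin hpt hp (by omega) hπ (c : ℤ) 1
    (fun h => by omega) (fun h => by omega))
  obtain ⟨w, rfl⟩ := Abelian.Ext.covariant_sequence_exact₁ _ hT x (hmid.elim _ _) rfl
  have hsur : ∃ y : Coh.HH X S.X₂ 0, Sheaf.H.map ((QCoh.toAbFunctor X).map S.g) 0 y = w := by
    obtain ⟨v, hv⟩ := hglob (Sheaf.H.equiv₀ (Coh.toAb S.X₃) isTerminalTop w)
    refine ⟨(Sheaf.H.equiv₀ (Coh.toAb S.X₂) isTerminalTop).symm v, (Sheaf.H.equiv₀ (Coh.toAb S.X₃) isTerminalTop).injective ?_⟩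
    refine (Sheaf.H.equiv₀_naturality isTerminalTop ((QCoh.toAbFunctor X).map S.g)
      ((Sheaf.H.equiv₀ (Coh.toAb S.X₂) isTerminalTop).symm v)).symm.trans ?_
    exact (congrArg _ ((Sheaf.H.equiv₀ (Coh.toAb S.X₂) isTerminalTop).apply_symm_apply v)).trans hv
  obtain ⟨y, rfl⟩ := hsur
  show (Abelian.Ext.comp y (Abelian.Ext.mk₀ _) (add_zero 0)).comp hT.extClass rfl = 0
  rw [Abelian.Ext.comp_assoc_of_second_deg_zero]
  exact (congrArg (fun e => Abelian.Ext.comp y e (zero_add 1)) hT.comp_extClass).trans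
    (Abelian.Ext.comp_zero y _ _ _ _)

end Groth.Agent.Synt29.BlowPts

end
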