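import Groth.Agent.Synt29.QuadricEpi
import Groth.Agent.Lib.SyzygyGen
import Groth.Agent.Lib.CurveLinear
import Mathlib.LinearAlgebra.Eigenspace.Minpoly

/-!
# Simplicity of cokernels of matrices of linear forms on the quadric
-/

set_option autoImplicit false
set_option linter.style.haveILetI false
set_option linter.unusedSectionVars false
set_option backward.isDefEq.respectTransparency false
set_option backward.isDefEq.respectTransparency.types false
set_option maxHeartbeats 1000000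
set_option synthInstance.maxHeartbeats 400000

universe u v

open CategoryTheory CategoryTheory.Limits AlgebraicGeometry TopologicalSpace Opposite
open scoped Groth.Agent.H23.PicMul

noncomputable section

namespace Groth.Agent.Synt29.Quadric

open Groth.Agent Groth.Agent.H23.PicMul Groth.Agent.RegEpi Groth.Agent.PnCoh.Finite

theorem finite_not_isUnit_sub {k : Type u} [Field k] {A : Type v} [Ring A] [Algebra k A] [Module.Finite k A]
    (a : A) : {c : k | ¬ IsUnit (algebraMap k A c - a)}.Finite := by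
  refine (Module.End.finite_spectrum (Algebra.lmul k A a)).subset fun c hc hu => hc ?_
  have hu' : IsUnit (Algebra.lmul k A (algebraMap k A c - a)) := by
    rw [map_sub, AlgHom.commutes]
    exact hu
  have hb := (Module.End.isUnit_iff _).1 hu'
  obtain ⟨x, hx⟩ := hb.2 1
  have hx' : (algebraMap k A c - a) * x = 1 := hx
  refine ⟨⟨_, x, hx', hb.1 ?_⟩, rfl⟩
  show (algebraMap k A c - a) * (x * (algebraMap k A c - a)) = (algebraMap k A c - a) * 1
  rw [← mul_assoc, hx', one_mul, mul_one]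

variable {k : Type u} [Field k] [IsAlgClosed k]

theorem finrank_h0_structure :
    Module.finrank k (Coh.HH (XQ k) (Coh.structureModule (XQ k)) 0) = 1 := by
  obtain ⟨e⟩ := cl_eq_iff.1 ((cl_OX_zero (k := k)).trans one_def)
  exact (hasH0_iso e hasH0_zero).2

theorem evalOne_comp {A B : (XQ k).Modules} (χ : Coh.structureModule (XQ k) ⟶ A) (ψ : A ⟶ B) :
    evalOneLin k B (χ ≫ ψ) = Canon.HHlin k ψ 0 (evalOneLin k A χ) :=
  (PnDual.HHlin_comp χ ψ 0 _).symm

/-- Untwisting. -/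
theorem exists_untwist (a b : ℤ) : Nonempty (tw k a b ⋙ tw k (-a) (-b) ≅ 𝟭 (XQ k).Modules) := by
  obtain ⟨e⟩ := cl_eq_iff.1 (show PicF.cl (CohB1.tensorMod (OX k (-a) (-b)) (OX k a b)) =
      PicF.cl (Coh.structureModule (XQ k)) by
    rw [cl_tensor, cl_OX_mul, neg_add_cancel, neg_add_cancel, cl_OX_zero, one_def])
  exact ⟨(((KFlatLib.tensorAssocSch (XQ k)).app (OX k (-a) (-b))).app (OX k a b)).symm ≪≫
    DCoh.tensorBi.mapIso e ≪≫ ((KFlatLib.tensorBiFlipIso (XQ k)).app (Coh.structureModule (XQ k))).symm ≪≫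
    KFlatLib.tensorStructureIso (XQ k)⟩

theorem map_injective_tw (a b : ℤ) {A B : (XQ k).Modules} {φ ψ : A ⟶ B}
    (h : (tw k a b).map φ = (tw k a b).map ψ) : φ = ψ := by
  obtain ⟨η⟩ := exists_untwist (k := k) a b
  have h' := congrArg (tw k (-a) (-b)).map h
  have n1 := η.hom.naturality φ
  have n2 := η.hom.naturality ψ
  simp only [Functor.comp_map, Functor.id_map] at n1 n2
  rw [h'] at n1
  exact (cancel_epi (η.hom.app A)).1 (n1.symm.trans n2)

theorem nonempty_unit_tw (c d : ℤ) :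
    Nonempty (Coh.structureModule (XQ k) ≅ (tw k (-c) (-d)).obj (OX k c d)) :=
  cl_eq_iff.1 (by
    show _ = PicF.cl (CohB1.tensorMod (OX k (-c) (-d)) (OX k c d))
    rw [cl_tensor, cl_OX_mul, neg_add_cancel, neg_add_cancel, cl_OX_zero, one_def])

/-- No homomorphisms. -/
theorem hom_eq_zero {c d : ℤ} (M : (XQ k).Modules)
    (h : Subsingleton (Coh.HH (XQ k) ((tw k (-c) (-d)).obj M) 0)) (ψ : OX k c d ⟶ M) : ψ = 0 := by
  obtain ⟨u⟩ := nonempty_unit_tw (k := k) c d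
  haveI : (tw k (-c) (-d)).Additive := Functor.additive_of_preserves_binary_products _
  refine map_injective_tw (-c) (-d) ?_
  rw [Functor.map_zero, ← cancel_epi u.hom, comp_zero]
  exact (evalOneLin_bijective k _).1 (h.elim _ _)

/-- Scalars are the only endomorphisms. -/
theorem exists_smul_id_OX {c d : ℤ} (ψ : OX k c d ⟶ OX k c d) : ∃ z : k, ψ = z • 𝟙 _ := by
  obtain ⟨u⟩ := nonempty_unit_tw (k := k) c d
  haveI : (tw k (-c) (-d)).Additive := Functor.additive_of_preserves_binary_products _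
  obtain ⟨z, hz⟩ := Syzygy.endo_eq_smul_id finrank_h0_structure (u.hom ≫ (tw k (-c) (-d)).map ψ ≫ u.inv)
  refine ⟨z, ?_⟩
  have h1 : (tw k (-c) (-d)).map ψ = z • 𝟙 _ := by
    have := congrArg (fun t => u.inv ≫ t ≫ u.hom) hz
    simpa [Linear.smul_comp, Linear.comp_smul] using this
  obtain ⟨η⟩ := exists_untwist (k := k) (-c) (-d)
  have n1 := η.inv.naturality ψ
  simp only [Functor.comp_map, Functor.id_map] at n1
  have h2 : (tw k (- -c) (- -d)).map ((tw k (-c) (-d)).map ψ) =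
      (tw k (- -c) (- -d)).map (z • 𝟙 _) := congrArg _ h1
  rw [h2] at n1
  have n2 := η.inv.naturality (z • 𝟙 (OX k c d))
  simp only [Functor.comp_map, Functor.id_map] at n2
  have h3 : (tw k (-c) (-d)).map (z • 𝟙 (OX k c d)) = z • 𝟙 _ := by
    rw [KLin.smul_id, KLin.smul_id]
    exact CurveLinear.tensor_map_smul _ _ _
  rw [h3] at n2
  exact (cancel_mono (η.inv.app (OX k c d))).1 (n1.trans n2.symm)

/-- Lifting maps out of a line bundle. -/
theorem exists_lift {S : ShortComplex (XQ k).Modules} (hS : S.ShortExact) {c d : ℤ}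
    (h : Subsingleton (Coh.HH (XQ k) ((tw k (-c) (-d)).obj S.X₁) 1)) (ψ : OX k c d ⟶ S.X₃) :
    ∃ ψ' : OX k c d ⟶ S.X₂, ψ' ≫ S.g = ψ := by
  obtain ⟨u⟩ := nonempty_unit_tw (k := k) c d
  let G := tw k (-c) (-d)
  haveI : G.Additive := Functor.additive_of_preserves_binary_products _
  have hS' : (S.map G).ShortExact := H28.PBPush.shortExact_tens (lf_OX (-c) (-d)) hS
  obtain ⟨y, hy⟩ := surjective_g_of_h1 (k := k) (X := XQ k) (S := S.map G) hS' h
    (evalOneLin k (G.obj S.X₃) (u.hom ≫ G.map ψ))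
  obtain ⟨χ, rfl⟩ := (evalOneLin_bijective k (G.obj S.X₂)).2 y
  have hχ : χ ≫ G.map S.g = u.hom ≫ G.map ψ :=
    (evalOneLin_bijective k (G.obj S.X₃)).1 ((evalOne_comp χ (G.map S.g)).trans hy)
  obtain ⟨η⟩ := exists_untwist (k := k) (-c) (-d)
  let G' := tw k (- -c) (- -d)
  have n1 : G'.map (G.map S.g) ≫ η.hom.app S.X₃ = η.hom.app S.X₂ ≫ S.g := η.hom.naturality S.g
  have n2 : G'.map (G.map ψ) ≫ η.hom.app S.X₃ = η.hom.app (OX k c d) ≫ ψ := η.hom.naturality ψ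
  refine ⟨η.inv.app (OX k c d) ≫ G'.map (u.inv ≫ χ) ≫ η.hom.app S.X₂, ?_⟩
  rw [Category.assoc, Category.assoc, ← n1, ← Category.assoc (G'.map (u.inv ≫ χ)), ← G'.map_comp, Category.assoc,
    hχ, Iso.inv_hom_id_assoc, n2, ← Category.assoc, Iso.inv_hom_id_app]
  exact Category.id_comp _


variable {r : ℕ}

theorem sigma_total {T : Fin r → (XQ k).Modules} :
    ∑ l, (Sigma.desc fun i => if h : i = l then eqToHom (by rw [h]) else 0 : ∐ T ⟶ T l) ≫ Sigma.ι T l
      = 𝟙 (∐ T) := by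
  classical
  refine Sigma.hom_ext _ _ fun i => ?_
  rw [Preadditive.comp_sum, Category.comp_id, Finset.sum_eq_single i]
  · simp
  · intro j _ hj
    simp [Ne.symm hj]
  · simp

theorem finite_End_sigma {c d : ℤ} {Q : (XQ k).Modules} (e : Q ≅ ∐ fun _ : Fin r => OX k c d) :
    Module.Finite k (Q ⟶ Q) := by
  haveI : Module.Finite k (OX k c d ⟶ OX k c d) :=
    Module.Finite.of_surjective (LinearMap.toSpanSingleton k _ (𝟙 (OX k c d))) fun ψ => by
      obtain ⟨z, rfl⟩ := exists_smul_id_OX ψ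
      exact ⟨z, rfl⟩
  let T := fun _ : Fin r => OX k c d
  let p : ∀ l, ∐ T ⟶ T l := fun l => Sigma.desc fun i => if h : i = l then eqToHom (by rw [h]) else 0
  let Λ : (Q ⟶ Q) →ₗ[k] (Fin r → Fin r → (OX k c d ⟶ OX k c d)) :=
    LinearMap.pi fun i => LinearMap.pi fun j =>
      (Linear.leftComp k (OX k c d) (Sigma.ι T i ≫ e.inv)).comp (Linear.rightComp k Q (e.hom ≫ p j))
  refine Module.Finite.of_injective Λ fun a b hab => ?_
  rw [← cancel_epi e.inv, ← cancel_mono e.hom]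
  refine Sigma.hom_ext _ _ fun i => ?_
  rw [← Category.comp_id ((e.inv ≫ a) ≫ e.hom), ← Category.comp_id ((e.inv ≫ b) ≫ e.hom), ← sigma_total]
  simp only [Preadditive.comp_sum]
  refine Finset.sum_congr rfl fun j _ => ?_
  have h : (Sigma.ι T i ≫ e.inv) ≫ a ≫ e.hom ≫ p j = (Sigma.ι T i ≫ e.inv) ≫ b ≫ e.hom ≫ p j :=
    congrFun (congrFun hab i) j
  have h' := congrArg (fun z => z ≫ Sigma.ι T j) h
  simp only [Category.assoc] at h' ⊢
  exact h'

theorem exists_good_scalar {Q₁ Q₂ P : (XQ k).Modules} [Module.Finite k (Q₁ ⟶ Q₁)] [Module.Finite k (Q₂ ⟶ Q₂)]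
    [Module.Finite k (P ⟶ P)] (a : Q₁ ⟶ Q₁) (b : Q₂ ⟶ Q₂) (g : P ⟶ P) :
    ∃ c : k, IsIso (c • 𝟙 Q₁ - a) ∧ IsIso (c • 𝟙 Q₂ - b) ∧ IsIso (c • 𝟙 P - g) := by
  have h : ∀ {Q : (XQ k).Modules} [Module.Finite k (Q ⟶ Q)] (a : Q ⟶ Q),
      {c : k | ¬ IsIso (c • 𝟙 Q - a)}.Finite := fun {Q} _ a => by
    haveI : Module.Finite k (End Q) := (inferInstance : Module.Finite k (Q ⟶ Q))
    refine (finite_not_isUnit_sub (A := End Q) (k := k) a).subset fun c hc hu => hc ?_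
    have h1 : algebraMap k (End Q) c = c • (𝟙 Q : End Q) := Algebra.algebraMap_eq_smul_one c
    rw [h1] at hu
    exact (isUnit_iff_isIso _).1 hu
  obtain ⟨c, hc⟩ := (((h a).union (h b)).union (h g)).infinite_compl.nonempty
  simp only [Set.mem_compl_iff, Set.mem_union, Set.mem_setOf_eq, not_or, not_not] at hc
  exact ⟨c, hc.1.1, hc.1.2, hc.2⟩

theorem toSheaf_smul_id (M : (XQ k).Modules) (c : k) :
    (SheafOfModules.toSheaf _).map (c • 𝟙 M) = Coh.smulAb M (Coh.toGlobal (xTo k) c) := by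
  rw [KLin.smul_id]
  rfl

theorem eq_smul_of_toSheaf {M : (XQ k).Modules} (φ : M ⟶ M) (c : k)
    (h : (SheafOfModules.toSheaf _).map φ = Coh.smulAb M (Coh.toGlobal (xTo k) c)) : φ = c • 𝟙 M :=
  (SheafOfModules.toSheaf _).map_injective (h.trans (toSheaf_smul_id M c).symm)

/-- Every endomorphism of a sum of line bundles lifts. -/
theorem exists_lift_sigma {S : ShortComplex (XQ k).Modules} (hS : S.ShortExact) {c d : ℤ} {Q : (XQ k).Modules}
    (e : Q ≅ ∐ fun _ : Fin r => OX k c d) (h : Subsingleton (Coh.HH (XQ k) ((tw k (-c) (-d)).obj S.X₁) 1))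
    (ψ : Q ⟶ S.X₃) : ∃ ψ' : Q ⟶ S.X₂, ψ' ≫ S.g = ψ := by
  choose v hv using fun l => exists_lift hS h (Sigma.ι (fun _ : Fin r => OX k c d) l ≫ e.inv ≫ ψ)
  refine ⟨e.hom ≫ Sigma.desc v, ?_⟩
  rw [Category.assoc, ← cancel_epi e.inv, Iso.inv_hom_id_assoc]
  exact Sigma.hom_ext _ _ fun l => by rw [Sigma.ι_desc_assoc, hv]

theorem hom_sigma_eq_zero {c d c' d' : ℤ} {Q Q' : (XQ k).Modules} (e : Q ≅ ∐ fun _ : Fin r => OX k c d)
    (e' : Q' ≅ ∐ fun _ : Fin r => OX k c' d')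
    (h : Subsingleton (Coh.HH (XQ k) (OX k (-c + c') (-d + d')) 0)) (ψ : Q ⟶ Q') : ψ = 0 := by
  rw [← cancel_epi e.inv, comp_zero]
  exact Sigma.hom_ext _ _ fun l =>
    (hom_eq_zero Q' (hh_tw_sigma (-c) (-d) c' d' 0 Q' e' h) _).trans (by simp)

variable {P Q₁ Q₂ : (XQ k).Modules} (eP : P ≅ ∐ fun _ : Fin r => OX k (-1) (-1))
  (e₁ : Q₁ ≅ ∐ fun _ : Fin r => OX k (-1) 0) (e₂ : Q₂ ≅ ∐ fun _ : Fin r => OX k 0 (-1))
  (f : P ⟶ Q₁ ⊞ Q₂) [Mono f]

include eP e₁ e₂ in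
/-- The cokernel is simple when the stabiliser is the scalars. -/
theorem coker_simple
    (hstab : ∀ (β₁ : Q₁ ≅ Q₁) (β₂ : Q₂ ≅ Q₂) (γ : P ≅ P), γ.hom ≫ f = f ≫ biprod.map β₁.hom β₂.hom →
      ∃ c : k, (SheafOfModules.toSheaf _).map β₁.hom = Coh.smulAb Q₁ (Coh.toGlobal (xTo k) c) ∧
        (SheafOfModules.toSheaf _).map β₂.hom = Coh.smulAb Q₂ (Coh.toGlobal (xTo k) c))
    (φ : cokernel f ⟶ cokernel f) : ∃ c : k, φ = c • 𝟙 (cokernel f) := by
  have hS : (ShortComplex.mk f (cokernel.π f) (cokernel.condition f)).ShortExact :=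
    { exact := ShortComplex.exact_of_g_is_cokernel _ (cokernelIsCokernel f) }
  obtain ⟨u₁, hu₁⟩ := exists_lift_sigma hS e₁
    (hh_tw_sigma _ _ (-1) (-1) 1 P eP (hh_pos _ _ (by norm_num) (by norm_num) 1 le_rfl))
    (biprod.inl ≫ cokernel.π f ≫ φ)
  obtain ⟨u₂, hu₂⟩ := exists_lift_sigma hS e₂
    (hh_tw_sigma _ _ (-1) (-1) 1 P eP (hh_pos _ _ (by norm_num) (by norm_num) 1 le_rfl))
    (biprod.inr ≫ cokernel.π f ≫ φ)
  change u₁ ≫ cokernel.π f = _ at hu₁
  change u₂ ≫ cokernel.π f = _ at hu₂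
  have h12 : u₁ ≫ biprod.snd = 0 :=
    hom_sigma_eq_zero e₁ e₂ (hh_zero_right _ _ (by norm_num)) _
  have h21 : u₂ ≫ biprod.fst = 0 :=
    hom_sigma_eq_zero e₂ e₁ (hh_zero_left _ _ (by norm_num)) _
  let a : Q₁ ⟶ Q₁ := u₁ ≫ biprod.fst
  let b : Q₂ ⟶ Q₂ := u₂ ≫ biprod.snd
  have hab : biprod.map a b = biprod.desc u₁ u₂ := by
    refine biprod.hom_ext' _ _ ?_ ?_ <;> refine biprod.hom_ext _ _ ?_ ?_ <;> simp [a, b, h12, h21]
  have hπ : biprod.map a b ≫ cokernel.π f = cokernel.π f ≫ φ := by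
    rw [hab]
    refine biprod.hom_ext' _ _ ?_ ?_
    · rw [biprod.inl_desc_assoc, hu₁]
    · rw [biprod.inr_desc_assoc, hu₂]
  have hf : (f ≫ biprod.map a b) ≫ cokernel.π f = 0 := by
    rw [Category.assoc, hπ, cokernel.condition_assoc, zero_comp]
  let g : P ⟶ P := hS.exact.lift (f ≫ biprod.map a b) hf
  have hg : g ≫ f = f ≫ biprod.map a b := hS.exact.lift_f (f ≫ biprod.map a b) hf
  haveI := finite_End_sigma e₁
  haveI := finite_End_sigma e₂
  haveI := finite_End_sigma eP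
  obtain ⟨c, h1, h2, h3⟩ := exists_good_scalar a b g
  have hmap : biprod.map (c • 𝟙 Q₁ - a) (c • 𝟙 Q₂ - b) = c • 𝟙 (Q₁ ⊞ Q₂) - biprod.map a b := by
    refine biprod.hom_ext' _ _ ?_ ?_ <;>
      simp [Preadditive.comp_sub, Preadditive.sub_comp, Linear.smul_comp, Linear.comp_smul]
  obtain ⟨z, hz1, hz2⟩ := hstab (asIso (c • 𝟙 Q₁ - a)) (asIso (c • 𝟙 Q₂ - b)) (asIso (c • 𝟙 P - g)) (by
    show (c • 𝟙 P - g) ≫ f = f ≫ biprod.map (c • 𝟙 Q₁ - a) (c • 𝟙 Q₂ - b)
    rw [hmap, Preadditive.sub_comp, Preadditive.comp_sub, Linear.smul_comp, Linear.comp_smul, Category.id_comp,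
      Category.comp_id, hg])
  have ha : a = (c - z) • 𝟙 Q₁ := by
    have : c • 𝟙 Q₁ - a = z • 𝟙 Q₁ := eq_smul_of_toSheaf _ _ hz1
    rw [sub_smul, ← this, sub_sub_cancel]
  have hb : b = (c - z) • 𝟙 Q₂ := by
    have : c • 𝟙 Q₂ - b = z • 𝟙 Q₂ := eq_smul_of_toSheaf _ _ hz2
    rw [sub_smul, ← this, sub_sub_cancel]
  refine ⟨c - z, (cancel_epi (cokernel.π f)).1 ?_⟩
  rw [← hπ, ha, hb, Linear.comp_smul, Category.comp_id]
  refine biprod.hom_ext' _ _ ?_ ?_ <;> simp [Linear.smul_comp, Linear.comp_smul]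

end Groth.Agent.Synt29.Quadric
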