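import Groth.Agent.Synt29.QuadricKer

/-!
# A matrix of linear forms on the quadric which is onto, also on sections
-/

set_option autoImplicit false
set_option linter.style.haveILetI false
set_option linter.unusedSectionVars false
set_option backward.isDefEq.respectTransparency false
set_option backward.isDefEq.respectTransparency.types false
set_option maxHeartbeats 1000000
set_option synthInstance.maxHeartbeats 400000

universe u v

open CategoryTheory CategoryTheory.Limits AlgebraicGeometry TopologicalSpace Opposite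
open scoped Groth.Agent.H23.PicMul

noncomputable section

namespace Groth.Agent.Synt29.Quadric

open Groth.Agent Groth.Agent.H23.PicMul

/-- The linear algebra of the matrices. -/
theorem eq_zero_of_rel {k : Type u} [Field k] [CharZero k] {M : Type v} [AddCommGroup M] [Module k M] {r : ℕ}
    (hr : 2 ≤ r) (p : Fin r → Fin 2 → Fin 2 → M)
    (h1 : ∀ l i, p l i 0 + ((l : ℕ) : k) • p l i 1 = 0)
    (h2 : ∀ l j, p l 0 j + p (finRotate r l) 1 j = 0) : ∀ l i j, p l i j = 0 := by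
  have e11 : ∀ l, p l 1 1 = 0 := fun l' => by
    obtain ⟨l, rfl⟩ := (finRotate r).surjective l'
    have hne : ((l : ℕ) : k) ≠ ((finRotate r l : Fin r) : ℕ) := by
      intro h
      have h' : (finRotate r l : Fin r) = l := Fin.ext (Nat.cast_injective h).symm
      obtain ⟨n, rfl⟩ : ∃ n, r = n + 2 := ⟨r - 2, by omega⟩
      rw [finRotate_succ_apply] at h'
      exact (one_ne_zero : (1 : Fin (n + 2)) ≠ 0) (add_eq_left.1 h')
    have a1 := h1 l 0
    have a2 := h2 l 0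
    have a3 := h2 l 1
    have a4 := h1 (finRotate r l) 1
    have key : (((l : ℕ) : k) - ((finRotate r l : Fin r) : ℕ)) • p (finRotate r l) 1 1 = 0 := by
      rw [sub_smul]
      linear_combination (norm := module) -(1 : k) • a1 + a2 + ((l : ℕ) : k) • a3 - a4
    exact (smul_eq_zero_iff_right (sub_ne_zero.2 hne)).1 key
  have e10 : ∀ l, p l 1 0 = 0 := fun l => by simpa [e11] using h1 l 1
  intro l i j
  fin_cases i <;> fin_cases j
  · simpa [e10] using h2 l 0
  · simpa [e11] using h2 l 1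
  · exact e10 l
  · exact e11 l

theorem surjective_g_of_h1 {k : Type u} [Field k] {X : Scheme.{u}} [X.Over (Spec (CommRingCat.of k))]
    {S : ShortComplex X.Modules} (hS : S.ShortExact) (h1 : Subsingleton (Coh.HH X S.X₁ 1)) :
    Function.Surjective (Canon.HHlin k S.g 0) := fun x => by
  have hT := QCoh.toAb_shortExact hS
  obtain ⟨y, hy⟩ := Abelian.Ext.covariant_sequence_exact₃ _ hT x (zero_add 1) (h1.elim _ _)
  exact ⟨y, hy⟩

variable {k : Type u} [Field k] [IsAlgClosed k]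

/-- The tensor product. -/
local notation "TQ" => DCoh.tensorBi (X := XQ k)

theorem exists_pair {a b : ℤ} (S : ShortComplex (XQ k).Modules) (hS : S.ShortExact)
    (e₂ : S.X₂ ≅ OX k 0 0 ⊞ OX k 0 0) (e₃ : S.X₃ ≅ OX k a b) :
    ∃ v : Fin 2 → (OX k 0 0 ⟶ OX k a b), biprod.desc (v 0) (v 1) = e₂.inv ≫ S.g ≫ e₃.hom := by
  let q := e₂.inv ≫ S.g ≫ e₃.hom
  exact ⟨![biprod.inl ≫ q, biprod.inr ≫ q], biprod.hom_ext' _ _ (biprod.inl_desc _ _) (biprod.inr_desc _ _)⟩

theorem hadd {A B : (XQ k).Modules} (φ ψ : A ⟶ B) (x : Coh.HH (XQ k) A 0) :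
    Canon.HHlin k (φ + ψ) 0 x = Canon.HHlin k φ 0 x + Canon.HHlin k ψ 0 x := by
  show Sheaf.H.map ((QCoh.toAbFunctor (XQ k)).map (φ + ψ)) 0 x = _
  rw [Functor.map_add]
  exact Sheaf.H.map_add_apply _ _ _

theorem hsmul {A B : (XQ k).Modules} (c : k) (φ : A ⟶ B) (x : Coh.HH (XQ k) A 0) :
    Canon.HHlin k (c • φ) 0 x = c • Canon.HHlin k φ 0 x := by
  rw [← map_smul, KLin.smul_def, ← PnDual.HHlin_comp]
  rfl

theorem surjective_comp_iso {A B C : (XQ k).Modules} (f : A ⟶ B) (e : B ≅ C)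
    (h : Function.Surjective (Canon.HHlin k f 0)) : Function.Surjective (Canon.HHlin k (f ≫ e.hom) 0) := by
  intro x
  obtain ⟨y, hy⟩ := h (Canon.HHlin k e.inv 0 x)
  exact ⟨y, by rw [← PnDual.HHlin_comp, hy, PnDual.HHlin_comp, e.inv_hom_id, PnDual.HHlin_id]⟩

theorem surjective_iso_comp {A B C : (XQ k).Modules} (e : A ≅ B) (f : B ⟶ C)
    (h : Function.Surjective (Canon.HHlin k f 0)) : Function.Surjective (Canon.HHlin k (e.hom ≫ f) 0) := by
  intro x
  obtain ⟨y, hy⟩ := h x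
  exact ⟨Canon.HHlin k e.inv 0 y, by
    rw [PnDual.HHlin_comp, e.inv_hom_id_assoc, hy]⟩

/-- Two sections generating, after an exact additive functor. -/
theorem pair_spans (G : (XQ k).Modules ⥤ (XQ k).Modules) [G.Additive]
    (hG : ∀ {S : ShortComplex (XQ k).Modules}, S.ShortExact → (S.map G).ShortExact)
    {a b : ℤ} (S : ShortComplex (XQ k).Modules) (hS : S.ShortExact)
    (e₂ : S.X₂ ≅ OX k 0 0 ⊞ OX k 0 0) (e₃ : S.X₃ ≅ OX k a b)
    (v : Fin 2 → (OX k 0 0 ⟶ OX k a b)) (hv : biprod.desc (v 0) (v 1) = e₂.inv ≫ S.g ≫ e₃.hom)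
    (h1 : Subsingleton (Coh.HH (XQ k) (G.obj S.X₁) 1)) :
    (∀ x, ∃ y : Fin 2 → Coh.HH (XQ k) (G.obj (OX k 0 0)) 0,
      x = Canon.HHlin k (G.map (v 0)) 0 (y 0) + Canon.HHlin k (G.map (v 1)) 0 (y 1)) ∧
    ∀ (W : (XQ k).Modules) (g : G.obj (OX k a b) ⟶ W), (∀ i, G.map (v i) ≫ g = 0) → g = 0 := by
  have hS' := hG hS
  haveI : PreservesBinaryBiproducts G := preservesBinaryBiproducts_of_preservesBiproducts _
  have hd : G.map (biprod.desc (v 0) (v 1)) =
      G.map biprod.fst ≫ G.map (v 0) + G.map biprod.snd ≫ G.map (v 1) := by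
    rw [biprod.desc_eq, G.map_add, G.map_comp, G.map_comp]
  refine ⟨fun x => ?_, fun W g hg => ?_⟩
  · have hsur : Function.Surjective (Canon.HHlin k (G.map (biprod.desc (v 0) (v 1))) 0) := by
      have h2 : Function.Surjective (Canon.HHlin k (S.map G).g 0) :=
        surjective_g_of_h1 (k := k) (X := XQ k) (S := S.map G) hS' h1
      have h3 : G.map (biprod.desc (v 0) (v 1)) =
          (G.mapIso e₂.symm).hom ≫ (S.map G).g ≫ (G.mapIso e₃).hom := by
        rw [hv, G.map_comp, G.map_comp]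
        rfl
      have h4 := surjective_iso_comp (G.mapIso e₂.symm) _ (surjective_comp_iso (S.map G).g (G.mapIso e₃) h2)
      rw [h3]
      exact h4
    obtain ⟨y, rfl⟩ := hsur x
    refine ⟨![Canon.HHlin k (G.map biprod.fst) 0 y, Canon.HHlin k (G.map biprod.snd) 0 y], ?_⟩
    rw [hd, hadd, ← PnDual.HHlin_comp, ← PnDual.HHlin_comp]
    rfl
  · haveI := hS'.epi_g
    haveI : Epi (G.map (biprod.desc (v 0) (v 1))) := by
      rw [hv, G.map_comp, G.map_comp]
      haveI : Epi (G.map S.g) := hS'.epi_g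
      infer_instance
    refine (cancel_epi (G.map (biprod.desc (v 0) (v 1)))).1 ?_
    rw [comp_zero, hd, Preadditive.add_comp, Category.assoc, Category.assoc, hg, hg, comp_zero, comp_zero,
      add_zero]

variable [CharZero k]

/-- A surjective matrix of linear forms, also on sections. -/
theorem exists_epi (r : ℕ) (hr : 2 ≤ r) :
    ∃ m : (∐ fun _ : Fin r => OX k 1 0) ⊞ (∐ fun _ : Fin r => OX k 0 1) ⟶ ∐ fun _ : Fin r => OX k 1 1,
      Epi m ∧ Function.Surjective (Canon.HHlin k m 0) := by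
  classical
  obtain ⟨SL, hSL, ⟨l₁⟩, ⟨l₂⟩, ⟨l₃⟩⟩ := exists_koszul_left (k := k) 1 0
  obtain ⟨SR, hSR, ⟨r₁⟩, ⟨r₂⟩, ⟨r₃⟩⟩ := exists_koszul_right (k := k) 0 1
  obtain ⟨ξ, hξ⟩ := exists_pair SL hSL
    (l₂ ≪≫ biprod.mapIso (eqToIso (by norm_num)) (eqToIso (by norm_num))) l₃
  obtain ⟨η, hη⟩ := exists_pair SR hSR
    (r₂ ≪≫ biprod.mapIso (eqToIso (by norm_num)) (eqToIso (by norm_num))) r₃
  let GLf := (TQ).flip.obj (OX k 0 1)
  let GRf := (TQ).obj (OX k 0 0)
  haveI : GLf.Additive := Functor.additive_of_preserves_binary_products _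
  haveI : GRf.Additive := Functor.additive_of_preserves_binary_products _
  obtain ⟨hL0, hLe⟩ := pair_spans GLf (fun hS => ShortComplex.shortExact_of_iso
      (ShortComplex.mapNatIso _ ((KFlatLib.tensorBiFlipIso (XQ k)).app (OX k 0 1))).symm
      (H28.PBPush.shortExact_tens (lf_OX 0 1) hS))
    SL hSL _ l₃ ξ hξ (by
      obtain ⟨c⟩ := cl_eq_iff.1 ((cl_tensor (OX k (1 - 2) 0) (OX k 0 1)).trans (cl_OX_mul (1 - 2) 0 0 1))
      refine QCoh.subsingleton_HH_of_iso (GLf.mapIso l₁ ≪≫ c).symm 1 ?_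
      exact hh_pos (1 - 2 + 0) (0 + 1) (by norm_num) (by norm_num) 1 le_rfl)
  obtain ⟨hR0, hRe⟩ := pair_spans GRf (fun hS => H28.PBPush.shortExact_tens (lf_OX 0 0) hS)
    SR hSR _ r₃ η hη (by
      obtain ⟨c⟩ := nonempty_tw_OX (k := k) 0 0 0 (1 - 2)
      refine QCoh.subsingleton_HH_of_iso (GRf.mapIso r₁ ≪≫ c).symm 1 ?_
      exact hh_pos (0 + 0) (0 + (1 - 2)) (by norm_num) (by norm_num) 1 le_rfl)
  -- the objects
  let A := ((TQ).obj (OX k 1 0)).obj (OX k 0 0)
  let B := ((TQ).obj (OX k 0 0)).obj (OX k 0 1)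
  let C := ((TQ).obj (OX k 1 0)).obj (OX k 0 1)
  let P := ∐ fun _ : Fin r => C
  let Φ : Fin 2 → (A ⟶ C) := fun j => ((TQ).obj (OX k 1 0)).map (η j)
  let Ψ : Fin 2 → (B ⟶ C) := fun i => GLf.map (ξ i)
  let X0 : Fin 2 → (((TQ).obj (OX k 0 0)).obj (OX k 0 0) ⟶ A) := fun i => ((TQ).map (ξ i)).app (OX k 0 0)
  let Y0 : Fin 2 → (((TQ).obj (OX k 0 0)).obj (OX k 0 0) ⟶ B) := fun j => GRf.map (η j)
  have hcomm : ∀ i j, X0 i ≫ Φ j = Y0 j ≫ Ψ i := fun i j => (((TQ).map (ξ i)).naturality (η j)).symm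
  let ι : Fin r → (C ⟶ P) := fun l => Sigma.ι (fun _ : Fin r => C) l
  let mA : (∐ fun _ : Fin r => A) ⟶ P :=
    Sigma.desc fun l => (Φ 0 + ((l : ℕ) : k) • Φ 1) ≫ ι l
  let mB : (∐ fun _ : Fin r => B) ⟶ P :=
    Sigma.desc fun l => Ψ 0 ≫ ι l + Ψ 1 ≫ ι (finRotate r l)
  have relA : ∀ l i, X0 i ≫ Sigma.ι (fun _ : Fin r => A) l ≫ mA =
      Y0 0 ≫ Ψ i ≫ ι l + ((l : ℕ) : k) • (Y0 1 ≫ Ψ i ≫ ι l) := fun l i => by
    simp only [mA, Sigma.ι_desc, Preadditive.add_comp, Preadditive.comp_add, Linear.smul_comp, Linear.comp_smul]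
    rw [← Category.assoc, hcomm, Category.assoc, ← Category.assoc (X0 i), hcomm, Category.assoc]
  have relB : ∀ l j, Y0 j ≫ Sigma.ι (fun _ : Fin r => B) l ≫ mB =
      Y0 j ≫ Ψ 0 ≫ ι l + Y0 j ≫ Ψ 1 ≫ ι (finRotate r l) := fun l j => by
    simp only [mB, Sigma.ι_desc, Preadditive.comp_add]
  have hEpi : Epi (biprod.desc mA mB) := Preadditive.epi_of_cancel_zero _ fun {W} g hg => by
    have hA : mA ≫ g = 0 := by
      have h := congrArg (fun z => biprod.inl ≫ z) hg
      rwa [← Category.assoc, biprod.inl_desc, comp_zero] at h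
    have hB : mB ≫ g = 0 := by
      have h := congrArg (fun z => biprod.inr ≫ z) hg
      rwa [← Category.assoc, biprod.inr_desc, comp_zero] at h
    have hp := eq_zero_of_rel (k := k) hr (fun l i j => Y0 j ≫ Ψ i ≫ ι l ≫ g)
      (fun l i => by
        have h := congrArg (fun z => z ≫ g) (relA l i)
        simpa [Category.assoc, hA] using h.symm)
      (fun l j => by
        have h := congrArg (fun z => z ≫ g) (relB l j)
        simpa [Category.assoc, hB] using h.symm)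
    refine Sigma.hom_ext _ _ fun l => ?_
    rw [comp_zero]
    exact hLe W (ι l ≫ g) fun i => hRe W (Ψ i ≫ ι l ≫ g) fun j => hp l i j
  have hSurj : Function.Surjective (Canon.HHlin k (biprod.desc mA mB) 0) := by
    let R := LinearMap.range (Canon.HHlin k (biprod.desc mA mB) 0)
    have hAmem : ∀ x, Canon.HHlin k mA 0 x ∈ R := fun x => ⟨Canon.HHlin k biprod.inl 0 x, by
      rw [PnDual.HHlin_comp, biprod.inl_desc]⟩
    have hBmem : ∀ x, Canon.HHlin k mB 0 x ∈ R := fun x => ⟨Canon.HHlin k biprod.inr 0 x, by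
      rw [PnDual.HHlin_comp, biprod.inr_desc]⟩
    have hp : ∀ (z : Coh.HH (XQ k) (((TQ).obj (OX k 0 0)).obj (OX k 0 0)) 0) l i j,
        Canon.HHlin k (Y0 j ≫ Ψ i ≫ ι l) 0 z ∈ R := fun z => by
      have h := eq_zero_of_rel (k := k) hr (fun l i j => R.mkQ (Canon.HHlin k (Y0 j ≫ Ψ i ≫ ι l) 0 z))
        (fun l i => by
          rw [← map_smul, ← map_add, ← hsmul, ← hadd, ← relA]
          refine (Submodule.Quotient.mk_eq_zero R).2 ?_
          rw [← PnDual.HHlin_comp, ← PnDual.HHlin_comp]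
          exact hAmem _)
        (fun l j => by
          rw [← map_add, ← hadd, ← relB]
          refine (Submodule.Quotient.mk_eq_zero R).2 ?_
          rw [← PnDual.HHlin_comp, ← PnDual.HHlin_comp]
          exact hBmem _)
      exact fun l i j => (Submodule.Quotient.mk_eq_zero R).1 (h l i j)
    have hC : ∀ l x, Canon.HHlin k (ι l) 0 x ∈ R := fun l x => by
      obtain ⟨y, rfl⟩ := hL0 x
      have hy : ∀ i, Canon.HHlin k (ι l) 0 (Canon.HHlin k (Ψ i) 0 (y i)) ∈ R := fun i => by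
        obtain ⟨z, hz⟩ := hR0 (y i)
        rw [hz, map_add, map_add]
        refine R.add_mem ?_ ?_ <;> rw [PnDual.HHlin_comp, PnDual.HHlin_comp]
        exacts [hp _ l i 0, hp _ l i 1]
      rw [map_add]
      exact R.add_mem (hy 0) (hy 1)
    intro x
    have hid : ∑ l, (Sigma.desc fun i => if i = l then 𝟙 C else 0 : P ⟶ C) ≫ ι l = 𝟙 P := by
      refine Sigma.hom_ext _ _ fun i => ?_
      rw [Preadditive.comp_sum, Category.comp_id, Finset.sum_eq_single i]
      · simp [ι]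
      · intro j _ hj
        simp [ι, Ne.symm hj]
      · simp
    rw [← PnDual.HHlin_id (R := k) P 0 x, ← hid, PnDual.HHlin_sum]
    refine R.sum_mem fun l _ => ?_
    rw [← PnDual.HHlin_comp]
    exact hC l _
  -- the identifications
  obtain ⟨eA⟩ := nonempty_tw_OX (k := k) 1 0 0 0
  obtain ⟨eB⟩ := nonempty_tw_OX (k := k) 0 0 0 1
  obtain ⟨eC⟩ := nonempty_tw_OX (k := k) 1 0 0 1
  let fA : (∐ fun _ : Fin r => OX k 1 0) ≅ ∐ fun _ : Fin r => A :=
    Sigma.mapIso fun _ => (eA ≪≫ eqToIso (by norm_num)).symm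
  let fB : (∐ fun _ : Fin r => OX k 0 1) ≅ ∐ fun _ : Fin r => B :=
    Sigma.mapIso fun _ => (eB ≪≫ eqToIso (by norm_num)).symm
  let fC : P ≅ ∐ fun _ : Fin r => OX k 1 1 := Sigma.mapIso fun _ => eC ≪≫ eqToIso (by norm_num)
  refine ⟨(biprod.mapIso fA fB).hom ≫ biprod.desc mA mB ≫ fC.hom, inferInstance, ?_⟩
  exact surjective_iso_comp _ _ (surjective_comp_iso _ _ hSurj)

end Groth.Agent.Synt29.Quadric
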