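import Mathlib

/-!
Coordinates on a local algebra with residue field equal to the ground field.
-/

universe u

namespace Groth.Agent.Synt29.JetCoords

/-- A minimal set of generators of the maximal ideal gives all jets, and identifies the first one with
that of affine space. -/
theorem exists_coords (k : Type u) [Field k] (A : Type u) [CommRing A] [IsLocalRing A] [IsNoetherianRing A]
    [Algebra k A] (hres : Function.Surjective (algebraMap k (IsLocalRing.ResidueField A))) :
    ∃ x : Fin (IsLocalRing.maximalIdeal A).spanFinrank → A, (∀ i, x i ∈ IsLocalRing.maximalIdeal A) ∧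
      (∀ (n : ℕ) (a : A), ∃ F : MvPolynomial (Fin (IsLocalRing.maximalIdeal A).spanFinrank) k,
        a - MvPolynomial.aeval x F ∈ IsLocalRing.maximalIdeal A ^ n) ∧
      ∃ φ : A →ₐ[k] MvPolynomial (Fin (IsLocalRing.maximalIdeal A).spanFinrank) k ⧸
          MvPolynomial.idealOfVars (Fin (IsLocalRing.maximalIdeal A).spanFinrank) k ^ (1 + 1),
        ∀ i, φ (x i) = Ideal.Quotient.mk _ (MvPolynomial.X i) := by
  classical
  let m := IsLocalRing.maximalIdeal A
  obtain ⟨S, hScard, hSspan⟩ := Submodule.FG.exists_span_finset_card_eq_spanFinrank m.fg_of_isNoetherianRing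
  let d := m.spanFinrank
  let e : Fin d ≃ S := (Finset.equivFinOfCardEq hScard).symm
  let x : Fin d → A := fun i => (e i : A)
  have hx : ∀ i, x i ∈ m := fun i => by
    change (e i : A) ∈ m
    rw [← hSspan]
    exact Submodule.subset_span (Finset.mem_coe.2 (e i).2)
  have hrange : Ideal.span (Set.range x) = m := by
    rw [show Set.range x = (S : Set A) from by
      ext y
      exact ⟨fun ⟨i, h⟩ => h ▸ (e i).2, fun hy => ⟨e.symm ⟨y, hy⟩, by simp [x]⟩⟩]
    exact hSspan
  let P := MvPolynomial (Fin d) k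
  let I : Ideal P := MvPolynomial.idealOfVars (Fin d) k
  have hIspan : I = Ideal.span (Set.range MvPolynomial.X) := rfl
  let ev : P →ₐ[k] A := MvPolynomial.aeval x
  have hmapI : ∀ n, (I ^ n).map ev = m ^ n := fun n => by
    rw [Ideal.map_pow, hIspan, Ideal.map_span, ← Set.range_comp,
      show (ev ∘ MvPolynomial.X) = x from funext fun i => MvPolynomial.aeval_X x i, hrange]
  have hres' : ∀ a : A, ∃ c : k, a - algebraMap k A c ∈ m := by
    intro a
    obtain ⟨c, hc⟩ := hres (IsLocalRing.residue A a)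
    refine ⟨c, ?_⟩
    rw [← IsLocalRing.residue_eq_zero_iff, map_sub, ← hc, sub_eq_zero]
    rfl
  have hsurj : ∀ (n : ℕ) (a : A), ∃ F : P, a - ev F ∈ m ^ n := by
    intro n
    induction n with
    | zero => intro a; exact ⟨0, by simp⟩
    | succ n ih =>
      intro a
      obtain ⟨F, hF⟩ := ih a
      suffices key : ∀ z ∈ m ^ n, ∃ G : P, z - ev G ∈ m ^ (n + 1) by
        obtain ⟨G, hG⟩ := key _ hF
        exact ⟨F + G, by rwa [map_add, ← sub_sub]⟩
      intro z hz
      rw [← hmapI] at hz
      induction hz using Submodule.span_induction with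
      | mem y hy =>
        obtain ⟨G, -, rfl⟩ := hy
        exact ⟨G, by simp⟩
      | zero => exact ⟨0, by simp⟩
      | add y w _ _ hy hw =>
        obtain ⟨G, hG⟩ := hy
        obtain ⟨G', hG'⟩ := hw
        exact ⟨G + G', by rw [map_add, add_sub_add_comm]; exact add_mem hG hG'⟩
      | smul r y hy ihy =>
        obtain ⟨G, hG⟩ := ihy
        obtain ⟨c, hc⟩ := hres' r
        refine ⟨MvPolynomial.C c * G, ?_⟩
        rw [smul_eq_mul, map_mul, show ev (MvPolynomial.C c) = algebraMap k A c from MvPolynomial.aeval_C _ _,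
          show r * y - algebraMap k A c * ev G = (r - algebraMap k A c) * y + algebraMap k A c * (y - ev G) by ring]
        refine add_mem ?_ (Ideal.mul_mem_left _ _ hG)
        rw [pow_succ']
        exact Ideal.mul_mem_mul hc ((hmapI n) ▸ hy)
  let B : ℕ → Type u := fun N => P ⧸ I ^ (N + 1)
  -- the base case: `A ⧸ m ^ 2`
  have hli : ∀ c : Fin d → k, ∑ i, algebraMap k A (c i) * x i ∈ m ^ 2 → c = 0 := by
    intro c hc
    let cl : Fin d → IsLocalRing.CotangentSpace A := fun i => m.toCotangent ⟨x i, hx i⟩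
    have hspan : Submodule.span (IsLocalRing.ResidueField A) (Set.range cl) = ⊤ := by
      refine eq_top_iff.2 fun z _ => ?_
      obtain ⟨⟨y, hy⟩, rfl⟩ := m.toCotangent_surjective z
      obtain ⟨a, ha⟩ := (Submodule.mem_span_range_iff_exists_fun A).1 (hrange.ge hy)
      have : (⟨y, hy⟩ : m) = ∑ i, a i • (⟨x i, hx i⟩ : m) := Subtype.ext (by simp [← ha])
      rw [this, map_sum]
      refine Submodule.sum_mem _ fun i _ => ?_
      rw [map_smul, ← IsScalarTower.algebraMap_smul (IsLocalRing.ResidueField A) (a i)]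
      exact Submodule.smul_mem _ _ (Submodule.subset_span ⟨i, rfl⟩)
    have hind : LinearIndependent (IsLocalRing.ResidueField A) cl :=
      linearIndependent_of_top_le_span_of_card_eq_finrank hspan.ge (by
        rw [Fintype.card_fin]
        exact IsLocalRing.spanFinrank_maximalIdeal_eq_finrank_cotangentSpace (R := A))
    have h0 : ∑ i, IsLocalRing.residue A (algebraMap k A (c i)) • cl i = 0 := by
      have hz : m.toCotangent (∑ i, algebraMap k A (c i) • (⟨x i, hx i⟩ : m)) = 0 := by
        rw [Ideal.toCotangent_eq_zero]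
        simpa [Algebra.smul_def] using hc
      rw [map_sum] at hz
      rw [← hz]
      refine Finset.sum_congr rfl fun i _ => ?_
      rw [map_smul]
      exact IsScalarTower.algebraMap_smul (IsLocalRing.ResidueField A) _ _
    funext i
    have hi := Fintype.linearIndependent_iff.1 hind _ h0 i
    by_contra hne
    exact (((isUnit_iff_ne_zero.2 hne).map (algebraMap k A)).map (IsLocalRing.residue A)).ne_zero hi
  have hinj2 : ∀ F : P, ev F ∈ m ^ 2 → F ∈ I ^ 2 := by
    intro F hF
    let c : Fin d → k := fun i => F.coeff (Finsupp.single i 1)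
    have hF' : F - (MvPolynomial.C (F.coeff 0) + ∑ i, MvPolynomial.C (c i) * MvPolynomial.X i) ∈ I ^ 2 := by
      rw [MvPolynomial.mem_pow_idealOfVars_iff']
      intro s hs
      rw [MvPolynomial.coeff_sub, MvPolynomial.coeff_add, MvPolynomial.coeff_C, MvPolynomial.coeff_sum]
      simp only [MvPolynomial.coeff_C_mul, MvPolynomial.coeff_X']
      rcases Nat.lt_or_ge s.degree 1 with h | h
      · have : s = 0 := Finsupp.degree_eq_zero_iff s |>.1 (by omega)
        subst this
        simp
      · have hs1 : s.degree = 1 := by omega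
        obtain ⟨i, rfl⟩ := Finsupp.range_single_one.ge hs1
        simp [c, Finsupp.single_left_inj, eq_comm (a := (0 : Fin d →₀ ℕ))]
    have h1 : ev (MvPolynomial.C (F.coeff 0) + ∑ i, MvPolynomial.C (c i) * MvPolynomial.X i) ∈ m ^ 2 := by
      have := (hmapI 2).le (Ideal.mem_map_of_mem ev hF')
      rw [map_sub] at this
      exact (Submodule.sub_mem_iff_right _ hF).1 this
    have hev : ev (MvPolynomial.C (F.coeff 0) + ∑ i, MvPolynomial.C (c i) * MvPolynomial.X i) =
        algebraMap k A (F.coeff 0) + ∑ i, algebraMap k A (c i) * x i := by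
      rw [map_add, map_sum]
      refine congr_arg₂ (· + ·) (MvPolynomial.aeval_C x (F.coeff 0)) (Finset.sum_congr rfl fun i _ => ?_)
      rw [map_mul]
      exact congr_arg₂ (· * ·) (MvPolynomial.aeval_C x (c i)) (MvPolynomial.aeval_X x i)
    rw [hev] at h1
    have hsum : ∑ i, algebraMap k A (c i) * x i ∈ m :=
      Ideal.sum_mem _ fun i _ => Ideal.mul_mem_left _ _ (hx i)
    have hc0 : F.coeff 0 = 0 := by
      by_contra hne
      exact (IsLocalRing.notMem_maximalIdeal.2 ((isUnit_iff_ne_zero.2 hne).map (algebraMap k A)))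
        ((Submodule.add_mem_iff_left _ hsum).1 (Ideal.pow_le_self two_ne_zero h1))
    rw [hc0, map_zero, zero_add] at h1
    have hc1 := hli c h1
    rw [hc0, hc1] at hF'
    simpa using hF'
  obtain ⟨φ1, hφ1⟩ : ∃ φ : A →ₐ[k] B 1, ∀ i, φ (x i) = Ideal.Quotient.mk _ (MvPolynomial.X i) := by
    let ψ : B 1 →ₐ[k] A ⧸ m ^ 2 := Ideal.Quotient.liftₐ _ ((Ideal.Quotient.mkₐ k (m ^ 2)).comp ev) fun z hz => by
      rw [AlgHom.comp_apply, Ideal.Quotient.mkₐ_eq_mk, Ideal.Quotient.eq_zero_iff_mem]
      exact (hmapI 2).le (Ideal.mem_map_of_mem ev hz)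
    have hψ : Function.Bijective ψ := by
      refine ⟨(injective_iff_map_eq_zero ψ).2 fun z hz => ?_, fun a => ?_⟩
      · obtain ⟨F, rfl⟩ := Ideal.Quotient.mk_surjective z
        exact Ideal.Quotient.eq_zero_iff_mem.2 (hinj2 F (Ideal.Quotient.eq_zero_iff_mem.1 hz))
      · obtain ⟨a, rfl⟩ := Ideal.Quotient.mk_surjective a
        obtain ⟨F, hF⟩ := hsurj 2 a
        exact ⟨Ideal.Quotient.mk _ F, (Ideal.Quotient.eq.2 hF).symm⟩
    refine ⟨(AlgEquiv.ofBijective ψ hψ).symm.toAlgHom.comp (Ideal.Quotient.mkₐ k (m ^ 2)), fun i => ?_⟩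
    show (AlgEquiv.ofBijective ψ hψ).symm (Ideal.Quotient.mk (m ^ 2) (x i)) = _
    rw [AlgEquiv.symm_apply_eq]
    show Ideal.Quotient.mk (m ^ 2) (x i) = Ideal.Quotient.mk (m ^ 2) (ev (MvPolynomial.X i))
    exact congrArg _ (MvPolynomial.aeval_X x i).symm
  exact ⟨x, hx, hsurj, φ1, hφ1⟩

end Groth.Agent.Synt29.JetCoords
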