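import Mathlib

/-!
Differentials of a smooth algebra over a truncated polynomial ring.
-/

universe u

open Polynomial
open scoped TensorProduct

namespace Groth.Agent.Synt29.DtSeq

variable (k : Type u) [Field k] [CharZero k] (n : ℕ)
  {D : Type u} [CommRing D] [Algebra k D] (τ : D)
  (e : (k[X] ⧸ Ideal.span {(X : k[X]) ^ (n + 1)}) ≃ₐ[k] D)
  (he : e (Ideal.Quotient.mk (Ideal.span {(X : k[X]) ^ (n + 1)}) X) = τ)
  (B : Type u) [CommRing B] [Algebra k B] [Algebra D B] [IsScalarTower k D B]
  {t : B} (ht : t = algebraMap D B τ)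

include he ht

omit [CharZero k] in
theorem pow_eq_zero : t ^ (n + 1) = 0 := by
  rw [ht, ← map_pow, ← he, ← map_pow, ← map_pow, (Ideal.Quotient.eq_zero_iff_mem).2 (Ideal.mem_span_singleton_self _),
    map_zero, map_zero]

theorem pow_smul_D_eq_zero : (t ^ n) • KaehlerDifferential.D k B t = 0 := by
  have h := congrArg (KaehlerDifferential.D k B) (pow_eq_zero k n τ e he B ht)
  rw [map_zero, Derivation.leibniz_pow, Nat.add_sub_cancel, ← Nat.cast_smul_eq_nsmul B (n + 1)] at h
  have hu : IsUnit ((n + 1 : ℕ) : B) := by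
    rw [← map_natCast (algebraMap k B)]
    exact (isUnit_iff_ne_zero.2 (Nat.cast_ne_zero.2 (by omega))).map _
  exact hu.smul_eq_zero.1 h

omit [CharZero k] in
theorem adjoin_tau : Algebra.adjoin k {τ} = ⊤ := by
  refine eq_top_iff.2 fun d _ => ?_
  obtain ⟨q, rfl⟩ := e.surjective d
  obtain ⟨P, rfl⟩ := Ideal.Quotient.mk_surjective q
  have hP : e (Ideal.Quotient.mk (Ideal.span {(X : k[X]) ^ (n + 1)}) P) = aeval τ P := by
    rw [← he]
    exact (congrArg (fun F : k[X] →ₐ[k] D => F P) (Polynomial.algHom_ext (f := e.toAlgHom.comp (Ideal.Quotient.mkₐ k _))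
      (g := aeval (e (Ideal.Quotient.mk (Ideal.span {(X : k[X]) ^ (n + 1)}) X))) (by simp)))
  rw [hP, Algebra.adjoin_singleton_eq_range_aeval]
  exact ⟨P, rfl⟩

omit [CharZero k] in
theorem exists_eq_smul_D {η : Ω[B⁄k]} (h : KaehlerDifferential.map k D B B η = 0) :
    ∃ b : B, η = b • KaehlerDifferential.D k B t := by
  obtain ⟨z, rfl⟩ := (KaehlerDifferential.exact_mapBaseChange_map k D B η).1 h
  have hgen : ∀ w : Ω[D⁄k], w ∈ Submodule.span D {KaehlerDifferential.D k D τ} := by
    intro w
    have : Submodule.span D (Set.range (KaehlerDifferential.D k D)) ≤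
        Submodule.span D {KaehlerDifferential.D k D τ} := by
      rw [Submodule.span_le]
      rintro _ ⟨d, rfl⟩
      have hd : d ∈ Algebra.adjoin k {τ} := (adjoin_tau k n τ e he B ht).ge Algebra.mem_top
      induction hd using Algebra.adjoin_induction with
      | mem x hx => rw [Set.mem_singleton_iff.1 hx]; exact Submodule.subset_span rfl
      | algebraMap r => rw [Derivation.map_algebraMap]; exact zero_mem _
      | add x y _ _ hx hy => rw [map_add]; exact add_mem hx hy
      | mul x y _ _ hx hy =>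
        rw [Derivation.leibniz]
        exact add_mem (Submodule.smul_mem _ _ hy) (Submodule.smul_mem _ _ hx)
    exact this (by rw [KaehlerDifferential.span_range_derivation]; trivial)
  induction z using TensorProduct.induction_on with
  | zero => exact ⟨0, by simp⟩
  | tmul b w =>
    obtain ⟨d, rfl⟩ := Submodule.mem_span_singleton.1 (hgen w)
    refine ⟨b * algebraMap D B d, ?_⟩
    rw [KaehlerDifferential.mapBaseChange_tmul, map_smul, KaehlerDifferential.map_D, ← ht, mul_smul,
      algebraMap_smul]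
  | add x y hx hy =>
    obtain ⟨a, ha⟩ := hx ((KaehlerDifferential.exact_mapBaseChange_map k D B _).2 ⟨x, rfl⟩)
    obtain ⟨c, hc⟩ := hy ((KaehlerDifferential.exact_mapBaseChange_map k D B _).2 ⟨y, rfl⟩)
    exact ⟨a + c, by rw [map_add, ha, hc, add_smul]⟩

omit [CharZero k] in
theorem smooth [Algebra.FiniteType k B] [Module.Flat D B] (hsm : Algebra.Smooth k (B ⧸ Ideal.span {t})) :
    Algebra.Smooth D B := by
  have : Algebra.FiniteType k D := Algebra.FiniteType.equiv inferInstance e
  have : IsNoetherianRing D := Algebra.FiniteType.isNoetherianRing k D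
  have : Algebra.FiniteType D B := Algebra.FiniteType.of_restrictScalars_finiteType k D B
  have : Algebra.FinitePresentation D B := Algebra.FinitePresentation.of_finiteType.1 inferInstance
  refine Algebra.Smooth.of_formallySmooth_fiber fun P hP => ?_
  let κ := P.ResidueField
  have hτP : τ ∈ P := by
    refine hP.mem_of_pow_mem (n + 1) ?_
    rw [← he, ← map_pow, ← map_pow, (Ideal.Quotient.eq_zero_iff_mem).2 (Ideal.mem_span_singleton_self _), map_zero]
    exact P.zero_mem
  -- the residue field is `k`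
  have hsurj : Function.Surjective (algebraMap k κ) := by
    have hf : (IsScalarTower.toAlgHom k D κ).range ≤ (Algebra.ofId k κ).range := by
      rw [← Algebra.map_top, ← adjoin_tau k n τ e he B ht, AlgHom.map_adjoin, Algebra.adjoin_le_iff]
      rintro _ ⟨x, hx, rfl⟩
      rw [Set.mem_singleton_iff.1 hx]
      exact ⟨0, by simpa using (Ideal.algebraMap_residueField_eq_zero.2 hτP).symm⟩
    intro y
    obtain ⟨a, b, hb, rfl⟩ := IsFractionRing.div_surjective (A := D ⧸ P) y
    obtain ⟨a, rfl⟩ := Ideal.Quotient.mk_surjective a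
    obtain ⟨b, rfl⟩ := Ideal.Quotient.mk_surjective b
    obtain ⟨a', ha'⟩ := hf ⟨a, rfl⟩
    obtain ⟨b', hb'⟩ := hf ⟨b, rfl⟩
    refine ⟨a' / b', ?_⟩
    rw [map_div₀]
    exact congr_arg₂ (· / ·) ha' hb'
  let κe : k ≃ₐ[k] κ := AlgEquiv.ofBijective (Algebra.ofId k κ) ⟨(algebraMap k κ).injective, hsurj⟩
  let T := B ⧸ Ideal.span {t}
  -- the fibre is `B ⧸ t`
  have hker : ∀ d : D, algebraMap D κ d = 0 → algebraMap D T d = 0 := by
    intro d hd
    obtain ⟨q, hq⟩ : ∃ c : k, d - algebraMap k D c ∈ Ideal.span {τ} := by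
      have hd : d ∈ Algebra.adjoin k {τ} := (adjoin_tau k n τ e he B ht).ge Algebra.mem_top
      rw [Algebra.adjoin_singleton_eq_range_aeval] at hd
      obtain ⟨Q, rfl⟩ := hd
      refine ⟨Q.coeff 0, ?_⟩
      rw [Ideal.mem_span_singleton]
      obtain ⟨R, hR⟩ : X ∣ Q - C (Q.coeff 0) := by rw [X_dvd_iff]; simp
      exact ⟨aeval τ R, by rw [show τ * aeval τ R = aeval τ (X * R) by simp, ← hR, map_sub, aeval_C]; rfl⟩
    obtain ⟨r, hr⟩ := Ideal.mem_span_singleton.1 hq
    have hd' : d = algebraMap k D q + τ * r := by rw [← hr, add_sub_cancel]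
    have hq0 : q = 0 := by
      rw [hd', map_add, map_mul, Ideal.algebraMap_residueField_eq_zero.2 hτP, zero_mul, add_zero,
        ← IsScalarTower.algebraMap_apply] at hd
      exact (algebraMap k κ).injective (by rw [hd, map_zero])
    rw [hd', hq0, map_zero, zero_add, map_mul, IsScalarTower.algebraMap_apply D B T, ← ht]
    rw [show algebraMap B T t = 0 from Ideal.Quotient.eq_zero_iff_mem.2 (Ideal.mem_span_singleton_self _), zero_mul]
  let jk : κ →ₐ[k] T := (Algebra.ofId k T).comp κe.symm.toAlgHom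
  have hj : ∀ d : D, jk (algebraMap D κ d) = algebraMap D T d := by
    intro d
    obtain ⟨c, hc⟩ := hsurj (algebraMap D κ d)
    have h0 : algebraMap D κ (d - algebraMap k D c) = 0 := by
      rw [map_sub, ← IsScalarTower.algebraMap_apply, hc, sub_self]
    have h1 := hker _ h0
    rw [map_sub, sub_eq_zero, ← IsScalarTower.algebraMap_apply] at h1
    rw [← hc, AlgHom.commutes, h1]
  let j : κ →ₐ[D] T := { jk.toRingHom with commutes' := hj }
  let f : κ ⊗[D] B →ₐ[D] T := Algebra.TensorProduct.productMap j (IsScalarTower.toAlgHom D B T)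
  let g0 : B →ₐ[D] κ ⊗[D] B := Algebra.TensorProduct.includeRight
  have hg0 : ∀ b ∈ Ideal.span {t}, g0 b = 0 := by
    intro b hb
    obtain ⟨c, rfl⟩ := Ideal.mem_span_singleton.1 hb
    rw [map_mul, ht, AlgHom.commutes, IsScalarTower.algebraMap_apply D κ (κ ⊗[D] B),
      Ideal.algebraMap_residueField_eq_zero.2 hτP, map_zero, zero_mul]
  let g : T →ₐ[D] κ ⊗[D] B := Ideal.Quotient.liftₐ _ g0 hg0
  have hfg : ∀ z, g (f z) = z := by
    intro z
    induction z using TensorProduct.induction_on with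
    | zero => simp
    | add x y hx hy => rw [map_add, map_add, hx, hy]
    | tmul c b =>
      obtain ⟨c', rfl⟩ := hsurj c
      have hcj : j (algebraMap k κ c') = Ideal.Quotient.mk _ (algebraMap k B c') := jk.commutes c'
      rw [show f (algebraMap k κ c' ⊗ₜ[D] b) = j (algebraMap k κ c') * Ideal.Quotient.mk _ b from rfl, hcj,
        ← map_mul]
      show g0 (algebraMap k B c' * b) = _
      show (1 : κ) ⊗ₜ[D] (algebraMap k B c' * b) = _
      rw [IsScalarTower.algebraMap_apply k D B, IsScalarTower.algebraMap_apply k D κ, ← Algebra.smul_def,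
        ← TensorProduct.smul_tmul, Algebra.smul_def, mul_one]
  have hgf : ∀ z, f (g z) = z := by
    intro z
    obtain ⟨b, rfl⟩ := Ideal.Quotient.mk_surjective z
    show j 1 * Ideal.Quotient.mk _ b = _
    rw [map_one, one_mul]
  let F : T ≃ₐ[D] κ ⊗[D] B := AlgEquiv.ofAlgHom g f (AlgHom.ext hfg) (AlgHom.ext hgf)
  have : Algebra.FormallySmooth k T := hsm.1
  let _ : Algebra κ T := jk.toRingHom.toAlgebra
  have : IsScalarTower k κ T := IsScalarTower.of_algebraMap_eq fun c => (jk.commutes c).symm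
  have : Algebra.FormallyEtale k κ := Algebra.FormallyEtale.of_equiv κe
  have : Algebra.FormallySmooth κ T :=
    (Algebra.FormallySmooth.iff_restrictScalars (R := k)).1 inferInstance
  let F' : T ≃ₐ[κ] κ ⊗[D] B :=
    { F.toRingEquiv with
      commutes' := fun c => by
        show g (jk c) = c ⊗ₜ[D] (1 : B)
        have := hfg (c ⊗ₜ[D] (1 : B))
        rw [show f (c ⊗ₜ[D] (1 : B)) = j c * 1 from by simp [f], mul_one] at this
        exact this }
  exact Algebra.FormallySmooth.of_equiv F'

omit [CharZero k] in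
theorem exists_section [Algebra.Smooth D B] :
    ∃ s : Ω[B⁄D] →ₗ[B] Ω[B⁄k], ∀ x, KaehlerDifferential.map k D B B (s x) = x := by
  obtain ⟨s, hs⟩ := Module.projective_lifting_property (KaehlerDifferential.map k D B B) LinearMap.id
    (KaehlerDifferential.map_surjective k D B)
  exact ⟨s, LinearMap.congr_fun hs⟩

omit [CharZero k] in
/-- The functional dual to `dt`, modulo `t ^ n`. -/
theorem exists_functional [Algebra.Smooth D B] :
    ∃ ρ : Ω[B⁄k] →ₗ[B] B ⧸ Ideal.span {t ^ n}, ρ (KaehlerDifferential.D k B t) = 1 := by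
  let B' := B ⧸ Ideal.span {t ^ n}
  let t' : B' := algebraMap D B' τ
  have ht' : t' = Ideal.Quotient.mk _ t :=
    congrArg (Ideal.Quotient.mk (Ideal.span {t ^ n})) ht.symm
  have htn : t' ^ n = 0 := by
    rw [ht', ← map_pow]
    exact Ideal.Quotient.eq_zero_iff_mem.2 (Ideal.mem_span_singleton_self _)
  let dX : k[X] →ₗ[k] B' := (aeval t').toLinearMap ∘ₗ (derivative : k[X] →ₗ[k] k[X])
  have hvan : ((Ideal.span {(X : k[X]) ^ (n + 1)}).restrictScalars k) ≤ LinearMap.ker dX := by
    intro P hP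
    obtain ⟨Q, rfl⟩ := Ideal.mem_span_singleton.1 hP
    simp [dX, derivative_mul, derivative_X_pow, pow_succ, htn]
    rcases Nat.eq_zero_or_pos n with rfl | hn
    · simp
    · rw [mul_assoc _ _ t', ← pow_succ, Nat.sub_add_cancel hn, htn, mul_zero, zero_mul]
  let dq : (k[X] ⧸ Ideal.span {(X : k[X]) ^ (n + 1)}) →ₗ[k] B' :=
    Submodule.liftQ ((Ideal.span {(X : k[X]) ^ (n + 1)}).restrictScalars k) dX hvan
  let dl : D →ₗ[k] B' := dq ∘ₗ e.symm.toLinearMap
  have hdl : ∀ P, dl (e (Ideal.Quotient.mk _ P)) = aeval t' (derivative P) := fun P => by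
    simp only [dl, LinearMap.comp_apply, AlgEquiv.toLinearMap_apply, AlgEquiv.symm_apply_apply]
    rfl
  have halg : ∀ P, algebraMap D B' (e (Ideal.Quotient.mk _ P)) = aeval t' P := by
    intro P
    have hP : e (Ideal.Quotient.mk (Ideal.span {(X : k[X]) ^ (n + 1)}) P) = aeval τ P := by
      rw [← he]
      exact (congrArg (fun F : k[X] →ₐ[k] D => F P) (Polynomial.algHom_ext (f := e.toAlgHom.comp (Ideal.Quotient.mkₐ k _))
        (g := aeval (e (Ideal.Quotient.mk (Ideal.span {(X : k[X]) ^ (n + 1)}) X))) (by simp)))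
    rw [hP, ← aeval_algebraMap_apply]
  let δ : Derivation k D B' := Derivation.mk' dl fun a b => by
    obtain ⟨a, rfl⟩ := e.surjective a
    obtain ⟨b, rfl⟩ := e.surjective b
    obtain ⟨P, rfl⟩ := Ideal.Quotient.mk_surjective a
    obtain ⟨Q, rfl⟩ := Ideal.Quotient.mk_surjective b
    rw [← map_mul, ← map_mul, hdl, hdl, hdl, derivative_mul, map_add, map_mul, map_mul, Algebra.smul_def,
      Algebra.smul_def, halg, halg]
    ring
  let Ψ : B ⊗[D] Ω[D⁄k] →ₗ[B] B' := LinearMap.liftBaseChange B δ.liftKaehlerDifferential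
  have hinj : Function.Injective (KaehlerDifferential.mapBaseChange k D B) := by
    rw [← LinearMap.ker_eq_bot, eq_bot_iff]
    intro x hx
    obtain ⟨y, rfl⟩ := (Algebra.H1Cotangent.exact_δ_mapBaseChange k D B x).1 hx
    rw [Subsingleton.elim y 0, map_zero]
    exact Submodule.zero_mem _
  obtain ⟨s, hs⟩ := exists_section k n τ e he B ht
  let π := KaehlerDifferential.map k D B B
  let i := KaehlerDifferential.mapBaseChange k D B
  let p : Ω[B⁄k] →ₗ[B] LinearMap.range i :=
    LinearMap.codRestrict _ (LinearMap.id - s ∘ₗ π) fun x =>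
      (KaehlerDifferential.exact_mapBaseChange_map k D B _).1 (by simp [π, hs])
  let r : Ω[B⁄k] →ₗ[B] B ⊗[D] Ω[D⁄k] := (LinearEquiv.ofInjective i hinj).symm.toLinearMap ∘ₗ p
  refine ⟨Ψ ∘ₗ r, ?_⟩
  have hdt : i ((1 : B) ⊗ₜ[D] KaehlerDifferential.D k D τ) = KaehlerDifferential.D k B t := by
    simp [i, ht]
  have hr : r (KaehlerDifferential.D k B t) = (1 : B) ⊗ₜ[D] KaehlerDifferential.D k D τ := by
    apply hinj
    have h1 : i (r (KaehlerDifferential.D k B t)) = (p (KaehlerDifferential.D k B t) : Ω[B⁄k]) := by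
      simp only [r, LinearMap.comp_apply, LinearEquiv.coe_coe]
      exact congrArg Subtype.val ((LinearEquiv.ofInjective i hinj).apply_symm_apply _)
    refine h1.trans ?_
    show KaehlerDifferential.D k B t - s (π (KaehlerDifferential.D k B t)) = _
    rw [show π (KaehlerDifferential.D k B t) = KaehlerDifferential.D D B t from KaehlerDifferential.map_D _ _ _ _ _,
      show KaehlerDifferential.D D B t = 0 by rw [ht, Derivation.map_algebraMap], map_zero, sub_zero]
    exact hdt.symm
  rw [LinearMap.comp_apply, hr]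
  simp only [Ψ, LinearMap.liftBaseChange_tmul, one_smul, Derivation.liftKaehlerDifferential_comp_D]
  show dl τ = 1
  rw [← he, hdl, derivative_X, map_one]

omit [CharZero k] in
/-- A multiple of `dt` vanishing modulo `t ^ n` has coefficient divisible by `t ^ n`. -/
theorem mem_of_tmul_smul_D_eq_zero [Algebra.Smooth D B] {b : B}
    (h : (1 : B ⧸ Ideal.span {t ^ n}) ⊗ₜ[B] (b • KaehlerDifferential.D k B t) = 0) :
    b ∈ Ideal.span {t ^ n} := by
  obtain ⟨ρ, hρ⟩ := exists_functional k n τ e he B ht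
  have h2 := congrArg (LinearMap.liftBaseChange (B ⧸ Ideal.span {t ^ n}) ρ) h
  rw [map_zero, LinearMap.liftBaseChange_tmul, one_smul, map_smul, hρ, Algebra.smul_def, mul_one] at h2
  exact Ideal.Quotient.eq_zero_iff_mem.1 h2

end Groth.Agent.Synt29.DtSeq
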