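import Mathlib

/-!
Turning a sequence that is regular on a basic open of affine space into a global regular sequence one variable up.
-/

universe u

open MvPolynomial RingTheory.Sequence

set_option linter.style.haveILetI false

namespace Groth.Agent.Synt29.RegSeqAway

variable {A : Type u} [CommRing A] {N : ℕ}

/-- The polynomial `h T - 1`. -/
noncomputable def unitPoly (h : MvPolynomial (Fin N) A) : MvPolynomial (Fin (N + 1)) A :=
  rename Fin.castSucc h * X (Fin.last N) - 1

theorem unitPoly_mul_cancel (h : MvPolynomial (Fin N) A) (x : MvPolynomial (Fin (N + 1)) A)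
    (hx : unitPoly h * x = 0) : x = 0 := by
  -- x = h T x, hence x is divisible by every power of T
  have h1 : x = rename Fin.castSucc h * X (Fin.last N) * x := by
    rw [unitPoly, sub_mul, one_mul, sub_eq_zero] at hx
    exact hx.symm
  have h2 : ∀ n : ℕ, ∃ y, x = X (Fin.last N) ^ n * y := by
    intro n
    induction n with
    | zero => exact ⟨x, by simp⟩
    | succ n ih =>
      obtain ⟨y, hy⟩ := ih
      exact ⟨rename Fin.castSucc h * y, by rw [h1, hy]; ring⟩
  ext m
  rw [coeff_zero]
  obtain ⟨y, hy⟩ := h2 (m (Fin.last N) + 1)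
  rw [hy, X_pow_eq_monomial, coeff_monomial_mul', if_neg]
  intro hle
  have := hle (Fin.last N)
  simp at this

variable (h : MvPolynomial (Fin N) A) (J : Ideal (MvPolynomial (Fin N) A))

/-- The ideal `(hT - 1) + J`. -/
noncomputable def K : Ideal (MvPolynomial (Fin (N + 1)) A) :=
  Ideal.span {unitPoly h} ⊔ J.map (rename Fin.castSucc (R := A)).toRingHom

theorem unitPoly_mem : unitPoly h ∈ K h J := Submodule.mem_sup_left (Ideal.subset_span rfl)

theorem rename_mem {a : MvPolynomial (Fin N) A} (ha : a ∈ J) : rename Fin.castSucc a ∈ K h J :=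
  Submodule.mem_sup_right (Ideal.mem_map_of_mem _ ha)

theorem exists_reduce (x : MvPolynomial (Fin (N + 1)) A) :
    ∃ (m : ℕ) (a : MvPolynomial (Fin N) A), rename Fin.castSucc h ^ m * x - rename Fin.castSucc a ∈ K h J := by
  induction x using MvPolynomial.induction_on with
  | C r => exact ⟨0, C r, by simp⟩
  | add p q hp hq =>
    obtain ⟨m, a, ha⟩ := hp
    obtain ⟨m', a', ha'⟩ := hq
    refine ⟨m + m', h ^ m' * a + h ^ m * a', ?_⟩
    have := Ideal.add_mem _ (Ideal.mul_mem_left _ (rename Fin.castSucc h ^ m') ha)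
      (Ideal.mul_mem_left _ (rename Fin.castSucc h ^ m) ha')
    convert this using 1
    simp only [map_add, map_mul, map_pow]
    ring
  | mul_X p i hp =>
    obtain ⟨m, a, ha⟩ := hp
    refine Fin.lastCases ?_ (fun j => ?_) i
    · refine ⟨m + 1, a, ?_⟩
      have := Ideal.add_mem _ (Ideal.mul_mem_left _ (rename Fin.castSucc h * X (Fin.last N)) ha)
        (Ideal.mul_mem_left _ (rename Fin.castSucc a) (unitPoly_mem h J))
      convert this using 1
      rw [unitPoly]
      ring
    · refine ⟨m, a * X j, ?_⟩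
      have := Ideal.mul_mem_right (X (Fin.castSucc j)) _ ha
      convert this using 1
      simp only [map_mul, rename_X]
      ring

theorem mem_of_pow_mul_mem (m : ℕ) {x : MvPolynomial (Fin (N + 1)) A}
    (hx : rename Fin.castSucc h ^ m * x ∈ K h J) : x ∈ K h J := by
  have h1 : Ideal.Quotient.mk (K h J) (rename Fin.castSucc h) * Ideal.Quotient.mk (K h J) (X (Fin.last N)) = 1 := by
    rw [← map_mul, ← map_one (Ideal.Quotient.mk (K h J)), Ideal.Quotient.eq]
    exact unitPoly_mem h J
  rw [← Ideal.Quotient.eq_zero_iff_mem] at hx ⊢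
  rw [map_mul, map_pow] at hx
  exact (((IsUnit.of_mul_eq_one _ h1)).pow m).mul_right_eq_zero.1 hx

theorem exists_pow_mul_mem_of_rename_mem {a : MvPolynomial (Fin N) A} (ha : rename Fin.castSucc a ∈ K h J) :
    ∃ m : ℕ, h ^ m * a ∈ J := by
  let S := MvPolynomial (Fin N) A ⧸ J
  let g : S := Ideal.Quotient.mk J h
  let L := Localization.Away g
  let v : Fin (N + 1) → L :=
    Fin.snoc (fun i => algebraMap S L (Ideal.Quotient.mk J (X i))) (IsLocalization.Away.invSelf g)
  let φ : MvPolynomial (Fin (N + 1)) A →ₐ[A] L := aeval v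
  have hren : ∀ p, φ (rename Fin.castSucc p) = algebraMap S L (Ideal.Quotient.mk J p) := by
    intro p
    have : φ.comp (rename Fin.castSucc) = (IsScalarTower.toAlgHom A S L).comp (Ideal.Quotient.mkₐ A J) :=
      MvPolynomial.algHom_ext fun i => by simp [φ, v, S]
    exact AlgHom.congr_fun this p
  have hK : K h J ≤ RingHom.ker φ.toRingHom := by
    refine sup_le (Ideal.span_le.2 ?_) (Ideal.map_le_iff_le_comap.2 fun b hb => ?_)
    · rintro _ rfl
      show φ (unitPoly h) = 0
      rw [unitPoly, map_sub, map_mul, hren, map_one, show φ (X (Fin.last N)) = IsLocalization.Away.invSelf g by simp [φ, v],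
        IsLocalization.Away.mul_invSelf, sub_self]
    · show φ (rename Fin.castSucc b) = 0
      rw [hren, Ideal.Quotient.eq_zero_iff_mem.2 hb, map_zero]
  have h0 : φ (rename Fin.castSucc a) = 0 := hK ha
  rw [hren, IsLocalization.map_eq_zero_iff (Submonoid.powers g)] at h0
  obtain ⟨⟨_, m, rfl⟩, hm⟩ := h0
  refine ⟨m, ?_⟩
  rw [← Ideal.Quotient.eq_zero_iff_mem, map_mul, map_pow]
  exact hm

/-- A non-zero-divisor modulo `J` on `D(h)` stays one modulo `(hT - 1) + J`. -/
theorem mem_K_of_mul_mem (f : MvPolynomial (Fin N) A) (hf : ∀ a, f * a ∈ J → h * a ∈ J)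
    {x : MvPolynomial (Fin (N + 1)) A} (hx : rename Fin.castSucc f * x ∈ K h J) : x ∈ K h J := by
  obtain ⟨m, a, ha⟩ := exists_reduce h J x
  refine mem_of_pow_mul_mem h J m ?_
  have h2 : rename Fin.castSucc (f * a) ∈ K h J := by
    have := Ideal.sub_mem _ (Ideal.mul_mem_left _ (rename Fin.castSucc h ^ m) hx)
      (Ideal.mul_mem_left _ (rename Fin.castSucc f) ha)
    convert this using 1
    rw [map_mul]
    ring
  obtain ⟨n, hn⟩ := exists_pow_mul_mem_of_rename_mem h J h2
  have h3 : h ^ (n + 1) * a ∈ J := by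
    have := hf (h ^ n * a) (by rw [mul_left_comm]; exact hn)
    rwa [pow_succ', mul_assoc]
  have h4 : rename Fin.castSucc a ∈ K h J := by
    refine mem_of_pow_mul_mem h J (n + 1) ?_
    rw [← map_pow, ← map_mul]
    exact rename_mem h J h3
  have := Ideal.add_mem _ ha h4
  rwa [sub_add_cancel] at this

theorem map_ofList (l : List (MvPolynomial (Fin N) A)) :
    Ideal.ofList (unitPoly h :: l.map (rename Fin.castSucc)) = K h (Ideal.ofList l) := by
  rw [Ideal.ofList_cons, K, Ideal.map_ofList]
  rfl

/-- The shifted sequence is weakly regular. -/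
theorem isWeaklyRegular (l : List (MvPolynomial (Fin N) A))
    (hl : ∀ (i : ℕ) (hi : i < l.length), ∀ a, l[i] * a ∈ Ideal.ofList (l.take i) → h * a ∈ Ideal.ofList (l.take i)) :
    IsWeaklyRegular (MvPolynomial (Fin (N + 1)) A) (unitPoly h :: l.map (rename Fin.castSucc)) := by
  constructor
  intro i hi
  rw [isSMulRegular_quotient_iff_mem_of_smul_mem]
  intro x hx
  rw [smul_eq_mul, smul_eq_mul, Ideal.mul_top] at hx
  rw [smul_eq_mul, Ideal.mul_top]
  cases i with
  | zero =>
    simp only [List.take_zero, Ideal.ofList_nil, Ideal.mem_bot, List.getElem_cons_zero] at hx ⊢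
    exact unitPoly_mul_cancel h x hx
  | succ i =>
    simp only [List.take_succ_cons, ← List.map_take, map_ofList, List.getElem_cons_succ, List.getElem_map] at hx ⊢
    exact mem_K_of_mul_mem h _ _ (hl i _) hx

end Groth.Agent.Synt29.RegSeqAway
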