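import Mathlib
import Groth.Agent.Alg6.AssDepth
import Groth.Agent.RegLoc6.Pd
import Groth.Agent.RegLoc6.Restrict
import Groth.Agent.RegLoc6.Serre
import Groth.Agent.RegLoc6.Seq

/-!
# Ideals of finite projective dimension with free conormal module (Vasconcelos)
-/

set_option autoImplicit false
set_option linter.style.haveILetI false
set_option backward.isDefEq.respectTransparency.types false

universe u

open IsLocalRing RingTheory.Sequence Groth.Agent.RegLoc6

namespace Groth.Agent.Synt29

/-- Prime avoidance for a coset of an ideal. -/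
theorem exists_add_notMem_of_not_le {R : Type u} [CommRing R] (s : Finset (Ideal R)) (hs : ∀ p ∈ s, p.IsPrime)
    (J : Ideal R) (hJ : ∀ p ∈ s, ¬ J ≤ p) (x : R) : ∃ y ∈ J, ∀ p ∈ s, x + y ∉ p := by
  classical
  induction s using Finset.strongInduction with
  | H s ih =>
    by_cases hne : s.Nonempty
    · obtain ⟨p, hp, hmin⟩ := s.exists_minimal hne
      obtain ⟨y, hy, hy'⟩ := ih (s.erase p) (Finset.erase_ssubset hp)
        (fun q hq => hs q (Finset.mem_of_mem_erase hq)) (fun q hq => hJ q (Finset.mem_of_mem_erase hq))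
      by_cases hxp : x + y ∈ p
      · haveI := hs p hp
        have hnot : ¬ J * ∏ q ∈ s.erase p, q ≤ p := by
          intro hle
          rcases (Ideal.IsPrime.mul_le ‹_›).1 hle with h | h
          · exact hJ p hp h
          · obtain ⟨q, hq, hqp⟩ := (Ideal.IsPrime.prod_le ‹_›).1 h
            refine (Finset.ne_of_mem_erase hq) (le_antisymm hqp (hmin (Finset.mem_of_mem_erase hq) hqp))
        obtain ⟨y', hy'mem, hy'p⟩ := SetLike.not_le_iff_exists.1 hnot
        refine ⟨y + y', J.add_mem hy (Ideal.mul_le_inf hy'mem).1, fun q hq => ?_⟩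
        rw [← add_assoc]
        by_cases hqp : q = p
        · subst hqp
          exact fun h => hy'p ((q.add_mem_iff_right hxp).1 h)
        · have hq' : q ∈ s.erase p := Finset.mem_erase.2 ⟨hqp, hq⟩
          have hy'q : y' ∈ q := (Ideal.prod_le_inf.trans (Finset.inf_le hq')) (Ideal.mul_le_inf hy'mem).2
          exact fun h => hy' q hq' ((q.add_mem_iff_left hy'q).1 h)
      · refine ⟨y, hy, fun q hq => ?_⟩
        by_cases hqp : q = p
        · exact hqp ▸ hxp
        · exact hy' q (Finset.mem_erase.2 ⟨hqp, hq⟩)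
    · exact ⟨0, J.zero_mem, fun p hp => absurd ⟨p, hp⟩ hne⟩

/-- An ideal of finite projective dimension is projective, hence zero, at a depth zero point of its locus. -/
theorem eq_bot_of_pdLE_of_socle {R : Type u} [CommRing R] [IsLocalRing R] [IsNoetherianRing R] {z : R} (hz0 : z ≠ 0)
    (hz : ∀ a ∈ maximalIdeal R, a * z = 0) (J : Ideal R) (hJ : J ≤ maximalIdeal R) {n : ℕ} (h : PdLE R n J) :
    J = ⊥ := by
  haveI := projective_of_socle hz0 hz n J h
  haveI : Module.Free R J := Module.free_of_flat_of_isLocalRing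
  let b := Module.Free.chooseBasis R J
  have hempty : IsEmpty (Module.Free.ChooseBasisIndex R J) := ⟨fun j => hz0 (by
    have h0 : z • b j = 0 := Subtype.ext ((mul_comm z _).trans (hz _ (hJ (b j).2)))
    simpa using congrArg (fun v => b.repr v j) h0)⟩
  have : Subsingleton J := b.repr.toEquiv.subsingleton
  exact Submodule.subsingleton_iff_eq_bot.mp this

theorem pdLE_ideal_map_localization {R : Type u} [CommRing R] (S : Submonoid R) (I : Ideal R) {n : ℕ}
    (h : PdLE R n I) : PdLE (Localization S) n (I.map (algebraMap R (Localization S))) :=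
  pdLE_of_equiv ((IsLocalizedModule.iso S (Algebra.idealMap (S := Localization S) I)).extendScalarsOfIsLocalization S
    (Localization S)) (pdLE_localized h S)

/-- An ideal of finite projective dimension whose conormal module has a free summand lies in no associated prime. -/
theorem not_le_of_mem_associatedPrimes {R : Type u} [CommRing R] [IsNoetherianRing R] (I : Ideal R) {n : ℕ}
    (h : PdLE R n I) (x : I) (φ : I →ₗ[R] R ⧸ I) (hφ : φ x = 1) {P : Ideal R} (hP : P ∈ associatedPrimes R R) :
    ¬ I ≤ P := by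
  intro hle
  obtain ⟨hPp, z, hz⟩ := Alg6.mem_ass_iff.1 hP
  haveI := hPp
  let RP := Localization.AtPrime P
  have hz0 : algebraMap R RP z ≠ 0 := fun h0 => by
    obtain ⟨u, hu⟩ := (IsLocalization.map_eq_zero_iff P.primeCompl RP z).1 h0
    exact u.2 ((hz u).2 hu)
  have hzm : ∀ a ∈ maximalIdeal RP, a * algebraMap R RP z = 0 := fun a ha => by
    rw [← IsLocalization.AtPrime.map_eq_maximalIdeal P RP, IsLocalization.mem_map_algebraMap_iff P.primeCompl] at ha
    obtain ⟨⟨⟨c, hc⟩, s⟩, hcs⟩ := ha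
    refine (IsLocalization.map_units RP s).mul_right_eq_zero.1 ?_
    rw [← mul_assoc, mul_comm _ a, hcs, ← map_mul]
    show algebraMap R RP (c * z) = 0
    rw [show c * z = 0 from (hz c).1 hc, map_zero]
  have hJ : I.map (algebraMap R RP) = ⊥ :=
    eq_bot_of_pdLE_of_socle hz0 hzm _
      ((Ideal.map_mono hle).trans_eq (IsLocalization.AtPrime.map_eq_maximalIdeal P RP))
      (pdLE_ideal_map_localization P.primeCompl I h)
  have hx : algebraMap R RP x = 0 := (Ideal.mem_bot).1 (hJ ▸ Ideal.mem_map_of_mem _ x.2)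
  obtain ⟨u, hu⟩ := (IsLocalization.map_eq_zero_iff P.primeCompl RP x.1).1 hx
  have h1 : (u : R) • φ x = 0 := by
    rw [← map_smul, show (u : R) • x = 0 from Subtype.ext hu, map_zero]
  rw [hφ] at h1
  exact u.2 (hle (Ideal.Quotient.eq_zero_iff_mem.1 (by simpa [Algebra.smul_def] using h1)))

/-- A generator of a free summand of the conormal module lifts to a non zero divisor. -/
theorem exists_add_isSMulRegular {R : Type u} [CommRing R] [IsNoetherianRing R] (I : Ideal R) {n : ℕ}
    (h : PdLE R n I) (x : I) (φ : I →ₗ[R] R ⧸ I) (hφ : φ x = 1) :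
    ∃ y ∈ I ^ 2, IsSMulRegular R (x.1 + y) := by
  classical
  obtain ⟨y, hy, hy'⟩ := exists_add_notMem_of_not_le (associatedPrimes.finite R R).toFinset
    (fun p hp => IsAssociatedPrime.isPrime ((Set.Finite.mem_toFinset _).1 hp)) (I ^ 2)
    (fun p hp hle => not_le_of_mem_associatedPrimes I h x φ hφ ((Set.Finite.mem_toFinset _).1 hp)
      ((IsAssociatedPrime.isPrime ((Set.Finite.mem_toFinset _).1 hp)).le_of_pow_le hle)) x.1
  exact ⟨y, hy, Alg6.isSMulRegular_iff_forall_ass.2 fun p hp => hy' p ((Set.Finite.mem_toFinset _).2 hp)⟩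

/-- Linear maps to `R ⧸ I` vanish on the square of `I`. -/
theorem eq_of_sub_mem_sq {R : Type u} [CommRing R] {I : Ideal R} (φ : I →ₗ[R] R ⧸ I) {a b : I}
    (h : (a : R) - b ∈ I ^ 2) : φ a = φ b := by
  rw [← sub_eq_zero, ← map_sub]
  have hmem : a - b ∈ (I • ⊤ : Submodule R I) := by
    rw [Submodule.mem_smul_top_iff, smul_eq_mul, ← sq]
    exact h
  have : (I • ⊤ : Submodule R I) ≤ LinearMap.ker φ := Submodule.smul_le.2 fun r hr m _ => by
    rw [LinearMap.mem_ker, map_smul, Algebra.smul_def, Ideal.Quotient.algebraMap_eq,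
      Ideal.Quotient.eq_zero_iff_mem.2 hr, zero_mul]
  exact this hmem

/-- The reduction of an ideal modulo a regular element splitting off from its conormal module. -/
theorem pdLE_map_quotient {R : Type u} [CommRing R] [IsNoetherianRing R] (I : Ideal R) {n : ℕ} (h : PdLE R n I)
    (x : I) (hx : IsSMulRegular R x.1) (φ : I →ₗ[R] R ⧸ I) (hφ : φ x = 1) :
    PdLE (R ⧸ Ideal.span {x.1}) n (I.map (Ideal.Quotient.mk (Ideal.span {x.1}))) := by
  let K := Ideal.span {x.1}
  have hreg : IsSMulRegular I x.1 := fun a b hab => Subtype.ext (hx (congrArg Subtype.val hab))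
  have hq := pdLE_quotient hx n I hreg h
  let N : Submodule R I := K • ⊤
  let π : I →ₗ[R] (I.map (Ideal.Quotient.mk K) : Ideal (R ⧸ K)) :=
    { toFun := fun a => ⟨Ideal.Quotient.mk K a.1, Ideal.mem_map_of_mem _ a.2⟩
      map_add' := fun _ _ => Subtype.ext (map_add _ _ _)
      map_smul' := fun c a => Subtype.ext (by
        show Ideal.Quotient.mk K (c * a.1) = c • Ideal.Quotient.mk K a.1
        rw [map_mul]; rfl) }
  have hπ : Function.Surjective π := by
    rintro ⟨v, hv⟩
    rw [Ideal.mem_map_iff_of_surjective _ Ideal.Quotient.mk_surjective] at hv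
    obtain ⟨a, ha, rfl⟩ := hv
    exact ⟨⟨a, ha⟩, rfl⟩
  have hπN : N ≤ LinearMap.ker π := Submodule.smul_le.2 fun r hr m _ =>
    Subtype.ext (Ideal.Quotient.eq_zero_iff_mem.mpr (K.mul_mem_right _ hr))
  let ψ : (R ⧸ I) →ₗ[R] (I ⧸ N) :=
    Submodule.liftQ I (LinearMap.toSpanSingleton R _ (N.mkQ x)) fun r hr => by
      rw [LinearMap.mem_ker, LinearMap.toSpanSingleton_apply, ← map_smul, Submodule.mkQ_apply,
        Submodule.Quotient.mk_eq_zero, show r • x = x.1 • (⟨r, hr⟩ : I) from Subtype.ext (mul_comm _ _)]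
      exact Submodule.smul_mem_smul (Ideal.mem_span_singleton_self _) Submodule.mem_top
  let τ : I →ₗ[R] (I ⧸ N) := N.mkQ - ψ.comp φ
  have hψ1 : ψ 1 = N.mkQ x := by
    show LinearMap.toSpanSingleton R _ (N.mkQ x) 1 = _
    simp
  have hτker : LinearMap.ker π ≤ LinearMap.ker τ := by
    intro a ha
    obtain ⟨c, hc⟩ := Ideal.mem_span_singleton'.1
      (Ideal.Quotient.eq_zero_iff_mem.1 (congrArg Subtype.val (LinearMap.mem_ker.1 ha)))
    have : a = c • x := Subtype.ext hc.symm
    subst this
    simp [τ, map_smul, hφ, hψ1]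
  let i₀ : (I.map (Ideal.Quotient.mk K) : Ideal (R ⧸ K)) →ₗ[R] (I ⧸ N) :=
    ((LinearMap.ker π).liftQ τ hτker).comp (π.quotKerEquivOfSurjective hπ).symm.toLinearMap
  let i := i₀.extendScalarsOfSurjective (S := R ⧸ K) Ideal.Quotient.mk_surjective
  let p : (I ⧸ N) →ₗ[R ⧸ K] (I.map (Ideal.Quotient.mk K) : Ideal (R ⧸ K)) :=
    (N.liftQ π hπN).extendScalarsOfSurjective Ideal.Quotient.mk_surjective
  refine pdLE_of_retract i p (LinearMap.ext fun v => ?_) hq
  obtain ⟨a, rfl⟩ := hπ v
  have h1 : (π.quotKerEquivOfSurjective hπ).symm (π a) = Submodule.Quotient.mk a := by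
    rw [LinearEquiv.symm_apply_eq]; rfl
  show (N.liftQ π hπN) (((LinearMap.ker π).liftQ τ hτker) ((π.quotKerEquivOfSurjective hπ).symm (π a))) = π a
  rw [h1]
  show (N.liftQ π hπN) (τ a) = π a
  obtain ⟨r, hr⟩ := Ideal.Quotient.mk_surjective (φ a)
  have h2 : ψ (φ a) = r • N.mkQ x := by
    rw [← hr]
    rfl
  have h3 : π x = 0 := Subtype.ext (Ideal.Quotient.eq_zero_iff_mem.2 (Ideal.mem_span_singleton_self _))
  rw [show τ a = N.mkQ a - ψ (φ a) from rfl, h2, map_sub, map_smul]
  show π a - r • π x = π a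
  rw [h3, smul_zero, sub_zero]

/-- Vasconcelos: a free summand of the conormal module of an ideal of finite projective dimension is generated
by a regular sequence. -/
theorem exists_isWeaklyRegular_of_dual : ∀ (r : ℕ) (R : Type u) [CommRing R] [IsNoetherianRing R] (I : Ideal R)
    (n : ℕ), PdLE R n I → ∀ (x : Fin r → I) (φ : Fin r → (I →ₗ[R] R ⧸ I)),
    (∀ i j, φ i (x j) = if i = j then 1 else 0) →
    ∃ x' : Fin r → I, (∀ i, (x' i : R) - x i ∈ I ^ 2) ∧ IsWeaklyRegular R (List.ofFn fun i => (x' i : R)) := by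
  intro r
  induction r with
  | zero =>
    intro R _ _ I n _ x φ _
    exact ⟨x, fun i => i.elim0, by rw [List.ofFn_zero]; exact IsWeaklyRegular.nil R R⟩
  | succ r ih =>
    intro R _ _ I n h x φ hφ
    obtain ⟨y, hy, hreg⟩ := exists_add_isSMulRegular I h (x 0) (φ 0) (by simpa using hφ 0 0)
    let x₀ : I := ⟨(x 0).1 + y, I.add_mem (x 0).2 (Ideal.pow_le_self two_ne_zero hy)⟩
    have hφ0 : ∀ i, φ i x₀ = φ i (x 0) := fun i => eq_of_sub_mem_sq _ (by simpa [x₀] using hy)
    let K := Ideal.span {x₀.1}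
    let I' := I.map (Ideal.Quotient.mk K)
    let π : I →ₗ[R] I' :=
      { toFun := fun a => ⟨Ideal.Quotient.mk K a.1, Ideal.mem_map_of_mem _ a.2⟩
        map_add' := fun _ _ => Subtype.ext (map_add _ _ _)
        map_smul' := fun c a => Subtype.ext (by
          show Ideal.Quotient.mk K (c * a.1) = c • Ideal.Quotient.mk K a.1
          rw [map_mul]; rfl) }
    have hπ : Function.Surjective π := by
      rintro ⟨v, hv⟩
      rw [Ideal.mem_map_iff_of_surjective _ Ideal.Quotient.mk_surjective] at hv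
      obtain ⟨a, ha, rfl⟩ := hv
      exact ⟨⟨a, ha⟩, rfl⟩
    let θ : (R ⧸ I) →ₗ[R] ((R ⧸ K) ⧸ I') :=
      Submodule.liftQ I ((Algebra.linearMap R ((R ⧸ K) ⧸ I'))) fun a ha =>
        Ideal.Quotient.eq_zero_iff_mem.2 (Ideal.mem_map_of_mem _ ha)
    have hker : ∀ i : Fin r, LinearMap.ker π ≤ LinearMap.ker (θ.comp (φ i.succ)) := by
      intro i a ha
      obtain ⟨c, hc⟩ := Ideal.mem_span_singleton'.1
        (Ideal.Quotient.eq_zero_iff_mem.1 (congrArg Subtype.val (LinearMap.mem_ker.1 ha)))
      have : a = c • x₀ := Subtype.ext hc.symm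
      subst this
      rw [LinearMap.mem_ker, LinearMap.comp_apply, map_smul, hφ0, hφ, if_neg (Fin.succ_ne_zero i), smul_zero, map_zero]
    let φ' : Fin r → (I' →ₗ[R ⧸ K] (R ⧸ K) ⧸ I') := fun i =>
      (((LinearMap.ker π).liftQ (θ.comp (φ i.succ)) (hker i)).comp
        (π.quotKerEquivOfSurjective hπ).symm.toLinearMap).extendScalarsOfSurjective Ideal.Quotient.mk_surjective
    have hφ' : ∀ (i : Fin r) (a : I), φ' i (π a) = θ (φ i.succ a) := fun i a => by
      have h1 : (π.quotKerEquivOfSurjective hπ).symm (π a) = Submodule.Quotient.mk a := by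
        rw [LinearEquiv.symm_apply_eq]; rfl
      show ((LinearMap.ker π).liftQ (θ.comp (φ i.succ)) (hker i)) ((π.quotKerEquivOfSurjective hπ).symm (π a)) = _
      rw [h1]
      rfl
    obtain ⟨z, hz, hzreg⟩ := ih (R ⧸ K) I' n (pdLE_map_quotient I h x₀ hreg (φ 0) (by rw [hφ0]; simpa using hφ 0 0))
      (fun j => π (x j.succ)) φ' fun i j => by
        rw [hφ', hφ]
        by_cases hij : i = j
        · subst hij
          rw [if_pos rfl, if_pos rfl]
          exact map_one (algebraMap R ((R ⧸ K) ⧸ I'))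
        · rw [if_neg hij, if_neg fun e => hij (Fin.succ_injective r e), map_zero]
    have hlift : ∀ j : Fin r, ∃ w ∈ I ^ 2, Ideal.Quotient.mk K w = (z j : R ⧸ K) - π (x j.succ) := fun j => by
      have := hz j
      rw [← Ideal.map_pow, Ideal.mem_map_iff_of_surjective _ Ideal.Quotient.mk_surjective] at this
      exact this
    choose w hw hw' using hlift
    let x' : Fin (r + 1) → I := Fin.cons x₀ fun j =>
      ⟨(x j.succ).1 + w j, I.add_mem (x j.succ).2 (Ideal.pow_le_self two_ne_zero (hw j))⟩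
    refine ⟨x', fun i => ?_, ?_⟩
    · refine Fin.cases ?_ (fun j => ?_) i
      · simpa [x', x₀] using hy
      · simpa [x'] using hw j
    · rw [List.ofFn_succ, isWeaklyRegular_cons_quot_iff]
      refine ⟨hreg, ?_⟩
      have hlist : (List.ofFn fun j : Fin r => ((x' j.succ : I) : R)).map (Ideal.Quotient.mk K) =
          List.ofFn fun j : Fin r => ((z j : I') : R ⧸ K) := by
        rw [List.map_ofFn]
        refine congrArg List.ofFn (funext fun j => ?_)
        show Ideal.Quotient.mk K ((x j.succ).1 + w j) = _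
        rw [map_add, hw']
        show Ideal.Quotient.mk K (x j.succ).1 + ((z j : R ⧸ K) - Ideal.Quotient.mk K (x j.succ).1) = _
        abel
      show IsWeaklyRegular (R ⧸ K) ((List.ofFn fun j : Fin r => ((x' j.succ : I) : R)).map (Ideal.Quotient.mk K))
      rw [hlist]
      exact hzreg

end Groth.Agent.Synt29
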