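import Mathlib
import Groth.Agent.Synt29.Vasconcelos

/-!
# Free direct summands of the conormal module
-/

set_option autoImplicit false
set_option linter.style.haveILetI false
set_option backward.isDefEq.respectTransparency.types false

universe u

open CategoryTheory

namespace Groth.Agent.Synt29

theorem pdLE_of_hasProjectiveDimensionLT {R : Type u} [CommRing R] (M : Type u) [AddCommGroup M] [Module R M] {n : ℕ}
    (h : HasProjectiveDimensionLT (ModuleCat.of R M) n) : RegLoc6.PdLE R n M :=
  @hasProjectiveDimensionLT_of_ge _ _ _ (ModuleCat.of R M) n (n + 1) (Nat.le_succ n) h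

/-- A free direct summand of the conormal module is generated by a weakly regular sequence. -/
theorem exists_isWeaklyRegular_of_isCompl {R : Type u} [CommRing R] [IsNoetherianRing R] (I : Ideal R) {n : ℕ}
    (hpd : RegLoc6.PdLE R n I) (F G : Submodule (R ⧸ I) I.Cotangent) (hFG : IsCompl F G) (r : ℕ)
    (e : F ≃ₗ[R ⧸ I] (Fin r → R ⧸ I)) :
    ∃ x : Fin r → I, RingTheory.Sequence.IsWeaklyRegular R (List.ofFn fun i => (x i : R)) ∧
      Submodule.span (R ⧸ I) (Set.range fun i => I.toCotangent (x i)) = F := by
  classical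
  let pF := F.projectionOnto G hFG
  let v : Fin r → F := fun i => e.symm (Pi.single i 1)
  choose x hx using fun i => I.toCotangent_surjective (v i : I.Cotangent)
  let φ : Fin r → (I →ₗ[R] R ⧸ I) := fun i =>
    ((LinearMap.proj i).comp (e.toLinearMap.comp pF)).restrictScalars R ∘ₗ I.toCotangent
  have hφ : ∀ i j, φ i (x j) = if i = j then 1 else 0 := fun i j => by
    show e (pF (I.toCotangent (x j))) i = _
    rw [hx, Submodule.projectionOnto_apply_left, LinearEquiv.apply_symm_apply, Pi.single_apply]
  obtain ⟨x', hx', hreg⟩ := exists_isWeaklyRegular_of_dual r R I n hpd x φ hφ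
  refine ⟨x', hreg, ?_⟩
  have h : (fun i => I.toCotangent (x' i)) = fun i => (v i : I.Cotangent) := funext fun i => by
    rw [← hx]
    exact (Ideal.toCotangent_eq I).2 (hx' i)
  rw [h]
  refine le_antisymm (Submodule.span_le.2 (by rintro _ ⟨i, rfl⟩; exact (v i).2)) fun w hw => ?_
  have : (⟨w, hw⟩ : F) = ∑ i, e ⟨w, hw⟩ i • v i := by
    apply e.injective
    funext j
    simp [v, map_sum, Pi.single_apply]
  rw [show w = ((∑ i, e ⟨w, hw⟩ i • v i : F) : I.Cotangent) from congrArg Subtype.val this, Submodule.coe_sum]
  exact Submodule.sum_mem _ fun i _ => Submodule.smul_mem _ _ (Submodule.subset_span ⟨i, rfl⟩)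

end Groth.Agent.Synt29
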