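import Mathlib
import Groth.Agent.S5165
import Groth.Agent.EtGlue7.Flat
import Groth.Agent.Synt29.Fibres
import Groth.Agent.Synt29.FlatLCI
import Groth.Agent.Synt29.ConormalProj
import Groth.Agent.Synt29.Comp
import Groth.Agent.Synt29.VasconcelosSummand
import Groth.Agent.Synt29.VasconcelosLocal

/-!
# Flat algebras with flat conormal module have local complete intersection fibres
-/

set_option autoImplicit false
set_option linter.style.haveILetI false
set_option backward.isDefEq.respectTransparency.types false

universe u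

open TensorProduct Algebra

namespace Groth.Agent.Synt29

variable {A B : Type u} [CommRing A] [CommRing B] [Algebra A B]

/-- For a flat algebra the conormal module of the base change is the base change of the conormal module. -/
theorem bijective_conormal_baseChange [Module.Flat A B] (P : Extension.{u} A B) (T : Type u) [CommRing T] [Algebra A T]
    (Θ : T ⊗[A] P.Cotangent →ₗ[A] (P.baseChange (T := T)).Cotangent)
    (hΘ : ∀ (t : T) (a : P.ker), Θ (t ⊗ₜ[A] Extension.Cotangent.mk a) =
      Extension.Cotangent.mk ⟨t ⊗ₜ[A] a.1, by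
        rw [P.ker_baseChange T]
        have : (t ⊗ₜ[A] a.1 : T ⊗[A] P.Ring) = (t ⊗ₜ[A] 1) * ((1 : T) ⊗ₜ[A] a.1) := by simp
        rw [this]
        exact Ideal.mul_mem_left _ _ (Ideal.mem_map_of_mem _ a.2)⟩) :
    Function.Bijective Θ := by
  let PT := P.baseChange (T := T)
  let ι₀ : P.ker →ₗ[A] P.Ring := P.ker.subtype.restrictScalars A
  let q₀ : P.Ring →ₗ[A] B := (IsScalarTower.toAlgHom A P.Ring B).toLinearMap
  have hex : Function.Exact ι₀ q₀ := fun x => by
    constructor
    · intro hx
      exact ⟨⟨x, hx⟩, rfl⟩
    · rintro ⟨y, rfl⟩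
      exact y.2
  have hinj : Function.Injective (ι₀.lTensor T) :=
    (LinearMap.lTensor_inj_iff_rTensor_inj T ι₀).mpr
      (EtGlue7.rTensor_injective_of_flat ι₀ q₀ hex P.algebraMap_surjective Subtype.val_injective T)
  have hrange : ∀ (K : Ideal P.Ring) (x : T ⊗[A] P.Ring),
      x ∈ K.map (Algebra.TensorProduct.includeRight : P.Ring →ₐ[A] T ⊗[A] P.Ring).toRingHom ↔
        ∃ w, (K.subtype.restrictScalars A).lTensor T w = x := fun K x =>
    (SetLike.ext_iff.1 (Ideal.map_includeRight_eq (A := T) K) x)
  have hmemk : ∀ z : T ⊗[A] P.ker, ι₀.lTensor T z ∈ PT.ker := fun z => by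
    show _ ∈ (P.baseChange (T := T)).ker
    rw [P.ker_baseChange T]
    exact (hrange P.ker _).2 ⟨z, rfl⟩
  let mk₀ : P.ker →ₗ[A] P.Cotangent := Extension.Cotangent.mk.restrictScalars A
  have hmk : Function.Surjective mk₀ := Extension.Cotangent.mk_surjective
  have hdiag : ∀ z : T ⊗[A] P.ker, Θ (mk₀.lTensor T z) = Extension.Cotangent.mk ⟨ι₀.lTensor T z, hmemk z⟩ := fun z => by
    induction z with
    | zero =>
      rw [map_zero, map_zero]
      refine Eq.symm ((congrArg _ (Subtype.ext (map_zero _))).trans (map_zero Extension.Cotangent.mk))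
    | tmul t a => exact hΘ t a
    | add a b ha hb =>
      rw [map_add, map_add, ha, hb, ← map_add]
      exact congrArg _ (Subtype.ext (map_add (ι₀.lTensor T) a b).symm)
  refine ⟨?_, fun y => ?_⟩
  · rw [injective_iff_map_eq_zero]
    intro z hz
    obtain ⟨z, rfl⟩ := LinearMap.lTensor_surjective T hmk z
    rw [hdiag, Extension.Cotangent.mk_eq_zero_iff] at hz
    have hz' : ι₀.lTensor T z ∈ (P.ker ^ 2).map (Algebra.TensorProduct.includeRight : P.Ring →ₐ[A] T ⊗[A] P.Ring).toRingHom := by
      rw [Ideal.map_pow]
      exact (P.ker_baseChange T) ▸ hz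
    obtain ⟨w, hw⟩ := (hrange (P.ker ^ 2) _).1 hz'
    let j : ↥(P.ker ^ 2) →ₗ[A] P.ker := (Submodule.inclusion (Ideal.pow_le_self two_ne_zero)).restrictScalars A
    have hj : j.lTensor T w = z := by
      apply hinj
      rw [← LinearMap.lTensor_comp_apply]
      exact hw
    rw [← hj, ← LinearMap.lTensor_comp_apply]
    have h0 : mk₀.comp j = 0 := LinearMap.ext fun x =>
      (Extension.Cotangent.mk_eq_zero_iff (P := P) _).2 x.2
    rw [h0, LinearMap.lTensor_zero, LinearMap.zero_apply]
  · obtain ⟨⟨y, hy⟩, rfl⟩ := Extension.Cotangent.mk_surjective y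
    obtain ⟨w, hw⟩ := (hrange P.ker y).1 ((P.ker_baseChange T) ▸ hy)
    exact ⟨mk₀.lTensor T w, (hdiag w).trans (congrArg _ (Subtype.ext hw))⟩

/-- The conormal module of a base change of a flat algebra with flat conormal module is flat. -/
theorem flat_conormal_baseChange [Module.Flat A B] (P : Extension.{u} A B) [Module.Flat B P.Cotangent]
    (T : Type u) [CommRing T] [Algebra A T] :
    Module.Flat (T ⊗[A] B) (P.baseChange (T := T)).Cotangent := by
  letI : Algebra B (T ⊗[A] B) := Algebra.TensorProduct.rightAlgebra
  let m : P.Cotangent →ₗ[B] (P.baseChange (T := T)).Cotangent := Extension.Cotangent.map (P.toBaseChange T)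
  let Ψ : (T ⊗[A] B) ⊗[B] P.Cotangent →ₗ[T ⊗[A] B] (P.baseChange (T := T)).Cotangent := m.liftBaseChange _
  let ν : T ⊗[A] P.Cotangent →ₗ[A] (T ⊗[A] B) ⊗[B] P.Cotangent := TensorProduct.lift
    (LinearMap.mk₂ A (fun (t : T) (c : P.Cotangent) => (t ⊗ₜ[A] (1 : B)) ⊗ₜ[B] c)
      (fun a b c => by rw [TensorProduct.add_tmul, TensorProduct.add_tmul])
      (fun r a c => by rw [← TensorProduct.smul_tmul', ← TensorProduct.smul_tmul'])
      (fun a c d => TensorProduct.tmul_add _ _ _)
      (fun r a c => by
        rw [← algebraMap_smul B r c, TensorProduct.tmul_smul, algebraMap_smul]))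
  have hν : Function.Surjective ν := by
    intro x
    induction x with
    | zero => exact ⟨0, map_zero _⟩
    | add a b ha hb =>
      obtain ⟨a', rfl⟩ := ha
      obtain ⟨b', rfl⟩ := hb
      exact ⟨a' + b', map_add _ _ _⟩
    | tmul f c =>
      induction f with
      | zero => exact ⟨0, by rw [map_zero, TensorProduct.zero_tmul]⟩
      | add a b ha hb =>
        obtain ⟨a', ha⟩ := ha
        obtain ⟨b', hb⟩ := hb
        exact ⟨a' + b', by rw [map_add, ha, hb, TensorProduct.add_tmul]⟩
      | tmul t b =>
        refine ⟨t ⊗ₜ (b • c), ?_⟩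
        show (t ⊗ₜ[A] (1 : B)) ⊗ₜ[B] (b • c) = _
        rw [← TensorProduct.smul_tmul]
        congr 1
        rw [Algebra.smul_def]
        show ((1 : T) ⊗ₜ[A] b) * (t ⊗ₜ[A] (1 : B)) = _
        simp
  let Θ : T ⊗[A] P.Cotangent →ₗ[A] (P.baseChange (T := T)).Cotangent := (Ψ.restrictScalars A) ∘ₗ ν
  have hb := bijective_conormal_baseChange P T Θ fun t a => by
    show Ψ ((t ⊗ₜ[A] (1 : B)) ⊗ₜ[B] Extension.Cotangent.mk a) = _
    rw [show Ψ ((t ⊗ₜ[A] (1 : B)) ⊗ₜ[B] Extension.Cotangent.mk a) =
      (t ⊗ₜ[A] (1 : B)) • m (Extension.Cotangent.mk a) from LinearMap.liftBaseChange_tmul _ _ _ _]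
    show (t ⊗ₜ[A] (1 : B)) • Extension.Cotangent.map (P.toBaseChange T) (Extension.Cotangent.mk a) = _
    rw [Extension.Cotangent.map_mk,
      show (t ⊗ₜ[A] (1 : B)) = algebraMap (P.baseChange (T := T)).Ring (T ⊗[A] B) (t ⊗ₜ[A] (1 : P.Ring)) from
        (congrArg (t ⊗ₜ[A] ·) (map_one (algebraMap P.Ring B))).symm,
      algebraMap_smul, ← map_smul]
    exact congrArg _ (Subtype.ext (by
      show (t ⊗ₜ[A] (1 : P.Ring)) * ((1 : T) ⊗ₜ[A] a.1) = t ⊗ₜ[A] a.1
      simp))
  exact Module.Flat.of_linearEquiv (LinearEquiv.ofBijective Ψ ⟨Function.Injective.of_comp_right (f := ⇑Ψ) (g := ⇑ν) hb.injective hν, Function.Surjective.of_comp (f := ⇑Ψ) (g := ⇑ν) hb.surjective⟩).symm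

/-- Over a field, a presentation with projective conormal module exhibits a local complete intersection. -/
theorem isLCI_of_projective_cotangent {k F : Type u} [Field k] [CommRing F] [Algebra k F] {n : ℕ}
    (P : Generators k F (Fin n)) [Module.Projective F P.toExtension.Cotangent] : LCI.IsLCI k F := by
  let R := MvPolynomial (Fin n) k
  let f : R →ₐ[k] F := MvPolynomial.aeval P.val
  have hf : Function.Surjective f := fun x => ⟨P.σ x, P.aeval_val_σ x⟩
  refine ⟨Algebra.FiniteType.of_surjective f hf, n, f, hf, ?_⟩
  have hker : P.toExtension.ker = RingHom.ker f.toRingHom := Generators.ker_eq_ker_aeval_val (P := P)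
  let I : Ideal R := RingHom.ker f.toRingHom
  haveI : Module.Projective (R ⧸ I) I.Cotangent := by
    have key : ∀ J : Ideal P.toExtension.Ring, J = P.toExtension.ker → Module.Projective (P.toExtension.Ring ⧸ J) J.Cotangent := by
      rintro J rfl
      let σ : F ≃+* (P.toExtension.Ring ⧸ P.toExtension.ker) :=
        (RingHom.quotientKerEquivOfSurjective P.toExtension.algebraMap_surjective).symm
      haveI := RingHomInvPair.of_ringEquiv σ
      haveI := RingHomInvPair.of_ringEquiv_symm σ
      refine Module.Projective.of_equiv (M := P.toExtension.Cotangent) (R := F) (σ := (σ : F →+* P.toExtension.Ring ⧸ P.toExtension.ker))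
        { toFun := fun x => x.val
          map_add' := fun x y => rfl
          map_smul' := fun r x => ?_
          invFun := fun x => Extension.Cotangent.of x
          left_inv := fun _ => rfl
          right_inv := fun _ => rfl }
      obtain ⟨r, rfl⟩ := P.toExtension.algebraMap_surjective r
      rw [show (σ : F →+* P.toExtension.Ring ⧸ P.toExtension.ker) (algebraMap P.toExtension.Ring F r) =
        Ideal.Quotient.mk P.toExtension.ker r from
          (RingHom.quotientKerEquivOfSurjective P.toExtension.algebraMap_surjective).symm_apply_eq.2 rfl,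
        algebraMap_smul, ← Ideal.Quotient.algebraMap_eq, algebraMap_smul]
      exact Extension.Cotangent.val_smul' r x
    exact key I hker.symm
  intro p hp
  obtain ⟨d, hd⟩ := S5165.result R I
  obtain ⟨g, hg, rs, hrs, hgen⟩ := exists_away_isRegular I (n := d) hd p.asIdeal hp
  refine ⟨g, hg, rs, isKoszulRegularSeq_of_local rs fun q _ _ _ => ?_, hgen.symm⟩
  haveI : Module.Flat (Localization.Away g) (Localization.AtPrime q) := IsLocalization.flat _ q.primeCompl
  exact hrs.toIsWeaklyRegular.of_flat

/-- A flat finitely presented algebra with flat conormal module is syntomic. -/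
theorem isSyntomic_of_flat_cotangent [Module.Flat A B] [Algebra.FinitePresentation A B] {n : ℕ}
    (P : Generators A B (Fin n)) [Module.Flat B P.toExtension.Cotangent] : Synt.IsSyntomic A B := by
  refine ⟨inferInstance, inferInstance, fun p => ?_⟩
  let k := p.asIdeal.ResidueField
  let F := p.asIdeal.Fiber B
  refine isLCIOver_of_isSyntomic (isSyntomic_of_flat_of_isLCI ?_)
  haveI : IsNoetherianRing F := Algebra.FiniteType.isNoetherianRing k F
  let PT := P.toExtension.baseChange (T := k)
  let PG : Generators k F (Fin n) := P.baseChange (T := k)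
  haveI : IsNoetherianRing PG.toExtension.Ring := inferInstanceAs (IsNoetherianRing (MvPolynomial (Fin n) k))
  haveI : Module.Finite F PG.toExtension.Cotangent :=
    Extension.Cotangent.finite (IsNoetherian.noetherian _)
  haveI : Module.Flat F PT.Cotangent := flat_conormal_baseChange P.toExtension k
  let u := P.baseChangeFromBaseChange k
  let v := P.baseChangeToBaseChange k
  have huv : u.comp v = Extension.Hom.id _ := Extension.Hom.ext (RingHom.ext fun x =>
    (MvPolynomial.algebraTensorAlgEquiv A k).apply_symm_apply x)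
  have hvu : v.comp u = Extension.Hom.id _ := Extension.Hom.ext (RingHom.ext fun x =>
    (MvPolynomial.algebraTensorAlgEquiv A k).symm_apply_apply x)
  let e : PT.Cotangent ≃ₗ[F] PG.toExtension.Cotangent :=
    LinearEquiv.ofLinear (Extension.Cotangent.map u) (Extension.Cotangent.map v)
      (LinearMap.ext fun x => by
        have h := congrArg (fun w => Extension.Cotangent.map w x) huv
        simp only [Extension.Cotangent.map_comp] at h
        exact h.trans (LinearMap.congr_fun Extension.Cotangent.map_id x))
      (LinearMap.ext fun x => by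
        have h := congrArg (fun w => Extension.Cotangent.map w x) hvu
        simp only [Extension.Cotangent.map_comp] at h
        exact h.trans (LinearMap.congr_fun Extension.Cotangent.map_id x))
  haveI : Module.Flat F PG.toExtension.Cotangent := Module.Flat.of_linearEquiv e.symm
  haveI : Module.FinitePresentation F PG.toExtension.Cotangent := Module.finitePresentation_of_finite _ _
  haveI : Module.Projective F PG.toExtension.Cotangent := Module.Flat.projective_of_finitePresentation
  exact isLCI_of_projective_cotangent PG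

end Groth.Agent.Synt29
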