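import Mathlib
import Groth.Agent.S18939
import Groth.Agent.Synt29.FlatLCI

/-!
# The conormal module of a Koszul regular ideal is finite projective
-/

set_option autoImplicit false
set_option linter.style.haveILetI false
set_option backward.isDefEq.respectTransparency.types false

universe u

open TensorProduct

namespace Groth.Agent.Synt29

variable {A : Type u} [CommRing A] (I : Ideal A) (g : A)

theorem projective_cotangent_localization (l : List (Localization.Away g))
    (hl : LCI.IsKoszulRegularSeq (Localization.Away g) l)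
    (hspan : I.map (algebraMap A (Localization.Away g)) = Ideal.span {x | x ∈ l}) :
    Module.Projective (Localization.Away (Ideal.Quotient.mk I g))
      (Localization.Away (Ideal.Quotient.mk I g) ⊗[A ⧸ I] I.Cotangent) := by
  let Ag := Localization.Away g
  let J := I.map (algebraMap A Ag)
  let T := A ⧸ I
  let h : T := Ideal.Quotient.mk I g
  let Th := Localization.Away h
  let Tg := Ag ⧸ J
  haveI hloc : IsLocalization.Away h Tg := by
    show IsLocalization (Submonoid.powers h) Tg
    rw [show Submonoid.powers h = Algebra.algebraMapSubmonoid T (Submonoid.powers g) from (Algebra.algebraMapSubmonoid_powers (S := T) g).symm]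
    infer_instance
  haveI hfree : Module.Projective Tg J.Cotangent := by
    by_cases htop : J = ⊤
    · haveI : Subsingleton Tg := Ideal.Quotient.subsingleton_iff.2 htop
      haveI : Subsingleton J.Cotangent := Module.subsingleton Tg _
      exact Module.Projective.of_free
    have hl' : List.ofFn (fun i : Fin l.length => l[i]) = l := List.ofFn_getElem
    have hmem : ∀ i : Fin l.length, l[i] ∈ J := fun i => by
      show l[i] ∈ I.map (algebraMap A Ag)
      rw [hspan]
      exact Ideal.subset_span (List.getElem_mem _)
    obtain ⟨b, -⟩ := S18939.result htop l.length (fun i => ⟨l[i], hmem i⟩) (by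
      show LCI.IsKoszulRegularSeq Ag (List.ofFn fun i : Fin l.length => l[i])
      rw [hl']
      exact hl) (by
      show Ideal.span (Set.range fun i : Fin l.length => l[i]) = I.map (algebraMap A Ag)
      rw [hspan]
      refine congrArg Ideal.span (Set.ext fun x => ?_)
      rw [Set.mem_range]
      exact ⟨fun ⟨i, hi⟩ => hi ▸ List.getElem_mem _, fun hx => (List.getElem_of_mem hx).elim fun n ⟨hn, he⟩ => ⟨⟨n, hn⟩, he⟩⟩)
    exact Module.Projective.of_basis b
  letI : Module T J.Cotangent := Module.compHom _ (algebraMap T Tg)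
  haveI : IsScalarTower T Tg J.Cotangent := .of_algebraMap_smul fun _ _ => rfl
  haveI : IsScalarTower Ag (Ag ⧸ J) J.Cotangent := ⟨fun a b v => by
    obtain ⟨v, rfl⟩ := J.toCotangent_surjective v
    obtain ⟨b, rfl⟩ := Ideal.Quotient.mk_surjective b
    show J.toCotangent ((a * b) • v) = a • J.toCotangent (b • v)
    rw [mul_smul, map_smul]⟩
  have hsmul : ∀ (a : A) (v : J.Cotangent), (Ideal.Quotient.mk I a) • v = algebraMap A Ag a • v := fun a v => by
    show (algebraMap T Tg (Ideal.Quotient.mk I a)) • v = _
    rw [← Ideal.Quotient.algebraMap_eq, ← IsScalarTower.algebraMap_apply, IsScalarTower.algebraMap_apply A Ag Tg,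
      algebraMap_smul]
  let φ₀ : I →ₗ[A] J.Cotangent := (J.toCotangent.restrictScalars A) ∘ₗ Algebra.idealMap (S := Ag) I
  have hφ₀ : (I • ⊤ : Submodule A I) ≤ LinearMap.ker φ₀ := Submodule.smul_le.2 fun r hr x _ => by
    rw [LinearMap.mem_ker, map_smul, LinearMap.comp_apply, LinearMap.restrictScalars_apply,
      ← algebraMap_smul Ag r (J.toCotangent _), ← map_smul, Ideal.toCotangent_eq_zero, sq]
    exact Ideal.mul_mem_mul (Ideal.mem_map_of_mem _ hr) (Algebra.idealMap Ag I x).2
  let φ₁ : I.Cotangent →ₗ[A] J.Cotangent := Submodule.liftQ _ φ₀ hφ₀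
  let φ : I.Cotangent →ₗ[T] J.Cotangent :=
    { toFun := φ₁
      map_add' := map_add φ₁
      map_smul' := fun t v => by
        obtain ⟨a, rfl⟩ := Ideal.Quotient.mk_surjective t
        rw [RingHom.id_apply, hsmul, algebraMap_smul]
        exact map_smul φ₁ a v }
  have hφx : ∀ x : I, φ (I.toCotangent x) = J.toCotangent (Algebra.idealMap Ag I x) := fun x => rfl
  haveI hφ : IsLocalizedModule (Submonoid.powers h) φ := by
    constructor
    · rintro ⟨_, n, rfl⟩
      exact (IsLocalization.map_units Tg (⟨h ^ n, n, rfl⟩ : Submonoid.powers h)).map (Algebra.lsmul T T J.Cotangent) |> fun hu => by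
        have he := (Algebra.lsmul T T J.Cotangent : Tg →ₐ[T] Module.End T J.Cotangent).commutes (h ^ n)
        exact he ▸ hu
    · intro y
      obtain ⟨y, rfl⟩ := J.toCotangent_surjective y
      obtain ⟨⟨a, ⟨_, n, rfl⟩⟩, hy⟩ := (IsLocalization.mem_map_algebraMap_iff (Submonoid.powers g) Ag).1 y.2
      refine ⟨⟨I.toCotangent a, ⟨h ^ n, n, rfl⟩⟩, ?_⟩
      show (h ^ n) • J.toCotangent y = φ (I.toCotangent a)
      rw [hφx, show h ^ n = Ideal.Quotient.mk I (g ^ n) from (map_pow _ _ _).symm, hsmul, ← map_smul]
      refine congrArg J.toCotangent (Subtype.ext ?_)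
      show algebraMap A Ag (g ^ n) * (y : Ag) = algebraMap A Ag a
      rw [mul_comm]
      exact hy
    · intro x₁ x₂ he
      obtain ⟨a, rfl⟩ := I.toCotangent_surjective x₁
      obtain ⟨b, rfl⟩ := I.toCotangent_surjective x₂
      rw [hφx, hφx, Ideal.toCotangent_eq] at he
      have he' : algebraMap A Ag ((a : A) - b) ∈ (I ^ 2).map (algebraMap A Ag) := by
        rw [Ideal.map_pow, map_sub]
        exact he
      obtain ⟨⟨⟨c, hc⟩, ⟨_, n, rfl⟩⟩, hcn⟩ := (IsLocalization.mem_map_algebraMap_iff (Submonoid.powers g) Ag).1 he'
      rw [← map_mul, IsLocalization.eq_iff_exists (Submonoid.powers g)] at hcn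
      obtain ⟨⟨_, m, rfl⟩, hm⟩ := hcn
      refine ⟨⟨h ^ (m + n), m + n, rfl⟩, ?_⟩
      show (h ^ (m + n)) • I.toCotangent a = (h ^ (m + n)) • I.toCotangent b
      rw [show h ^ (m + n) = algebraMap A T (g ^ (m + n)) from (map_pow _ _ _).symm, algebraMap_smul, algebraMap_smul,
        ← map_smul, ← map_smul, Ideal.toCotangent_eq]
      show g ^ (m + n) * (a : A) - g ^ (m + n) * (b : A) ∈ I ^ 2
      rw [show g ^ (m + n) * (a : A) - g ^ (m + n) * (b : A) = g ^ m * (((a : A) - b) * g ^ n) by ring, hm]
      exact Ideal.mul_mem_left _ _ hc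
  haveI : Module.Projective Tg (Tg ⊗[T] I.Cotangent) :=
    Module.Projective.of_equiv (IsLocalizedModule.isBaseChange (Submonoid.powers h) Tg φ).equiv.symm
  let e : Tg ≃ₐ[T] Th := IsLocalization.algEquiv (Submonoid.powers h) Tg Th
  letI : Algebra Tg Th := e.toAlgHom.toRingHom.toAlgebra
  haveI : IsScalarTower T Tg Th := .of_algebraMap_eq fun x => (e.commutes x).symm
  exact Module.Projective.of_equiv (AlgebraTensorModule.cancelBaseChange T Tg Th Th I.Cotangent)

theorem finite_cotangent_ideal (h : LCI.IsKoszulRegularIdeal I) : Module.Finite (A ⧸ I) I.Cotangent := by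
  haveI : Module.Finite A I := Module.Finite.iff_fg.2 (fg_ker_of_isKoszulRegularIdeal I h)
  haveI : Module.Finite A I.Cotangent := Module.Finite.of_surjective I.toCotangent I.toCotangent_surjective
  exact Module.Finite.of_restrictScalars_finite A (A ⧸ I) _

theorem projective_cotangent_of_isKoszulRegularIdeal (h : LCI.IsKoszulRegularIdeal I) :
    Module.Projective (A ⧸ I) I.Cotangent := by
  let T := A ⧸ I
  let C := I.Cotangent
  haveI := finite_cotangent_ideal I h
  let s : Set T := {t | Module.Projective (Localization.Away t) (Localization.Away t ⊗[T] C)}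
  have hs : Ideal.span s = ⊤ := by
    by_contra hne
    obtain ⟨m, hm, hle⟩ := Ideal.exists_le_maximal _ hne
    haveI := hm.isPrime
    obtain ⟨g, hg, l, hl, hspan⟩ := h ⟨m.comap (Ideal.Quotient.mk I), inferInstance⟩
      (fun x hx => by
        show Ideal.Quotient.mk I x ∈ m
        rw [Ideal.Quotient.eq_zero_iff_mem.2 hx]
        exact m.zero_mem)
    exact hg (hle (Ideal.subset_span (projective_cotangent_localization I g l hl hspan)))
  haveI : Module.FinitePresentation T C :=
    Module.FinitePresentation.of_localizationSpan' s hs (Rₚ := fun t : s => Localization.Away t.1)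
      (fun t => TensorProduct.mk T (Localization.Away t.1) C 1)
      (fun t => haveI : Module.Projective (Localization.Away t.1) (Localization.Away t.1 ⊗[T] C) := t.2; Module.finitePresentation_of_projective _ _)
  haveI : Module.Flat T C := by
    refine Module.flat_of_isLocalized_span T C s hs (fun t : s => Localization.Away t.1 ⊗[T] C)
      (fun t => TensorProduct.mk T (Localization.Away t.1) C 1) fun t => ?_
    haveI : Module.Projective (Localization.Away t.1) (Localization.Away t.1 ⊗[T] C) := t.2
    haveI : Module.Flat T (Localization.Away t.1) := IsLocalization.flat _ (Submonoid.powers t.1)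
    exact Module.Flat.trans T (Localization.Away t.1) _
  exact Module.Flat.projective_of_finitePresentation

end Groth.Agent.Synt29
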