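import Mathlib
import Groth.Prelude.Def_LCI2
import Groth.Agent.CxLib.Homology

/-!
# The naive cotangent complex from a finite presentation
-/

set_option autoImplicit false
set_option linter.style.haveILetI false
set_option backward.isDefEq.respectTransparency.types false

universe u

open CategoryTheory CategoryTheory.Limits TensorProduct

namespace Groth.Agent.Synt29

section Double

variable {B : Type u} [CommRing B] {M N M' N' : Type u} [AddCommGroup M] [Module B M] [AddCommGroup N] [Module B N]
  [AddCommGroup M'] [Module B M'] [AddCommGroup N'] [Module B N']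

/-- The complex `M → N` in degrees `-1, 0`. -/
noncomputable def twoTerm (d : M →ₗ[B] N) : CochainComplex (ModuleCat.{u} B) ℤ :=
  HomologicalComplex.double (ModuleCat.ofHom d) (show (ComplexShape.up ℤ).Rel (-1) 0 by simp)

theorem isZero_twoTerm (d : M →ₗ[B] N) (i : ℤ) (h : i < -1 ∨ 0 < i) : IsZero ((twoTerm d).X i) :=
  HomologicalComplex.isZero_double_X _ _ i (by omega) (by omega)

/-- The degree `-1` term. -/
noncomputable def twoTermEquiv₁ (d : M →ₗ[B] N) : (twoTerm d).X (-1) ≃ₗ[B] M :=
  (HomologicalComplex.doubleXIso₀ (ModuleCat.ofHom d) (show (ComplexShape.up ℤ).Rel (-1) 0 by simp)).toLinearEquiv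

/-- The degree `0` term. -/
noncomputable def twoTermEquiv₀ (d : M →ₗ[B] N) : (twoTerm d).X 0 ≃ₗ[B] N :=
  (HomologicalComplex.doubleXIso₁ (ModuleCat.ofHom d) (show (ComplexShape.up ℤ).Rel (-1) 0 by simp) (by simp)).toLinearEquiv

theorem twoTerm_d (d : M →ₗ[B] N) (x : (twoTerm d).X (-1)) :
    twoTermEquiv₀ d (((twoTerm d).d (-1) 0).hom x) = d (twoTermEquiv₁ d x) := by
  show twoTermEquiv₀ d (((HomologicalComplex.double (ModuleCat.ofHom d) _).d (-1) 0).hom x) = _
  rw [HomologicalComplex.double_d _ _ (by simp)]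
  exact (HomologicalComplex.doubleXIso₁ (ModuleCat.ofHom d) (show (ComplexShape.up ℤ).Rel (-1) 0 by simp) (by simp)).toLinearEquiv.apply_symm_apply _

/-- A map of two-term complexes. -/
noncomputable def twoTermMap (d : M →ₗ[B] N) (d' : M' →ₗ[B] N') (a : M →ₗ[B] M') (b : N →ₗ[B] N')
    (h : ∀ x, d' (a x) = b (d x)) : twoTerm d ⟶ twoTerm d' :=
  HomologicalComplex.mkHomFromDouble (show (ComplexShape.up ℤ).Rel (-1) 0 by simp) (by simp)
    (ModuleCat.ofHom ((twoTermEquiv₁ d').symm.toLinearMap.comp a))
    (ModuleCat.ofHom ((twoTermEquiv₀ d').symm.toLinearMap.comp b))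
    (by
      ext x
      show ((twoTerm d').d (-1) 0).hom ((twoTermEquiv₁ d').symm (a x)) = (twoTermEquiv₀ d').symm (b (d x))
      apply (twoTermEquiv₀ d').injective
      rw [twoTerm_d, LinearEquiv.apply_symm_apply, LinearEquiv.apply_symm_apply, h])
    (fun k hk => (isZero_twoTerm d' k (Or.inr (by simp at hk; omega))).eq_of_tgt _ _)

theorem twoTermMap_f₁ (d : M →ₗ[B] N) (d' : M' →ₗ[B] N') (a : M →ₗ[B] M') (b : N →ₗ[B] N')
    (h : ∀ x, d' (a x) = b (d x)) (x : (twoTerm d).X (-1)) :
    twoTermEquiv₁ d' (((twoTermMap d d' a b h).f (-1)).hom x) = a (twoTermEquiv₁ d x) := by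
  unfold twoTermMap
  rw [HomologicalComplex.mkHomFromDouble_f₀]
  exact (twoTermEquiv₁ d').apply_symm_apply _

theorem twoTermMap_f₀ (d : M →ₗ[B] N) (d' : M' →ₗ[B] N') (a : M →ₗ[B] M') (b : N →ₗ[B] N')
    (h : ∀ x, d' (a x) = b (d x)) (x : (twoTerm d).X 0) :
    twoTermEquiv₀ d' (((twoTermMap d d' a b h).f 0).hom x) = b (twoTermEquiv₀ d x) := by
  unfold twoTermMap
  rw [HomologicalComplex.mkHomFromDouble_f₁]
  exact (twoTermEquiv₀ d').apply_symm_apply _

/-- A map of two-term complexes which is bijective on kernels and cokernels is a quasi-isomorphism. -/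
theorem quasiIso_twoTermMap (d : M →ₗ[B] N) (d' : M' →ₗ[B] N') (a : M →ₗ[B] M') (b : N →ₗ[B] N')
    (h : ∀ x, d' (a x) = b (d x))
    (hk1 : ∀ x, d x = 0 → a x = 0 → x = 0) (hk2 : ∀ y, d' y = 0 → ∃ x, d x = 0 ∧ a x = y)
    (hc1 : ∀ v w, d' w = b v → ∃ x, d x = v) (hc2 : ∀ y, ∃ v w, d' w = y - b v) :
    QuasiIso (twoTermMap d d' a b h) := by
  refine ⟨fun i => ?_⟩
  by_cases h₁ : i = -1
  · subst h₁
    rw [quasiIsoAt_iff_isIso_homologyMap]
    haveI : Mono (HomologicalComplex.homologyMap (twoTermMap d d' a b h) (-1)) := by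
      rw [CxLib.mono_homologyMap_iff _ (-1) (-2) 0 (by simp) (by simp)]
      rintro x hx ⟨w, hw⟩
      haveI := ModuleCat.isZero_iff_subsingleton.1 (isZero_twoTerm d' (-2) (Or.inl (by omega)))
      rw [Subsingleton.elim w 0, map_zero] at hw
      refine ⟨0, (map_zero _).trans (Eq.symm ((twoTermEquiv₁ d).map_eq_zero_iff.1 (hk1 _ ?_ ?_)))⟩
      · rw [← twoTerm_d, hx, map_zero]
      · rw [← twoTermMap_f₁ d d' a b h, ← hw, map_zero]
    haveI : Epi (HomologicalComplex.homologyMap (twoTermMap d d' a b h) (-1)) := by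
      rw [CxLib.epi_homologyMap_iff _ (-1) (-2) 0 (by simp) (by simp)]
      intro y hy
      obtain ⟨x, hx, hxy⟩ := hk2 (twoTermEquiv₁ d' y) (by rw [← twoTerm_d, hy, map_zero])
      refine ⟨(twoTermEquiv₁ d).symm x, ?_, 0, ?_⟩
      · apply (twoTermEquiv₀ d).injective
        rw [twoTerm_d, LinearEquiv.apply_symm_apply, hx, map_zero]
      · rw [map_zero, eq_comm, sub_eq_zero]
        apply (twoTermEquiv₁ d').injective
        rw [twoTermMap_f₁, LinearEquiv.apply_symm_apply, hxy]
    exact isIso_of_mono_of_epi _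
  by_cases h₀ : i = 0
  · subst h₀
    rw [quasiIsoAt_iff_isIso_homologyMap]
    haveI := ModuleCat.isZero_iff_subsingleton.1 (isZero_twoTerm d 1 (Or.inr (by omega)))
    haveI := ModuleCat.isZero_iff_subsingleton.1 (isZero_twoTerm d' 1 (Or.inr (by omega)))
    haveI : Mono (HomologicalComplex.homologyMap (twoTermMap d d' a b h) 0) := by
      rw [CxLib.mono_homologyMap_iff _ 0 (-1) 1 (by simp) (by simp)]
      rintro v - ⟨w, hw⟩
      obtain ⟨x, hx⟩ := hc1 (twoTermEquiv₀ d v) (twoTermEquiv₁ d' w) (by rw [← twoTerm_d, hw, twoTermMap_f₀])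
      refine ⟨(twoTermEquiv₁ d).symm x, ?_⟩
      apply (twoTermEquiv₀ d).injective
      rw [twoTerm_d, LinearEquiv.apply_symm_apply, hx]
    haveI : Epi (HomologicalComplex.homologyMap (twoTermMap d d' a b h) 0) := by
      rw [CxLib.epi_homologyMap_iff _ 0 (-1) 1 (by simp) (by simp)]
      intro y _
      obtain ⟨v, w, hvw⟩ := hc2 (twoTermEquiv₀ d' y)
      refine ⟨(twoTermEquiv₀ d).symm v, Subsingleton.elim _ _, (twoTermEquiv₁ d').symm w, ?_⟩
      apply (twoTermEquiv₀ d').injective
      rw [twoTerm_d, LinearEquiv.apply_symm_apply, map_sub, twoTermMap_f₀, LinearEquiv.apply_symm_apply, hvw]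
    exact isIso_of_mono_of_epi _
  have hz : ∀ {P Q : Type u} [AddCommGroup P] [Module B P] [AddCommGroup Q] [Module B Q] (e : P →ₗ[B] Q),
      (twoTerm e).ExactAt i := fun e => by
    rw [HomologicalComplex.exactAt_iff]
    exact ShortComplex.exact_of_isZero_X₂ _ (isZero_twoTerm e i (by omega))
  exact (quasiIsoAt_iff_exactAt _ i (hz d)).2 (hz d')

end Double

section NL

variable (A B : Type u) [CommRing A] [CommRing B] [Algebra A B]

open Algebra in
theorem toKaehler_map {P P' : Extension.{u} A B} (f : P.Hom P') (v : P.CotangentSpace) :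
    P'.toKaehler (Extension.CotangentSpace.map f v) = P.toKaehler v := by
  induction v using TensorProduct.induction_on with
  | zero => simp
  | add a b ha hb => rw [map_add, map_add, map_add, ha, hb]
  | tmul s x =>
    obtain ⟨x, rfl⟩ := KaehlerDifferential.tensorProductTo_surjective _ _ x
    induction x with
    | zero => simp only [map_zero, tmul_zero]
    | add a b ha hb => simp only [map_add, tmul_add, ha, hb]
    | tmul a c =>
      simp only [Derivation.tensorProductTo_tmul, tmul_smul, smul_tmul', Extension.CotangentSpace.map_tmul,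
        Extension.Hom.toAlgHom_apply, KaehlerDifferential.mapBaseChange_tmul, KaehlerDifferential.map_D]
      rw [f.algebraMap_toRingHom]
      simp

attribute [local instance] HasDerivedCategory.standard

open Algebra in
/-- The naive cotangent complex is computed by any presentation. -/
theorem nl_iso_twoTerm {ι : Type u} (P : Generators A B ι) :
    Nonempty (DRing.toD (twoTerm P.toExtension.cotangentComplex) ≅ LCI.NL A B) := by
  let Q := Generators.self A B
  let f := (Generators.defaultHom P Q).toExtensionHom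
  let K := twoTerm P.toExtension.cotangentComplex
  let φ := twoTermMap P.toExtension.cotangentComplex Q.toExtension.cotangentComplex (Extension.Cotangent.map f)
    (Extension.CotangentSpace.map f) (fun x => (Extension.CotangentSpace.map_cotangentComplex f x).symm)
  let e := Generators.H1Cotangent.equiv P Q
  haveI : QuasiIso φ := by
    refine quasiIso_twoTermMap _ _ _ _ _ (fun x hx hx' => ?_) (fun y hy => ?_) (fun v w hw => ?_) fun y => ?_
    · have : e ⟨x, hx⟩ = 0 := Subtype.ext hx'
      exact congrArg Subtype.val ((LinearEquiv.map_eq_zero_iff e).1 this)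
    · obtain ⟨x, hx⟩ := e.surjective ⟨y, hy⟩
      exact ⟨x.1, x.2, congrArg Subtype.val hx⟩
    · have : P.toExtension.toKaehler v = 0 := by
        rw [← toKaehler_map A B f, ← hw]
        exact Q.toExtension.exact_cotangentComplex_toKaehler.apply_apply_eq_zero w
      exact (P.toExtension.exact_cotangentComplex_toKaehler v).1 this
    · obtain ⟨v, hv⟩ := P.toExtension.toKaehler_surjective (Q.toExtension.toKaehler y)
      obtain ⟨w, hw⟩ := (Q.toExtension.exact_cotangentComplex_toKaehler (y - Extension.CotangentSpace.map f v)).1 (by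
        rw [map_sub, toKaehler_map A B f, hv, sub_self])
      exact ⟨v, w, hw⟩
  have hiso : IsIso (DerivedCategory.Q.map φ) := (DerivedCategory.isIso_Q_map_iff_quasiIso _ φ).2 inferInstance
  exact ⟨@asIso _ _ _ _ (DerivedCategory.Q.map φ) hiso⟩

end NL

end Groth.Agent.Synt29
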