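import Mathlib
import Groth.Agent.Synt29.NLComp
import Groth.Agent.Synt29.ConormalProj
import Groth.Agent.Synt29.KoszulConormal

/-!
# The naive cotangent complex of a local complete intersection
-/

set_option autoImplicit false
set_option linter.style.haveILetI false
set_option backward.isDefEq.respectTransparency.types false

universe u

open CategoryTheory Algebra

namespace Groth.Agent.Synt29

attribute [local instance] HasDerivedCategory.standard

/-- A local complete intersection has a finite presentation with finite projective conormal module. -/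
theorem exists_presentation_of_isLCI {A B : Type u} [CommRing A] [CommRing B] [Algebra A B] (h : LCI.IsLCI A B) :
    ∃ (n : ℕ) (P : Generators A B (ULift.{u} (Fin n))),
      Module.Projective B P.toExtension.Cotangent ∧ Module.Finite B P.toExtension.Cotangent := by
  obtain ⟨-, n, f, hf, hK⟩ := h
  let v : ULift.{u} (Fin n) → B := fun i => f (MvPolynomial.X i.down)
  let r : MvPolynomial (ULift.{u} (Fin n)) A ≃ₐ[A] MvPolynomial (Fin n) A := MvPolynomial.renameEquiv A Equiv.ulift
  have hv : MvPolynomial.aeval (R := A) v = f.comp r.toAlgHom := MvPolynomial.algHom_ext fun i => by simp [v, r]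
  let P : Generators A B (ULift.{u} (Fin n)) := Generators.ofSurjective v (hv ▸ hf.comp r.surjective)
  refine ⟨n, P, ?_⟩
  have hfg : (RingHom.ker f.toRingHom).FG := fg_ker_of_isKoszulRegularIdeal _ hK
  haveI : Algebra.FinitePresentation A B := Algebra.FinitePresentation.of_surjective hf hfg
  refine ⟨?_, finite_cotangent P⟩
  haveI := projective_cotangent_of_isKoszulRegularIdeal _ hK
  have hf' : MvPolynomial.aeval (R := A) (fun i => f (MvPolynomial.X i)) = f :=
    MvPolynomial.algHom_ext fun i => by simp
  let P₀ : Generators A B (Fin n) := Generators.ofSurjective (fun i => f (MvPolynomial.X i))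
    (by rw [hf']; exact hf)
  have hker₀ : P₀.toExtension.ker = RingHom.ker f.toRingHom := by
    refine (Generators.ker_eq_ker_aeval_val (P := P₀)).trans ?_
    show RingHom.ker (MvPolynomial.aeval (R := A) (fun i => f (MvPolynomial.X i))) = _
    rw [hf']
    rfl
  have key : ∀ J : Ideal (MvPolynomial (Fin n) A), J = RingHom.ker f.toRingHom →
      Module.Projective (MvPolynomial (Fin n) A ⧸ J) J.Cotangent := by
    rintro J rfl
    infer_instance
  haveI : Module.Projective (P₀.toExtension.Ring ⧸ P₀.toExtension.ker) P₀.toExtension.ker.Cotangent := key _ hker₀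
  haveI := projective_cotangent_of_ker P₀.toExtension
  exact projective_cotangent_of_retract P P₀

theorem nl_of_isLCI {A B : Type u} [CommRing A] [CommRing B] [Algebra A B] (h : LCI.IsLCI A B) :
    DRing.IsPerfect B (LCI.NL A B) ∧ DRing.HasTorAmplitudeIn B (-1) 0 (LCI.NL A B) := by
  obtain ⟨n, P, hproj, hfin⟩ := exists_presentation_of_isLCI h
  obtain ⟨e⟩ := nl_iso_twoTerm A B P
  let d := P.toExtension.cotangentComplex
  have hb : Module.Finite B P.toExtension.CotangentSpace ∧ Module.Free B P.toExtension.CotangentSpace :=
    ⟨Module.Finite.of_basis P.cotangentSpaceBasis, Module.Free.of_basis P.cotangentSpaceBasis⟩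
  haveI := hb.1
  haveI := hb.2
  have hX : ∀ i : ℤ, Module.Finite B ((twoTerm d).X i) ∧ Module.Projective B ((twoTerm d).X i) := fun i => by
    by_cases h₁ : i = -1
    · subst h₁
      exact ⟨Module.Finite.equiv (twoTermEquiv₁ d).symm, Module.Projective.of_equiv (twoTermEquiv₁ d).symm⟩
    by_cases h₀ : i = 0
    · subst h₀
      exact ⟨Module.Finite.equiv (twoTermEquiv₀ d).symm, Module.Projective.of_equiv (twoTermEquiv₀ d).symm⟩
    haveI := ModuleCat.isZero_iff_subsingleton.1 (isZero_twoTerm d i (by omega))
    exact ⟨inferInstance, Module.Projective.of_free⟩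
  have hv : DRing.VanishesOutside (twoTerm d) (-1) 0 := fun i hi => isZero_twoTerm d i hi
  exact ⟨⟨twoTerm d, -1, 0, hv, hX, ⟨e⟩⟩,
    ⟨twoTerm d, hv, fun i => haveI := (hX i).2; inferInstance, ⟨e⟩⟩⟩

end Groth.Agent.Synt29
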