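import Mathlib
import Groth.Agent.Synt29.VasconcelosLocal

/-!
# Regular ideals from local finite projective dimension
-/

set_option autoImplicit false
set_option linter.style.haveILetI false
set_option backward.isDefEq.respectTransparency.types false

universe u

open RingTheory.Sequence

namespace Groth.Agent.Synt29

/-- At a prime of its zero locus such an ideal is generated by a weakly regular sequence. -/
theorem exists_isWeaklyRegular_generators_atPrime' {R : Type u} [CommRing R] [IsNoetherianRing R] (I : Ideal R) {n : ℕ}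
    [Module.Projective (R ⧸ I) I.Cotangent] (p : Ideal R) [p.IsPrime] (hIp : I ≤ p)
    (hpd : RegLoc6.PdLE (Localization.AtPrime p) n (I.map (algebraMap R (Localization.AtPrime p)))) :
    ∃ (r : ℕ) (x : Fin r → Localization.AtPrime p), IsWeaklyRegular (Localization.AtPrime p) (List.ofFn x) ∧
      Ideal.span (Set.range x) = I.map (algebraMap R (Localization.AtPrime p)) := by
  classical
  let A := Localization.AtPrime p
  let J := I.map (algebraMap R A)
  have hJm : J ≤ IsLocalRing.maximalIdeal A :=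
    (Ideal.map_mono hIp).trans_eq (IsLocalization.AtPrime.map_eq_maximalIdeal p A)
  haveI : Nontrivial (A ⧸ J) :=
    Ideal.Quotient.nontrivial_iff.2 fun h => (IsLocalRing.maximalIdeal.isMaximal A).ne_top (top_le_iff.1 (h ▸ hJm))
  haveI : IsLocalRing (A ⧸ J) := IsLocalRing.of_surjective' (Ideal.Quotient.mk J) Ideal.Quotient.mk_surjective
  haveI := projective_cotangent_map_atPrime I p.primeCompl A
  haveI : Module.Finite A J.Cotangent := Module.Finite.of_surjective J.toCotangent J.toCotangent_surjective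
  haveI : Module.Finite (A ⧸ J) J.Cotangent := Module.Finite.of_restrictScalars_finite A (A ⧸ J) _
  haveI : Module.Free (A ⧸ J) J.Cotangent := Module.free_of_flat_of_isLocalRing
  let b := Module.finBasis (A ⧸ J) J.Cotangent
  let r := Module.finrank (A ⧸ J) J.Cotangent
  choose x hx using fun i => J.toCotangent_surjective (b i)
  let φ : Fin r → (J →ₗ[A] A ⧸ J) := fun i => (b.coord i).restrictScalars A ∘ₗ J.toCotangent
  have hφ : ∀ i j, φ i (x j) = if i = j then 1 else 0 := fun i j => by
    show b.coord i (J.toCotangent (x j)) = _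
    rw [hx, Module.Basis.coord_apply, Module.Basis.repr_self, Finsupp.single_apply]
    exact if_congr eq_comm rfl rfl
  obtain ⟨x', hx', hreg⟩ := exists_isWeaklyRegular_of_dual r A J n hpd x φ hφ
  refine ⟨r, fun i => (x' i : A), hreg, le_antisymm (Ideal.span_le.2 (by rintro _ ⟨i, rfl⟩; exact (x' i).2)) ?_⟩
  refine Submodule.le_of_le_smul_of_le_jacobson_bot (IsNoetherian.noetherian J)
    (hJm.trans (IsLocalRing.maximalIdeal_le_jacobson ⊥)) fun a ha => ?_
  have hb := b.sum_repr (J.toCotangent ⟨a, ha⟩)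
  choose c hc using fun i => Ideal.Quotient.mk_surjective (b.repr (J.toCotangent ⟨a, ha⟩) i)
  have h1 : J.toCotangent (⟨a, ha⟩ - ∑ i, c i • x' i) = 0 := by
    rw [map_sub, map_sum, sub_eq_zero]
    refine hb.symm.trans (Finset.sum_congr rfl fun i _ => ?_)
    rw [map_smul, ← hc i, show J.toCotangent (x' i) = b i from ((Ideal.toCotangent_eq J).2 (hx' i)).trans (hx i)]
    rfl
  rw [Ideal.toCotangent_eq_zero, sq] at h1
  refine Submodule.mem_sup.2 ⟨∑ i, c i • (x' i : A), Submodule.sum_mem _ fun i _ =>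
    Submodule.smul_mem _ _ (Ideal.subset_span ⟨i, rfl⟩), _, ?_, add_sub_cancel _ a⟩
  rw [smul_eq_mul]
  simpa [Submodule.coe_sum] using h1

/-- An ideal of finite projective dimension with projective conormal module is a regular ideal. -/
theorem exists_away_isRegular' {R : Type u} [CommRing R] [IsNoetherianRing R] (I : Ideal R) {n : ℕ}
    [Module.Projective (R ⧸ I) I.Cotangent] (p : Ideal R) [p.IsPrime] (hIp : I ≤ p)
    (hpd : RegLoc6.PdLE (Localization.AtPrime p) n (I.map (algebraMap R (Localization.AtPrime p)))) :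
    ∃ g : R, g ∉ p ∧ ∃ rs : List (Localization.Away g),
      IsRegular (Localization.Away g) rs ∧ Ideal.ofList rs = I.map (algebraMap R (Localization.Away g)) := by
  classical
  obtain ⟨r, x, hreg, hgen⟩ := exists_isWeaklyRegular_generators_atPrime' I p hIp hpd
  let A := Localization.AtPrime p
  have hxI : ∀ i, ∃ a ∈ I, Associated (x i) (algebraMap R A a) := fun i => by
    have h : x i ∈ I.map (algebraMap R A) := hgen ▸ Ideal.subset_span ⟨i, rfl⟩
    rw [IsLocalization.mem_map_algebraMap_iff p.primeCompl] at h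
    obtain ⟨⟨⟨a, ha⟩, s⟩, hs⟩ := h
    exact ⟨a, ha, (IsLocalization.map_units A s).unit, hs⟩
  choose a haI hxa using hxI
  have hspan : ∀ s : Set (Fin r), (Ideal.span (a '' s)).map (algebraMap R A) = Ideal.span (x '' s) := fun s => by
    rw [Ideal.map_span, ← Set.image_comp]
    refine le_antisymm (Ideal.span_le.2 ?_) (Ideal.span_le.2 ?_) <;> rintro _ ⟨j, hj, rfl⟩
    · exact Ideal.mem_of_dvd _ (hxa j).dvd (Ideal.subset_span ⟨j, hj, rfl⟩)
    · exact Ideal.mem_of_dvd _ (hxa j).symm.dvd (Ideal.subset_span ⟨j, hj, rfl⟩)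
  let lt : Fin r → Ideal R := fun i => Ideal.span (a '' {j | j.1 < i.1})
  have hfg : ∀ (N M : Ideal R), N.map (algebraMap R A) ≤ M.map (algebraMap R A) →
      ∃ t ∉ p, ∀ b ∈ N, t * b ∈ M := by
    intro N M hle
    obtain ⟨S, rfl⟩ := N.fg_of_isNoetherianRing
    have hex : ∀ b ∈ S, ∃ t ∉ p, t * b ∈ M := fun b hb => by
      obtain ⟨⟨⟨c, hc⟩, s⟩, hcs⟩ := (IsLocalization.mem_map_algebraMap_iff p.primeCompl A).1
        (hle (Ideal.mem_map_of_mem _ (Ideal.subset_span hb)))
      rw [← map_mul, IsLocalization.eq_iff_exists p.primeCompl] at hcs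
      obtain ⟨d, hd⟩ := hcs
      refine ⟨d.1 * s.1, fun h => (Ideal.IsPrime.mem_or_mem ‹p.IsPrime› h).elim d.2 s.2, ?_⟩
      rw [show d.1 * s.1 * b = d.1 * (b * s.1) by ring, hd]
      exact M.mul_mem_left _ hc
    choose! t ht1 ht2 using hex
    refine ⟨∏ b ∈ S, t b, show _ ∈ p.primeCompl from prod_mem fun b hb => ht1 b hb, fun b hb => ?_⟩
    induction hb using Submodule.span_induction with
    | mem b hb =>
      obtain ⟨c, hc⟩ := Finset.dvd_prod_of_mem t hb
      rw [hc, mul_comm (t b), mul_assoc]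
      exact M.mul_mem_left _ (ht2 b hb)
    | zero => rw [mul_zero]; exact M.zero_mem
    | add b c _ _ hb hc => rw [mul_add]; exact M.add_mem hb hc
    | smul c b _ hb => rw [smul_eq_mul, mul_left_comm]; exact M.mul_mem_left _ hb
  have hcolon : ∀ i : Fin r, ∃ t ∉ p, ∀ b, a i * b ∈ lt i → t * b ∈ lt i := by
    intro i
    let N : Ideal R := Submodule.comap (LinearMap.mulLeft R (a i)) (lt i)
    have hN : N.map (algebraMap R A) ≤ (lt i).map (algebraMap R A) := Ideal.map_le_iff_le_comap.2 fun b hb => by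
      have h1 : algebraMap R A (a i) * algebraMap R A b ∈ Ideal.span (x '' {j | j.1 < i.1}) := by
        rw [← map_mul, ← hspan]
        exact Ideal.mem_map_of_mem _ hb
      rw [Ideal.mem_comap, hspan]
      rw [isWeaklyRegular_iff_Fin] at hreg
      have hr := hreg ⟨i.1, by simpa using i.2⟩
      have htake : (Ideal.ofList ((List.ofFn x).take i.1) • ⊤ : Submodule A A) = Ideal.span (x '' {j | j.1 < i.1}) := by
        rw [smul_eq_mul, Ideal.mul_top, Ideal.ofList]
        refine congrArg Ideal.span (Set.ext fun z => ?_)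
        simp only [Set.mem_setOf_eq, Set.mem_image, List.mem_take_iff_getElem, List.length_ofFn, List.getElem_ofFn]
        constructor
        · rintro ⟨j, hj, rfl⟩
          exact ⟨⟨j, by omega⟩, show j < i.1 by omega, rfl⟩
        · rintro ⟨j, hj, rfl⟩
          exact ⟨j.1, by have : j.1 < i.1 := hj; omega, rfl⟩
      have hget : (List.ofFn x)[(⟨i.1, by simpa using i.2⟩ : Fin (List.ofFn x).length)] = x i := by simp
      have h2 : x i * algebraMap R A b ∈ Ideal.span (x '' {j | j.1 < i.1}) := by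
        obtain ⟨u, hu⟩ := hxa i
        rw [← hu, mul_comm (x i) u, mul_assoc] at h1
        exact (Ideal.unit_mul_mem_iff_mem _ u.isUnit).1 h1
      rw [hget] at hr
      have h3 := isSMulRegular_iff_right_eq_zero_of_smul.1 hr (Submodule.Quotient.mk (algebraMap R A b))
        (by rw [← Submodule.Quotient.mk_smul, Submodule.Quotient.mk_eq_zero]; exact htake.ge h2)
      exact htake.le ((Submodule.Quotient.mk_eq_zero _).1 h3)
    obtain ⟨t, ht, htN⟩ := hfg N (lt i) hN
    exact ⟨t, ht, fun b hb => htN b hb⟩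
  choose t ht htc using hcolon
  obtain ⟨t₀, ht₀, ht₀I⟩ := hfg I (Ideal.span (Set.range a)) (by
    rw [← Set.image_univ, hspan, Set.image_univ, hgen])
  let g := t₀ * ∏ i, t i
  have hg : g ∉ p := fun h => (Ideal.IsPrime.mem_or_mem ‹p.IsPrime› h).elim ht₀
    (show _ ∈ p.primeCompl from prod_mem fun i _ => ht i)
  let B := Localization.Away g
  have hgu : ∀ d : R, d ∣ g → IsUnit (algebraMap R B d) := fun d hd =>
    isUnit_of_dvd_unit (map_dvd _ hd) (IsLocalization.Away.algebraMap_isUnit g)
  refine ⟨g, hg, List.ofFn fun i => algebraMap R B (a i), ⟨?_, ?_⟩, ?_⟩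
  · rw [isWeaklyRegular_iff_Fin]
    intro k
    have hk : k.1 < r := by simpa using k.2
    have htake : (Ideal.ofList ((List.ofFn fun i => algebraMap R B (a i)).take k.1) • ⊤ : Submodule B B) =
        (lt ⟨k.1, hk⟩).map (algebraMap R B) := by
      rw [smul_eq_mul, Ideal.mul_top, Ideal.ofList, Ideal.map_span, ← Set.image_comp]
      refine congrArg Ideal.span (Set.ext fun z => ?_)
      simp only [Set.mem_setOf_eq, Set.mem_image, List.mem_take_iff_getElem, List.length_ofFn, List.getElem_ofFn,
        Function.comp_apply]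
      constructor
      · rintro ⟨j, hj, rfl⟩
        exact ⟨⟨j, by omega⟩, by show j < k.1; omega, rfl⟩
      · rintro ⟨j, hj, rfl⟩
        exact ⟨j.1, by have : j.1 < k.1 := hj; omega, rfl⟩
    refine IsSMulRegular.of_right_eq_zero_of_smul fun z hz => ?_
    obtain ⟨z, rfl⟩ := Submodule.Quotient.mk_surjective _ z
    rw [← Submodule.Quotient.mk_smul, Submodule.Quotient.mk_eq_zero, htake] at hz
    rw [Submodule.Quotient.mk_eq_zero, htake]
    obtain ⟨⟨b, s⟩, hbs⟩ := IsLocalization.surj (Submonoid.powers g) z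
    have hget : (List.ofFn fun i => algebraMap R B (a i))[k] = algebraMap R B (a ⟨k.1, hk⟩) := by simp
    have h1 : algebraMap R B (a ⟨k.1, hk⟩ * b) ∈ (lt ⟨k.1, hk⟩).map (algebraMap R B) := by
      rw [map_mul, ← hbs, ← mul_assoc, ← hget]
      exact Ideal.mul_mem_right _ _ hz
    rw [IsLocalization.mem_map_algebraMap_iff (Submonoid.powers g)] at h1
    obtain ⟨⟨⟨c, hc⟩, s'⟩, hs'⟩ := h1
    rw [← map_mul, IsLocalization.eq_iff_exists (Submonoid.powers g)] at hs'
    obtain ⟨d, hd⟩ := hs'
    have h2 : a ⟨k.1, hk⟩ * ((d.1 * s'.1) * b) ∈ lt ⟨k.1, hk⟩ := by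
      rw [show a ⟨k.1, hk⟩ * ((d.1 * s'.1) * b) = d.1 * (a ⟨k.1, hk⟩ * b * s'.1) by ring, hd]
      exact Ideal.mul_mem_left _ _ hc
    have hu : IsUnit (algebraMap R B (t ⟨k.1, hk⟩ * (d.1 * s'.1))) := by
      rw [map_mul, map_mul]
      exact (hgu _ ((Finset.dvd_prod_of_mem t (Finset.mem_univ _)).mul_left t₀)).mul
        ((IsLocalization.map_units B d).mul (IsLocalization.map_units B s'))
    rw [← Ideal.unit_mul_mem_iff_mem _ (IsLocalization.map_units B s), mul_comm, hbs,
      ← Ideal.unit_mul_mem_iff_mem _ hu, ← map_mul, mul_assoc]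
    exact Ideal.mem_map_of_mem _ (htc _ _ h2)
  · rw [smul_eq_mul, Ideal.mul_top]
    intro htop
    have hle : Ideal.ofList (List.ofFn fun i => algebraMap R B (a i)) ≤ p.map (algebraMap R B) := by
      rw [Ideal.ofList, Ideal.span_le]
      intro z hz
      obtain ⟨i, rfl⟩ := List.mem_ofFn.1 hz
      exact Ideal.mem_map_of_mem _ (hIp (haI i))
    rw [← htop, top_le_iff] at hle
    exact (IsLocalization.isPrime_of_isPrime_disjoint (Submonoid.powers g) B p ‹p.IsPrime›
      ((Ideal.disjoint_powers_iff_notMem g (Ideal.IsPrime.isRadical ‹p.IsPrime›)).2 hg)).ne_top hle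
  · refine le_antisymm ?_ (Ideal.map_le_iff_le_comap.2 fun b hb => ?_)
    · rw [Ideal.ofList, Ideal.span_le]
      intro z hz
      obtain ⟨i, rfl⟩ := List.mem_ofFn.1 hz
      exact Ideal.mem_map_of_mem _ (haI i)
    · rw [Ideal.mem_comap, ← Ideal.unit_mul_mem_iff_mem _ (hgu t₀ (dvd_mul_right _ _)), ← map_mul]
      have h := Ideal.mem_map_of_mem (algebraMap R B) (ht₀I b hb)
      rw [Ideal.map_span, ← Set.range_comp] at h
      refine Ideal.span_mono ?_ h
      rintro _ ⟨i, rfl⟩
      exact List.mem_ofFn.2 ⟨i, rfl⟩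

end Groth.Agent.Synt29
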