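import Groth.Agent.Synt29.LefPunct
import Groth.Agent.CplFib6.QuotReg
import Groth.Agent.Pi1X.FEtGlobal
import Groth.Agent.Algz7.Completion
import Groth.Agent.Synt29.FormalSectO

/-!
# The Lefschetz condition on a punctured spectrum along a principal ideal
-/

noncomputable section

set_option autoImplicit false
set_option linter.style.haveILetI false
set_option linter.unusedSectionVars false
set_option backward.isDefEq.respectTransparency false
set_option backward.isDefEq.respectTransparency.types false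
set_option maxHeartbeats 1000000

universe u

open CategoryTheory CategoryTheory.Limits AlgebraicGeometry TopologicalSpace Opposite IsLocalRing
open Groth.Agent Groth.Agent.H26 Groth.Agent.LocCohDepth.Punct

namespace Groth.Agent.Synt29.LefPunct

variable {A : Type u} [CommRing A] [IsLocalRing A] [IsNoetherianRing A]

/-- A prime below which `t` only meets the maximal ideal has one-dimensional quotient. -/
theorem dim_eq_one (p : PrimeSpectrum A) (hp : p.asIdeal ≠ maximalIdeal A) {t : A} (htm : t ∈ maximalIdeal A)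
    (htp : t ∉ p.asIdeal) (h : ∀ q : PrimeSpectrum A, p ≤ q → t ∈ q.asIdeal → q.asIdeal = maximalIdeal A) :
    ringKrullDim (A ⧸ p.asIdeal) = 1 := by
  haveI : Nontrivial (A ⧸ p.asIdeal) := Ideal.Quotient.nontrivial_iff.2 p.2.ne_top
  haveI : IsLocalRing (A ⧸ p.asIdeal) := .of_surjective' (Ideal.Quotient.mk _) Ideal.Quotient.mk_surjective
  let m := maximalIdeal (A ⧸ p.asIdeal)
  let mk := Ideal.Quotient.mk p.asIdeal
  have hm : m.comap mk = maximalIdeal A :=
    IsLocalRing.eq_maximalIdeal (Ideal.comap_isMaximal_of_surjective _ Ideal.Quotient.mk_surjective)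
  have hmin : m ∈ (Ideal.span {mk t}).minimalPrimes := by
    refine ⟨⟨inferInstance, (Ideal.span_singleton_le_iff_mem m).2 ?_⟩, fun q hq hqm => ?_⟩
    · exact (show t ∈ m.comap mk from hm ▸ htm)
    · haveI := hq.1
      have hle : p.asIdeal ≤ q.comap mk := fun x hx => by
        show mk x ∈ q
        rw [Ideal.Quotient.eq_zero_iff_mem.2 hx]
        exact q.zero_mem
      have hq' := h ⟨q.comap mk, inferInstance⟩ hle (hq.2 (Ideal.mem_span_singleton_self _))
      have e : m.comap mk = q.comap mk := hm.trans hq'.symm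
      exact le_of_eq (Ideal.comap_injective_of_surjective _ Ideal.Quotient.mk_surjective e)
  have h1 : m.height ≤ 1 := Ideal.height_le_one_of_isPrincipal_of_mem_minimalPrimes _ _ hmin
  refine le_antisymm ?_ ?_
  · rw [← IsLocalRing.maximalIdeal_height_eq_ringKrullDim]
    exact WithBot.coe_le_coe.2 h1
  · refine Order.one_le_krullDim_iff.2 ⟨⟨⊥, Ideal.isPrime_bot⟩, closedPoint _, ?_⟩
    refine lt_of_le_of_ne bot_le fun e => hp ?_
    have e' : m = ⊥ := (congrArg PrimeSpectrum.asIdeal e).symm
    rw [← hm, e', ← RingHom.ker_eq_comap_bot, Ideal.mk_ker]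

theorem mem_support_iff (t : A) (x : (FEt.puncturedSpec A : Scheme.{u})) :
    x ∈ (((Spec.map (CommRingCat.ofHom (Ideal.Quotient.mk (Ideal.span {t})))).ker.comap
      (FEt.puncturedSpec A).ι).support : Set (FEt.puncturedSpec A : Scheme.{u})) ↔
      t ∈ (x.1 : PrimeSpectrum A).asIdeal := by
  haveI : IsClosedImmersion (Spec.map (CommRingCat.ofHom (Ideal.Quotient.mk (Ideal.span {t})))) :=
    IsClosedImmersion.spec_of_surjective _ Ideal.Quotient.mk_surjective
  rw [Scheme.IdealSheafData.support_comap]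
  show (FEt.puncturedSpec A).ι x ∈ ((Spec.map (CommRingCat.ofHom (Ideal.Quotient.mk (Ideal.span {t})))).ker.support :
    Set _) ↔ _
  rw [Scheme.Hom.support_ker, (Spec.map (CommRingCat.ofHom (Ideal.Quotient.mk (Ideal.span {t})))).isClosedEmbedding.isClosed_range.closure_eq]
  show (x.1 : PrimeSpectrum A) ∈ Set.range (PrimeSpectrum.comap (Ideal.Quotient.mk (Ideal.span {t}))) ↔ _
  rw [range_comap_of_surjective _ _ Ideal.Quotient.mk_surjective, Ideal.mk_ker, PrimeSpectrum.mem_zeroLocus,
    SetLike.coe_subset_coe, Ideal.span_singleton_le_iff_mem]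

theorem depth_stalk (p : (FEt.puncturedSpec A : Scheme.{u})) :
    LocCoh.depth ((FEt.puncturedSpec A : Scheme.{u}).presheaf.stalk p)
      ((FEt.puncturedSpec A : Scheme.{u}).presheaf.stalk p) =
      LocCoh.depth (Localization.AtPrime (p.1 : PrimeSpectrum A).asIdeal)
        (Localization.AtPrime (p.1 : PrimeSpectrum A).asIdeal) := by
  let σ : Localization.AtPrime (p.1 : PrimeSpectrum A).asIdeal ≃+*
      (FEt.puncturedSpec A : Scheme.{u}).presheaf.stalk p :=
    (StructureSheaf.stalkIso A (p.1 : PrimeSpectrum A)).toRingEquiv.trans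
      (asIso ((FEt.puncturedSpec A).ι.stalkMap p)).commRingCatIsoToRingEquiv
  exact (Alg6.depth_eq_of_semilinear σ.toRingHom σ.surjective σ.toAddEquiv (fun r z => map_mul σ r z)).symm

variable (hq : ∃ (B : Type u) (_ : CommRing B) (_ : IsRegularLocalRing B) (φ : B →+* A), Function.Surjective φ)
  (t : A) (ht : t ∈ maximalIdeal A) [IsAdicComplete (Ideal.span {t}) A]
  (h2 : ∀ p : Ideal A, ∀ _ : p.IsPrime, ringKrullDim (A ⧸ p) = 1 →
    (2 : ℕ∞) ≤ LocCoh.depth (Localization.AtPrime p) (Localization.AtPrime p))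

include hq ht h2

theorem lefCond : Lef.LefCond (FEt.puncturedSpec A : Scheme.{u})
    ((Spec.map (CommRingCat.ofHom (Ideal.Quotient.mk (Ideal.span {t})))).ker.comap (FEt.puncturedSpec A).ι) := by
  obtain ⟨B, _, _, φ, hφ⟩ := hq
  haveI := CplFib6.isRegularRing_of_local B
  haveI : IsNoetherianRing (CommRingCat.of A) := inferInstanceAs (IsNoetherianRing A)
  let X := FEt.puncturedSpec A
  let 𝓚 := (Spec.map (CommRingCat.ofHom (Ideal.Quotient.mk (Ideal.span {t})))).ker.comap X.ι
  have hne : ∀ x : (X : Scheme.{u}), (x.1 : PrimeSpectrum A).asIdeal ≠ maximalIdeal A := fun x he =>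
    x.2 (PrimeSpectrum.ext he)
  have hX : X = LocCoh.puncturedOpen A (maximalIdeal A) :=
    Opens.ext (Set.ext fun p => by
      refine not_congr ?_
      show p = closedPoint A ↔ p ∈ PrimeSpectrum.zeroLocus (maximalIdeal A : Set A)
      rw [PrimeSpectrum.mem_zeroLocus]
      exact ⟨fun h => h ▸ subset_rfl, fun h => PrimeSpectrum.ext (le_antisymm (le_maximalIdeal p.2.ne_top) h)⟩)
  haveI : IsLocallyNoetherian (X : Scheme.{u}) := LocallyOfFiniteType.isLocallyNoetherian X.ι
  -- closed points
  have hdepth : ∀ x : (X : Scheme.{u}), IsClosed ({x} : Set (X : Scheme.{u})) →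
      ((1 + 1 : ℕ) : ℕ∞) ≤ LocCoh.depth ((X : Scheme.{u}).presheaf.stalk x)
        ((Coh.structureModule (X : Scheme.{u})).presheaf.stalk x) := fun x hx => by
    let p : PrimeSpectrum A := x.1
    obtain ⟨s, hs, hsp⟩ := Set.not_subset.1 fun hle : (maximalIdeal A : Set A) ⊆ p.asIdeal =>
      hne x (le_antisymm (le_maximalIdeal p.2.ne_top) hle)
    have hd : ringKrullDim (A ⧸ p.asIdeal) = 1 := dim_eq_one p (hne x) hs hsp fun q hpq hsq => by
      by_contra hqm
      let y : (X : Scheme.{u}) := ⟨q, fun he => hqm (congrArg PrimeSpectrum.asIdeal he)⟩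
      have hspec : x ⤳ y :=
        (Topology.IsInducing.specializes_iff X.ι.isOpenEmbedding.isInducing).1
          ((PrimeSpectrum.le_iff_specializes p q).1 hpq)
      have hy : y ∈ ({x} : Set (X : Scheme.{u})) := hspec.mem_closed hx rfl
      exact hsp ((congrArg (fun z : (X : Scheme.{u}) => (z.1 : PrimeSpectrum A).asIdeal) hy) ▸ hsq)
    obtain ⟨u⟩ := FormalSectO.exists_unitIso (A := A) X
    rw [S3372.depth_stalk_G (A := CommRingCat.of A) X _ u x]
    exact (h2 p.asIdeal p.2 hd).trans (Hensel.depth_congr (LC.selfLoc p.asIdeal.primeCompl)).ge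
  have hbij := (S3372.main φ hφ t ht X hX (Coh.structureModule (X : Scheme.{u})) QCoh.isCoh_structureModule' 1 hdepth 0).1
    zero_lt_one
  have hO : Lef.HomToFormalBijective 𝓚 (Coh.structureModule (X : Scheme.{u})) :=
    hb_structure (Ideal.span {t}) 𝓚 rfl hbij
  intro U hU D hD
  have hb : Function.Bijective U.ι.appTop := Pi1X.appTop_bijective_of_depth U.ι fun w hw => by
    rw [Scheme.Opens.range_ι] at hw
    have htw : t ∉ (w.1 : PrimeSpectrum A).asIdeal := fun htw => hw (hU ((mem_support_iff t w).2 htw))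
    rw [depth_stalk w]
    refine h2 _ w.1.2 (dim_eq_one w.1 (hne w) ht htw fun q hwq htq => ?_)
    by_contra hqm
    let y : (X : Scheme.{u}) := ⟨q, fun he => hqm (congrArg PrimeSpectrum.asIdeal he)⟩
    have hspec : w ⤳ y :=
      (Topology.IsInducing.specializes_iff X.ι.isOpenEmbedding.isInducing).1
        ((PrimeSpectrum.le_iff_specializes _ q).1 hwq)
    exact hw (hspec.mem_open U.2 (hU ((mem_support_iff t y).2 htq)))
  haveI : CompactSpace (U : Scheme.{u}) := by
    haveI : NoetherianSpace (Spec (CommRingCat.of A)) := inferInstanceAs (NoetherianSpace (PrimeSpectrum A))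
    haveI : NoetherianSpace (X : Scheme.{u}) := X.ι.isOpenEmbedding.isInducing.noetherianSpace
    exact isCompact_iff_compactSpace.mp (NoetherianSpace.isCompact _)
  haveI : (U : Scheme.{u}).IsQuasiAffine := Scheme.IsQuasiAffine.of_isImmersion (U.ι ≫ X.ι)
  exact LefFEt.hb_of_quasiAffine _ (hb_open 𝓚 U hU hb hO) D (QCoh.isQCoh_of_isFinLocFree hD)

end Groth.Agent.Synt29.LefPunct
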