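import Groth.Agent.Synt29.FormalSectO

/-!
# The map to formal cohomology in all degrees, in the language of `HH`
-/

set_option autoImplicit false
set_option linter.style.haveILetI false
set_option linter.unusedSectionVars false
set_option backward.isDefEq.respectTransparency false
set_option backward.isDefEq.respectTransparency.types false
set_option maxHeartbeats 1000000

universe u

open CategoryTheory CategoryTheory.Limits AlgebraicGeometry Opposite TopologicalSpace
open Groth.Agent Groth.Agent.LocCohDepth.Punct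
open Groth.Agent.PnCoh.Finite (mapLin deltaLin)

noncomputable section

namespace Groth.Agent.Synt29.FormalHH

variable {A : Type u} [CommRing A] [IsNoetherianRing A] (𝔞 : Ideal A) (f : A)

local notation "U" => LocCoh.puncturedOpen A 𝔞

/-- The transition maps. -/
abbrev mp {N M : ModuleCat.{u} (CommRingCat.of A)} (g : N ⟶ M) (p : ℕ) :
    Coh.HH (U : Scheme.{u}) ((G U).obj N) p →ₗ[A] Coh.HH (U : Scheme.{u}) ((G U).obj M) p :=
  mapLin (CommRingCat.of A) ((G U).map g) p

theorem mp_comp {L N M : ModuleCat.{u} (CommRingCat.of A)} (g : L ⟶ N) (h : N ⟶ M) (p : ℕ)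
    (x : Coh.HH (U : Scheme.{u}) ((G U).obj L) p) : mp 𝔞 (g ≫ h) p x = mp 𝔞 h p (mp 𝔞 g p x) := by
  rw [mp, mp, mp, Functor.map_comp, mapLin_comp]

section
variable (N : ModuleCat.{u} (CommRingCat.of A)) [Module.Finite A N]

theorem exists_seq : ∃ (c : ℕ) (T : Submodule A N) (ι₀ : ModuleCat.of (CommRingCat.of A) (N ⧸ T) ⟶ N),
    (∀ z : T, f ^ c • z = 0) ∧ ∀ n, c ≤ n → ∃ w : (f ^ (n - c) • 𝟙 _ ≫ ι₀) ≫ FormalSectU.q f N n = 0,
      (ShortComplex.mk _ (FormalSectU.q f N n) w).ShortExact ∧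
        ∀ x : N, (f ^ (n - c) • 𝟙 _ ≫ ι₀).hom (Submodule.Quotient.mk x) = f ^ n • x := by
  let K : ℕ →o Submodule A N := ⟨fun n => LinearMap.ker ((f ^ n) • LinearMap.id : N →ₗ[A] N),
    fun k n h x hx => by
      have hx' : f ^ k • x = 0 := hx
      show f ^ n • x = 0
      rw [← Nat.sub_add_cancel h, pow_add, mul_smul, hx', smul_zero]⟩
  obtain ⟨c, hc⟩ := monotone_stabilizes_iff_noetherian.mpr (inferInstance : IsNoetherian A N) K
  let T : Submodule A N := K c
  let M' : ModuleCat.{u} (CommRingCat.of A) := ModuleCat.of (CommRingCat.of A) (N ⧸ T)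
  let ι₀ : M' ⟶ N := ModuleCat.ofHom (T.liftQ ((f ^ c) • LinearMap.id : N →ₗ[A] N) le_rfl)
  refine ⟨c, T, ι₀, fun z => Subtype.ext (show f ^ c • (z.1 : N) = 0 from z.2), fun n hn => ?_⟩
  have hι : ∀ x : N, (f ^ (n - c) • 𝟙 M' ≫ ι₀).hom (Submodule.Quotient.mk x) = f ^ n • x := fun x => by
    show f ^ (n - c) • (f ^ c • x) = _
    rw [← mul_smul, ← pow_add, Nat.sub_add_cancel hn]
  refine ⟨ModuleCat.hom_ext (Submodule.linearMap_qext _ (LinearMap.ext fun x => ?_)), ?_, hι⟩
  · show Submodule.Quotient.mk ((f ^ (n - c) • 𝟙 M' ≫ ι₀).hom (Submodule.Quotient.mk x)) = 0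
    rw [hι, Submodule.Quotient.mk_eq_zero, FAdicLim.mem_pow_span]
    exact ⟨x, rfl⟩
  exact
    { exact := by
        rw [ShortComplex.moduleCat_exact_iff]
        intro x hx
        obtain ⟨z, hz⟩ := (FAdicLim.mem_pow_span f n x).1 ((Submodule.Quotient.mk_eq_zero _).1 hx)
        exact ⟨Submodule.Quotient.mk z, (hι z).trans hz.symm⟩
      mono_f := (ModuleCat.mono_iff_injective _).2 (by
        intro a b hab
        induction a using Submodule.Quotient.induction_on with | _ a => ?_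
        induction b using Submodule.Quotient.induction_on with | _ b => ?_
        have hab' := (hι a).symm.trans (hab.trans (hι b))
        refine (Submodule.Quotient.eq T).2 ?_
        show a - b ∈ K c
        rw [hc n hn]
        show f ^ n • (a - b) = 0
        rw [smul_sub, hab', sub_self])
      epi_g := (ModuleCat.epi_iff_surjective _).2 (Submodule.mkQ_surjective _) }

theorem killed (p e : ℕ) (h : ∀ x : (localCohomology 𝔞 (p + 2)).obj N, f ^ e • x = 0)
    (x : Coh.HH (U : Scheme.{u}) ((G U).obj N) (p + 1)) : f ^ e • x = 0 := by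
  obtain ⟨ε⟩ := GrLib8.PuncturedLC.nonempty_HH_succ 𝔞 p N
  exact ε.injective ((ε.map_smul (f ^ e) x).trans ((h (ε x)).trans (map_zero ε).symm))

theorem injective [IsAdicComplete (Ideal.span {f}) A] (p e : ℕ)
    (h : ∀ x : (localCohomology 𝔞 (p + 1)).obj N, f ^ e • x = 0)
    (g : Coh.HH (U : Scheme.{u}) ((G U).obj N) p) (hg : ∀ k, mp 𝔞 (FormalSectU.q f N k) p g = 0) : g = 0 := by
  obtain ⟨c, T, ι₀, -, hseq⟩ := exists_seq f N
  have hdiv : ∀ k, ∃ z, g = f ^ k • z := fun k => by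
    obtain ⟨w, hS, -⟩ := hseq (c + k) (Nat.le_add_right _ _)
    have hS' := GrLib8.PuncturedLC.shortExact_G U hS
    obtain ⟨z, hz⟩ := (CurveCohLib.ker_mapLin_g (CommRingCat.of A) hS' p).le (LinearMap.mem_ker.2 (hg (c + k)))
    refine ⟨mp 𝔞 ι₀ p z, hz.symm.trans ?_⟩
    refine (LinearMap.congr_fun (congrArg (fun t => mp 𝔞 t p) (show f ^ (c + k - c) • 𝟙 _ ≫ ι₀ =
      ι₀ ≫ (f ^ k • 𝟙 N) by
        rw [Nat.add_sub_cancel_left, Category.id_comp, Linear.comp_smul, Category.comp_id])) z).trans ?_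
    rw [mp_comp]
    exact mapLin_smul N (f ^ k) p _
  rcases p with _ | p
  · obtain ⟨ε⟩ := GrLib8.PuncturedLC.nonempty_H1 𝔞 N
    have hR : ∀ z, ∃ n : N, f ^ e • z = GrLib8.PuncturedLC.cmap U N n := fun z => by
      have h0 : (LinearMap.range (GrLib8.PuncturedLC.cmap U N)).mkQ (f ^ e • z) = 0 := by
        apply ε.injective
        rw [LinearMap.map_smul]
        exact (ε.map_smul (f ^ e) _).trans ((h _).trans (map_zero ε).symm)
      obtain ⟨n, hn⟩ := (Submodule.Quotient.mk_eq_zero _).1 h0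
      exact ⟨n, hn.symm⟩
    haveI := Adic7.isAdicComplete_of_finite (I := Ideal.span {f}) (LinearMap.range (GrLib8.PuncturedLC.cmap U N))
    obtain ⟨z₀, hz₀⟩ := hdiv e
    obtain ⟨n₀, hn₀⟩ := hR z₀
    have := FAdicLim.eq_zero_of_forall f
      (⟨g, n₀, by rw [hz₀, hn₀]⟩ : LinearMap.range (GrLib8.PuncturedLC.cmap U N)) fun k => by
      obtain ⟨z, hz⟩ := hdiv (k + e)
      obtain ⟨n, hn⟩ := hR z
      exact ⟨⟨_, LinearMap.mem_range_self _ n⟩, Subtype.ext
        (show g = f ^ k • GrLib8.PuncturedLC.cmap U N n from hz.trans (by rw [pow_add, mul_smul, hn]))⟩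
    exact congrArg Subtype.val this
  · obtain ⟨z, rfl⟩ := hdiv e
    exact killed 𝔞 f N p e h z

theorem surjective_succ [IsAdicComplete (Ideal.span {f}) A] (p e : ℕ)
    (h₁ : ∀ x : (localCohomology 𝔞 (p + 2)).obj N, f ^ e • x = 0)
    (h₂ : ∀ x : (localCohomology 𝔞 (p + 3)).obj N, f ^ e • x = 0)
    (y : ∀ k, Coh.HH (U : Scheme.{u}) ((G U).obj (FormalSectU.Q f N k)) (p + 1))
    (hy : ∀ k, mp 𝔞 (FormalSectU.tr f N (Nat.le_succ k)) (p + 1) (y (k + 1)) = y k) :
    ∃ g, ∀ k, mp 𝔞 (FormalSectU.q f N k) (p + 1) g = y k := by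
  obtain ⟨c, T, ι₀, hT, hseq⟩ := exists_seq f N
  choose w hE hι using hseq
  let M' : ModuleCat.{u} (CommRingCat.of A) := ModuleCat.of (CommRingCat.of A) (N ⧸ T)
  let Tn : ModuleCat.{u} (CommRingCat.of A) := ModuleCat.of (CommRingCat.of A) T
  let S : ShortComplex (ModuleCat.{u} (CommRingCat.of A)) :=
    ShortComplex.mk (ModuleCat.ofHom T.subtype : Tn ⟶ N) (ModuleCat.ofHom T.mkQ : N ⟶ M')
      (ModuleCat.hom_ext (LinearMap.ext fun x => (Submodule.Quotient.mk_eq_zero _).2 x.2))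
  have hS : S.ShortExact :=
    { exact := by
        rw [ShortComplex.moduleCat_exact_iff]
        intro x hx
        exact ⟨⟨x, (Submodule.Quotient.mk_eq_zero _).1 hx⟩, rfl⟩
      mono_f := (ModuleCat.mono_iff_injective _).2 T.injective_subtype
      epi_g := (ModuleCat.epi_iff_surjective _).2 (Submodule.mkQ_surjective _) }
  let d := e + c
  have hM' : ∀ j, (∀ x : (localCohomology 𝔞 (j + 2)).obj N, f ^ e • x = 0) → ∀ k, d ≤ k →
      ∀ x : Coh.HH (U : Scheme.{u}) ((G U).obj M') (j + 1), f ^ k • x = 0 := fun j hj k hk x => by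
    let δ' := deltaLin (CommRingCat.of A) (GrLib8.PuncturedLC.shortExact_G U hS) (j + 1)
    have hδ : δ' (f ^ c • x) = 0 := by
      rw [LinearMap.map_smul]
      exact FormalSectU.kill_H U c (N := Tn) hT (j + 2) _
    obtain ⟨v, hv⟩ := (CurveCohLib.ker_deltaLin (CommRingCat.of A) (GrLib8.PuncturedLC.shortExact_G U hS) (j + 1)).le
      (LinearMap.mem_ker.2 hδ)
    rw [show k = (k - d) + e + c by omega, pow_add, pow_add, mul_smul, mul_smul]
    refine (congrArg (fun t => f ^ (k - d) • f ^ e • t) hv.symm).trans ?_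
    refine (congrArg (f ^ (k - d) • ·) ((LinearMap.map_smul _ (f ^ e) v).symm.trans
      ((congrArg _ (killed 𝔞 f N j e hj v)).trans (map_zero _)))).trans (smul_zero _)
  have hker : ∀ n, c + d ≤ n → ∀ x, mp 𝔞 (FormalSectU.q f N n) (p + 1) x = 0 → x = 0 := fun n hn x hx => by
    obtain ⟨z, hz⟩ := (CurveCohLib.ker_mapLin_g (CommRingCat.of A)
      (GrLib8.PuncturedLC.shortExact_G U (hE n (le_trans (Nat.le_add_right _ _) hn))) (p + 1)).le (LinearMap.mem_ker.2 hx)
    refine hz.symm.trans ?_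
    show mp 𝔞 (f ^ (n - c) • 𝟙 M' ≫ ι₀) (p + 1) z = 0
    rw [← Linear.smul_comp, mp_comp,
      show mp 𝔞 (f ^ (n - c) • 𝟙 M') (p + 1) z = 0 from
        (mapLin_smul M' _ (p + 1) z).trans (hM' p h₁ (n - c) (by omega) z), map_zero]
  have htr : ∀ (n k : ℕ) (hnk : n ≤ k), mp 𝔞 (FormalSectU.tr f N hnk) (p + 1) (y k) = y n := fun n k hnk => by
    induction hnk with
    | refl =>
      rw [show FormalSectU.tr f N (le_refl n) = 𝟙 _ from
        ModuleCat.hom_ext (Submodule.linearMap_qext _ (LinearMap.ext fun _ => rfl)), mp, CategoryTheory.Functor.map_id]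
      exact mapLin_id _ _ _
    | @step m hnm ih =>
      rw [← FormalSectU.tr_tr f N hnm (Nat.le_succ m), mp_comp, hy m]
      exact ih
  have hlift : ∀ n, c ≤ n → ∃ x, mp 𝔞 (FormalSectU.q f N n) (p + 1) x = y n := fun n hn => by
    have hnd : c ≤ n + d := by omega
    let τ : ShortComplex.mk _ (FormalSectU.q f N (n + d)) (w (n + d) hnd) ⟶
        ShortComplex.mk _ (FormalSectU.q f N n) (w n hn) :=
      { τ₁ := f ^ d • 𝟙 M'
        τ₂ := 𝟙 N
        τ₃ := FormalSectU.tr f N (Nat.le_add_right n d)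
        comm₁₂ := by
          refine ModuleCat.hom_ext (Submodule.linearMap_qext _ (LinearMap.ext fun x => ?_))
          show (f ^ (n - c) • 𝟙 M' ≫ ι₀).hom (f ^ d • Submodule.Quotient.mk x) =
            (f ^ (n + d - c) • 𝟙 M' ≫ ι₀).hom (Submodule.Quotient.mk x)
          rw [map_smul, hι n hn, hι (n + d) hnd, ← mul_smul, ← pow_add, add_comm]
        comm₂₃ := by
          show 𝟙 N ≫ FormalSectU.q f N n = FormalSectU.q f N (n + d) ≫ FormalSectU.tr f N _
          rw [Category.id_comp, FormalSectU.q_tr] }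
    have hδ : deltaLin (CommRingCat.of A) (GrLib8.PuncturedLC.shortExact_G U (hE n hn)) (p + 1) (y n) = 0 := by
      rw [← htr n (n + d) (Nat.le_add_right _ _)]
      refine (QCoh.Ab.connecting_naturality (X := (U : Scheme.{u}).toPresheafedSpace.carrier)
        (QCoh.toAb_shortExact (GrLib8.PuncturedLC.shortExact_G U (hE (n + d) hnd)))
        (QCoh.toAb_shortExact (GrLib8.PuncturedLC.shortExact_G U (hE n hn)))
        ((QCoh.toAbFunctor (U : Scheme.{u})).mapShortComplex.map ((G U).mapShortComplex.map τ)) (p + 1) (y (n + d))).symm.trans ?_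
      exact (mapLin_smul M' (f ^ d) (p + 2) _).trans (hM' (p + 1) h₂ d le_rfl _)
    exact (CurveCohLib.ker_deltaLin (CommRingCat.of A) (GrLib8.PuncturedLC.shortExact_G U (hE n hn)) (p + 1)).le
      (LinearMap.mem_ker.2 hδ)
  obtain ⟨x₀, hx₀⟩ := hlift (c + d) (Nat.le_add_right _ _)
  refine ⟨x₀, fun n => ?_⟩
  obtain ⟨x₁, hx₁⟩ := hlift (max n (c + d)) (by omega)
  have h01 : x₁ = x₀ := sub_eq_zero.1 (hker (c + d) le_rfl _ (by
    rw [map_sub, hx₀, ← htr (c + d) (max n (c + d)) (le_max_right _ _), ← hx₁, ← mp_comp,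
      FormalSectU.q_tr, sub_self]))
  rw [← h01, ← htr n (max n (c + d)) (le_max_left _ _), ← hx₁, ← mp_comp, FormalSectU.q_tr]

end

theorem mapLin_iso {M M' : (U : Scheme.{u}).Modules} (e : M ≅ M') (p : ℕ) :
    Function.Bijective (mapLin (CommRingCat.of A) e.hom p) :=
  (GrLib8.PuncturedLC.mapEquiv e p).bijective

theorem toHHlim_transfer {F : (U : Scheme.{u}).Modules} {N : ModuleCat.{u} (CommRingCat.of A)}
    (u : F ≅ (G U).obj N) (p : ℕ) :
    ((∀ g, (∀ k, mp 𝔞 (FormalSectU.q f N k) p g = 0) → g = 0) →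
      Function.Injective (Formal.toHHlim (Ideal.span {f}) F p)) ∧
    ((∀ y : ∀ k, Coh.HH (U : Scheme.{u}) ((G U).obj (FormalSectU.Q f N k)) p,
        (∀ k, mp 𝔞 (FormalSectU.tr f N (Nat.le_succ k)) p (y (k + 1)) = y k) →
          ∃ g, ∀ k, mp 𝔞 (FormalSectU.q f N k) p g = y k) →
      Function.Surjective (Formal.toHHlim (Ideal.span {f}) F p)) := by
  let I := Ideal.span {f}
  choose e he using fun n => FormalSectO.exists_quotIso f U u n
  have happ : ∀ (n : ℕ) (x : Coh.HH (U : Scheme.{u}) F p), (Formal.toHHlim I F p x).1 n =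
      mapLin (CommRingCat.of A) (Formal.modPowπ I (n + 1) F) p x := fun n x => rfl
  have hμ : ∀ (n : ℕ) (x : Coh.HH (U : Scheme.{u}) F p),
      mapLin (CommRingCat.of A) (e n).hom p (mapLin (CommRingCat.of A) (Formal.modPowπ I n F) p x) =
        mp 𝔞 (FormalSectU.q f N n) p (mapLin (CommRingCat.of A) u.hom p x) := fun n x => by
    refine (mapLin_comp _ _ p x).symm.trans ?_
    rw [he n, mapLin_comp]
  refine ⟨fun hinj => (injective_iff_map_eq_zero _).2 fun x hx => ?_, fun hsurj y => ?_⟩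
  · refine (mapLin_iso 𝔞 u p).1 (Eq.trans ?_ (map_zero _).symm)
    refine hinj _ fun k => ?_
    have h1 : ∀ m, mp 𝔞 (FormalSectU.q f N (m + 1)) p (mapLin (CommRingCat.of A) u.hom p x) = 0 := fun m => by
      rw [← hμ, ← happ, hx]
      exact map_zero _
    rcases k with _ | k
    · rw [← FormalSectU.q_tr f N (Nat.le_succ 0), mp_comp, h1 0, map_zero]
    · exact h1 k
  · let y₁ : ∀ k, Coh.HH (U : Scheme.{u}) ((G U).obj (FormalSectU.Q f N (k + 1))) p := fun k =>
      mapLin (CommRingCat.of A) (e (k + 1)).hom p (y.1 k)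
    let y' : ∀ k, Coh.HH (U : Scheme.{u}) ((G U).obj (FormalSectU.Q f N k)) p := fun k =>
      match k with
      | 0 => mp 𝔞 (FormalSectU.tr f N (Nat.le_succ 0)) p (y₁ 0)
      | k + 1 => y₁ k
    have ht : ∀ n, (e (n + 1)).hom ≫ (G U).map (FormalSectU.tr f N (Nat.le_succ n)) =
        Formal.modPowTrans I n F ≫ (e n).hom := fun n => by
      haveI : Epi (Formal.modPowπ I (n + 1) F) := inferInstanceAs (Epi (cokernel.π _))
      rw [← cancel_epi (Formal.modPowπ I (n + 1) F), ← Category.assoc, he (n + 1), Category.assoc,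
        ← Functor.map_comp, FormalSectU.q_tr, ← Category.assoc, Formal.modPowπ_trans, he n]
    obtain ⟨g, hg⟩ := hsurj y' fun k => by
      rcases k with _ | k
      · rfl
      · show mp 𝔞 (FormalSectU.tr f N (Nat.le_succ (k + 1))) p (y₁ (k + 1)) = y₁ k
        refine (mapLin_comp _ _ p (y.1 (k + 1))).symm.trans ?_
        rw [ht (k + 1), mapLin_comp]
        exact congrArg _ (y.2 k)
    obtain ⟨x, rfl⟩ := (mapLin_iso 𝔞 u p).2 g
    exact ⟨x, Subtype.ext (funext fun n => (mapLin_iso 𝔞 (e (n + 1)) p).1 ((hμ (n + 1) x).trans (hg (n + 1))))⟩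

end Groth.Agent.Synt29.FormalHH
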