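import Groth.Agent.S5190
import Groth.Agent.Synt29.PrincipalSplit
import Groth.Agent.Synt29.ModSysPush
import Groth.Agent.Algz7.Algebraize
import Groth.Agent.Algz7.Extend
import Groth.Agent.Algz7.Canon2.Sect
import Groth.Agent.Lib.NegVanClosed

/-!
# Existence for regular formal modules on a punctured spectrum
-/

set_option autoImplicit false
set_option linter.style.haveILetI false
set_option linter.unusedSectionVars false
set_option backward.isDefEq.respectTransparency false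
set_option backward.isDefEq.respectTransparency.types false
set_option maxHeartbeats 1000000

universe u

open CategoryTheory CategoryTheory.Limits AlgebraicGeometry Opposite TopologicalSpace
open Groth.Agent Groth.Agent.LocCohDepth.Punct
open Groth.Agent.PnCoh.Finite (mapLin deltaLin)

noncomputable section

namespace Groth.Agent.Synt29.RegFormal

section Split

variable {A : Type u} [CommRing A] [IsNoetherianRing A] (f : A) {X : Scheme.{u}}
  [X.Over (Spec (CommRingCat.of A))] [IsLocallyNoetherian X] (Gs : ℕᵒᵖ ⥤ X.Modules)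

/-- Regularity on the levels. -/
def Reg : Prop := ∀ (n : ℕ) (V : X.Opens), IsAffineOpen V → ∀ s : Γ(Gs.obj (op (n + 1)), V),
  (Formal.smulMod A (Gs.obj (op (n + 1))) (f ^ (n + 1))).app V s = 0 →
    ∃ s', (Formal.smulMod A (Gs.obj (op (n + 1))) f).app V s' = s

theorem mono_word (hreg : Reg f Gs) (hG : Formal.IsCohFormal (Ideal.span {f}) Gs) (n : ℕ)
    (w : Gs.obj (op 0) ⟶ Gs.obj (op (n + 1)))
    (hw : ARSys.tr Gs (Nat.zero_le (n + 1)) ≫ w = Formal.smulMod A (Gs.obj (op (n + 1))) (f ^ (n + 1))) :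
    Mono w := by
  haveI := Algz7.epi_tr hG (Nat.zero_le (n + 1))
  refine Preadditive.mono_of_cancel_zero _ fun {T} a ha => ?_
  refine Scheme.Modules.hom_ext _ _ fun V => ?_
  ext s
  refine QCoh.eq_zero_of_locally _ _ fun x hx => ?_
  obtain ⟨_, ⟨W, hW, rfl⟩, hxW, hle⟩ := X.isBasis_affineOpens.exists_subset_of_mem_open hx V.2
  refine ⟨W, homOfLE hle, hxW, ?_⟩
  refine (congr($(a.mapPresheaf.naturality (homOfLE hle).op) s)).symm.trans ?_
  obtain ⟨z, hz⟩ := QCoh.app_surjective_of_epi (hG.1 (n + 1)).1 (hG.1 0).1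
    (ARSys.tr Gs (Nat.zero_le (n + 1))) hW (a.app W (T.presheaf.map (homOfLE hle).op s))
  have h0 : (Formal.smulMod A (Gs.obj (op (n + 1))) (f ^ (n + 1))).app W z = 0 :=
    (congrArg (fun t => Scheme.Modules.Hom.app t W z) hw).symm.trans
      ((congrArg (w.app W) hz).trans (congrArg (fun t => Scheme.Modules.Hom.app t W _) ha))
  obtain ⟨z', rfl⟩ := hreg n W hW z h0
  refine hz.symm.trans ?_
  have h2 : Formal.smulMod A (Gs.obj (op (n + 1))) f ≫ ARSys.tr Gs (Nat.zero_le (n + 1)) = 0 := by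
    rw [Algz7.smulMod_naturality, hG.2.1 0 f (by rw [zero_add, pow_one]; exact Ideal.mem_span_singleton_self f),
      comp_zero]
  exact congrArg (fun t => Scheme.Modules.Hom.app t W z') h2

theorem hsplit (hreg : Reg f Gs) (hG : Formal.IsCohFormal (Ideal.span {f}) Gs) (n : ℕ) :
    ∃ S : Finset (Sym (Fin 1) (n + 1)),
      ∀ ν : ULift.{u} S → (Gs.obj (op 0) ⟶ kernel (ARSys.tr Gs (Nat.le_succ n))),
        (∀ s, ARSys.tr Gs (Nat.zero_le (n + 1)) ≫ ν s ≫ kernel.ι (ARSys.tr Gs (Nat.le_succ n)) =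
          Formal.smulMod A (Gs.obj (op (n + 1))) (Algz7.Canon2.mon (fun _ => f) s.down.1)) →
        IsIso (biproduct.desc ν) := by
  let T := ULift.{u} ↥({Sym.replicate (n + 1) (0 : Fin 1)} : Finset (Sym (Fin 1) (n + 1)))
  refine ⟨{Sym.replicate (n + 1) 0}, fun ν hν => ?_⟩
  let s₀ : T := ⟨⟨_, Finset.mem_singleton_self _⟩⟩
  have huniq : ∀ s : T, s = s₀ := fun s => ULift.ext _ _ (Subtype.ext (Finset.mem_singleton.1 s.down.2))
  have hmon : Algz7.Canon2.mon (fun _ => f) s₀.down.1 = f ^ (n + 1) := by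
    simp [Algz7.Canon2.mon, s₀, Sym.coe_replicate, Multiset.map_replicate, Multiset.prod_replicate, pow_succ']
  let ι := kernel.ι (ARSys.tr Gs (Nat.le_succ n))
  have hwd : ARSys.tr Gs (Nat.zero_le (n + 1)) ≫ (ν s₀ ≫ ι) =
      Formal.smulMod A (Gs.obj (op (n + 1))) (f ^ (n + 1)) := by rw [hν, hmon]
  haveI : Mono (ν s₀ ≫ ι) := mono_word f Gs hreg hG n _ hwd
  haveI : Mono (ν s₀) := mono_of_mono (ν s₀) ι
  haveI : IsIso (ν s₀) := by
    refine KFlatLib.isIso_of_stalk _ fun y => (ConcreteCategory.isIso_iff_bijective _).2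
      ⟨Algz7.Canon2.stalk_injective (ν s₀) y, fun k => ?_⟩
    let N := (Gs.obj (op (n + 1))).presheaf.stalk y
    have hk : Algz.stalkMapₗ ι y k ∈ Algz.stalkIdeal (Ideal.span {f}) y ^ (n + 1) •
        (⊤ : Submodule (X.presheaf.stalk y) N) := by
      rw [← Algz7.Canon2.ker_stalk_step hG y n]
      exact (Algz7.Canon2.stalk_exact _ (ShortComplex.exact_kernel (ARSys.tr Gs (Nat.le_succ n))) y).ge ⟨k, rfl⟩
    rw [Algz.stalkIdeal, Ideal.map_span, Set.image_singleton, Ideal.span_singleton_pow,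
      Submodule.ideal_span_singleton_smul, Submodule.mem_smul_pointwise_iff_exists] at hk
    obtain ⟨z, -, hz⟩ := hk
    refine ⟨Algz.stalkMapₗ (ARSys.tr Gs (Nat.zero_le (n + 1))) y z, Algz7.Canon2.stalk_injective ι y ?_⟩
    show Algz.stalkMapₗ ι y (Algz.stalkMapₗ (ν s₀) y _) = _
    rw [← Algz7.Canon2.stalk_comp, ← Algz7.Canon2.stalk_comp, hwd, Algz7.Canon2.stalk_smulMod, map_pow, hz]
  refine ⟨inv (ν s₀) ≫ biproduct.ι (fun _ : T => Gs.obj (op 0)) s₀, ?_, ?_⟩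
  · refine biproduct.hom_ext' _ _ fun s => ?_
    rw [biproduct.ι_desc_assoc, huniq s, IsIso.hom_inv_id_assoc]
    exact (Category.comp_id _).symm
  · rw [Category.assoc, biproduct.ι_desc, IsIso.inv_hom_id]

end Split

variable {R : Type u} [CommRing R] [IsRegularRing R] {A : Type u} [CommRing A] [IsNoetherianRing A]
  (π : R →+* A) (hπ : Function.Surjective π) (t : A) [IsAdicComplete (Ideal.span {t}) A] (𝔞 : Ideal A)

include hπ in
theorem exists_completion (Gs : ℕᵒᵖ ⥤ (LocCoh.puncturedOpen A 𝔞 : Scheme.{u}).Modules)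
    (hG : Formal.IsCohFormal (Ideal.span {t}) Gs) (hreg : Reg t Gs)
    (hdepth : ∀ x : (LocCoh.puncturedOpen A 𝔞 : Scheme.{u}),
      SGA2.relCodim 𝔞 ((LocCoh.puncturedOpen A 𝔞).ι.base x) = 1 → (2 : ℕ∞) ≤ LocCoh.depth
        ((LocCoh.puncturedOpen A 𝔞 : Scheme.{u}).presheaf.stalk x) ((Gs.obj (op 0)).presheaf.stalk x)) :
    ∃ F : (LocCoh.puncturedOpen A 𝔞 : Scheme.{u}).Modules, Coh.IsCoh F ∧
      Nonempty (Formal.completion (Ideal.span {t}) F ≅ Gs) := by
  obtain ⟨N₀, _, _, _, ⟨u⟩⟩ := GrLib8.PuncturedLC.exists_finite 𝔞 (Gs.obj (op 0)) (hG.1 0)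
  let N : ModuleCat.{u} (CommRingCat.of A) := ModuleCat.of (CommRingCat.of A) N₀
  haveI : Module.Finite A N := inferInstanceAs (Module.Finite A N₀)
  have hfin := (LC.finite_iff_depth_add_codim π hπ 𝔞 N₀ 2).2
    ((LC.forall_depth_add_codim_iff 𝔞 N₀ 2).2 fun p hp hc => by
      let x : (LocCoh.puncturedOpen A 𝔞 : Scheme.{u}) := ⟨p, hp⟩
      exact (hdepth x hc).trans (S5190.depth_stalk_G (A := CommRingCat.of A) _ N u x).le)
  have hH : ∀ j, j ≤ 1 → Module.Finite A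
      (Coh.HH (LocCoh.puncturedOpen A 𝔞 : Scheme.{u}) (Gs.obj (op 0)) j) := fun j hj => by
    haveI := FormalHHReg.finite_HH 𝔞 N j (hfin (j + 1) (by omega))
    exact Module.Finite.equiv (GrLib8.PuncturedLC.mapEquiv u.symm j)
  have hcan := Algz7.Canon2.canonicallyExtends_of_split (U := LocCoh.puncturedOpen A 𝔞) (Ideal.span {t}) hG
    (fun _ : Fin 1 => t) (fun _ => Ideal.mem_span_singleton_self t) (hsplit t Gs hreg hG) (hH 0 (by omega))
    (hH 1 le_rfl)
  exact Algz7.exists_completion_iso_of_extends _ Gs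
    (Algz7.extends_of_canonicallyExtends _ _ Gs hG hcan)

include hπ in
/-- Existence for systems of modules on the levels of the completion. -/
theorem exists_completionMod (U : (Spec (CommRingCat.of A)).Opens) (hU : U = LocCoh.puncturedOpen A 𝔞)
    (𝔐 : FSch.ModSys (FSch.completionAlong (U : Scheme.{u}) ((Spec.map (CommRingCat.ofHom (Ideal.Quotient.mk (Ideal.span {t})))).ker.comap U.ι)))
    (hcoh : 𝔐.IsCoh)
    (hreg : ∀ N : ℕ, 1 ≤ N → kernelSubobject (Formal.smulModΓ (𝔐.F N) ((((FSch.completionToX (U : Scheme.{u}) ((Spec.map (CommRingCat.ofHom (Ideal.Quotient.mk (Ideal.span {t})))).ker.comap U.ι) N) ≫ U.ι).appTop.hom ((Scheme.ΓSpecIso (CommRingCat.of A)).inv t)) ^ N)) = imageSubobject (Formal.smulModΓ (𝔐.F N) (((FSch.completionToX (U : Scheme.{u}) ((Spec.map (CommRingCat.ofHom (Ideal.Quotient.mk (Ideal.span {t})))).ker.comap U.ι) N) ≫ U.ι).appTop.hom ((Scheme.ΓSpecIso (CommRingCat.of A)).inv t))))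
    (hdepth : ∀ y : ↥((FSch.completionAlong (U : Scheme.{u}) ((Spec.map (CommRingCat.ofHom (Ideal.Quotient.mk (Ideal.span {t})))).ker.comap U.ι)).X 0),
      SGA2.relCodim 𝔞 (((FSch.completionToX (U : Scheme.{u}) ((Spec.map (CommRingCat.ofHom (Ideal.Quotient.mk (Ideal.span {t})))).ker.comap U.ι) 0) ≫ U.ι).base y) = 1 →
      (2 : ℕ∞) ≤ LocCoh.depth (((FSch.completionAlong (U : Scheme.{u}) ((Spec.map (CommRingCat.ofHom (Ideal.Quotient.mk (Ideal.span {t})))).ker.comap U.ι)).X 0).presheaf.stalk y) ((𝔐.F 0).presheaf.stalk y)) :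
    ∃ F : (U : Scheme.{u}).Modules, Coh.IsCoh F ∧
      Nonempty (FSch.completionMod ((Spec.map (CommRingCat.ofHom (Ideal.Quotient.mk (Ideal.span {t})))).ker.comap U.ι) F ≅ 𝔐) := by
  subst hU
  haveI : IsNoetherianRing (CommRingCat.of A) := inferInstanceAs (IsNoetherianRing A)
  let 𝓚 := (Spec.map (CommRingCat.ofHom (Ideal.Quotient.mk (Ideal.span {t})))).ker.comap (LocCoh.puncturedOpen A 𝔞).ι
  have h𝓚 : 𝓚 = (FSch.idealSpec A (Ideal.span {t})).comap
      ((LocCoh.puncturedOpen A 𝔞 : Scheme.{u}) ↘ Spec (CommRingCat.of A)) := rfl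
  have hG := ModSysPush.isCohFormal_sys (Ideal.span {t}) 𝓚 h𝓚 𝔐 hcoh
  have hR : Reg t (ModSysPush.sys 𝓚 𝔐) := fun n V hV s hs => by
    let g := FSch.completionToX (LocCoh.puncturedOpen A 𝔞 : Scheme.{u}) 𝓚 (n + 1)
    let r : Γ((FSch.completionAlong (LocCoh.puncturedOpen A 𝔞 : Scheme.{u}) 𝓚).X (n + 1), ⊤) :=
      (g ≫ (LocCoh.puncturedOpen A 𝔞).ι).appTop.hom ((Scheme.ΓSpecIso (CommRingCat.of A)).inv t)
    have heq := hreg (n + 1) (Nat.le_add_left 1 n)
    have hz : Formal.smulModΓ (𝔐.F (n + 1)) r ≫ Formal.smulModΓ (𝔐.F (n + 1)) (r ^ (n + 1)) = 0 := by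
      rw [← imageSubobject_arrow_comp (Formal.smulModΓ (𝔐.F (n + 1)) r), Category.assoc,
        ← Subobject.ofLE_arrow (le_of_eq heq.symm), Category.assoc, kernelSubobject_arrow_comp, comp_zero, comp_zero]
    have hex : (ShortComplex.mk _ _ hz).Exact := (ShortComplex.exact_iff_image_eq_kernel _).2 heq.symm
    have hpow : ∀ k : ℕ, r ^ k = g.appTop.hom (Coh.toGlobal
        ((LocCoh.puncturedOpen A 𝔞 : Scheme.{u}) ↘ Spec (CommRingCat.of A)) (t ^ k)) := fun k => by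
      rw [map_pow, map_pow]
      rfl
    have hs' : (Formal.smulModΓ (𝔐.F (n + 1)) (r ^ (n + 1))).app (g ⁻¹ᵁ V) s = 0 := by
      refine Eq.trans ?_ hs
      rw [hpow]
      exact congrArg (fun φ => Scheme.Modules.Hom.app φ V s) (ModSysPush.map_smulModΓ 𝓚 𝔐 (n + 1) (t ^ (n + 1)))
    obtain ⟨s', hs''⟩ := ModSysPush.exists_lift hex (hcoh (n + 1)).1 (hcoh (n + 1)).1 (hcoh (n + 1)).1
      (hV.preimage g) s hs'
    refine ⟨s', Eq.trans ?_ hs''⟩
    refine (congrArg (fun φ => Scheme.Modules.Hom.app φ V s') (ModSysPush.map_smulModΓ 𝓚 𝔐 (n + 1) t)).symm.trans ?_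
    refine congrArg (fun ρ => (Formal.smulModΓ (𝔐.F (n + 1)) ρ).app (g ⁻¹ᵁ V) s') ?_
    have h1 := hpow 1
    rw [pow_one, pow_one] at h1
    exact h1.symm
  have hd : ∀ x : (LocCoh.puncturedOpen A 𝔞 : Scheme.{u}),
      SGA2.relCodim 𝔞 ((LocCoh.puncturedOpen A 𝔞).ι.base x) = 1 → (2 : ℕ∞) ≤ LocCoh.depth
        ((LocCoh.puncturedOpen A 𝔞 : Scheme.{u}).presheaf.stalk x)
        (((ModSysPush.sys 𝓚 𝔐).obj (op 0)).presheaf.stalk x) := fun x hx => by
    let g := FSch.completionToX (LocCoh.puncturedOpen A 𝔞 : Scheme.{u}) 𝓚 0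
    by_cases hr : x ∈ Set.range g
    · obtain ⟨y, rfl⟩ := hr
      exact (hdepth y hx).trans (NegVanClosed.depth_stalk_push g (𝔐.F 0) y).ge
    · exact le_top.trans (NegVanClosed.depth_stalk_push_off g (𝔐.F 0) hr).ge
  obtain ⟨F, hF, ⟨β⟩⟩ := exists_completion π hπ t 𝔞 (ModSysPush.sys 𝓚 𝔐) hG hR hd
  exact ⟨F, hF, ModSysPush.nonempty_iso_completionMod (Ideal.span {t}) 𝓚 h𝓚 𝔐 hF β⟩

end Groth.Agent.Synt29.RegFormal
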