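import Groth.Agent.QRepLib.Naive
import Mathlib

/-! Smooth and quasi-finite is étale. -/

set_option autoImplicit false

universe u

open scoped TensorProduct

namespace Groth.Agent.Synt29.QFEtale

theorem formallyUnramified_of_finite (κ R : Type u) [Field κ] [CommRing R] [Algebra κ R]
    [Module.Finite κ R] [Algebra.FormallySmooth κ R] : Algebra.FormallyUnramified κ R := by
  have : Algebra.FinitePresentation κ R :=
    Algebra.FinitePresentation.of_finiteType.mp inferInstance
  have : Algebra.Smooth κ R := ⟨inferInstance, inferInstance⟩
  let K := AlgebraicClosure κ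
  let C := K ⊗[κ] R
  have : IsReduced C := QRepLib.isReduced_of_smooth_algebra K C
  have : IsArtinianRing C := isArtinian_of_tower K inferInstance
  let _ (i : MaximalSpectrum C) : Field (C ⧸ i.asIdeal) := Ideal.Quotient.field i.asIdeal
  have : Algebra.FormallyEtale K C := (Algebra.FormallyEtale.iff_exists_algEquiv_prod K C).mpr
    ⟨MaximalSpectrum C, inferInstance, fun i => C ⧸ i.asIdeal, inferInstance, inferInstance,
      (IsArtinianRing.equivPi C).restrictScalars K, fun i => inferInstance⟩
  exact Algebra.FormallyUnramified.of_formallyUnramified_tensorProduct_of_faithfullyFlat (T := K)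

theorem isEtaleAt (A B : Type u) [CommRing A] [CommRing B] [Algebra A B]
    [Algebra.FinitePresentation A B] (q : Ideal B) [q.IsPrime] [Algebra.QuasiFiniteAt A q]
    (h : Algebra.IsSmoothAt A q) : Algebra.IsEtaleAt A q := by
  have : Algebra.FormallySmooth A (Localization.AtPrime q) := h
  have : Algebra.QuasiFinite A (Localization.AtPrime q) := ‹Algebra.QuasiFiniteAt A q›
  have : Algebra.EssFiniteType A (Localization.AtPrime q) :=
    Algebra.EssFiniteType.comp A B (Localization.AtPrime q)
  let p := q.under A
  have hfib := formallyUnramified_of_finite p.ResidueField (p.Fiber (Localization.AtPrime q))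
  let M := Ω[Localization.AtPrime q⁄A]
  have hsub : Subsingleton (p.ResidueField ⊗[A] M) := by
    let _ : Algebra (Localization.AtPrime q) (p.ResidueField ⊗[A] Localization.AtPrime q) :=
      Algebra.TensorProduct.rightAlgebra
    exact (KaehlerDifferential.tensorKaehlerEquivBase A p.ResidueField (Localization.AtPrime q)
      (p.ResidueField ⊗[A] Localization.AtPrime q)).subsingleton
  let m := IsLocalRing.maximalIdeal (Localization.AtPrime q)
  let V := M ⧸ m • (⊤ : Submodule (Localization.AtPrime q) M)
  let g : p.ResidueField →+* Localization.AtPrime q ⧸ m :=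
    Ideal.ResidueField.map p q (algebraMap A B) rfl
  let _ : Module p.ResidueField V := Module.compHom V g
  have hg : ∀ a : A, g (algebraMap A p.ResidueField a) =
      Ideal.Quotient.mk m (algebraMap A (Localization.AtPrime q) a) := fun a => by
    refine (Ideal.ResidueField.map_algebraMap p q (algebraMap A B) rfl a).trans ?_
    rw [IsScalarTower.algebraMap_apply A B (Localization.AtPrime q)]
    rfl
  have : IsScalarTower A p.ResidueField V := IsScalarTower.of_algebraMap_smul fun a v => by
    obtain ⟨x, rfl⟩ := Submodule.mkQ_surjective _ v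
    show g (algebraMap A p.ResidueField a) • (Submodule.mkQ _ x : V) = Submodule.mkQ _ (a • x)
    rw [hg, ← IsScalarTower.algebraMap_smul (Localization.AtPrime q) a x, map_smul]
    rfl
  let φ : p.ResidueField ⊗[A] M →ₗ[A] V := TensorProduct.lift
    (LinearMap.mk₂ A (fun c x => c • (Submodule.mkQ _ x : V))
      (fun c c' x => add_smul _ _ _) (fun a c x => smul_assoc _ _ _)
      (fun c x x' => by rw [map_add, smul_add])
      (fun a c x => by rw [LinearMap.map_smul_of_tower, smul_comm]))
  have htop : m • (⊤ : Submodule (Localization.AtPrime q) M) = ⊤ := by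
    refine eq_top_iff.mpr fun x _ => (Submodule.Quotient.mk_eq_zero _).mp ?_
    have h1 : φ (1 ⊗ₜ x) = Submodule.mkQ _ x :=
      one_smul p.ResidueField (Submodule.mkQ _ x : V)
    rw [hsub.elim (1 ⊗ₜ x) 0, map_zero] at h1
    exact h1.symm
  have hM : (⊤ : Submodule (Localization.AtPrime q) M) = ⊥ :=
    Submodule.eq_bot_of_le_smul_of_le_jacobson_bot m ⊤ Module.Finite.fg_top htop.ge
      (IsLocalRing.maximalIdeal_le_jacobson _)
  have : Algebra.FormallyUnramified A (Localization.AtPrime q) :=
    ⟨subsingleton_of_forall_eq 0 fun x => by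
      have hx : x ∈ (⊤ : Submodule (Localization.AtPrime q) M) := trivial
      rw [hM] at hx
      exact hx⟩
  exact Algebra.FormallyEtale.iff_formallyUnramified_and_formallySmooth.mpr ⟨this, h⟩

end Groth.Agent.Synt29.QFEtale
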