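import Groth.Agent.Synt29.StalkFormal
import Groth.Prelude.Def_SchLoc
import Mathlib

/-! Being unramified near a point. -/

set_option autoImplicit false

universe u

open CategoryTheory CategoryTheory.Limits AlgebraicGeometry TopologicalSpace Opposite

namespace Groth.Agent.Synt29.UnramAt

variable {X Y : Scheme.{u}} (f : X ⟶ Y)

lemma algebra_isUnramifiedAt_iff {R S : Type u} [CommRing R] [CommRing S] (φ : R →+* S)
    (p : Ideal S) [p.IsPrime] (q : Ideal R) [q.IsPrime] (hq : q = p.comap φ) :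
    (letI := φ.toAlgebra; Algebra.IsUnramifiedAt R p) ↔
      (Localization.localRingHom q p φ hq).FormallyUnramified := by
  let _ := φ.toAlgebra
  let ψ := Localization.localRingHom q p φ hq
  let _ : Algebra (Localization.AtPrime q) (Localization.AtPrime p) := ψ.toAlgebra
  have : IsScalarTower R (Localization.AtPrime q) (Localization.AtPrime p) :=
    IsScalarTower.of_algebraMap_eq fun r =>
      (IsScalarTower.algebraMap_apply R S (Localization.AtPrime p) r).trans
        (Localization.localRingHom_to_map _ _ _ hq r).symm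
  constructor
  · intro h
    have : Algebra.FormallyUnramified R (Localization.AtPrime p) := h
    exact Algebra.FormallyUnramified.of_restrictScalars R _ _
  · intro h
    have : Algebra.FormallyUnramified (Localization.AtPrime q) (Localization.AtPrime p) := h
    have : Algebra.FormallyUnramified R (Localization.AtPrime q) :=
      Algebra.FormallyUnramified.of_isLocalization q.primeCompl
    exact Algebra.FormallyUnramified.comp R (Localization.AtPrime q) _

/-- chart form of unramifiedness of a stalk map -/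
lemma stalkMap_iff {U : Y.Opens} (hU : IsAffineOpen U) {V : X.Opens} (hV : IsAffineOpen V)
    (e : V ≤ f ⁻¹ᵁ U) {x : X} (hx : x ∈ V) :
    (f.stalkMap x).hom.FormallyUnramified ↔
      (letI := (f.appLE U V e).hom.toAlgebra
       Algebra.IsUnramifiedAt Γ(Y, U) (hV.primeIdealOf ⟨x, hx⟩).asIdeal) := by
  rw [algebra_isUnramifiedAt_iff (f.appLE U V e).hom (hV.primeIdealOf ⟨x, hx⟩).asIdeal
    (hU.primeIdealOf ⟨f x, e hx⟩).asIdeal
    (congr($(IsAffineOpen.comap_primeIdealOf_appLE U hU V hV e hx).1).symm)]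
  exact RingHom.FormallyUnramified.respectsIso.arrow_mk_iso_iff
    (IsAffineOpen.arrowStalkMapIso f U hU V hV e hx)

lemma stalkMap_comp_ι (O : X.Opens) (y : (O : Scheme.{u})) :
    ((O.ι ≫ f).stalkMap y).hom.FormallyUnramified ↔
      (f.stalkMap (O.ι y)).hom.FormallyUnramified := by
  rw [Scheme.Hom.stalkMap_comp]
  exact RingHom.FormallyUnramified.respectsIso.cancel_right_isIso (f.stalkMap (O.ι y))
    (O.ι.stalkMap y)

/-- the unramified points form an open set -/
theorem exists_nhd [LocallyOfFiniteType f] {x : X} (hx : (f.stalkMap x).hom.FormallyUnramified) :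
    ∃ O : X.Opens, x ∈ O ∧ FormallyUnramified (O.ι ≫ f) := by
  obtain ⟨U, hU, hfx, -⟩ := Opens.isBasis_iff_nbhd.mp Y.isBasis_affineOpens (Opens.mem_top (f x))
  obtain ⟨V, hV, hxV, e⟩ := Opens.isBasis_iff_nbhd.mp X.isBasis_affineOpens
    (show x ∈ f ⁻¹ᵁ U from hfx)
  have : IsOpenImmersion hV.fromSpec := hV.isOpenImmersion_fromSpec
  let _ := (f.appLE U V e).hom.toAlgebra
  have : Algebra.FiniteType Γ(Y, U) Γ(X, V) := f.finiteType_appLE hU hV e
  let L : Opens (PrimeSpectrum Γ(X, V)) := ⟨Algebra.unramifiedLocus Γ(Y, U) Γ(X, V), by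
    rw [Algebra.unramifiedLocus_eq_compl_support]
    exact Module.isClosed_support.isOpen_compl⟩
  refine ⟨hV.fromSpec ''ᵁ L, ⟨hV.primeIdealOf ⟨x, hxV⟩, (stalkMap_iff f hU hV e hxV).mp hx,
    hV.fromSpec_primeIdealOf _⟩, ?_⟩
  rw [StalkFormal.formallyUnramified_iff_stalkMap]
  rintro ⟨y, z, hz, rfl⟩
  have hy : hV.fromSpec z ∈ V := hV.opensRange_fromSpec.le ⟨z, rfl⟩
  refine (stalkMap_comp_ι f _ _).mpr ((stalkMap_iff f hU hV e hy).mpr ?_)
  have hz' : hV.primeIdealOf ⟨hV.fromSpec z, hy⟩ = z :=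
    hV.fromSpec.isOpenEmbedding.injective (hV.fromSpec_primeIdealOf _)
  rw [hz']
  exact hz

theorem iff_stalkMap [LocallyOfFiniteType f] (x : X) :
    (∃ O : X.Opens, x ∈ O ∧ FormallyUnramified (O.ι ≫ f)) ↔
      (f.stalkMap x).hom.FormallyUnramified := by
  refine ⟨fun ⟨O, hxO, h⟩ => ?_, exists_nhd f⟩
  exact (stalkMap_comp_ι f O ⟨x, hxO⟩).mp (FormallyUnramified.stalkMap _ _)

theorem iff_isLocalIsoAt_diagonal [LocallyOfFiniteType f] (x : X) :
    (∃ O : X.Opens, x ∈ O ∧ FormallyUnramified (O.ι ≫ f)) ↔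
      SchLoc.IsLocalIsoAt (pullback.diagonal f) x := by
  have key : ∀ O : X.Opens, O.ι ≫ pullback.diagonal f = pullback.diagonal (O.ι ≫ f) ≫
      pullback.map (O.ι ≫ f) (O.ι ≫ f) f f O.ι O.ι (𝟙 Y) (by simp) (by simp) := fun O => by
    apply pullback.hom_ext
    · rw [Category.assoc, Category.assoc, pullback.diagonal_fst, Category.comp_id]
      erw [pullback.lift_fst, pullback.lift_fst_assoc, Category.id_comp]
    · rw [Category.assoc, Category.assoc, pullback.diagonal_snd, Category.comp_id]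
      erw [pullback.lift_snd, pullback.lift_snd_assoc, Category.id_comp]
  refine exists_congr fun O => and_congr_right fun _ => ⟨fun h => ?_, fun h => ?_⟩
  · rw [key]
    infer_instance
  · rw [key] at h
    let m := pullback.map (O.ι ≫ f) (O.ι ≫ f) f f O.ι O.ι (𝟙 Y) (by simp) (by simp)
    have : IsOpenImmersion m := inferInstanceAs (IsOpenImmersion (pullback.map _ _ _ _ _ _ _ _ _))
    have : IsOpenImmersion (pullback.diagonal (O.ι ≫ f) ≫ m) := h
    have : IsOpenImmersion (pullback.diagonal (O.ι ≫ f)) := IsOpenImmersion.of_comp _ m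
    infer_instance

theorem isLocalIsoAt_section [LocallyOfFiniteType f] {Y' : Scheme.{u}} (g : Y' ⟶ Y)
    (s : Y' ⟶ pullback f g) (hs : s ≫ pullback.snd f g = 𝟙 Y') (O : X.Opens)
    [FormallyUnramified (O.ι ≫ f)] (y : Y') (hy : pullback.fst f g (s y) ∈ O) :
    SchLoc.IsLocalIsoAt s y := by
  let m : pullback (O.ι ≫ f) g ⟶ pullback f g :=
    pullback.map (O.ι ≫ f) g f g O.ι (𝟙 _) (𝟙 _) (by simp) (by simp)
  let W : Y'.Opens := (s ≫ pullback.fst f g) ⁻¹ᵁ O
  let l : (W : Scheme.{u}) ⟶ O :=
    IsOpenImmersion.lift O.ι (W.ι ≫ s ≫ pullback.fst f g) (by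
      rintro _ ⟨z, rfl⟩
      rw [Scheme.Opens.range_ι]
      exact z.2)
  have hl : l ≫ O.ι = W.ι ≫ s ≫ pullback.fst f g := IsOpenImmersion.lift_fac _ _ _
  let σ : (W : Scheme.{u}) ⟶ pullback (O.ι ≫ f) g := pullback.lift l W.ι (by
    rw [reassoc_of% hl, pullback.condition, reassoc_of% hs])
  have hσm : σ ≫ m = W.ι ≫ s := by
    apply pullback.hom_ext
    · rw [Category.assoc, Category.assoc]
      erw [pullback.lift_fst, pullback.lift_fst_assoc]
      exact hl
    · rw [Category.assoc, Category.assoc, hs, Category.comp_id]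
      erw [pullback.lift_snd, Category.comp_id, pullback.lift_snd]
  have hd : MorphismProperty.diagonal @IsOpenImmersion (pullback.snd (O.ι ≫ f) g) :=
    MorphismProperty.pullback_snd (P := .diagonal @IsOpenImmersion) _ _
      (inferInstanceAs (IsOpenImmersion (pullback.diagonal (O.ι ≫ f))))
  have : IsOpenImmersion σ :=
    @MorphismProperty.of_postcomp _ _ @IsOpenImmersion (MorphismProperty.diagonal @IsOpenImmersion)
      (MorphismProperty.hasOfPostcompProperty_iff_le_diagonal.mpr le_rfl) _ _ _ σ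
      (pullback.snd (O.ι ≫ f) g) hd (by
        rw [pullback.lift_snd]
        exact inferInstanceAs (IsOpenImmersion W.ι))
  exact ⟨W, hy, hσm ▸ inferInstance⟩

theorem iff_forall_section [LocallyOfFiniteType f] (x : X) :
    (∃ O : X.Opens, x ∈ O ∧ FormallyUnramified (O.ι ≫ f)) ↔
      ∀ (Y' : Scheme.{u}) (g : Y' ⟶ Y) (s' : Y' ⟶ pullback f g), s' ≫ pullback.snd f g = 𝟙 Y' →
        ∀ y' : ↥Y', pullback.fst f g (s' y') = x → SchLoc.IsLocalIsoAt s' y' := by
  constructor
  · rintro ⟨O, hxO, h⟩ Y' g s hs y rfl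
    exact isLocalIsoAt_section f g s hs O y hxO
  · intro h
    refine (iff_isLocalIsoAt_diagonal f x).mpr (h X f (pullback.diagonal f) (by simp) x ?_)
    rw [← Scheme.Hom.comp_apply, pullback.diagonal_fst]
    rfl

/-- lifting criterion -/
theorem iff_lift_unique [LocallyOfFiniteType f] (x : X) :
    (∃ O : X.Opens, x ∈ O ∧ FormallyUnramified (O.ι ≫ f)) ↔
      ∀ (B B' : Type u) [CommRing B] [CommRing B'] [IsLocalRing B] [IsLocalRing B'] (φ : B' →+* B),
      Function.Surjective φ → RingHom.ker φ ^ 2 = ⊥ →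
      ∀ (α : Spec (CommRingCat.of B) ⟶ X) (β : Spec (CommRingCat.of B') ⟶ Y),
        α.base (IsLocalRing.closedPoint B) = x → Spec.map (CommRingCat.ofHom φ) ≫ β = α ≫ f →
        ∀ γ₁ γ₂ : Spec (CommRingCat.of B') ⟶ X,
          Spec.map (CommRingCat.ofHom φ) ≫ γ₁ = α → γ₁ ≫ f = β →
          Spec.map (CommRingCat.ofHom φ) ≫ γ₂ = α → γ₂ ≫ f = β → γ₁ = γ₂ := by
  constructor
  · rintro ⟨O, hxO, hU⟩ B B' _ _ _ _ φ hφ hsq α β hα - γ₁ γ₂ h1 h1' h2 h2'
    let i := Spec.map (CommRingCat.ofHom φ)
    have : IsClosedImmersion i := IsClosedImmersion.spec_of_surjective _ hφ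
    have hmem : ∀ γ : Spec (CommRingCat.of B') ⟶ X, i ≫ γ = α →
        Set.range γ ⊆ Set.range O.ι := by
      intro γ hγ
      rw [Scheme.Opens.range_ι]
      have hloc : IsLocalHom φ := IsLocalHom.of_surjective φ hφ
      have hc : i (IsLocalRing.closedPoint B) = IsLocalRing.closedPoint B' :=
        IsLocalRing.comap_closedPoint φ
      have hx' : γ (IsLocalRing.closedPoint B') = x :=
        (congrArg (fun z => γ z) hc.symm).trans
          ((Scheme.Hom.comp_apply i γ _).symm.trans ((congr($hγ (IsLocalRing.closedPoint B))).trans hα))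
      rintro _ ⟨z, rfl⟩
      have hs : z ⤳ IsLocalRing.closedPoint B' := IsLocalRing.specializes_closedPoint z
      exact ((hs.map γ.continuous).mem_open O.2 (hx' ▸ hxO))
    let l₁ := IsOpenImmersion.lift O.ι γ₁ (hmem γ₁ h1)
    let l₂ := IsOpenImmersion.lift O.ι γ₂ (hmem γ₂ h2)
    have e1 : l₁ ≫ O.ι = γ₁ := IsOpenImmersion.lift_fac _ _ _
    have e2 : l₂ ≫ O.ι = γ₂ := IsOpenImmersion.lift_fac _ _ _
    have hnil : IsNilpotent i.ker := ⟨2, by
      refine Scheme.IdealSheafData.ext_of_iSup_eq_top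
        (fun _ : Unit => ⟨⊤, isAffineOpen_top (Spec (CommRingCat.of B'))⟩) (by simp) fun _ => ?_
      rw [Scheme.IdealSheafData.ideal_pow, Pi.pow_apply, Scheme.Hom.ker_apply]
      have hk : RingHom.ker (i.app ⊤).hom = (RingHom.ker φ).map
          (Scheme.ΓSpecIso (CommRingCat.of B')).inv.hom := by
        rw [show i.app ⊤ = (Scheme.ΓSpecIso (CommRingCat.of B')).hom ≫ CommRingCat.ofHom φ ≫
          (Scheme.ΓSpecIso (CommRingCat.of B)).inv from by
            rw [← Scheme.ΓSpecIso_naturality_assoc, Iso.hom_inv_id, Category.comp_id]]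
        ext a
        rw [RingHom.mem_ker]
        let E := (Scheme.ΓSpecIso (CommRingCat.of B')).commRingCatIsoToRingEquiv
        constructor
        · intro ha
          have ha' : φ (E a) = 0 := (Scheme.ΓSpecIso (CommRingCat.of B)).symm.commRingCatIsoToRingEquiv.map_eq_zero_iff.mp ha
          exact (E.symm_apply_apply a) ▸ Ideal.mem_map_of_mem _ ha'
        · intro ha
          obtain ⟨b, hb, rfl⟩ := (Ideal.mem_map_iff_of_surjective
            (Scheme.ΓSpecIso (CommRingCat.of B')).inv.hom E.symm.surjective).mp ha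
          show (Scheme.ΓSpecIso (CommRingCat.of B)).inv (φ (E (E.symm b))) = 0
          rw [E.apply_symm_apply, RingHom.mem_ker.mp hb, map_zero]
      rw [hk, ← Ideal.map_pow, hsq, Ideal.map_bot]
      rfl⟩
    have h := FormallyUnramified.hom_ext i hnil (O.ι ≫ f) (g₁ := l₁) (g₂ := l₂)
    rw [← e1, ← e2]
    congr 1
    refine h ?_ ?_
    · rw [← cancel_mono O.ι, Category.assoc, Category.assoc, e1, e2, h1, h2]
    · rw [reassoc_of% e1, reassoc_of% e2, h1', h2']
  · intro H
    refine exists_nhd f ?_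
    let φA := f.stalkMap x
    let _ := φA.hom.toAlgebra
    let A := X.presheaf.stalk x
    let M := Ω[A⁄Y.presheaf.stalk (f x)]
    let _ : Module Aᵐᵒᵖ M := Module.compHom M ((RingHom.id A).fromOpposite mul_comm)
    have : IsCentralScalar A M := ⟨fun _ _ => rfl⟩
    let E := TrivSqZeroExt A M
    let φ : E →+* A := (TrivSqZeroExt.fstHom A A M).toRingHom
    have hφ : Function.Surjective φ := fun a => ⟨TrivSqZeroExt.inl a, TrivSqZeroExt.fst_inl M a⟩
    have hker : RingHom.ker φ = (RingHom.ker φ) := rfl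
    have hsq : RingHom.ker φ ^ 2 = ⊥ := by
      rw [sq, eq_bot_iff, Ideal.mul_le]
      intro a ha b hb
      have ha' : TrivSqZeroExt.fst a = 0 := ha
      have hb' : TrivSqZeroExt.fst b = 0 := hb
      refine Ideal.mem_bot.mpr (TrivSqZeroExt.ext ?_ ?_)
      · rw [TrivSqZeroExt.fst_mul, ha', zero_mul, TrivSqZeroExt.fst_zero]
      · rw [TrivSqZeroExt.snd_mul, ha', hb', zero_smul, MulOpposite.op_zero, zero_smul, add_zero,
          TrivSqZeroExt.snd_zero]
    let γa : A →+* E := TrivSqZeroExt.inlHom A M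
    let D := KaehlerDifferential.D (Y.presheaf.stalk (f x)) A
    let γb : A →+* E :=
      { toFun := fun a => (a, D a)
        map_one' := TrivSqZeroExt.ext rfl D.map_one_eq_zero
        map_mul' := fun a b => TrivSqZeroExt.ext rfl (by
          show D (a * b) = a • D b + MulOpposite.op b • D a
          rw [Derivation.leibniz, op_smul_eq_smul])
        map_zero' := TrivSqZeroExt.ext rfl (map_zero D)
        map_add' := fun a b => TrivSqZeroExt.ext rfl (map_add D a b) }
    have hca : φ.comp γa = RingHom.id A := RingHom.ext fun a => rfl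
    have hcb : φ.comp γb = RingHom.id A := RingHom.ext fun a => rfl
    let G : (A →+* E) → (Spec (CommRingCat.of E) ⟶ X) := fun γ =>
      Spec.map (CommRingCat.ofHom γ) ≫ X.fromSpecStalk x
    have hG : ∀ γ : A →+* E, φ.comp γ = RingHom.id A →
        Spec.map (CommRingCat.ofHom φ) ≫ G γ = X.fromSpecStalk x := fun γ hγ => by
      rw [← Category.assoc, ← Spec.map_comp, ← CommRingCat.ofHom_comp, hγ]
      exact (congrArg (· ≫ _) (Spec.map_id _)).trans (Category.id_comp _)
    have hGf : G γb ≫ f = G γa ≫ f := by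
      simp only [G, Category.assoc, ← Scheme.SpecMap_stalkMap_fromSpecStalk]
      rw [← Category.assoc, ← Category.assoc, ← Spec.map_comp, ← Spec.map_comp]
      congr 2
      ext c
      · rfl
      · exact (D.map_algebraMap c).trans (TrivSqZeroExt.snd_inl M _).symm
    have := hφ
    have : IsLocalRing E := IsLocalRing.of_isUnit_or_isUnit_one_sub_self fun a => by
      rw [TrivSqZeroExt.isUnit_iff_isUnit_fst, TrivSqZeroExt.isUnit_iff_isUnit_fst,
        TrivSqZeroExt.fst_sub, TrivSqZeroExt.fst_one]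
      exact IsLocalRing.isUnit_or_isUnit_one_sub_self _
    have heq := H A E φ hφ hsq (X.fromSpecStalk x) (G γa ≫ f)
      (Scheme.fromSpecStalk_closedPoint (X := X) (x := x))
      (by rw [← Category.assoc, hG γa hca]) (G γa) (G γb) (hG γa hca) rfl (hG γb hcb) hGf
    have h0 : γa = γb := by
      have := (cancel_mono (X.fromSpecStalk x)).mp heq
      exact congrArg CommRingCat.Hom.hom (Spec.map_inj.mp this)
    have hD : ∀ a, D a = 0 := fun a => (congr(TrivSqZeroExt.snd ($h0 a))).symm.trans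
      (TrivSqZeroExt.snd_inl M a)
    show Algebra.FormallyUnramified (Y.presheaf.stalk (f x)) A
    refine ⟨subsingleton_of_forall_eq 0 fun z => ?_⟩
    have hz : z ∈ Submodule.span A (Set.range D) := by
      rw [KaehlerDifferential.span_range_derivation]; trivial
    rw [show Set.range D = {0} from Set.eq_singleton_iff_unique_mem.mpr
      ⟨⟨0, map_zero D⟩, by rintro _ ⟨a, rfl⟩; exact hD a⟩, Submodule.span_singleton_eq_bot.mpr rfl] at hz
    exact hz

end Groth.Agent.Synt29.UnramAt
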