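import Mathlib

/-!
A system of derivations dual to elements of the maximal ideal bounds the dimension from below
(characteristic zero), and regularity of algebras with free differentials.
-/

universe u v

open IsLocalRing

namespace Groth.Agent.Synt29.DerivDim

/-- In characteristic zero an element with `D x = 1` in the maximal ideal is a non zero divisor. -/
theorem mem_nonZeroDivisors {k : Type v} {R : Type u} [Field k] [CharZero k] [CommRing R] [Algebra k R]
    [IsLocalRing R] [IsNoetherianRing R] {x : R} (hx : x ∈ maximalIdeal R) (D : Derivation k R R)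
    (hD : D x = 1) : x ∈ nonZeroDivisors R := by
  have hunit : ∀ n : ℕ, n ≠ 0 → IsUnit (n : R) := fun n hn => by
    rw [← map_natCast (algebraMap k R)]
    exact (isUnit_iff_ne_zero.2 (Nat.cast_ne_zero.2 hn)).map _
  -- if `x ^ (n + 1) a = 0` then `x` divides `a`
  have key : ∀ (n : ℕ) (a : R), x ^ n * a = 0 → x ∣ a := by
    intro n
    induction n with
    | zero => intro a ha; rw [pow_zero, one_mul] at ha; exact ha ▸ dvd_zero _
    | succ n ih =>
      intro a ha
      have h := congrArg D ha
      rw [map_zero, D.leibniz, D.leibniz_pow, hD, smul_eq_mul, smul_eq_mul, nsmul_eq_mul, Nat.add_sub_cancel,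
        smul_eq_mul, mul_one] at h
      have h2 : x ^ n * ((n + 1 : ℕ) * a + x * D a) = 0 := by
        linear_combination h
      obtain ⟨c, hc⟩ := ih _ h2
      obtain ⟨v, hv⟩ := hunit (n + 1) (by omega)
      refine ⟨↑v⁻¹ * (c - D a), ?_⟩
      rw [← v.mul_right_inj, hv]
      rw [show ((n + 1 : ℕ) : R) * (x * (↑v⁻¹ * (c - D a))) = (↑v * ↑v⁻¹) * (x * (c - D a)) by rw [hv]; ring,
        Units.mul_inv, one_mul]
      linear_combination hc
  rw [mem_nonZeroDivisors_iff_right]
  intro a ha
  have hpow : ∀ n : ℕ, a ∈ Ideal.span {x} ^ n := by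
    intro n
    rw [Ideal.span_singleton_pow, Ideal.mem_span_singleton]
    induction n with
    | zero => simp
    | succ n ih =>
      obtain ⟨b, rfl⟩ := ih
      obtain ⟨c, hc⟩ := key (n + 1) b (by linear_combination ha)
      exact ⟨c, by rw [hc]; ring⟩
  have h0 := Ideal.iInf_pow_eq_bot_of_isLocalRing (Ideal.span {x})
    (ne_top_of_le_ne_top (maximalIdeal.isMaximal R).ne_top ((Ideal.span_singleton_le_iff_mem _).2 hx))
  have : a ∈ ⨅ i : ℕ, Ideal.span {x} ^ i := Ideal.mem_iInf.2 hpow
  rwa [h0, Ideal.mem_bot] at this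

/-- Elements of the maximal ideal with a dual system of derivations bound the dimension below. -/
theorem le_ringKrullDim {k : Type v} [Field k] [CharZero k] :
    ∀ (r : ℕ) {R : Type u} [CommRing R] [Algebra k R] [IsLocalRing R] [IsNoetherianRing R]
      (x : Fin r → R) (_ : ∀ i, x i ∈ maximalIdeal R) (D : Fin r → Derivation k R R)
      (_ : ∀ i j, D i (x j) = if i = j then 1 else 0), (r : WithBot ℕ∞) ≤ ringKrullDim R := by
  intro r
  induction r with
  | zero => intro R _ _ _ _ x _ D _; simp [ringKrullDim_nonneg_of_nontrivial]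
  | succ r ih =>
    intro R _ _ _ _ x hx D hD
    have hnzd := mem_nonZeroDivisors (hx 0) (D 0) (by simp [hD])
    let I : Ideal R := Ideal.span {x 0}
    have hI : I ≠ ⊤ := ne_top_of_le_ne_top (maximalIdeal.isMaximal R).ne_top
      ((Ideal.span_singleton_le_iff_mem _).2 (hx 0))
    have : Nontrivial (R ⧸ I) := Ideal.Quotient.nontrivial_iff.2 hI
    have : IsLocalRing (R ⧸ I) := .of_surjective' (Ideal.Quotient.mk I) Ideal.Quotient.mk_surjective
    have hsurj : Function.Surjective (Ideal.Quotient.mkₐ k I) := Ideal.Quotient.mkₐ_surjective k I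
    have hdesc : ∀ (i : Fin r) (a : R), Ideal.Quotient.mkₐ k I a = 0 →
        Ideal.Quotient.mkₐ k I (D i.succ a) = 0 := by
      intro i a ha
      rw [Ideal.Quotient.mkₐ_eq_mk, Ideal.Quotient.eq_zero_iff_mem, Ideal.mem_span_singleton] at ha ⊢
      obtain ⟨c, rfl⟩ := ha
      rw [Derivation.leibniz, hD, if_neg (Fin.succ_ne_zero i), smul_zero, add_zero, smul_eq_mul]
      exact dvd_mul_right _ _
    have hloc : IsLocalHom (Ideal.Quotient.mk I) :=
      IsLocalHom.of_surjective _ Ideal.Quotient.mk_surjective
    have h1 := ih (R := R ⧸ I) (fun i => Ideal.Quotient.mk I (x i.succ))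
      (fun i => map_nonunit (Ideal.Quotient.mk I) _ (hx i.succ))
      (fun i => Derivation.liftOfSurjective hsurj (hdesc i)) (fun i j => by
        rw [show Ideal.Quotient.mk I (x j.succ) = Ideal.Quotient.mkₐ k I (x j.succ) from rfl,
          Derivation.liftOfSurjective_apply, hD]
        simp only [Fin.succ_inj]
        split_ifs <;> simp)
    calc ((r + 1 : ℕ) : WithBot ℕ∞) = (r : WithBot ℕ∞) + 1 := by push_cast; rfl
      _ ≤ ringKrullDim (R ⧸ I) + 1 := add_le_add h1 le_rfl
      _ ≤ ringKrullDim R := ringKrullDim_quotient_succ_le_of_nonZeroDivisor hnzd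

/-- A local algebra essentially of finite type over a field of characteristic zero with free module
of differentials is regular. -/
theorem isRegularLocalRing_of_free {k : Type u} {R : Type u} [Field k] [CharZero k] [CommRing R] [Algebra k R]
    [IsLocalRing R] [IsNoetherianRing R] [Algebra.EssFiniteType k R]
    [Module.Free R (Ω[R⁄k])] : IsRegularLocalRing R := by
  classical
  let m := maximalIdeal R
  have : Algebra.EssFiniteType k (ResidueField R) :=
    Algebra.EssFiniteType.comp k R (ResidueField R)
  have : Algebra.FormallySmooth k (ResidueField R) :=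
    Algebra.FormallySmooth.of_perfectField
  obtain ⟨S, hScard, hSspan⟩ := Submodule.FG.exists_span_finset_card_eq_spanFinrank (maximalIdeal R).fg_of_isNoetherianRing
  let r := (maximalIdeal R).spanFinrank
  let e : Fin r ≃ S := (Finset.equivFinOfCardEq hScard).symm
  let x : Fin r → R := fun i => (e i : R)
  have hx : ∀ i, x i ∈ m := fun i => by
    change (e i : R) ∈ maximalIdeal R
    rw [← hSspan]
    exact Submodule.subset_span (Finset.mem_coe.2 (e i).2)
  have hrange : Submodule.span R (Set.range x) = m := by
    rw [show Set.range x = (S : Set R) from by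
      ext y
      exact ⟨fun ⟨i, h⟩ => h ▸ (e i).2, fun hy => ⟨e.symm ⟨y, hy⟩, by simp [x]⟩⟩]
    exact hSspan
  -- the classes of the generators form a basis of the cotangent space
  let c : Fin r → CotangentSpace R := fun i => m.toCotangent ⟨x i, hx i⟩
  have hcspan : Submodule.span (ResidueField R) (Set.range c) = ⊤ := by
    refine eq_top_iff.2 fun z _ => ?_
    obtain ⟨⟨y, hy⟩, rfl⟩ := m.toCotangent_surjective z
    have hy' : y ∈ Submodule.span R (Set.range x) := hrange.ge hy
    obtain ⟨a, ha⟩ := (Submodule.mem_span_range_iff_exists_fun R).1 hy'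
    have : (⟨y, hy⟩ : m) = ∑ i, a i • (⟨x i, hx i⟩ : m) := Subtype.ext (by simp [← ha])
    rw [this, map_sum]
    refine Submodule.sum_mem _ fun i _ => ?_
    rw [map_smul, ← IsScalarTower.algebraMap_smul (ResidueField R) (a i)]
    exact Submodule.smul_mem _ _ (Submodule.subset_span ⟨i, rfl⟩)
  have hcli : LinearIndependent (ResidueField R) c :=
    linearIndependent_of_top_le_span_of_card_eq_finrank hcspan.ge (by
      rw [Fintype.card_fin]
      exact spanFinrank_maximalIdeal_eq_finrank_cotangentSpace (R := R))
  let b : Module.Basis (Fin r) (ResidueField R) (CotangentSpace R) := Module.Basis.mk hcli hcspan.ge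
  -- split the conormal sequence
  have hker : RingHom.ker (algebraMap R (ResidueField R)) = m := ker_residue
  obtain ⟨g, hg⟩ : ∃ g, (IsScalarTower.toAlgHom k R (ResidueField R)).kerSquareLift.comp g =
      AlgHom.id k (ResidueField R) := by
    have hsurj : Function.Surjective (IsScalarTower.toAlgHom k R (ResidueField R)).kerSquareLift := fun y => by
      obtain ⟨z, rfl⟩ := residue_surjective y
      exact ⟨Ideal.Quotient.mk _ z, rfl⟩
    have hnil : IsNilpotent (RingHom.ker
        (IsScalarTower.toAlgHom k R (ResidueField R)).kerSquareLift.toRingHom) := by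
      rw [AlgHom.ker_kerSquareLift]
      exact ⟨2, Ideal.cotangentIdeal_square _⟩
    exact ⟨Algebra.FormallySmooth.liftOfSurjective (AlgHom.id k _) _ hsurj hnil,
      Algebra.FormallySmooth.comp_liftOfSurjective _ _ hsurj hnil⟩
  obtain ⟨l, hl⟩ := (retractionKerCotangentToTensorEquivSection (R := k) (P := R)
    (S := ResidueField R) residue_surjective).symm ⟨g, hg⟩
  let T : (RingHom.ker (algebraMap R (ResidueField R))).Cotangent →ₗ[R] CotangentSpace R :=
    Ideal.mapCotangent _ m (AlgHom.id R R) (by rw [hker]; exact le_of_eq rfl)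
  let φ : Fin r → (Ω[R⁄k] →ₗ[R] ResidueField R) := fun i =>
    (b.coord i).restrictScalars R ∘ₗ T ∘ₗ l ∘ₗ TensorProduct.mk R (ResidueField R) (Ω[R⁄k]) 1
  have hφ : ∀ i j, φ i (KaehlerDifferential.D k R (x j)) = if i = j then 1 else 0 := by
    intro i j
    have hj : x j ∈ RingHom.ker (algebraMap R (ResidueField R)) := hker.symm ▸ hx j
    have h1 := LinearMap.congr_fun hl (Ideal.toCotangent _ ⟨x j, hj⟩)
    rw [LinearMap.comp_apply, KaehlerDifferential.kerCotangentToTensor_toCotangent, LinearMap.id_apply] at h1
    have h2 : φ i (KaehlerDifferential.D k R (x j)) = b.coord i (c j) := by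
      simp only [φ, LinearMap.comp_apply, TensorProduct.mk_apply, h1]
      rfl
    rw [h2, show c j = b j from (Module.Basis.mk_apply hcli hcspan.ge j).symm, Module.Basis.coord_apply,
      Module.Basis.repr_self, Finsupp.single_apply]
    exact if_congr eq_comm rfl rfl
  choose ψ hψ using fun i => Module.projective_lifting_property (Algebra.linearMap R (ResidueField R)) (φ i)
    residue_surjective
  let M : Matrix (Fin r) (Fin r) R := Matrix.of fun i j => ψ i (KaehlerDifferential.D k R (x j))
  have hM : IsUnit M := by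
    rw [Matrix.isUnit_iff_isUnit_det]
    refine isUnit_of_map_unit (residue R) _ ?_
    rw [RingHom.map_det, show (residue R).mapMatrix M = 1 from ?_, Matrix.det_one]
    · exact isUnit_one
    ext i j
    rw [RingHom.mapMatrix_apply, Matrix.map_apply, Matrix.one_apply, ← hφ i j, ← hψ i]
    rfl
  obtain ⟨u, hu⟩ := hM
  let Dd : Fin r → Derivation k R R := fun i =>
    (∑ t, (↑u⁻¹ : Matrix (Fin r) (Fin r) R) i t • ψ t).compDer (KaehlerDifferential.D k R)
  have hDd : ∀ i j, Dd i (x j) = if i = j then 1 else 0 := by
    intro i j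
    have h := congrFun (congrFun u.inv_mul i) j
    rw [Matrix.one_apply, hu, Matrix.mul_apply] at h
    rw [← h]
    simp [Dd, M]
  exact IsRegularLocalRing.of_spanFinrank_maximalIdeal_le R (le_ringKrullDim r x hx Dd hDd)

end Groth.Agent.Synt29.DerivDim
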