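import Groth.Agent.EGA41Lib.FieldFS
import Groth.Agent.S10902
import Groth.Agent.S2141

/-!
Separably generated residue fields and prime ideals generated by variables.
-/

universe u

open MvPolynomial

set_option linter.style.haveILetI false

namespace Groth.Agent.Synt29.SepGen

/-- Differentials spanned by as many elements as the transcendence degree: geometrically reduced. -/
theorem isGeometricallyReduced_of_span (k K : Type u) [Field k] [Field K] [Algebra k K]
    [Algebra.EssFiniteType k K] {ι : Type} [Fintype ι] (x : ι → K)
    (hcard : (Fintype.card ι : Cardinal.{u}) ≤ Algebra.trdeg k K)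
    (hx : Submodule.span K (Set.range fun i => KaehlerDifferential.D k K (x i)) = ⊤) :
    Algebra.IsGeometricallyReduced k K := by
  classical
  let F := IntermediateField.adjoin k (Set.range x)
  haveI : Algebra.EssFiniteType F K := Algebra.EssFiniteType.of_comp k F K
  haveI : Algebra.FormallyUnramified F K := by
    constructor
    refine subsingleton_of_forall_eq 0 fun ω => ?_
    obtain ⟨η, rfl⟩ := KaehlerDifferential.map_surjective k F K ω
    have : η ∈ Submodule.span K (Set.range fun i => KaehlerDifferential.D k K (x i)) := by rw [hx]; trivial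
    induction this using Submodule.span_induction with
    | mem y hy =>
      obtain ⟨i, rfl⟩ := hy
      rw [KaehlerDifferential.map_D, Algebra.algebraMap_self_apply,
        show x i = algebraMap F K ⟨x i, IntermediateField.subset_adjoin k _ ⟨i, rfl⟩⟩ from rfl,
        Derivation.map_algebraMap]
    | zero => simp
    | add y z _ _ hy hz => simp [hy, hz]
    | smul a y _ hy => simp [hy]
  haveI : Module.Finite F K := Algebra.FormallyUnramified.finite_of_free F K
  haveI : Algebra.IsAlgebraic F K := Algebra.IsAlgebraic.of_finite F K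
  haveI : Algebra.IsSeparable F K := Algebra.FormallyUnramified.isSeparable F K
  haveI : Algebra.IsAlgebraic (Algebra.adjoin k (Set.range x)) K :=
    IntermediateField.isAlgebraic_adjoin_iff_top.1 inferInstance
  obtain ⟨T, hTs, hT⟩ := exists_isTranscendenceBasis_subset (R := k) (Set.range x)
  have hTfin : T.Finite := (Set.finite_range x).subset hTs
  have hcardT : Fintype.card ι ≤ T.ncard := by
    rw [← hT.cardinalMk_eq_trdeg, ← Set.cast_ncard hTfin] at hcard
    exact_mod_cast hcard
  have hle : (Set.range x).ncard ≤ T.ncard := by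
    refine le_trans ?_ hcardT
    rw [← Set.image_univ]
    exact (Set.ncard_image_le Set.finite_univ).trans (by simp)
  have hTeq : T = Set.range x := Set.eq_of_subset_of_ncard_le hTs hle (Set.finite_range x)
  subst hTeq
  let s : Finset K := (Set.finite_range x).toFinset
  have hs : (s : Set K) = Set.range x := (Set.finite_range x).coe_toFinset
  haveI : Algebra.IsSeparable (IntermediateField.adjoin k (s : Set K)) K := by rw [hs]; infer_instance
  have hind : AlgebraicIndependent k ((↑) : s → K) :=
    hT.1.comp (fun z : s => ⟨z.1, hs ▸ z.2⟩) fun a b h => Subtype.ext (congrArg (fun y : Set.range x => (y : K)) h)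
  haveI := Groth.Agent.EGA41Lib.FieldFS.formallySmooth_of_separating s hind
  exact Groth.Agent.EGA41Lib.FieldFS.isGeometricallyReduced_of_formallySmooth k K

theorem sub_aeval_mem_span {k : Type u} [Field k] {n : ℕ} (s : Set (Fin n)) [DecidablePred (· ∈ s)]
    (f : MvPolynomial (Fin n) k) :
    f - aeval (fun i => if i ∈ s then 0 else X i) f ∈ Ideal.span (X '' s : Set (MvPolynomial (Fin n) k)) := by
  have h : (Ideal.Quotient.mkₐ k (Ideal.span (X '' s : Set (MvPolynomial (Fin n) k)))).comp
      (aeval fun i => if i ∈ s then 0 else X i) = Ideal.Quotient.mkₐ k _ := by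
    refine algHom_ext fun i => ?_
    rw [AlgHom.comp_apply, aeval_X]
    split_ifs with hi
    · rw [map_zero, eq_comm]
      exact Ideal.Quotient.eq_zero_iff_mem.2 (Ideal.subset_span ⟨i, hi, rfl⟩)
    · rfl
  exact Ideal.Quotient.eq.1 (DFunLike.congr_fun h f).symm

theorem span_X_eq_ker {k : Type u} [Field k] {n : ℕ} (s : Set (Fin n)) [DecidablePred (· ∈ s)] :
    Ideal.span (X '' s : Set (MvPolynomial (Fin n) k)) =
      RingHom.ker (aeval fun i => if i ∈ s then (0 : MvPolynomial (Fin n) k) else X i).toRingHom := by
  refine le_antisymm (Ideal.span_le.2 ?_) fun f hf => ?_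
  · rintro _ ⟨i, hi, rfl⟩
    simp [hi]
  · have := sub_aeval_mem_span s f
    rw [show aeval (fun i => if i ∈ s then (0 : MvPolynomial (Fin n) k) else X i) f = 0 from hf, sub_zero] at this
    exact this

theorem isPrime_span_X {k : Type u} [Field k] {n : ℕ} (s : Set (Fin n)) :
    (Ideal.span (X '' s : Set (MvPolynomial (Fin n) k))).IsPrime := by
  classical
  rw [span_X_eq_ker]
  exact RingHom.ker_isPrime _

theorem le_height_span_X {k : Type u} [Field k] {n : ℕ} (r : ℕ) (hr : r ≤ n) :
    (r : ℕ∞) ≤ (Ideal.span (X '' {i : Fin n | (i : ℕ) < r} : Set (MvPolynomial (Fin n) k))).height := by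
  classical
  induction r with
  | zero => simp
  | succ j ih =>
    haveI := isPrime_span_X (k := k) {i : Fin n | (i : ℕ) < j}
    haveI := isPrime_span_X (k := k) {i : Fin n | (i : ℕ) < j + 1}
    have hlt : Ideal.span (X '' {i : Fin n | (i : ℕ) < j} : Set (MvPolynomial (Fin n) k)) <
        Ideal.span (X '' {i : Fin n | (i : ℕ) < j + 1}) := by
      refine lt_of_le_of_ne (Ideal.span_mono (Set.image_mono fun i (hi : (i : ℕ) < j) => Nat.lt_succ_of_lt hi))
        fun h => ?_
      have hmem : (X ⟨j, hr⟩ : MvPolynomial (Fin n) k) ∈ Ideal.span (X '' {i : Fin n | (i : ℕ) < j + 1}) :=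
        Ideal.subset_span ⟨_, Nat.lt_succ_self j, rfl⟩
      rw [← h, span_X_eq_ker, RingHom.mem_ker] at hmem
      simp at hmem
    have := Ideal.height_strict_mono_of_isPrime hlt
    push_cast
    exact Order.add_one_le_of_lt ((ih (Nat.le_of_succ_le hr)).trans_lt this)

end Groth.Agent.Synt29.SepGen
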