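import Groth.Agent.PointBlow.Basic
import Groth.Agent.H26.FMod.HFCompletionBase
import Groth.Agent.Algz7.Canon2.Stalk
import Groth.Agent.QCoh.LocFree
import Groth.Agent.S11675
import Groth.Agent.PicU24.Cocycle
import Groth.Agent.LocalCrit.Flatness
import Groth.Agent.KFlatLib.Scheme.Pullback
import Groth.Agent.H28.PushLocFree
import Groth.Prelude.Def_LefX

/-!
# Stalks of the levels of the completion along a regular element
-/

noncomputable section

set_option autoImplicit false
set_option linter.style.haveILetI false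
set_option linter.unusedSectionVars false
set_option backward.isDefEq.respectTransparency false
set_option backward.isDefEq.respectTransparency.types false
set_option maxHeartbeats 1000000

universe u

open CategoryTheory CategoryTheory.Limits AlgebraicGeometry TopologicalSpace Opposite IsLocalRing
open Groth.Agent Groth.Agent.H23.StalkIdeal
open scoped TensorProduct

namespace Groth.Agent.Synt29.LevelStalk

/-- Solving `v = s • w` in a free module. -/
theorem exists_smul_eq {S M : Type u} [CommRing S] [AddCommGroup M] [Module S M] [Module.Free S M] (s : S) (N : ℕ)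
    (hS : ∀ a : S, s ^ N * a = 0 → ∃ c, a = s * c) (v : M) (hv : s ^ N • v = 0) : ∃ w, v = s • w := by
  classical
  let b := Module.Free.chooseBasis S M
  have hc : ∀ i, ∃ c, b.repr v i = s * c := fun i => hS _ (by
    rw [← smul_eq_mul, ← Finsupp.smul_apply, ← map_smul, hv, map_zero, Finsupp.zero_apply])
  choose c hc using hc
  refine ⟨∑ i ∈ (b.repr v).support, c i • b i, ?_⟩
  rw [Finset.smul_sum]
  conv_lhs => rw [← b.linearCombination_repr v, Finsupp.linearCombination_apply, Finsupp.sum]
  exact Finset.sum_congr rfl fun i _ => by rw [hc, mul_smul]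

theorem stalk_smulModΓ {W : Scheme.{u}} (M : W.Modules) (r : Γ(W, ⊤)) (y : W) (v : M.presheaf.stalk y) :
    Algz.stalkMapₗ (Formal.smulModΓ M r) y v = W.presheaf.germ ⊤ y trivial r • v := by
  obtain ⟨V, hV, m, rfl⟩ := M.presheaf.exists_germ_eq (x := y) v
  refine (DerSch.stalkFunctor_map_germ y (Formal.smulModΓ M r) V hV m).trans ?_
  show M.presheaf.germ V y hV ((show Γ(W, V) from Coh.resTop W (op V) r) • (show Γ(M, V) from m)) = _
  rw [QCoh.germ_smul']
  congr 1
  exact W.presheaf.germ_res_apply (homOfLE le_top) y hV r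

theorem eq_zero_of_stalk {W : Scheme.{u}} {M N : W.Modules} (φ : M ⟶ N)
    (h : ∀ y v, Algz.stalkMapₗ φ y v = 0) : φ = 0 := by
  refine Scheme.Modules.hom_ext _ _ fun V => ?_
  ext s
  refine (?_ : φ.app V s = 0).trans rfl
  refine TopCat.Presheaf.section_ext ⟨N.presheaf, N.isSheaf⟩ V _ _ fun y hy => ?_
  show N.presheaf.germ V y hy (φ.app V s) = N.presheaf.germ V y hy 0
  rw [map_zero]
  exact (DerSch.stalkFunctor_map_germ y φ V hy s).symm.trans (h y _)

variable {A : Type u} [CommRing A] [IsNoetherianRing A] (t : A) (U : (Spec (CommRingCat.of A)).Opens)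

/-- The ideal of `V(t)` in `U`. -/
abbrev kIdeal : (U : Scheme.{u}).IdealSheafData :=
  (Spec.map (CommRingCat.ofHom (Ideal.Quotient.mk (Ideal.span {t})))).ker.comap U.ι

/-- The local ring at a point. -/
def stkEquiv (x : (U : Scheme.{u})) :
    Localization.AtPrime (x.1 : PrimeSpectrum A).asIdeal ≃+* (U : Scheme.{u}).presheaf.stalk x :=
  (StructureSheaf.stalkIso A (x.1 : PrimeSpectrum A)).toRingEquiv.trans
    (asIso (U.ι.stalkMap x)).commRingCatIsoToRingEquiv

theorem stkEquiv_algebraMap (x : (U : Scheme.{u})) (a : A) :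
    stkEquiv U x (algebraMap A _ a) = Algz.toStalk A (U : Scheme.{u}) x a := by
  have h1 : StructureSheaf.stalkIso A (x.1 : PrimeSpectrum A) (algebraMap A _ a) =
      (Spec (CommRingCat.of A)).presheaf.germ ⊤ (U.ι x) trivial ((Scheme.ΓSpecIso (CommRingCat.of A)).inv a) := by
    rw [AlgEquiv.commutes]
    rfl
  show U.ι.stalkMap x (StructureSheaf.stalkIso A (x.1 : PrimeSpectrum A) (algebraMap A _ a)) = _
  rw [h1]
  exact Scheme.Hom.germ_stalkMap_apply U.ι ⊤ x trivial _

variable {t}

theorem toStalk_regular (hreg : IsSMulRegular A t) (x : (U : Scheme.{u})) :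
    ∀ z : (U : Scheme.{u}).presheaf.stalk x, Algz.toStalk A (U : Scheme.{u}) x t * z = 0 → z = 0 := by
  intro z hz
  obtain ⟨w, rfl⟩ := (stkEquiv U x).surjective z
  rw [← stkEquiv_algebraMap, ← map_mul, map_eq_zero_iff _ (stkEquiv U x).injective] at hz
  have ht : t ∈ nonZeroDivisors A :=
    by
      rw [mem_nonZeroDivisors_iff_right]
      exact fun a ha => hreg (by show t • a = t • (0 : A); rw [smul_zero, smul_eq_mul, mul_comm, ha])
  have := IsLocalization.nonZeroDivisors_le_comap (x.1 : PrimeSpectrum A).asIdeal.primeCompl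
    (Localization.AtPrime (x.1 : PrimeSpectrum A).asIdeal) ht
  rw [(mem_nonZeroDivisors_iff_left.1 this) w hz, map_zero]

variable (t)

theorem sI_kIdeal (x : (U : Scheme.{u})) :
    sI (kIdeal t U) x = Ideal.span {Algz.toStalk A (U : Scheme.{u}) x t} := by
  obtain ⟨_, ⟨V, hV, rfl⟩, hxV, -⟩ :=
    (U : Scheme.{u}).isBasis_affineOpens.exists_subset_of_mem_open (Set.mem_univ x) isOpen_univ
  rw [sI_eq _ ⟨V, hV⟩ hxV, CDivEq.stk]
  have h := H26.FMod.ideal_pow_eq_map (Ideal.span {t}) (kIdeal t U) rfl ⟨V, hV⟩ 1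
  rw [pow_one, pow_one] at h
  rw [h, Ideal.map_map, Ideal.map_span, Set.image_singleton]
  congr 2
  exact (U : Scheme.{u}).presheaf.germ_res_apply (homOfLE le_top) x hxV _

/-- The maps to `U`. -/
abbrev lv (N : ℕ) : (FSch.completionAlong (U : Scheme.{u}) (kIdeal t U)).X N ⟶ U :=
  FSch.completionToX (U : Scheme.{u}) (kIdeal t U) N

/-- The image of `t` in the functions on a level. -/
abbrev lvt (N : ℕ) : Γ((FSch.completionAlong (U : Scheme.{u}) (kIdeal t U)).X N, ⊤) :=
  (lv t U N ≫ U.ι).appTop.hom ((Scheme.ΓSpecIso (CommRingCat.of A)).inv t)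

theorem ker_level (N : ℕ) (z : ↥((FSch.completionAlong (U : Scheme.{u}) (kIdeal t U)).X N)) :
    RingHom.ker ((lv t U N).stalkMap z).hom =
      Ideal.span {Algz.toStalk A (U : Scheme.{u}) (lv t U N z) t ^ (N + 1)} := by
  refine (PointBlow.ker_stalkMap _ z).trans ?_
  rw [PointBlow.sI_pow, sI_kIdeal, Ideal.span_singleton_pow]
  rfl

theorem stalkMap_surjective (N : ℕ) (z : ↥((FSch.completionAlong (U : Scheme.{u}) (kIdeal t U)).X N)) :
    Function.Surjective ((lv t U N).stalkMap z) :=
  (lv t U N).stalkMap_surjective z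

theorem germ_lvt (N : ℕ) (z : ↥((FSch.completionAlong (U : Scheme.{u}) (kIdeal t U)).X N)) :
    ((FSch.completionAlong (U : Scheme.{u}) (kIdeal t U)).X N).presheaf.germ ⊤ z trivial (lvt t U N) =
      (lv t U N).stalkMap z (Algz.toStalk A (U : Scheme.{u}) (lv t U N z) t) := by
  refine Eq.trans ?_ (Scheme.Hom.germ_stalkMap_apply (lv t U N) ⊤ z trivial _).symm
  rfl

theorem exists_mul_of_pow_mul (hreg : IsSMulRegular A t) (N : ℕ)
    (z : ↥((FSch.completionAlong (U : Scheme.{u}) (kIdeal t U)).X N))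
    (a : ((FSch.completionAlong (U : Scheme.{u}) (kIdeal t U)).X N).presheaf.stalk z)
    (ha : (((FSch.completionAlong (U : Scheme.{u}) (kIdeal t U)).X N).presheaf.germ ⊤ z trivial (lvt t U N)) ^ N * a = 0) :
    ∃ c, a = ((FSch.completionAlong (U : Scheme.{u}) (kIdeal t U)).X N).presheaf.germ ⊤ z trivial (lvt t U N) * c := by
  obtain ⟨b, rfl⟩ := stalkMap_surjective t U N z a
  rw [germ_lvt] at ha ⊢
  let τ := Algz.toStalk A (U : Scheme.{u}) (lv t U N z) t
  have hb : τ ^ N * b ∈ RingHom.ker ((lv t U N).stalkMap z).hom := by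
    rw [RingHom.mem_ker, map_mul, map_pow]
    exact ha
  rw [ker_level, Ideal.mem_span_singleton'] at hb
  obtain ⟨c, hc⟩ := hb
  refine ⟨(lv t U N).stalkMap z c, ?_⟩
  rw [← map_mul]
  congr 1
  have hcancel : ∀ (k : ℕ) (w : (U : Scheme.{u}).presheaf.stalk (lv t U N z)), τ ^ k * w = 0 → w = 0 := fun k => by
    induction k with
    | zero => intro w hw; rwa [pow_zero, one_mul] at hw
    | succ k ih =>
      intro w hw
      exact toStalk_regular U hreg _ w (ih _ (by rw [← mul_assoc, ← pow_succ]; exact hw))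
  exact sub_eq_zero.1 (hcancel N _ (by rw [mul_sub, ← hc]; ring))

theorem germ_lvt_pow (N : ℕ) (z : ↥((FSch.completionAlong (U : Scheme.{u}) (kIdeal t U)).X N)) :
    (((FSch.completionAlong (U : Scheme.{u}) (kIdeal t U)).X N).presheaf.germ ⊤ z trivial (lvt t U N)) ^ (N + 1) = 0 := by
  rw [germ_lvt, ← map_pow]
  have h := ker_level t U N z
  exact RingHom.mem_ker.1 (h ▸ Ideal.mem_span_singleton_self _)

/-- On a level, a finite locally free module has no torsion beyond the expected one. -/
theorem kernel_eq_image (hreg : IsSMulRegular A t) (N : ℕ)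
    {M : ((FSch.completionAlong (U : Scheme.{u}) (kIdeal t U)).X N).Modules} (hM : FlatMod.IsFinLocFree M) :
    kernelSubobject (Formal.smulModΓ M (lvt t U N ^ N)) = imageSubobject (Formal.smulModΓ M (lvt t U N)) := by
  have hz : Formal.smulModΓ M (lvt t U N) ≫ Formal.smulModΓ M (lvt t U N ^ N) = 0 := eq_zero_of_stalk _ fun y v => by
    rw [Algz7.Canon2.stalk_comp, stalk_smulModΓ, stalk_smulModΓ, map_pow, ← mul_smul, ← pow_succ,
      germ_lvt_pow, zero_smul]
  refine ((ShortComplex.exact_iff_image_eq_kernel (ShortComplex.mk _ _ hz)).1 ?_).symm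
  refine (KFlatLib.exact_iff_stalk _).2 fun y => ?_
  rw [ShortComplex.moduleCat_exact_iff]
  intro v hv
  haveI := QCoh.free_stalk_of_isFinLocFree hM y
  have hv' : ((((FSch.completionAlong (U : Scheme.{u}) (kIdeal t U)).X N).presheaf.germ ⊤ y trivial (lvt t U N)) ^ N) •
      (show M.presheaf.stalk y from v) = 0 := by
    rw [← map_pow, ← stalk_smulModΓ]
    exact hv
  obtain ⟨w, hw⟩ := exists_smul_eq _ N (fun a ha => exists_mul_of_pow_mul t U hreg N y a ha) _ hv'
  exact ⟨w, (stalk_smulModΓ M _ y w).trans hw.symm⟩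

/-- Depth of a finite locally free module on the first level. -/
theorem two_le_depth_level (hreg : IsSMulRegular A t)
    {M : ((FSch.completionAlong (U : Scheme.{u}) (kIdeal t U)).X 0).Modules} (hM : FlatMod.IsFinLocFree M)
    (z : ↥((FSch.completionAlong (U : Scheme.{u}) (kIdeal t U)).X 0))
    (h3 : (3 : ℕ∞) ≤ LocCoh.depth (Localization.AtPrime ((lv t U 0 z).1 : PrimeSpectrum A).asIdeal)
      (Localization.AtPrime ((lv t U 0 z).1 : PrimeSpectrum A).asIdeal)) :
    (2 : ℕ∞) ≤ LocCoh.depth (((FSch.completionAlong (U : Scheme.{u}) (kIdeal t U)).X 0).presheaf.stalk z)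
      (M.presheaf.stalk z) := by
  let X₀ := (FSch.completionAlong (U : Scheme.{u}) (kIdeal t U)).X 0
  haveI : IsLocallyNoetherian (U : Scheme.{u}) := by
    haveI : IsNoetherianRing (CommRingCat.of A) := inferInstanceAs (IsNoetherianRing A)
    exact LocallyOfFiniteType.isLocallyNoetherian U.ι
  haveI : IsLocallyNoetherian X₀ := LocallyOfFiniteType.isLocallyNoetherian (lv t U 0)
  let R := (U : Scheme.{u}).presheaf.stalk (lv t U 0 z)
  let τ : R := Algz.toStalk A (U : Scheme.{u}) (lv t U 0 z) t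
  have hR : (3 : ℕ∞) ≤ LocCoh.depth R R :=
    h3.trans (Alg6.depth_eq_of_semilinear (stkEquiv U _).toRingHom (stkEquiv U _).surjective (stkEquiv U _).toAddEquiv
      (fun r w => map_mul (stkEquiv U _) r w)).le
  have hker : RingHom.ker ((lv t U 0).stalkMap z).hom = Ideal.span {τ} := by
    rw [ker_level, zero_add, pow_one]
  have hτ : τ ∈ maximalIdeal R := by
    have h := RingHom.ker_ne_top ((lv t U 0).stalkMap z).hom
    rw [hker] at h
    exact IsLocalRing.le_maximalIdeal h (Ideal.mem_span_singleton_self τ)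
  haveI : Nontrivial (R ⧸ Ideal.span {τ}) := Ideal.Quotient.nontrivial_iff.2 fun h =>
    (maximalIdeal.isMaximal R).ne_top (top_unique (h.ge.trans ((Ideal.span_singleton_le_iff_mem _).2 hτ)))
  haveI : IsLocalRing (R ⧸ Ideal.span {τ}) := .of_surjective' (Ideal.Quotient.mk _) Ideal.Quotient.mk_surjective
  have h2 := (PicU24.depth_quotient_succ hτ
    (show IsSMulRegular R τ from fun a b hab => sub_eq_zero.1 (toStalk_regular U hreg _ (a - b)
      (by rw [mul_sub]; exact sub_eq_zero.2 hab))) 2).2 hR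
  let ε : R ⧸ Ideal.span {τ} ≃+* X₀.presheaf.stalk z :=
    (Ideal.quotEquivOfEq hker.symm).trans (RingHom.quotientKerEquivOfSurjective (stalkMap_surjective t U 0 z))
  haveI := QCoh.free_stalk_of_isFinLocFree hM z
  haveI := QCoh.finite_stalk_of_isFT (QCoh.isQCoh_of_isFinLocFree hM) (H28.PushLocFree.isCoh_of_isFinLocFree hM).2 z
  refine le_trans ?_ (S11675.le_depth_free (M.presheaf.stalk z))
  exact h2.trans (Alg6.depth_eq_of_semilinear ε.toRingHom ε.surjective ε.toAddEquiv (fun r w => map_mul ε r w)).le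

/-- A coherent module with finite locally free restrictions to all levels is flat along `V(t)`. -/
theorem isFlatAt_of_levels (F : (U : Scheme.{u}).Modules) (hF : Coh.IsCoh F)
    (hlv : ∀ N, FlatMod.IsFinLocFree ((Scheme.Modules.pullback (lv t U N)).obj F))
    (x : (U : Scheme.{u})) (hx : x ∈ ((kIdeal t U).support : Set (U : Scheme.{u}))) :
    FlatMod.IsFlatAt F x := by
  haveI : IsLocallyNoetherian (U : Scheme.{u}) := by
    haveI : IsNoetherianRing (CommRingCat.of A) := inferInstanceAs (IsNoetherianRing A)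
    exact LocallyOfFiniteType.isLocallyNoetherian U.ι
  have hrange : ∀ N, ∃ z, lv t U N z = x := fun N => by
    show x ∈ Set.range (kIdeal t U ^ (N + 1)).subschemeι
    rw [Scheme.IdealSheafData.range_subschemeι, Scheme.IdealSheafData.support_pow_succ]
    exact hx
  let R := (U : Scheme.{u}).presheaf.stalk x
  let τ : R := Algz.toStalk A (U : Scheme.{u}) x t
  have hτ : τ ∈ maximalIdeal R := by
    have h := (PointBlow.mem_support_iff (kIdeal t U) x).1 hx
    rw [sI_kIdeal] at h
    exact IsLocalRing.le_maximalIdeal h (Ideal.mem_span_singleton_self τ)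
  haveI : Module.Finite R (F.presheaf.stalk x) := QCoh.finite_stalk_of_isFT hF.1 hF.2 x
  refine LocalCrit.flat_of_forall_quotient_pow (B := R) (Ideal.span {τ}) ?_ fun n => ?_
  · rw [Algebra.algebraMap_self, Ideal.map_id, Ideal.span_singleton_le_iff_mem, IsLocalRing.jacobson_eq_maximalIdeal ⊥ bot_ne_top]
    exact hτ
  rcases n with _ | n
  · haveI : Subsingleton (R ⧸ Ideal.span {τ} ^ 0) := Ideal.Quotient.subsingleton_iff.2 (by rw [pow_zero, Ideal.one_eq_top])
    exact LocalCrit.keepsInjective_of_flat _ _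
  obtain ⟨z, rfl⟩ := hrange n
  let S := ((FSch.completionAlong (U : Scheme.{u}) (kIdeal t U)).X n).presheaf.stalk z
  letI : Algebra R S := ((lv t U n).stalkMap z).hom.toAlgebra
  haveI := QCoh.free_stalk_of_isFinLocFree (hlv n) z
  have hfl : Module.Flat S (((Scheme.Modules.pullback (lv t U n)).obj F).presheaf.stalk z) := inferInstance
  let e : ((Scheme.Modules.pullback (lv t U n)).obj F).presheaf.stalk z ≃ₗ[S] S ⊗[R] F.presheaf.stalk (lv t U n z) :=
    ((KFlatLib.stalkPullbackIso (lv t U n) z).app F).toLinearEquiv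
  haveI : Module.Flat S (S ⊗[R] F.presheaf.stalk (lv t U n z)) :=
    @Module.Flat.of_linearEquiv _ _ _ _ _ _ _ _ hfl e.symm
  let ε : S ≃ₐ[R] R ⧸ Ideal.span {τ} ^ (n + 1) :=
    ((Ideal.quotientEquivAlgOfEq R (show Ideal.span {τ} ^ (n + 1) = RingHom.ker (Algebra.ofId R S) by
      rw [Ideal.span_singleton_pow]
      exact (ker_level t U n z).symm)).trans
      (Ideal.quotientKerAlgEquivOfSurjective (f := Algebra.ofId R S) (stalkMap_surjective t U n z))).symm
  letI : Algebra S (R ⧸ Ideal.span {τ} ^ (n + 1)) := ε.toRingHom.toAlgebra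
  haveI : IsScalarTower R S (R ⧸ Ideal.span {τ} ^ (n + 1)) := IsScalarTower.of_algebraMap_eq fun r => (ε.commutes r).symm
  haveI : Module.Flat (R ⧸ Ideal.span {τ} ^ (n + 1))
      ((R ⧸ Ideal.span {τ} ^ (n + 1)) ⊗[R] F.presheaf.stalk (lv t U n z)) :=
    Module.Flat.of_linearEquiv
      (TensorProduct.AlgebraTensorModule.cancelBaseChange R S (R ⧸ Ideal.span {τ} ^ (n + 1))
        (R ⧸ Ideal.span {τ} ^ (n + 1)) (F.presheaf.stalk (lv t U n z))).symm
  exact LocalCrit.keepsInjective_of_flat _ _

end Groth.Agent.Synt29.LevelStalk
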