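import Mathlib
import Groth.Agent.Synt29.SectionSmooth
import Groth.Agent.MorLib.BaseChangeLim
import Groth.Agent.S5943

/-! Differential smoothness along limits. -/

set_option autoImplicit false
set_option linter.style.haveILetI false

universe u

open AlgebraicGeometry CategoryTheory Limits
open Groth.Agent.MorLib

namespace Groth.Agent.Synt29.DiagLim

section BC

variable {X S X' S' : Scheme.{u}} {f : X ⟶ S} {f' : X' ⟶ S'} {g : S' ⟶ S} {g' : X' ⟶ X}

/-- The map of self products along a square. -/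
noncomputable abbrev prodMap (hw : g' ≫ f = f' ≫ g) : pullback f' f' ⟶ pullback f f :=
  pullback.map f' f' f f g' g' g hw.symm hw.symm

theorem isPullback_prodMap (hc : IsPullback g' f' f g) :
    IsPullback (prodMap hc.w) (pullback.snd f' f') (pullback.snd f f) g' := by
  refine IsPullback.of_right ?_ (pullback.lift_snd _ _ _) (IsPullback.of_hasPullback f f)
  rw [pullback.lift_fst, hc.w]
  exact (IsPullback.of_hasPullback f' f').paste_horiz hc

theorem diagonal_prodMap (hw : g' ≫ f = f' ≫ g) :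
    pullback.diagonal f' ≫ prodMap hw = g' ≫ pullback.diagonal f := by
  apply pullback.hom_ext <;> simp only [Category.assoc, prodMap, pullback.map] <;>
    first
      | (erw [pullback.lift_fst, pullback.diagonal_fst_assoc, pullback.diagonal_fst, Category.comp_id])
      | (erw [pullback.lift_snd, pullback.diagonal_snd_assoc, pullback.diagonal_snd, Category.comp_id])

/-- The open where the second projection is smooth along the diagonal. -/
noncomputable def diagSmooth {X S : Scheme.{u}} (f : X ⟶ S) [LocallyOfFinitePresentation f] : X.Opens :=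
  pullback.diagonal f ⁻¹ᵁ (pullback.snd f f).smoothLocus

theorem diagSmooth_le (hc : IsPullback g' f' f g) [LocallyOfFinitePresentation f] [LocallyOfFinitePresentation f'] :
    g' ⁻¹ᵁ diagSmooth f ≤ diagSmooth f' := by
  intro x hx
  refine SmoothLoc.preimage_le (pullback.snd f f) g' (pullback.snd f' f') (prodMap hc.w)
    (isPullback_prodMap hc) ?_
  show (pullback.diagonal f' ≫ prodMap hc.w) x ∈ (pullback.snd f f).smoothLocus
  rw [diagonal_prodMap]
  exact hx

theorem diagSmooth_eq_top_iff {X S : Scheme.{u}} (f : X ⟶ S) [LocallyOfFinitePresentation f] :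
    diagSmooth f = ⊤ ↔ RegImm.IsRegularImmersion RegImm.Kind.quasi (pullback.diagonal f) :=
  ⟨fun h => (SectionSmooth.diagonal_iff f).2 fun x => h.ge (TopologicalSpace.Opens.mem_top x),
    fun h => top_le_iff.1 fun x _ => (SectionSmooth.diagonal_iff f).1 h x⟩

end BC

variable {I : Type u} [SmallCategory I] [IsCofiltered I]
    (D : I ⥤ Scheme.{u}) (c : Cone D) (hc : IsLimit c)
    [∀ (i j : I) (f : i ⟶ j), IsAffineHom (D.map f)] {i₀ : I}
    {X₀ : Scheme.{u}} (f₀ : X₀ ⟶ D.obj i₀) [LocallyOfFinitePresentation f₀]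
    {X : Scheme.{u}} {f : X ⟶ c.pt} {qX : X ⟶ X₀} (hX : IsPullback qX f f₀ (c.π.app i₀))

instance lfp_snd (k : Over i₀) : LocallyOfFinitePresentation (pullback.snd f₀ (D.map k.hom)) :=
  MorphismProperty.pullback_snd _ _ inferInstance

include hc in
theorem exists_stage (x : X) [LocallyOfFinitePresentation f] (hx : x ∈ diagSmooth f) :
    ∃ k : Over i₀, BC.proj D f₀ hX k x ∈ diagSmooth (pullback.snd f₀ (D.map k.hom)) := by
  let Δ := pullback.diagonal f
  let Wl := (pullback.snd f f).smoothLocus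
  haveI : Smooth (Wl.ι ≫ pullback.snd f f) := by
    rw [← Scheme.Hom.smoothLocus_eq_top_iff, ← Scheme.Hom.preimage_smoothLocus_eq]
    exact Scheme.Opens.ι_preimage_self Wl
  haveI : LocallyOfFinitePresentation (pullback.snd f₀ f₀ ≫ f₀) :=
    MorphismProperty.comp_mem _ _ _ (MorphismProperty.pullback_snd _ _ inferInstance) inferInstance
  obtain ⟨j, φ, Pj, Yj, sj, gj, pY, pP, rP, hYj, hPj, hrP, hr, V, hV, hsm⟩ :=
    (Groth.Agent.S5943.result D c hc i₀ (pullback.snd f₀ f₀) f₀ (pullback.snd f f) f qX (prodMap hX.w)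
      hX (isPullback_prodMap hX) (Δ x)).1 ⟨Wl, hx, inferInstance⟩
  refine ⟨Over.mk φ, ?_⟩
  let k : Over i₀ := Over.mk φ
  let fk := pullback.snd f₀ (D.map k.hom)
  let wk : pullback.fst f₀ (D.map k.hom) ≫ f₀ = fk ≫ D.map k.hom := pullback.condition
  let d : pullback f₀ (D.map k.hom) ⟶ Yj := hYj.lift (pullback.fst _ _) fk pullback.condition
  have hk := IsPullback.of_hasPullback f₀ (D.map k.hom)
  let M : pullback fk fk ⟶ Pj := hPj.lift (prodMap wk) (pullback.snd fk fk ≫ d) (by
    rw [Category.assoc, hYj.lift_fst]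
    exact (isPullback_prodMap hk).w)
  have hM : IsPullback M (pullback.snd fk fk) sj d := by
    refine IsPullback.of_right ?_ (hPj.lift_snd _ _ _) hPj
    rw [hPj.lift_fst, hYj.lift_fst]
    exact isPullback_prodMap hk
  haveI : LocallyOfFinitePresentation sj :=
    MorphismProperty.of_isPullback hPj (MorphismProperty.pullback_snd _ _ inferInstance)
  show pullback.diagonal fk (BC.proj D f₀ hX k x) ∈ (pullback.snd fk fk).smoothLocus
  refine SmoothLoc.preimage_le sj d (pullback.snd fk fk) M hM ?_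
  have h1 : BC.proj D f₀ hX k ≫ pullback.diagonal fk ≫ M = Δ ≫ rP := by
    apply hPj.hom_ext
    · simp only [Category.assoc, M, hPj.lift_fst, hrP]
      rw [diagonal_prodMap, ← Category.assoc, BC.proj_fst]
      exact (diagonal_prodMap hX.w).symm
    · apply hYj.hom_ext
      · simp only [Category.assoc, M, hPj.lift_snd, d, hYj.lift_fst]
        rw [pullback.diagonal_snd_assoc, BC.proj_fst, ← hPj.w, reassoc_of% hrP]
        rw [pullback.lift_snd, pullback.diagonal_snd_assoc]
      · simp only [Category.assoc, M, hPj.lift_snd_assoc, d, hYj.lift_snd, hr]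
        rw [pullback.diagonal_snd_assoc, BC.proj_snd, pullback.diagonal_snd_assoc]
        rfl
  show (BC.proj D f₀ hX k ≫ pullback.diagonal fk ≫ M) x ∈ sj.smoothLocus
  rw [h1]
  have h2 : (⟨rP (Δ x), hV⟩ : (V : Scheme.{u})) ∈ (V.ι ≫ sj).smoothLocus := by
    rw [Scheme.Hom.smoothLocus_eq_top]; trivial
  rw [← Scheme.Hom.preimage_smoothLocus_eq] at h2
  exact h2

include hc hX in
theorem eventually_iff [CompactSpace X₀] :
    RegImm.IsRegularImmersion RegImm.Kind.quasi (pullback.diagonal f) ↔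
      ∃ (j : I) (φ : j ⟶ i₀) (Xj : Scheme.{u}) (fj : Xj ⟶ D.obj j) (pX : Xj ⟶ X₀),
        IsPullback pX fj f₀ (D.map φ) ∧ RegImm.IsRegularImmersion RegImm.Kind.quasi (pullback.diagonal fj) := by
  haveI : LocallyOfFinitePresentation f := MorphismProperty.of_isPullback hX inferInstance
  haveI : ∀ {i j : I} (g : i ⟶ j), IsAffineHom (D.map g) := fun {i j} g => inferInstance
  constructor
  · intro h
    have hlim := BC.isLimitCone D f₀ hX hc
    haveI : ∀ {j k : Over i₀} (m : j ⟶ k), IsAffineHom ((BC.diag D f₀).map m) := fun m =>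
      BC.isAffineHom_map D f₀ m
    haveI : ∀ k, CompactSpace ((BC.diag D f₀).obj k) := fun k => BC.compactSpace_obj D f₀ k
    haveI : CompactSpace X := Scheme.compactSpace_of_isLimit (BC.diag D f₀) (BC.cone D f₀ hX) hlim
    choose k hk using fun x => exists_stage D c hc f₀ hX x ((diagSmooth_eq_top_iff f).2 h ▸ trivial)
    obtain ⟨F, hF⟩ := isCompact_univ.elim_finite_subcover
      (fun x : X => ((BC.proj D f₀ hX (k x) ⁻¹ᵁ diagSmooth (pullback.snd f₀ (D.map (k x).hom)) : X.Opens) : Set X))
      (fun x => (BC.proj D f₀ hX (k x) ⁻¹ᵁ diagSmooth _).2) fun x _ => Set.mem_iUnion.2 ⟨x, hk x⟩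
    classical
    obtain ⟨l, hl⟩ := IsCofiltered.inf_objs_exists (insert (Over.mk (𝟙 i₀)) (F.image k))
    haveI hlfp : ∀ k : Over i₀, LocallyOfFinitePresentation (pullback.snd f₀ (D.map k.hom)) := lfp_snd D f₀
    let T : ∀ k : Over i₀, ((BC.diag D f₀).obj k).Opens := fun k => @diagSmooth (pullback f₀ (D.map k.hom)) _ (pullback.snd f₀ (D.map k.hom)) (hlfp k)
    have mono : ∀ {a b : Over i₀} (m : a ⟶ b), (BC.diag D f₀).map m ⁻¹ᵁ T b ≤ T a := fun {a b} m =>
      @diagSmooth_le _ _ _ _ _ _ _ _ (BC.isPullback_map D f₀ m) (hlfp b) (hlfp a)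
    have htop : (BC.cone D f₀ hX).π.app l ⁻¹ᵁ T l = ⊤ := by
      refine top_le_iff.1 fun x _ => ?_
      obtain ⟨y, hy, hx⟩ := Set.mem_iUnion₂.1 (hF (Set.mem_univ x))
      obtain ⟨m⟩ := hl (Finset.mem_insert_of_mem (Finset.mem_image_of_mem k hy))
      have hw := (BC.cone D f₀ hX).w m
      refine mono m ?_
      show ((BC.cone D f₀ hX).π.app l ≫ (BC.diag D f₀).map m) x ∈ T (k y)
      rw [hw]
      exact hx
    obtain ⟨j, m, hm⟩ := exists_map_eq_top (BC.diag D f₀) (BC.cone D f₀ hX) hlim (T l) htop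
    refine ⟨j.left, j.hom, _, pullback.snd f₀ (D.map j.hom), pullback.fst f₀ (D.map j.hom),
      IsPullback.of_hasPullback _ _, (diagSmooth_eq_top_iff _).1 (top_le_iff.1 (hm.ge.trans (mono m)))⟩
  · rintro ⟨j, φ, Xj, fj, pX, hXj, h⟩
    haveI : LocallyOfFinitePresentation fj := MorphismProperty.of_isPullback hXj inferInstance
    let rX : X ⟶ Xj := hXj.lift qX (f ≫ c.π.app j) (by rw [Category.assoc, c.w]; exact hX.w)
    have hr : IsPullback rX f fj (c.π.app j) := by
      refine IsPullback.of_right ?_ (hXj.lift_snd _ _ _) hXj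
      rw [hXj.lift_fst, c.w]
      exact hX
    refine (diagSmooth_eq_top_iff f).1 (top_le_iff.1 ?_)
    refine le_trans ?_ (diagSmooth_le hr)
    rw [(diagSmooth_eq_top_iff fj).2 h]
    rfl

end Groth.Agent.Synt29.DiagLim
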