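import Groth.Agent.Synt29.VirtClass
import Groth.Agent.S8652
import Groth.Agent.S8679
import Groth.Agent.S9372

/-! The virtual relative dimension of a composite, in terms of ranks of stalks. -/

set_option autoImplicit false

universe u

open CategoryTheory CategoryTheory.Limits AlgebraicGeometry TopologicalSpace Opposite

namespace Groth.Agent.Synt29.VirtComp

open CommonFact VirtClass

/-- the rank of the stalk -/
noncomputable abbrev rk {X : Scheme.{u}} (M : X.Modules) (x : X) : ℕ :=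
  Module.finrank (X.presheaf.stalk x) (M.presheaf.stalk x)

theorem rk_iso {X : Scheme.{u}} {M N : X.Modules} (e : M ≅ N) (x : X) : rk M x = rk N x :=
  LinearEquiv.finrank_eq ((DerSch.stalkFunctor X x).mapIso e).toLinearEquiv

theorem rk_pullback {X Y : Scheme.{u}} (f : X ⟶ Y) {M : Y.Modules} (hM : FlatMod.IsFinLocFree M) (x : X) :
    rk ((Scheme.Modules.pullback f).obj M) x = rk M (f x) := by
  letI := (f.stalkMap x).hom.toAlgebra
  haveI : Module.Free (Y.presheaf.stalk (f x)) (((DerSch.stalkFunctor Y (f x)).obj M) : Type u) :=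
    QCoh.free_stalk_of_isFinLocFree hM (f x)
  exact (LinearEquiv.finrank_eq ((KFlatLib.stalkPullbackIso f x).app M).toLinearEquiv).trans
    (Module.finrank_baseChange (R := X.presheaf.stalk x) (S := Y.presheaf.stalk (f x))
      (M' := ((DerSch.stalkFunctor Y (f x)).obj M : Type u)))

/-- two factorisations have the same virtual relative dimension -/
theorem rk_eq {X Y V V' : Scheme.{u}} (f : X ⟶ Y) (hf : ∀ x : X, Synt.IsKoszulAt f x)
    (g : V ⟶ Y) [Smooth g] (i : X ⟶ V) [IsClosedImmersion i] (hi : i ≫ g = f)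
    (g' : V' ⟶ Y) [Smooth g'] (i' : X ⟶ V') [IsClosedImmersion i'] (hi' : i' ≫ g' = f)
    (Ω : V.Modules) (d : OmegaSh.Der g Ω) (hd : OmegaSh.IsUniversal d)
    (Ω' : V'.Modules) (d' : OmegaSh.Der g' Ω') (hd' : OmegaSh.IsUniversal d') (x : X) :
    rk (Omega.conormal i) x + rk ((Scheme.Modules.pullback i').obj Ω') x =
      rk (Omega.conormal i') x + rk ((Scheme.Modules.pullback i).obj Ω) x := by
  obtain ⟨W, p, p', j, _, _, _, hj, hj', hpq, hiso, hiso'⟩ := exists_common g g' i i' (hi.trans hi'.symm)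
  obtain ⟨Ωp, dp, hdp, a₁, b₁, w₁, hS₁⟩ := exists_ses p j i hj
  obtain ⟨Ωq, dq, hdq, a₂, b₂, w₂, hS₂⟩ := exists_ses p' j i' hj'
  obtain ⟨e₁⟩ := hiso Ω' d' hd' Ωp dp hdp
  obtain ⟨e₂⟩ := hiso' Ω d hd Ωq dq hdq
  have h1 : rk (Omega.conormal j) x = rk (Omega.conormal i) x + rk ((Scheme.Modules.pullback j).obj Ωp) x :=
    finrank_stalk_ses a₁ b₁ w₁ hS₁ (isFinLocFree_conormal f hf g i hi) (isFinLocFree_pullback_omega p j Ωp dp hdp) x
  have h2 : rk (Omega.conormal j) x = rk (Omega.conormal i') x + rk ((Scheme.Modules.pullback j).obj Ωq) x :=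
    finrank_stalk_ses a₂ b₂ w₂ hS₂ (isFinLocFree_conormal f hf g' i' hi') (isFinLocFree_pullback_omega p' j Ωq dq hdq) x
  rw [rk_iso e₁ x] at h1
  rw [rk_iso e₂ x] at h2
  omega

theorem rk_comp {X Y Z V W T : Scheme.{u}} (f : X ⟶ Y) (g : Y ⟶ Z)
    (hf : ∀ x : X, Synt.IsKoszulAt f x) (hg : ∀ y : Y, Synt.IsKoszulAt g y)
    (gf : V ⟶ Y) [Smooth gf] (jf : X ⟶ V) [IsClosedImmersion jf] (hjf : jf ≫ gf = f)
    (gg : W ⟶ Z) [Smooth gg] (jg : Y ⟶ W) [IsClosedImmersion jg] (hjg : jg ≫ gg = g)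
    (gh : T ⟶ Z) [Smooth gh] (jh : X ⟶ T) [IsClosedImmersion jh] (hjh : jh ≫ gh = f ≫ g)
    (hfg : ∀ x : X, Synt.IsKoszulAt (f ≫ g) x)
    (Ωf : V.Modules) (df : OmegaSh.Der gf Ωf) (hdf : OmegaSh.IsUniversal df)
    (Ωg : W.Modules) (dg : OmegaSh.Der gg Ωg) (hdg : OmegaSh.IsUniversal dg)
    (Ωh : T.Modules) (dh : OmegaSh.Der gh Ωh) (hdh : OmegaSh.IsUniversal dh) (x : X) :
    rk ((Scheme.Modules.pullback jh).obj Ωh) x + rk (Omega.conormal jf) x + rk (Omega.conormal jg) (f x) =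
      rk (Omega.conormal jh) x + rk ((Scheme.Modules.pullback jf).obj Ωf) x +
        rk ((Scheme.Modules.pullback jg).obj Ωg) (f x) := by
  have hw : jh ≫ gh = (f ≫ jg) ≫ gg := by rw [hjh, Category.assoc, hjg]
  let l := pullback.lift jh (f ≫ jg) hw
  haveI : IsImmersion (l ≫ pullback.fst gh gg) := by rw [pullback.lift_fst]; infer_instance
  haveI : IsImmersion l := IsImmersion.of_comp l (pullback.fst gh gg)
  let q := l.coborderRange.ι ≫ pullback.fst gh gg
  let r := l.coborderRange.ι ≫ pullback.snd gh gg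
  let k := l.liftCoborder
  have hkq : k ≫ q = jh := by
    show l.liftCoborder ≫ l.coborderRange.ι ≫ pullback.fst gh gg = jh
    rw [Scheme.Hom.liftCoborder_ι_assoc]
    exact pullback.lift_fst _ _ _
  have hkr : k ≫ r = f ≫ jg := by
    show l.liftCoborder ≫ l.coborderRange.ι ≫ pullback.snd gh gg = f ≫ jg
    rw [Scheme.Hom.liftCoborder_ι_assoc]
    exact pullback.lift_snd _ _ _
  let a := pullback.fst r jg
  let pr := pullback.snd r jg
  let m : X ⟶ pullback r jg := pullback.lift k f hkr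
  have hma : m ≫ a = k := pullback.lift_fst _ _ _
  have hmpr : m ≫ pr = f := pullback.lift_snd _ _ _
  haveI : IsClosedImmersion (m ≫ a) := by rw [hma]; infer_instance
  haveI : IsClosedImmersion m := IsClosedImmersion.of_comp m a
  -- regularity
  have hkgh : (m ≫ a) ≫ q ≫ gh = f ≫ g := by rw [hma, ← Category.assoc, hkq, hjh]
  have hNk := isFinLocFree_conormal (f ≫ g) hfg (q ≫ gh) (m ≫ a) hkgh
  have hNjg := isFinLocFree_conormal g hg gg jg hjg
  have hag := S8652.result jg r a pr (IsPullback.of_hasPullback r jg).flip (S8656.result g hg gg jg hjg)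
  have hm := S8656.result f hf pr m hmpr
  -- the sequence of the regular immersions
  obtain ⟨φ₁, hφ₁, -⟩ := S9371.result (m ≫ a) a (𝟙 _) m (Category.comp_id _).symm
  obtain ⟨φ₂, hφ₂, -⟩ := S9371.result m (m ≫ a) a (𝟙 X) (Category.id_comp _)
  obtain ⟨w, hS⟩ := S8679.result a m hag hm φ₁ hφ₁ φ₂ hφ₂
  have hNa := RegConormal.isFinLocFree_conormal_h1 a (UnivThick.isRegularImmersion_h1_of_koszul hag)
  have hNm := isFinLocFree_conormal f hf pr m hmpr
  have h3 : rk (Omega.conormal (m ≫ a)) x = rk ((Scheme.Modules.pullback m).obj (Omega.conormal a)) x +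
      rk (Omega.conormal m) x :=
    finrank_stalk_ses _ _ w hS (KFlatLib.isFinLocFree_pullback m hNa) hNm x
  obtain ⟨ν, hν, -⟩ := S9371.result a jg r pr pullback.condition.symm
  haveI : IsIso ν := (S9372.result a jg r pr (IsPullback.of_hasPullback r jg) ν hν).2 inferInstance
  have h3' : rk ((Scheme.Modules.pullback m).obj (Omega.conormal a)) x = rk (Omega.conormal jg) (f x) := by
    rw [rk_pullback m hNa x, ← rk_iso (asIso ν) (m x), rk_pullback pr hNjg (m x)]
    exact congrArg (rk (Omega.conormal jg)) congr($hmpr x)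
  -- the factorisation of the composite
  obtain ⟨Ωq, dq, hdq, a₁, b₁, w₁, hS₁⟩ := exists_ses q (m ≫ a) jh (by rw [hma, hkq])
  obtain ⟨e₁⟩ := nonempty_pullback_iso gh gg _ _ (IsPullback.of_hasPullback gh gg).flip l.coborderRange.ι (m ≫ a)
    (f ≫ jg) (by rw [hma]; exact hkr) Ωg dg hdg Ωq dq hdq
  have h4 : rk (Omega.conormal (m ≫ a)) x = rk (Omega.conormal jh) x + rk ((Scheme.Modules.pullback (m ≫ a)).obj Ωq) x :=
    finrank_stalk_ses a₁ b₁ w₁ hS₁ (isFinLocFree_conormal (f ≫ g) hfg gh jh hjh)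
      (isFinLocFree_pullback_omega q (m ≫ a) Ωq dq hdq) x
  have hΩg := S5018.result gg ((S1488.result gg).1 inferInstance).2 Ωg dg hdg
  rw [rk_iso e₁ x, rk_pullback (f ≫ jg) hΩg x] at h4
  have h5 : rk ((Scheme.Modules.pullback jg).obj Ωg) (f x) = rk Ωg ((f ≫ jg) x) := rk_pullback jg hΩg (f x)
  -- the factorisation of the first morphism
  obtain ⟨Ωr, dr, hdr⟩ := OmegaExists.exists_isUniversal r
  obtain ⟨Ωpr, dpr, hdpr⟩ := OmegaExists.exists_isUniversal pr
  obtain ⟨cr, hcr, -⟩ := S9370.result r pr a jg pullback.condition.symm Ωr dr hdr Ωpr dpr hdpr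
  haveI := S9386.result r jg a pr (IsPullback.of_hasPullback r jg) Ωr dr hdr Ωpr dpr hdpr cr hcr
  obtain ⟨e₂⟩ := nonempty_pullback_iso gg gh _ _ (IsPullback.of_hasPullback gh gg) l.coborderRange.ι (m ≫ a) jh
    (by rw [hma]; exact hkq) Ωh dh hdh Ωr dr hdr
  have h6 : rk ((Scheme.Modules.pullback m).obj Ωpr) x = rk ((Scheme.Modules.pullback jh).obj Ωh) x :=
    rk_iso ((Scheme.Modules.pullback m).mapIso (asIso cr).symm ≪≫ (Scheme.Modules.pullbackComp m a).app Ωr ≪≫ e₂) x
  have h7 := rk_eq f hf gf jf hjf pr m hmpr Ωf df hdf Ωpr dpr hdpr x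
  omega

end Groth.Agent.Synt29.VirtComp
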