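import Groth.Prelude.Def_Formal
import Groth.Agent.FFun.Basic
import Groth.Agent.AModX.Res
import Groth.Agent.QCoh.Support

/-!
# The module of a system of successive extensions by multiplication
-/

set_option autoImplicit false
set_option linter.style.haveILetI false
set_option backward.isDefEq.respectTransparency false
set_option backward.isDefEq.respectTransparency.types false
set_option maxHeartbeats 800000

universe u

open CategoryTheory CategoryTheory.Limits AlgebraicGeometry TopologicalSpace Opposite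
open Groth.Agent

noncomputable section

namespace Groth.Agent.Synt29.SysLimit

variable {A : Type u} [CommRing A] {X : Scheme.{u}} [X.Over (Spec (CommRingCat.of A))] {f : A}
  {G : ℕᵒᵖ ⥤ X.Modules}

/-- The hypotheses, with the injections chosen. -/
structure Sys (f : A) (G : ℕᵒᵖ ⥤ X.Modules) where
  i : ∀ n : ℕ, G.obj (op n) ⟶ G.obj (op (n + 1))
  mono : ∀ n, Mono (i n)
  fac : ∀ n, G.map (homOfLE (Nat.le_succ n)).op ≫ i n = Formal.smulMod A (G.obj (op (n + 1))) f
  w : ∀ n, i n ≫ G.map (homOfLE (Nat.zero_le (n + 1))).op = 0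
  se : ∀ n, (ShortComplex.mk (i n) (G.map (homOfLE (Nat.zero_le (n + 1))).op) (w n)).ShortExact

variable (S : Sys f G)

/-- The transition maps. -/
abbrev T {a b : ℕ} (h : a ≤ b) : G.obj (op b) ⟶ G.obj (op a) := G.map (homOfLE h).op

theorem T_comp {a b c : ℕ} (h : a ≤ b) (h' : b ≤ c) : T (G := G) h' ≫ T h = T (h.trans h') := by
  rw [T, T, T, ← G.map_comp]
  rfl

theorem T_refl {a : ℕ} (h : a ≤ a) : T (G := G) h = 𝟙 _ := by
  rw [T, ← G.map_id]
  rfl

/-- The injections as a functor. -/
def H : ℕ ⥤ X.Modules := Functor.ofSequence (X := fun n => G.obj (op n)) S.i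

theorem H_succ (n : ℕ) : (H S).map (homOfLE (Nat.le_succ n)) = S.i n :=
  Functor.ofSequence_map_homOfLE_succ _ n

/-- The composite injections. -/
abbrev I {a b : ℕ} (h : a ≤ b) : G.obj (op a) ⟶ G.obj (op b) := (H S).map (homOfLE h)

theorem I_refl {a : ℕ} (h : a ≤ a) : I S h = 𝟙 _ := by
  rw [I, Subsingleton.elim (homOfLE h) (𝟙 a)]
  exact (H S).map_id a

theorem I_comp {a b c : ℕ} (h : a ≤ b) (h' : b ≤ c) : I S h ≫ I S h' = I S (h.trans h') := by
  rw [I, I, I]
  exact ((H S).map_comp _ _).symm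

theorem I_succ {a b : ℕ} (h : a ≤ b) : I S (h.trans (Nat.le_succ b)) = I S h ≫ S.i b := by
  rw [← I_comp S h (Nat.le_succ b)]
  congr 1
  exact H_succ S b

theorem mono_I {a b : ℕ} (h : a ≤ b) : Mono (I S h) := by
  induction b, h using Nat.le_induction with
  | base => rw [I_refl]; infer_instance
  | succ b h ih =>
    rw [I_succ S h]
    haveI := S.mono b
    exact mono_comp _ _

theorem i_t (n : ℕ) : S.i n ≫ T (Nat.le_succ n) = Formal.smulMod A (G.obj (op n)) f := by
  haveI := S.mono n
  rw [← cancel_mono (S.i n), Category.assoc, S.fac, ← FFun.smulMod_naturality]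

theorem t_i (n : ℕ) : S.i (n + 1) ≫ T (Nat.le_succ (n + 1)) = T (Nat.le_succ n) ≫ S.i n := by
  rw [i_t, S.fac]

theorem i_T {a b : ℕ} (h : a ≤ b) : S.i b ≫ T (Nat.succ_le_succ h) = T h ≫ S.i a := by
  induction b, h using Nat.le_induction with
  | base => rw [T_refl, T_refl, Category.comp_id, Category.id_comp]
  | succ b h ih =>
    rw [← T_comp (Nat.succ_le_succ h) (Nat.le_succ (b + 1)), ← Category.assoc, t_i, Category.assoc, ih,
      ← Category.assoc, T_comp]

theorem T_I {a b : ℕ} (h : a ≤ b) :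
    T (Nat.le_succ a) ≫ I S h = I S (Nat.succ_le_succ h) ≫ T (Nat.le_succ b) := by
  induction b, h using Nat.le_induction with
  | base => rw [I_refl, I_refl, Category.comp_id, Category.id_comp]
  | succ b h ih =>
    rw [I_succ S h, I_succ S (Nat.succ_le_succ h), ← Category.assoc, ih, Category.assoc, Category.assoc]
    exact congrArg _ (t_i S b).symm

theorem I_T {a b : ℕ} (h : a ≤ b) : I S h ≫ T h = Formal.smulMod A (G.obj (op a)) (f ^ (b - a)) := by
  induction b, h using Nat.le_induction with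
  | base => rw [I_refl, T_refl, Category.comp_id, Nat.sub_self, pow_zero, FFun.smulMod_one]
  | succ b h ih =>
    rw [I_succ S h, ← T_comp h (Nat.le_succ b), Category.assoc, ← Category.assoc (S.i b), i_t,
      FFun.smulMod_naturality, ← Category.assoc, ih, Nat.succ_sub h, pow_succ', FFun.smulMod_mul]

theorem lift_I {Z : X.Modules} : ∀ (n : ℕ) {j b : ℕ} (hb : b = j + n + 1) (g : Z ⟶ G.obj (op b)),
    g ≫ T (show n ≤ b by omega) = 0 → ∃ y : Z ⟶ G.obj (op j), y ≫ I S (show j ≤ b by omega) = g := by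
  intro n
  induction n with
  | zero =>
    intro j b hb g hg
    subst hb
    haveI := (S.se j).mono_f
    refine ⟨(S.se j).exact.lift g hg, ?_⟩
    rw [show I S (show j ≤ j + 0 + 1 by omega) = I S (le_refl j) ≫ S.i j from I_succ S (le_refl j), I_refl,
      Category.id_comp]
    exact (S.se j).exact.lift_f g hg
  | succ n ih =>
    intro j b hb g hg
    subst hb
    haveI := (S.se (j + n + 1)).mono_f
    have hq : g ≫ G.map (homOfLE (Nat.zero_le (j + n + 1 + 1))).op = 0 := by
      have := congrArg (· ≫ T (G := G) (Nat.zero_le (n + 1))) hg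
      rwa [Category.assoc, T_comp, zero_comp] at this
    have hz := (S.se (j + n + 1)).exact.lift_f g hq
    generalize (S.se (j + n + 1)).exact.lift g hq = z at hz
    change z ≫ S.i (j + n + 1) = g at hz
    have h2 : z ≫ T (show n ≤ j + n + 1 by omega) = 0 := by
      haveI := S.mono n
      rw [← cancel_mono (S.i n), Category.assoc, ← i_T, zero_comp, ← Category.assoc, hz]
      exact hg
    obtain ⟨y, hy⟩ := ih rfl z h2
    exact ⟨y, by rw [show I S (show j ≤ j + (n + 1) + 1 by omega) = I S (show j ≤ j + n + 1 by omega) ≫ S.i (j + n + 1)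
      from I_succ S _, ← Category.assoc, hy, hz]⟩

/-- The limit. -/
abbrev F (G : ℕᵒᵖ ⥤ X.Modules) : X.Modules := limit G

/-- The projections. -/
abbrev pr (G : ℕᵒᵖ ⥤ X.Modules) (n : ℕ) : F G ⟶ G.obj (op n) := limit.π G (op n)

theorem pr_T {a b : ℕ} (h : a ≤ b) : pr G b ≫ T h = pr G a := limit.w G _

include S in
theorem mono_f : Mono (Formal.smulMod A (F G) f) := by
  refine Preadditive.mono_of_cancel_zero _ fun {Z} g hg => limit.hom_ext fun m => ?_
  obtain ⟨n⟩ := m
  haveI := S.mono n
  rw [zero_comp, ← cancel_mono (S.i n), zero_comp]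
  change (g ≫ pr G n) ≫ S.i n = 0
  rw [← pr_T (Nat.le_succ n), Category.assoc, Category.assoc, S.fac, ← FFun.smulMod_naturality, ← Category.assoc, hg,
    zero_comp]

include S in
theorem lift_pow {Z : X.Modules} (n : ℕ) (g : Z ⟶ F G) (hg : g ≫ pr G n = 0) :
    ∃ y : Z ⟶ F G, y ≫ Formal.smulMod A (F G) (f ^ (n + 1)) = g := by
  choose y hy using fun j => lift_I S n (j := j) rfl (g ≫ pr G (j + n + 1)) (by
    rw [Category.assoc, pr_T, hg])
  have hc : ∀ j, y (j + 1) ≫ T (Nat.le_succ j) = y j := fun j => by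
    haveI := mono_I S (show j ≤ j + n + 1 by omega)
    rw [← cancel_mono (I S (show j ≤ j + n + 1 by omega)), Category.assoc, T_I S, hy j, ← Category.assoc]
    have hb : ∀ b (hb : b = j + 1 + n + 1), y (j + 1) ≫ I S (show j + 1 ≤ b by omega) = g ≫ pr G b := by
      rintro b rfl
      exact hy (j + 1)
    rw [hb (j + n + 1 + 1) (by omega), Category.assoc, pr_T]
  have hT : ∀ a b (h : a ≤ b), y b ≫ T h = y a := fun a b h => by
    induction b, h using Nat.le_induction with
    | base => rw [T_refl, Category.comp_id]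
    | succ b h ih => rw [← T_comp h (Nat.le_succ b), ← Category.assoc, hc, ih]
  refine ⟨limit.lift G ⟨Z, ⟨fun m => y m.unop, fun p q h => ?_⟩⟩, limit.hom_ext fun m => ?_⟩
  · obtain ⟨p⟩ := p
    obtain ⟨q⟩ := q
    have hle : q ≤ p := h.unop.down.down
    have := hT q p hle
    simp only [Functor.const_obj_obj, Functor.const_obj_map, Category.id_comp]
    rw [Subsingleton.elim h (homOfLE hle).op]
    exact this.symm
  · obtain ⟨j⟩ := m
    rw [Category.assoc, FFun.smulMod_naturality, ← Category.assoc, limit.lift_π]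
    change y j ≫ _ = g ≫ pr G j
    rw [← pr_T (show j ≤ j + n + 1 by omega), ← Category.assoc g, ← hy j, Category.assoc, I_T S,
      show j + n + 1 - j = n + 1 by omega]

include S in
theorem pow_pr (n : ℕ) : Formal.smulMod A (F G) (f ^ (n + 1)) ≫ pr G n = 0 := by
  have h0 : Formal.smulMod A (G.obj (op 0)) f = 0 := by
    rw [← i_t S 0]
    exact S.w 0
  have hk : ∀ m, Formal.smulMod A (G.obj (op m)) (f ^ (m + 1)) = 0 := fun m => by
    induction m with
    | zero => rw [pow_one, h0]
    | succ m ih =>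
      rw [pow_succ, FFun.smulMod_mul, ← S.fac, Category.assoc, ← FFun.smulMod_naturality, ih, zero_comp,
        comp_zero]
  rw [FFun.smulMod_naturality, hk, comp_zero]

include S in
theorem epi_T [∀ n, Epi (T (G := G) (Nat.le_succ n))] {a b : ℕ} (h : a ≤ b) : Epi (T (G := G) h) := by
  induction b, h using Nat.le_induction with
  | base => rw [T_refl]; infer_instance
  | succ b h ih => rw [← T_comp h (Nat.le_succ b)]; exact epi_comp _ _

include S in
theorem epi_t (n : ℕ) : Epi (T (G := G) (Nat.le_succ n)) := by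
  induction n with
  | zero => exact (S.se 0).epi_g
  | succ n ih =>
    refine Preadditive.epi_of_cancel_zero _ fun {Z} g hg => ?_
    have h1 : S.i n ≫ g = 0 := by
      rw [← cancel_epi (T (G := G) (Nat.le_succ n)), comp_zero, ← Category.assoc, ← t_i, Category.assoc, hg,
        comp_zero]
    haveI := (S.se n).epi_g
    have hd := (S.se n).exact.g_desc g h1
    generalize (S.se n).exact.desc g h1 = d at hd
    change T (G := G) (Nat.zero_le (n + 1)) ≫ d = g at hd
    haveI : Epi (T (G := G) (Nat.zero_le (n + 1 + 1))) := (S.se (n + 1)).epi_g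
    have h2 : d = 0 := by
      rw [← cancel_epi (T (G := G) (Nat.zero_le (n + 1 + 1))), comp_zero,
        ← T_comp (Nat.zero_le (n + 1)) (Nat.le_succ (n + 1)), Category.assoc, hd, hg]
    rw [← hd, h2, comp_zero]

include S in
theorem epi_pr (hqc : ∀ n : ℕᵒᵖ, Coh.IsQCoh (G.obj n)) (n : ℕ) : Epi (pr G n) := by
  refine Preadditive.epi_of_cancel_zero _ fun {Z} g hg => Scheme.Modules.hom_ext _ _ fun W => ?_
  ext s
  refine AModX.eq_of_locally _ _ fun p hp => ?_
  obtain ⟨_, ⟨V, hV, rfl⟩, hpV, hVW⟩ :=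
    X.isBasis_affineOpens.exists_subset_of_mem_open (show p ∈ (W : X.Opens) from hp) W.2
  refine ⟨V, hVW, hpV, ?_⟩
  rw [← AModX.app_res, show AModX.res Z hVW ((0 : G.obj (op n) ⟶ Z).app W s) = 0 from map_zero _]
  generalize AModX.res (G.obj (op n)) hVW s = v
  haveI := epi_t S
  choose st hst using fun (m : ℕ) (x : Γ(G.obj (op m), V)) =>
    QCoh.app_surjective_of_epi (hqc (op (m + 1))) (hqc (op m)) (T (G := G) (Nat.le_succ m)) hV x
  let x : ∀ m, Γ(G.obj (op (n + m)), V) := fun m => Nat.rec (motive := fun m => Γ(G.obj (op (n + m)), V)) v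
    (fun m z => st (n + m) z) m
  have hx : ∀ m m' (h : m ≤ m'), (T (G := G) (Nat.add_le_add_left h n)).app V (x m') = x m := fun m m' h => by
    induction m', h using Nat.le_induction with
    | base => rw [T_refl]; rfl
    | succ m' h ih =>
      rw [← T_comp (G := G) (Nat.add_le_add_left h n) (Nat.le_succ (n + m'))]
      exact (congrArg ((T (G := G) (Nat.add_le_add_left h n)).app V) (hst (n + m') (x m'))).trans ih
  let P := Scheme.Modules.toPresheaf X ⋙ (evaluation _ AddCommGrpCat.{u}).obj (op V) ⋙ forget AddCommGrpCat.{u}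
  haveI h1 : PreservesLimitsOfShape ℕᵒᵖ (Scheme.Modules.toPresheaf X) :=
    inferInstanceAs (PreservesLimitsOfShape ℕᵒᵖ (SheafOfModules.forget X.ringCatSheaf ⋙ PresheafOfModules.toPresheaf _))
  haveI h2 : PreservesLimitsOfShape ℕᵒᵖ ((evaluation _ AddCommGrpCat.{u}).obj (op V) : ((Opens X)ᵒᵖ ⥤ AddCommGrpCat.{u}) ⥤ AddCommGrpCat.{u}) :=
    evaluation_preservesLimitsOfShape _
  haveI h3 : PreservesLimitsOfShape ℕᵒᵖ (forget AddCommGrpCat.{u}) := inferInstance
  haveI h23 : PreservesLimitsOfShape ℕᵒᵖ (((evaluation _ AddCommGrpCat.{u}).obj (op V) : ((Opens X)ᵒᵖ ⥤ AddCommGrpCat.{u}) ⥤ AddCommGrpCat.{u}) ⋙ forget AddCommGrpCat.{u}) :=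
    @comp_preservesLimitsOfShape _ _ _ _ _ _ _ _ _ _ h2 h3
  haveI : PreservesLimitsOfShape ℕᵒᵖ P := @comp_preservesLimitsOfShape _ _ _ _ _ _ _ _ (Scheme.Modules.toPresheaf X)
    ((evaluation _ AddCommGrpCat.{u}).obj (op V) ⋙ forget AddCommGrpCat.{u}) h1 h23
  let hl := isLimitOfPreserves P (limit.isLimit G)
  let sec : (G ⋙ P).sections := ⟨fun m => (T (G := G) (Nat.le_add_left m.unop n)).app V (x m.unop), by
    rintro ⟨p⟩ ⟨q⟩ h
    have hle : q ≤ p := h.unop.down.down
    rw [Subsingleton.elim h (homOfLE hle).op]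
    show (T (G := G) hle).app V ((T (G := G) (Nat.le_add_left p n)).app V (x p)) = _
    dsimp only
    rw [← hx q p hle]
    show (T (G := G) (Nat.le_add_left p n) ≫ T hle).app V (x p) =
      (T (G := G) (Nat.add_le_add_left hle n) ≫ T (Nat.le_add_left q n)).app V (x p)
    rw [T_comp, T_comp]⟩
  obtain ⟨y, hy⟩ : ∃ y : Γ(F G, V), ∀ m : ℕ, (pr G m).app V y = (T (G := G) (Nat.le_add_left m n)).app V (x m) :=
    ⟨(Types.isLimitEquivSections hl).symm sec, fun m => Types.isLimitEquivSections_symm_apply hl sec (op m)⟩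
  have hv : (pr G n).app V y = v := by
    rw [hy n]
    have := hx 0 n (Nat.zero_le n)
    exact this
  rw [← hv]
  exact congr(($hg).app V y)

include S in
theorem exists_module (hqc : ∀ n : ℕᵒᵖ, Coh.IsQCoh (G.obj n)) :
    ∃ F : X.Modules, Mono (Formal.smulMod A F f) ∧ Nonempty (Formal.completion (Ideal.span ({f} : Set A)) F ≅ G) := by
  refine ⟨F G, mono_f S, ?_⟩
  have hz : ∀ n, Formal.smulFamily (Ideal.span ({f} : Set A) ^ (n + 1)) (F G) ≫ pr G n = 0 := fun n => by
    refine Sigma.hom_ext _ _ fun a => ?_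
    obtain ⟨c, hc⟩ : ∃ c, c * f ^ (n + 1) = (a : A) := by
      rw [← Ideal.mem_span_singleton', ← Ideal.span_singleton_pow]
      exact a.2
    rw [← Category.assoc, comp_zero, Formal.smulFamily, Sigma.ι_desc, ← hc, mul_comm, FFun.smulMod_mul,
      Category.assoc, pow_pr S, comp_zero]
  let e : ∀ n, Formal.modPow (Ideal.span ({f} : Set A)) (n + 1) (F G) ⟶ G.obj (op n) := fun n =>
    cokernel.desc _ (pr G n) (hz n)
  haveI : ∀ n, IsIso (e n) := fun n => by
    haveI := epi_pr S hqc n
    haveI : Epi (e n) := epi_of_epi_fac (cokernel.π_desc _ (pr G n) (hz n))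
    haveI : Mono (e n) := by
      refine Preadditive.mono_of_cancel_zero _ fun {Z} t ht => ?_
      obtain ⟨Z', π, hπ, s, hs⟩ :=
        surjective_up_to_refinements_of_epi (cokernel.π (Formal.smulFamily (Ideal.span ({f} : Set A) ^ (n + 1)) (F G))) t
      have hs0 : s ≫ pr G n = 0 := by
        have := congrArg (π ≫ ·) ht
        rw [comp_zero, ← Category.assoc] at this
        rwa [hs, Category.assoc, cokernel.π_desc] at this
      obtain ⟨y, hy⟩ := lift_pow S n s hs0
      haveI := hπ
      have hmem : f ^ (n + 1) ∈ Ideal.span ({f} : Set A) ^ (n + 1) :=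
        Ideal.pow_mem_pow (Ideal.mem_span_singleton_self f) _
      have h3 : Formal.smulMod A (F G) (f ^ (n + 1)) ≫
          cokernel.π (Formal.smulFamily (Ideal.span ({f} : Set A) ^ (n + 1)) (F G)) = 0 := by
        have h4 : Sigma.ι (fun _ : ↥(Ideal.span ({f} : Set A) ^ (n + 1)) => F G) ⟨_, hmem⟩ ≫
            Formal.smulFamily (Ideal.span ({f} : Set A) ^ (n + 1)) (F G) = Formal.smulMod A (F G) (f ^ (n + 1)) :=
          Sigma.ι_desc _ _
        rw [← h4, Category.assoc, cokernel.condition, comp_zero]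
      rw [← cancel_epi π, comp_zero, hs, ← hy, Category.assoc, h3, comp_zero]
    exact isIso_of_mono_of_epi _
  let η : Formal.completion (Ideal.span ({f} : Set A)) (F G) ⟶ G := NatTrans.ofOpSequence e fun n => by
    haveI : Epi (Formal.modPowπ (Ideal.span ({f} : Set A)) (n + 1 + 1) (F G)) := by
      unfold Formal.modPowπ; infer_instance
    refine (cancel_epi (Formal.modPowπ (Ideal.span ({f} : Set A)) (n + 1 + 1) (F G))).1 ?_
    rw [← Category.assoc]
    simp only [Formal.completion, Functor.ofOpSequence_map_homOfLE_succ]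
    rw [Formal.modPowπ_trans]
    show cokernel.π _ ≫ cokernel.desc _ (pr G n) _ = cokernel.π _ ≫ cokernel.desc _ (pr G (n + 1)) _ ≫ _
    rw [cokernel.π_desc, cokernel.π_desc_assoc]
    exact (pr_T (Nat.le_succ n)).symm
  haveI : ∀ m, IsIso (η.app m) := fun m => inferInstanceAs (IsIso (e m.unop))
  haveI : IsIso η := NatIso.isIso_of_isIso_app η
  exact ⟨asIso η⟩

end Groth.Agent.Synt29.SysLimit

end
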