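import Mathlib
import Groth.Agent.Synt29.KoszulPresentation
import Groth.Agent.Synt29.AwayGCI
import Groth.Agent.Synt29.SyntomicAt
import Groth.Agent.AzumayaX.EtaleSub
import Groth.Agent.S9147

/-! Finite syntomic algebras over local rings have square presentations. -/

set_option autoImplicit false
set_option linter.style.haveILetI false

universe u

open MvPolynomial

namespace Groth.Agent.Synt29.FiniteSyntomic

variable {A B : Type u} [CommRing A] [CommRing B] [Algebra A B] [Module.Finite A B]

set_option backward.isDefEq.respectTransparency false in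
theorem isRelGCI_of_finite {n : ℕ} (F : Fin n → MvPolynomial (Fin n) A) (e : B ≃ₐ[A] Synt.RelGCIRing A n n F) :
    Synt.IsRelGCI A n n F := by
  haveI : Module.Finite A (Synt.RelGCIRing A n n F) := Module.Finite.equiv e.toLinearEquiv
  intro p hn
  haveI := hn
  haveI : IsArtinianRing (p.asIdeal.Fiber (Synt.RelGCIRing A n n F)) :=
    IsArtinianRing.of_finite p.asIdeal.ResidueField (p.asIdeal.Fiber (Synt.RelGCIRing A n n F))
  haveI : Ring.KrullDimLE 0 (p.asIdeal.Fiber (Synt.RelGCIRing A n n F)) :=
    Ring.KrullDimLE.mk₀ fun q _ => IsArtinianRing.isMaximal_of_isPrime (R := p.asIdeal.Fiber (Synt.RelGCIRing A n n F)) q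
  refine ⟨le_rfl, ?_⟩
  rw [Nat.sub_self, Nat.cast_zero]
  exact ringKrullDimZero_iff_ringKrullDim_eq_zero.1 inferInstance

theorem isSyntomic_of_presentation {n : ℕ} (F : Fin n → MvPolynomial (Fin n) A)
    (e : B ≃ₐ[A] Synt.RelGCIRing A n n F) : Synt.IsSyntomic A B :=
  isSyntomic_of_algEquiv e.symm (Groth.Agent.S9147.result A n n F (isRelGCI_of_finite F e))

theorem exists_presentation [IsLocalRing A] (h : Synt.IsSyntomic A B) :
    ∃ (n : ℕ) (F : Fin n → MvPolynomial (Fin n) A), Nonempty (B ≃ₐ[A] Synt.RelGCIRing A n n F) := by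
  classical
  haveI := h.1
  haveI := h.2.1
  obtain ⟨n, φ, hφ⟩ := Algebra.FiniteType.iff_quotient_mvPolynomial''.1 (inferInstance : Algebra.FiniteType A B)
  let P := MvPolynomial (Fin n) A
  let I : Ideal P := RingHom.ker φ.toRingHom
  have hIfg : I.FG := Algebra.FinitePresentation.ker_fG_of_surjective φ hφ
  haveI : Finite (MaximalSpectrum B) := AzumayaX.finite_maximalSpectrum (R := A) B
  haveI : Fintype (MaximalSpectrum B) := Fintype.ofFinite _
  -- local equations
  have hloc : ∀ m : MaximalSpectrum B, ∃ (G : Fin n → P) (h : P), φ h ∉ m.asIdeal ∧ (∀ i, G i ∈ I) ∧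
      ∀ x ∈ I, ∃ k : ℕ, h ^ k * x ∈ Ideal.span (Set.range G) := by
    intro m
    let q : PrimeSpectrum B := m.toPrimeSpectrum
    let p := PrimeSpectrum.comap (algebraMap A B) q
    obtain ⟨Q, hQ⟩ := FlatLoc6.exists_fiber_prime p.asIdeal q.asIdeal rfl
    haveI := (h.2.2 p).1
    obtain ⟨c, G, hh, hhq, hG, hkill, hrel⟩ := exists_local_equations φ hφ hIfg q p rfl Q hQ
      (isCIOver_atPrime_of_isLCIOver (h.2.2 p) Q.asIdeal)
    have hcn : c ≤ n := by
      have hnt : Nontrivial (p.asIdeal.Fiber (Synt.RelGCIRing A (n + 1) (c + 1) (snocPoly G hh))) := by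
        let L := Localization.Away (φ hh)
        let v : Fin (n + 1) → L :=
          Fin.snoc (fun i => algebraMap B L (φ (X i))) (IsLocalization.Away.invSelf (φ hh))
        have hv : ∀ y : P, aeval v (rename Fin.castSucc y) = algebraMap B L (φ y) := fun y => by
          rw [aeval_rename]
          simp only [v, Function.comp_def, Fin.snoc_castSucc]
          show _ = ((IsScalarTower.toAlgHom A B L).comp φ) y
          congr 1
          exact MvPolynomial.algHom_ext fun i => by simp
        let χ : Synt.RelGCIRing A (n + 1) (c + 1) (snocPoly G hh) →ₐ[A] L :=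
          Ideal.Quotient.liftₐ _ (aeval v) fun x hx => (Ideal.span_le.2 (by
            rintro _ ⟨i, rfl⟩
            show aeval v (snocPoly G hh i) = 0
            refine Fin.lastCases ?_ (fun i => ?_) i
            · simp only [snocPoly, Fin.snoc_last, map_sub, map_mul, map_one, hv, aeval_X, v]
              rw [IsLocalization.Away.mul_invSelf, sub_self]
            · simp only [snocPoly, Fin.snoc_castSucc, hv]
              rw [show φ (G i) = 0 from hG i, map_zero]) :
              Ideal.span (Set.range (snocPoly G hh)) ≤ RingHom.ker (aeval v)) hx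
        haveI : (q.asIdeal.map (algebraMap B L)).IsPrime :=
          IsLocalization.isPrime_of_isPrime_disjoint (Submonoid.powers (φ hh)) L _ q.2 (by
            rw [Ideal.disjoint_powers_iff_notMem _ q.2.isRadical]
            exact hhq)
        have hcomap : (q.asIdeal.map (algebraMap B L)).comap (algebraMap B L) = q.asIdeal :=
          IsLocalization.comap_map_of_isPrime_disjoint (Submonoid.powers (φ hh)) L q.2 (by
            rw [Ideal.disjoint_powers_iff_notMem _ q.2.isRadical]
            exact hhq)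
        let r : Ideal (Synt.RelGCIRing A (n + 1) (c + 1) (snocPoly G hh)) :=
          (q.asIdeal.map (algebraMap B L)).comap χ.toRingHom
        haveI : r.IsPrime := Ideal.comap_isPrime _ _
        have hr : r.comap (algebraMap A (Synt.RelGCIRing A (n + 1) (c + 1) (snocPoly G hh))) = p.asIdeal := by
          rw [Ideal.comap_comap, show χ.toRingHom.comp (algebraMap A _) = (algebraMap B L).comp (algebraMap A B) from
            (RingHom.ext fun a => (χ.commutes a).trans (IsScalarTower.algebraMap_apply A B L a)),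
            ← Ideal.comap_comap, hcomap]
          rfl
        obtain ⟨R', hR'⟩ := FlatLoc6.exists_fiber_prime p.asIdeal r hr
        exact nontrivial_of_ne (0 : p.asIdeal.Fiber _) 1 fun h01 =>
          R'.2.ne_top ((Ideal.eq_top_iff_one _).2 (h01 ▸ zero_mem _))
      have := (hrel p hnt).1
      omega
    refine ⟨fun i => if hi : (i : ℕ) < c then G ⟨i, hi⟩ else 0, hh, hhq, fun i => ?_, fun x hx => ?_⟩
    · beta_reduce
      split
      · exact hG _
      · exact zero_mem _
    · obtain ⟨k, hk⟩ := hkill x hx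
      refine ⟨k, Ideal.span_le.2 ?_ hk⟩
      rintro _ ⟨i, rfl⟩
      exact Ideal.subset_span ⟨Fin.castLE hcn i, by simp⟩
  choose G hh hhm hG hkill using hloc
  have hsep : ∀ m : MaximalSpectrum B, ∃ e : P, φ e ∉ m.asIdeal ∧ ∀ l, l ≠ m → φ e ∈ l.asIdeal := by
    intro m
    have : ∀ l : MaximalSpectrum B, ∃ a : P, φ a ∉ m.asIdeal ∧ (l ≠ m → φ a ∈ l.asIdeal) := fun l => by
      by_cases hlm : l = m
      · exact ⟨1, by rw [map_one]; exact (Ideal.ne_top_iff_one _).1 m.isMaximal.ne_top, fun h => absurd hlm h⟩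
      · obtain ⟨b, hb, hbm⟩ := SetLike.not_le_iff_exists.1
          (fun hle : l.asIdeal ≤ m.asIdeal => hlm (MaximalSpectrum.ext (l.isMaximal.eq_of_le m.isMaximal.ne_top hle)))
        obtain ⟨a, rfl⟩ := hφ b
        exact ⟨a, hbm, fun _ => hb⟩
    choose a ha1 ha2 using this
    refine ⟨∏ l, a l, fun hmem => ?_, fun l hl => ?_⟩
    · rw [map_prod] at hmem
      obtain ⟨l, -, hl⟩ := (Ideal.IsPrime.prod_mem_iff (hp := m.isMaximal.isPrime)).1 hmem
      exact ha1 l hl
    · rw [map_prod]
      exact Ideal.prod_mem l.asIdeal (Finset.mem_univ l) (ha2 l hl)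
  choose e he1 he2 using hsep
  let f : Fin n → P := fun i => ∑ m, e m * G m i
  have hf : ∀ i, f i ∈ I := fun i => Ideal.sum_mem _ fun m _ => I.mul_mem_left _ (hG m i)
  -- they generate modulo the square
  let J : Ideal P := Ideal.span (Set.range f) ⊔ I * I
  have hIJ : I ≤ J := by
    by_contra hne
    have hc : J.colon I ≠ ⊤ := fun htop => hne fun x hx => by
      have := Submodule.mem_colon.1 (htop.ge (Submodule.mem_top : (1 : P) ∈ ⊤)) x hx
      rwa [one_smul] at this
    obtain ⟨M, hM, hcM⟩ := Ideal.exists_le_maximal _ hc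
    have hIM : I ≤ M := fun y hy => hcM (Submodule.mem_colon.2 fun x hx =>
      Submodule.mem_sup_right (Ideal.mul_mem_mul hy hx))
    let m : MaximalSpectrum B := ⟨M.map φ.toRingHom,
      (Ideal.map_eq_top_or_isMaximal_of_surjective (f := φ.toRingHom) hφ hM).resolve_left fun htop => hM.ne_top (by
        rw [← sup_eq_left.2 hIM, show I = (⊥ : Ideal B).comap φ.toRingHom from RingHom.ker_eq_comap_bot _,
          ← Ideal.comap_map_of_surjective φ.toRingHom hφ, htop, Ideal.comap_top])⟩
    have hmem : ∀ y, φ y ∈ m.asIdeal → y ∈ M := fun y hy => by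
      have : y ∈ (M.map φ.toRingHom).comap φ.toRingHom := hy
      rwa [Ideal.comap_map_of_surjective φ.toRingHom hφ, ← RingHom.ker_eq_comap_bot, sup_eq_left.2 hIM] at this
    have hG' : ∀ i, e m * G m i ∈ J ⊔ M * I := fun i => by
      rw [show e m * G m i = f i - ∑ l ∈ Finset.univ.erase m, e l * G l i from
        eq_sub_of_add_eq (Finset.add_sum_erase _ (fun l => e l * G l i) (Finset.mem_univ m))]
      refine sub_mem (Submodule.mem_sup_left (Submodule.mem_sup_left (Ideal.subset_span ⟨i, rfl⟩)))
        (Submodule.mem_sup_right (Ideal.sum_mem _ fun l hl => Ideal.mul_mem_mul ?_ (hG l i)))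
      exact hmem _ (he2 l m (Finset.ne_of_mem_erase hl).symm)
    have hQ : I ≤ J ⊔ M * I := by
      intro x hx
      obtain ⟨k, hk⟩ := hkill m x hx
      have h1 : e m * (hh m ^ k * x) ∈ J ⊔ M * I := by
        have : e m * (hh m ^ k * x) ∈ Ideal.span {e m} * Ideal.span (Set.range (G m)) :=
          Ideal.mul_mem_mul (Ideal.mem_span_singleton_self _) hk
        rw [Ideal.span_mul_span'] at this
        refine Ideal.span_le.2 ?_ this
        rintro _ ⟨_, rfl, _, ⟨i, rfl⟩, rfl⟩
        exact hG' i
      have h2 : e m * hh m ^ k ∉ M := fun hmem' => by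
        have hp : (M.map φ.toRingHom).IsPrime := m.isMaximal.isPrime
        have := Ideal.mem_map_of_mem φ.toRingHom hmem'
        rw [map_mul, map_pow] at this
        rcases hp.mem_or_mem this with h3 | h3
        · exact he1 m h3
        · exact hhm m (hp.mem_of_pow_mem _ h3)
      obtain ⟨a, i, hi, hai⟩ := hM.exists_inv h2
      rw [show x = a * (e m * (hh m ^ k * x)) + i * x by linear_combination (-x) * hai]
      exact add_mem (Ideal.mul_mem_left _ _ h1) (Submodule.mem_sup_right (Ideal.mul_mem_mul hi hx))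
    obtain ⟨r, hr, hr'⟩ := Submodule.exists_sub_one_mem_and_smul_eq_zero_of_fg_of_le_smul M
      (Submodule.map J.mkQ I) (Submodule.FG.map _ hIfg) (by
        rintro _ ⟨x, hx, rfl⟩
        obtain ⟨y, hy, z, hz, rfl⟩ := Submodule.mem_sup.1 (hQ hx)
        rw [map_add, show J.mkQ y = 0 from (Submodule.Quotient.mk_eq_zero _).2 hy, zero_add,
          ← Submodule.map_smul'']
        exact ⟨z, hz, rfl⟩)
    refine hM.ne_top ((Ideal.eq_top_iff_one _).2 ?_)
    have hrM : r ∈ M := hcM (Submodule.mem_colon.2 fun x hx => by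
      have := hr' _ ⟨x, hx, rfl⟩
      rw [← map_smul] at this
      exact (Submodule.Quotient.mk_eq_zero _).1 this)
    simpa using M.sub_mem hrM hr
  -- cut out by one more equation
  obtain ⟨g, hg, hg'⟩ := Submodule.exists_sub_one_mem_and_smul_eq_zero_of_fg_of_le_smul I
    (Submodule.map (Submodule.mkQ (Ideal.span (Set.range f))) I) (Submodule.FG.map _ hIfg) (by
      rintro _ ⟨x, hx, rfl⟩
      obtain ⟨y, hy, z, hz, rfl⟩ := Submodule.mem_sup.1 (hIJ hx)
      rw [map_add, show Submodule.mkQ (Ideal.span (Set.range f)) y = 0 from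
        (Submodule.Quotient.mk_eq_zero _).2 hy, zero_add, ← Submodule.map_smul'']
      exact ⟨z, hz, rfl⟩)
  have hkillg : ∀ x ∈ I, g * x ∈ Ideal.span (Set.range f) := fun x hx => by
    have := hg' _ ⟨x, hx, rfl⟩
    rw [← map_smul] at this
    exact (Submodule.Quotient.mk_eq_zero _).1 this
  let C := P ⧸ Ideal.span (Set.range f)
  let ψ : C →ₐ[A] B := Ideal.Quotient.liftₐ _ φ fun x hx =>
    (Ideal.span_le.2 (by rintro _ ⟨i, rfl⟩; exact hf i) : Ideal.span (Set.range f) ≤ I) hx
  letI : Algebra C B := ψ.toRingHom.toAlgebra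
  haveI : IsScalarTower A C B := IsScalarTower.of_algebraMap_eq fun a => (ψ.commutes a).symm
  let gC : C := Ideal.Quotient.mk _ g
  have hid : IsIdempotentElem gC := by
    show gC * gC = gC
    rw [← sub_eq_zero, ← map_mul, ← map_sub, Ideal.Quotient.eq_zero_iff_mem,
      show g * g - g = g * (g - 1) by ring]
    exact hkillg _ hg
  have hker : RingHom.ker (algebraMap C B) = Ideal.span {1 - gC} := by
    refine le_antisymm (fun y hy => ?_) ?_
    · obtain ⟨x, rfl⟩ := Ideal.Quotient.mk_surjective y
      have h0 : Ideal.Quotient.mk (Ideal.span (Set.range f)) (g * x) = 0 :=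
        Ideal.Quotient.eq_zero_iff_mem.2 (hkillg x hy)
      rw [map_mul] at h0
      refine Ideal.mem_span_singleton.2 ⟨Ideal.Quotient.mk _ x, ?_⟩
      show _ = (1 - Ideal.Quotient.mk _ g) * Ideal.Quotient.mk _ x
      rw [sub_mul, one_mul, h0, sub_zero]
    · rw [Ideal.span_le, Set.singleton_subset_iff]
      show φ (1 - g) = 0
      rw [← neg_sub, map_neg, show φ (g - 1) = 0 from hg, neg_zero]
  haveI : IsLocalization.Away gC B := IsLocalization.away_of_isIdempotentElem hid hker (fun b => by
    obtain ⟨x, rfl⟩ := hφ b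
    exact ⟨Ideal.Quotient.mk _ x, rfl⟩)
  obtain ⟨E⟩ := awayEquiv f g
  exact ⟨n + 1, snocPoly f g,
    ⟨((IsLocalization.algEquiv (Submonoid.powers gC) B (Localization.Away gC)).restrictScalars A).trans E⟩⟩

end Groth.Agent.Synt29.FiniteSyntomic
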