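import Mathlib
import Groth.Prelude.Def_W4stkdualitygroupp2Univ

/-!
The universal algebra of equations of bounded degree is a polynomial ring over the integers.
-/

set_option autoImplicit false

open MvPolynomial

namespace Groth.Agent.Synt29.Univ

variable (n d : ℕ)

/-- The index of the constant coefficient. -/
def zeroIdx : Synt.UnivIdx n d := ⟨fun _ => 0, by simp⟩

theorem exponent_zeroIdx : (zeroIdx n d).exponent = 0 := by
  ext i
  simp [Synt.UnivIdx.exponent, zeroIdx]

/-- The free variables. -/
abbrev Free := Fin n ⊕ (Fin n × {E : Synt.UnivIdx n d // E ≠ zeroIdx n d})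

/-- The coefficients in terms of the free variables. -/
noncomputable def coef (p : Fin n × Synt.UnivIdx n d) : MvPolynomial (Free n d) ℤ :=
  if h : p.2 = zeroIdx n d then
    -∑ E : {E : Synt.UnivIdx n d // E ≠ zeroIdx n d},
      X (Sum.inr (p.1, E)) * E.1.exponent.prod fun j e => (X (Sum.inl j) : MvPolynomial (Free n d) ℤ) ^ e
  else X (Sum.inr (p.1, ⟨p.2, h⟩))

/-- From the polynomial ring over the base. -/
noncomputable def toFree : MvPolynomial (Fin n) (Synt.UnivBase n d) →+* MvPolynomial (Free n d) ℤ :=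
  eval₂Hom (aeval (coef n d) : Synt.UnivBase n d →ₐ[ℤ] MvPolynomial (Free n d) ℤ).toRingHom fun j => X (Sum.inl j)

theorem toFree_monomial (e : Fin n →₀ ℕ) (a : Fin n × Synt.UnivIdx n d) :
    toFree n d (monomial e (X a)) = coef n d a * e.prod fun j k => X (Sum.inl j) ^ k := by
  simp [toFree, eval₂Hom_monomial]

theorem toFree_univPoly (i : Fin n) : toFree n d (Synt.univPoly n d i) = 0 := by
  classical
  rw [Synt.univPoly, map_sum, ← Finset.add_sum_erase _ _ (Finset.mem_univ (zeroIdx n d)), toFree_monomial,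
    exponent_zeroIdx, Finsupp.prod_zero_index, mul_one, coef, dif_pos rfl, neg_add_eq_zero]
  rw [Finset.sum_subtype (Finset.univ.erase (zeroIdx n d)) (p := fun E => E ≠ zeroIdx n d) (by simp)]
  exact Finset.sum_congr rfl fun E _ => by rw [toFree_monomial, coef, dif_neg E.2]

theorem univIdeal_le_ker : Synt.univIdeal n d ≤ RingHom.ker (toFree n d) :=
  Ideal.span_le.2 (by rintro _ ⟨i, rfl⟩; exact toFree_univPoly n d i)

/-- Back to the universal algebra. -/
noncomputable def ofFree : MvPolynomial (Free n d) ℤ →+* MvPolynomial (Fin n) (Synt.UnivBase n d) ⧸ Synt.univIdeal n d :=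
  (aeval (R := ℤ) fun v : Free n d => Ideal.Quotient.mk (Synt.univIdeal n d)
    (Sum.elim (fun j => (X j : MvPolynomial (Fin n) (Synt.UnivBase n d))) (fun p => C (X (p.1, p.2.1))) v)).toRingHom

theorem ofFree_toFree :
    (ofFree n d).comp (toFree n d) = Ideal.Quotient.mk (Synt.univIdeal n d) := by
  classical
  have hX : ∀ j, ofFree n d (toFree n d (X j)) = Ideal.Quotient.mk (Synt.univIdeal n d) (X j) := fun j => by
    simp [toFree, ofFree]
  refine MvPolynomial.ringHom_ext' (MvPolynomial.ringHom_ext (fun m => ?_) fun a => ?_) hX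
  · simp
  · obtain ⟨i, E⟩ := a
    show ofFree n d (toFree n d (C (X (i, E)))) = Ideal.Quotient.mk (Synt.univIdeal n d) (C (X (i, E)))
    by_cases hE : E = zeroIdx n d
    · subst hE
      have hC : toFree n d (C (X (i, zeroIdx n d))) = coef n d (i, zeroIdx n d) := by simp [toFree]
      rw [hC, coef, dif_pos rfl, map_neg, map_sum, neg_eq_iff_add_eq_zero]
      have h0 : Ideal.Quotient.mk (Synt.univIdeal n d) (Synt.univPoly n d i) = 0 :=
        Ideal.Quotient.eq_zero_iff_mem.2 (Ideal.subset_span ⟨i, rfl⟩)
      rw [Synt.univPoly, ← Finset.add_sum_erase _ _ (Finset.mem_univ (zeroIdx n d)), exponent_zeroIdx, map_add,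
        map_sum, add_comm,
        Finset.sum_subtype (Finset.univ.erase (zeroIdx n d)) (p := fun E => E ≠ zeroIdx n d) (by simp)] at h0
      refine (congrArg₂ (· + ·) (Finset.sum_congr rfl fun E _ => ?_) ?_).trans h0
      · rw [monomial_eq, map_mul, map_mul, map_finsuppProd, map_finsuppProd]
        refine congrArg₂ (· * ·) (by simp [ofFree]) (Finsupp.prod_congr fun j _ => ?_)
        rw [map_pow, map_pow]
        simp [ofFree]
      · rw [monomial_eq, Finsupp.prod_zero_index, mul_one]
    · have hC : toFree n d (C (X (i, E))) = coef n d (i, E) := by simp [toFree]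
      rw [hC, coef, dif_neg hE]
      simp [ofFree]

theorem toFree_ofFree : (Ideal.Quotient.lift (Synt.univIdeal n d) (toFree n d) (univIdeal_le_ker n d)).comp (ofFree n d) =
    RingHom.id _ := by
  refine MvPolynomial.ringHom_ext (fun m => ?_) fun v => ?_
  · simp
  · rcases v with j | ⟨i, E⟩
    · simp [ofFree, toFree]
    · simp [ofFree, toFree, coef, dif_neg E.2]

/-- The universal algebra is a polynomial ring. -/
noncomputable def equivFree : MvPolynomial (Free n d) ℤ ≃+* (MvPolynomial (Fin n) (Synt.UnivBase n d) ⧸ Synt.univIdeal n d) :=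
  RingEquiv.ofRingHom (ofFree n d) (Ideal.Quotient.lift (Synt.univIdeal n d) (toFree n d) (univIdeal_le_ker n d))
    (Ideal.Quotient.ringHom_ext (RingHom.ext fun x => RingHom.congr_fun (ofFree_toFree n d) x))
    (toFree_ofFree n d)

theorem isDomain_and_regular : IsDomain (Synt.UnivAlg n d) ∧ IsRegularRing (Synt.UnivAlg n d) := by
  have : Finite (Synt.UnivIdx n d) := Finite.of_fintype _
  let e : MvPolynomial (Free n d) ℤ ≃+* Synt.UnivAlg n d := equivFree n d
  exact ⟨e.symm.toMulEquiv.isDomain _, IsRegularRing.of_ringEquiv e⟩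

end Groth.Agent.Synt29.Univ
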