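import Mathlib
import Groth.Prelude.Def_W4stkdualitygroupp2Univ

/-!
A point of the universal algebra that is quasi-finite and etale over the base.
-/

set_option autoImplicit false
set_option linter.style.haveILetI false

open MvPolynomial TensorProduct

namespace Groth.Agent.Synt29.Univ

universe u

theorem quasiFinite_of_etale (R T : Type u) [CommRing R] [CommRing T] [Algebra R T] [Algebra.Etale R T] :
    Algebra.QuasiFinite R T := by
  refine ⟨fun P _ => ?_⟩
  haveI : Algebra.FormallyUnramified P.ResidueField (P.Fiber T) := inferInstance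
  haveI : Algebra.EssFiniteType P.ResidueField (P.Fiber T) := inferInstance
  exact Algebra.FormallyUnramified.finite_of_free P.ResidueField (P.Fiber T)

/-- Where the Jacobian does not vanish a complete intersection of the same number of equations as variables is
quasi-finite and etale. -/
theorem quasiFiniteAt_and_etaleAt {R : Type u} [CommRing R] {n : ℕ} (F : Fin n → MvPolynomial (Fin n) R)
    (q : Ideal (MvPolynomial (Fin n) R ⧸ Ideal.span (Set.range F))) [q.IsPrime]
    (hq : Ideal.Quotient.mk (Ideal.span (Set.range F))
      (Matrix.det (Matrix.of fun i j => MvPolynomial.pderiv i (F j))) ∉ q) :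
    Algebra.QuasiFiniteAt R q ∧ Algebra.IsEtaleAt R q := by
  let S := MvPolynomial (Fin n) R ⧸ Ideal.span (Set.range F)
  let P := Algebra.PreSubmersivePresentation.naive (R := R) (v := F) (id : Fin n → Fin n) Function.injective_id
  have hj : P.jacobian = Ideal.Quotient.mk (Ideal.span (Set.range F))
      (Matrix.det (Matrix.of fun i j => MvPolynomial.pderiv i (F j))) := by
    rw [Algebra.PreSubmersivePresentation.jacobian_eq_jacobiMatrix_det]
    show (Ideal.Quotient.mk (Ideal.span (Set.range F))) _ = _
    congr 2
    ext i j
    simp [P]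
  rw [← hj] at hq
  let T := Localization.Away P.jacobian
  let Q := (Algebra.SubmersivePresentation.localizationAway T P.jacobian).toPreSubmersivePresentation.comp P
  have hQ : IsUnit Q.jacobian := by
    rw [Algebra.PreSubmersivePresentation.comp_jacobian_eq_jacobian_smul_jacobian, Algebra.smul_def]
    exact (IsLocalization.Away.algebraMap_isUnit P.jacobian).mul
      (Algebra.SubmersivePresentation.localizationAway T P.jacobian).jacobian_isUnit
  have hdim : Q.dimension = 0 := by
    simp [Algebra.Presentation.dimension, Nat.card_eq_fintype_card]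
  haveI : Algebra.IsStandardSmoothOfRelativeDimension 0 R T :=
    Algebra.SubmersivePresentation.isStandardSmoothOfRelativeDimension ⟨Q, hQ⟩ hdim
  haveI : Algebra.Etale R T := Algebra.Etale.iff_isStandardSmoothOfRelativeDimension_zero.2 inferInstance
  haveI : Algebra.QuasiFinite R T := quasiFinite_of_etale R T
  have hu : ∀ y : Submonoid.powers P.jacobian, IsUnit (algebraMap S (Localization.AtPrime q) y) := fun y => by
    obtain ⟨k, hk⟩ := y.2
    rw [← hk, map_pow]
    exact (IsLocalization.map_units _ (⟨P.jacobian, hq⟩ : q.primeCompl)).pow k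
  let l : T →ₐ[S] Localization.AtPrime q := IsLocalization.liftAlgHom (M := Submonoid.powers P.jacobian)
    (f := Algebra.ofId S _) hu
  letI : Algebra T (Localization.AtPrime q) := l.toRingHom.toAlgebra
  haveI : IsScalarTower S T (Localization.AtPrime q) := IsScalarTower.of_algebraMap_eq fun x => (l.commutes x).symm
  haveI : IsScalarTower R T (Localization.AtPrime q) := IsScalarTower.to₁₃₄ R S T _
  haveI : IsLocalization (q.primeCompl.map (algebraMap S T)) (Localization.AtPrime q) :=
    IsLocalization.isLocalization_of_submonoid_le T (Localization.AtPrime q) (Submonoid.powers P.jacobian) q.primeCompl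
      (Submonoid.powers_le.2 hq)
  refine ⟨Algebra.QuasiFinite.of_isLocalization (R := R) (S := T) (q.primeCompl.map (algebraMap S T)), ?_⟩
  haveI : Algebra.FormallyEtale T (Localization.AtPrime q) :=
    Algebra.FormallyEtale.of_isLocalization (q.primeCompl.map (algebraMap S T))
  exact Algebra.FormallyEtale.comp R T (Localization.AtPrime q)

variable (n d : ℕ)

open scoped Classical in
/-- The specialisation at which the equations become the coordinates. -/
noncomputable def spec (p : Fin n × Synt.UnivIdx n d) : ℤ :=
  if p.2.exponent = Finsupp.single p.1 1 then 1 else 0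

/-- The evaluation. -/
noncomputable def evalPoint : MvPolynomial (Fin n) (Synt.UnivBase n d) →+* MvPolynomial (Fin n) ℤ :=
  MvPolynomial.map (MvPolynomial.eval (spec n d))

theorem evalPoint_univPoly (hd : 1 ≤ d) (i : Fin n) : evalPoint n d (Synt.univPoly n d i) = X i := by
  classical
  have hle : ∀ j : Fin n, ((Finsupp.single i 1 : Fin n →₀ ℕ) j) < d + 1 := fun j => by
    rw [Finsupp.single_apply]; split_ifs <;> omega
  let E₀ : Synt.UnivIdx n d := ⟨fun j => ⟨(Finsupp.single i 1 : Fin n →₀ ℕ) j, hle j⟩, by
    simp only [Finsupp.single_apply]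
    rw [Finset.sum_ite_eq Finset.univ i (fun _ => 1)]
    simp [hd]⟩
  have hE₀ : E₀.exponent = Finsupp.single i 1 := by
    ext j
    simp [Synt.UnivIdx.exponent, E₀]
  rw [Synt.univPoly, map_sum, Finset.sum_eq_single E₀]
  · simp [evalPoint, spec, hE₀, MvPolynomial.map_monomial]
    rfl
  · intro E _ hne
    have hne' : E.exponent ≠ Finsupp.single i 1 := fun h => hne (Subtype.ext (funext fun j => Fin.ext (by
      have := DFunLike.congr_fun (h.trans hE₀.symm) j
      simpa [Synt.UnivIdx.exponent] using this)))
    simp [evalPoint, spec, hne', MvPolynomial.map_monomial]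
  · simp

theorem exists_etale_point (hd : 1 ≤ d) :
    ∃ q : PrimeSpectrum (Synt.UnivAlg n d),
      Algebra.QuasiFiniteAt (Synt.UnivBase n d) q.asIdeal ∧ Algebra.IsEtaleAt (Synt.UnivBase n d) q.asIdeal := by
  classical
  let χ : MvPolynomial (Fin n) (Synt.UnivBase n d) →+* ℤ := (MvPolynomial.eval (0 : Fin n → ℤ)).comp (evalPoint n d)
  have hle : Synt.univIdeal n d ≤ RingHom.ker χ := Ideal.span_le.2 (by
    rintro _ ⟨i, rfl⟩
    simp [χ, evalPoint_univPoly n d hd])
  let χ' := Ideal.Quotient.lift (Synt.univIdeal n d) χ (fun a ha => hle ha)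
  haveI : (RingHom.ker χ').IsPrime := RingHom.ker_isPrime χ'
  have hdet : Ideal.Quotient.mk (Synt.univIdeal n d)
      (Matrix.det (Matrix.of fun i j => MvPolynomial.pderiv i (Synt.univPoly n d j))) ∉ RingHom.ker χ' := by
    rw [RingHom.mem_ker]
    show ¬ χ _ = 0
    rw [RingHom.map_det]
    have h1 : χ.mapMatrix (Matrix.of fun i j => MvPolynomial.pderiv i (Synt.univPoly n d j)) = 1 := by
      ext i j
      simp only [RingHom.mapMatrix_apply, Matrix.map_apply, Matrix.of_apply, χ, RingHom.comp_apply]
      rw [show evalPoint n d (pderiv i (Synt.univPoly n d j)) = pderiv i (evalPoint n d (Synt.univPoly n d j)) from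
        (MvPolynomial.pderiv_map).symm, evalPoint_univPoly n d hd, pderiv_X, Matrix.one_apply]
      rcases eq_or_ne i j with rfl | h
      · simp
      · simp [h, Pi.single_eq_of_ne h]
    rw [h1, Matrix.det_one]
    exact one_ne_zero
  exact ⟨⟨RingHom.ker χ', RingHom.ker_isPrime χ'⟩, @quasiFiniteAt_and_etaleAt _ _ n (Synt.univPoly n d) (RingHom.ker χ')
    (RingHom.ker_isPrime χ') hdet⟩

end Groth.Agent.Synt29.Univ
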