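import Mathlib
import Groth.Agent.Synt29.QRDescent
import Groth.Agent.KRegLib.Descend

/-!
Locally quasi-regular ideals descend along faithfully flat maps: the main argument.
-/

set_option autoImplicit false
set_option linter.style.haveILetI false
set_option backward.isDefEq.respectTransparency.types false

universe u

open TensorProduct Groth.Agent.KRegLib

namespace Groth.Agent.Synt29.QRDescent

/-- The core of faithfully flat descent. -/
theorem exists_qr_of_ff {A B : Type u} [CommRing A] [CommRing B] [Algebra A B] [Module.FaithfullyFlat A B]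
    {r : ℕ} (x : Fin r → A) (p : Ideal A) [p.IsPrime]
    (hind : ∀ u : Fin r → A, ∑ i, u i * x i = 0 → ∀ i, u i ∈ p) (hxp : ∀ i, x i ∈ p)
    (hK : ∀ Q : Ideal B, Q.IsPrime → (∀ i, algebraMap A B (x i) ∈ Q) →
      QRNear (Ideal.span (Set.range fun i => algebraMap A B (x i))) Q) :
    ∃ g : A, g ∉ p ∧ CAlgX.IsQuasiRegular fun i => algebraMap A (Localization.Away g) (x i) := by
  classical
  let al := algebraMap A B
  let y : Fin r → B := fun i => al (x i)
  let Good : PrimeSpectrum B → Prop := fun Q =>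
    ∃ G : B, G ∉ Q.asIdeal ∧ CAlgX.IsQuasiRegular fun i => algebraMap B (Localization.Away G) (y i)
  -- the coefficients of relations
  let C : Ideal A := Ideal.span {c | ∃ u : Fin r → A, ∑ i, u i * x i = 0 ∧ ∃ i, u i = c}
  have hCp : C ≤ p := Ideal.span_le.2 fun c ⟨u, hu, i, hi⟩ => hi ▸ hind u hu i
  let φ : (Fin r → A) →ₗ[A] A := Fintype.linearCombination A x
  have hrel : ∀ u : Fin r → B, ∑ i, u i * y i = 0 → ∀ i, u i ∈ C.map al := by
    intro u hu i
    refine Ideal.map_mono (Ideal.span_le.2 ?_) (coeff_mem_of_rel x u hu i)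
    rintro _ ⟨v, hv, rfl⟩
    exact Ideal.subset_span ⟨v, hv, i, rfl⟩
  have hy : ∀ {Q : PrimeSpectrum B}, (∀ i, y i ∈ Q.asIdeal) → (Good Q ↔ C.map al ≤ Q.asIdeal) := by
    intro Q hQ
    refine ⟨fun ⟨G, hG, hex⟩ => ?_, fun hC => ?_⟩
    · rw [Ideal.map_le_iff_le_comap]
      refine Ideal.span_le.2 fun c ⟨u, hu, i, hi⟩ => ?_
      subst hi
      have h1 := mem_of_rel hex (fun i => algebraMap B (Localization.Away G) (al (u i))) (by
        simp only [y, ← map_mul, ← map_sum, hu, map_zero]) i
      obtain ⟨hQ', hQc⟩ := exists_prime_of_away (Localization.Away G) Q.asIdeal hG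
      show al (u i) ∈ Q.asIdeal
      rw [← hQc]
      exact Ideal.span_le.2 (Set.range_subset_iff.2 fun j =>
        Ideal.mem_map_of_mem (algebraMap B (Localization.Away G)) (hQ j)) h1
    · exact exists_qr_nhd Q.asIdeal y hQ (hK Q.asIdeal Q.2 hQ) fun u hu i => hC (hrel u hu i)
  let bad : Set (PrimeSpectrum B) := {Q | (∀ i, y i ∈ Q.asIdeal) ∧ ¬ Good Q}
  have hbad : IsClosed bad := by
    rw [← isOpen_compl_iff]
    refine isOpen_iff_forall_mem_open.2 fun Q hQ => ?_
    by_cases hy' : ∀ i, y i ∈ Q.asIdeal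
    · obtain ⟨G, hG, hex⟩ := not_not.1 fun h => hQ ⟨hy', h⟩
      exact ⟨PrimeSpectrum.basicOpen G, fun Q' hQ' h' => h'.2 ⟨G, hQ', hex⟩, PrimeSpectrum.isOpen_basicOpen, hG⟩
    · push_neg at hy'
      obtain ⟨i, hi⟩ := hy'
      exact ⟨PrimeSpectrum.basicOpen (y i), fun Q' hQ' h' => hQ' (h'.1 i), PrimeSpectrum.isOpen_basicOpen, hi⟩
  have hst : StableUnderSpecialization (PrimeSpectrum.comap al '' bad) := by
    rintro a b hab ⟨Qa, hQa, rfl⟩
    rw [← PrimeSpectrum.le_iff_specializes] at hab
    obtain ⟨Qb, rfl⟩ := PrimeSpectrum.comap_surjective_of_faithfullyFlat (A := A) (B := B) b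
    haveI := Qb.2
    haveI : Qb.asIdeal.LiesOver (Qb.asIdeal.comap al) := ⟨rfl⟩
    obtain ⟨Q', hle, hQ', hover⟩ := Ideal.exists_ideal_le_liesOver_of_le Qb.asIdeal
      (p := (PrimeSpectrum.comap al Qa).asIdeal) (q := Qb.asIdeal.comap al) hab
    haveI := hQ'
    have hc : Q'.comap al = Qa.asIdeal.comap al := hover.over.symm
    have hyQ' : ∀ i, y i ∈ Q' := fun i => by
      show x i ∈ Q'.comap al
      rw [hc]
      exact hQa.1 i
    refine ⟨Qb, ⟨fun i => hle (hyQ' i), fun hgood => hQa.2 ?_⟩, rfl⟩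
    have hQ'good : Good ⟨Q', hQ'⟩ := by
      obtain ⟨G, hG, hex⟩ := hgood
      exact ⟨G, fun h => hG (hle h), hex⟩
    rw [hy hyQ', Ideal.map_le_iff_le_comap] at hQ'good
    rw [hy hQa.1, Ideal.map_le_iff_le_comap, ← hc]
    exact hQ'good
  have hcl := PrimeSpectrum.isClosed_image_of_stableUnderSpecialization al bad hbad hst
  have hp : (⟨p, inferInstance⟩ : PrimeSpectrum A) ∉ PrimeSpectrum.comap al '' bad := by
    rintro ⟨Q, hQ, hQp⟩
    have hQp' : Q.asIdeal.comap al = p := congrArg PrimeSpectrum.asIdeal hQp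
    refine hQ.2 ((hy hQ.1).2 ?_)
    rw [Ideal.map_le_iff_le_comap, hQp']
    exact hCp
  obtain ⟨_, ⟨_, ⟨g, rfl⟩, rfl⟩, hgp, hg⟩ :=
    PrimeSpectrum.isBasis_basic_opens.exists_subset_of_mem_open hp hcl.isOpen_compl
  refine ⟨g, hgp, ?_⟩
  let T := Localization.Away g
  let B' := T ⊗[A] B
  letI : Algebra B B' := Algebra.TensorProduct.rightAlgebra
  haveI : Module.Flat B B' := Module.Flat.isBaseChange A B T B' (Algebra.IsPushout.out (R := A) (S := B) (R' := T) (S' := B'))
  refine qr_of_faithfullyFlat (S := B') (qr_of_forall_away fun Q' _ => ?_)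
  have hcm : ∀ a : A, algebraMap T B' (algebraMap A T a) = algebraMap B B' (al a) := fun a => by
    rw [← IsScalarTower.algebraMap_apply A T B', ← IsScalarTower.algebraMap_apply A B B']
  let Q : PrimeSpectrum B := ⟨Q'.comap (algebraMap B B'), inferInstance⟩
  by_cases hyQ : ∀ i, y i ∈ Q.asIdeal
  · have hgQ : al g ∉ Q.asIdeal := fun h => by
      have : IsUnit (algebraMap T B' (algebraMap A T g)) := (IsLocalization.Away.algebraMap_isUnit g).map _
      rw [hcm] at this
      exact (inferInstance : Q'.IsPrime).ne_top (Ideal.eq_top_of_isUnit_mem _ h this)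
    have hnb : Q ∉ bad := fun hb => hg (show PrimeSpectrum.comap al Q ∈ _ from hgQ) ⟨Q, hb, rfl⟩
    obtain ⟨G, hG, hex⟩ := not_not.1 fun h => hnb ⟨hyQ, h⟩
    let G' := algebraMap B B' G
    let T' := Localization.Away G'
    haveI : Module.Flat B T' := Module.Flat.trans B B' T'
    have hu : IsUnit (algebraMap B T' G) := by
      rw [IsScalarTower.algebraMap_apply B B' T']
      exact IsLocalization.Away.algebraMap_isUnit G'
    letI : Algebra (Localization.Away G) T' := (IsLocalization.Away.lift G hu).toAlgebra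
    haveI : IsScalarTower B (Localization.Away G) T' := IsScalarTower.of_algebraMap_eq fun x => by
      rw [RingHom.algebraMap_toAlgebra, IsLocalization.Away.lift_eq]
    haveI : Module.Flat (Localization.Away G) T' :=
      (Module.flat_iff_of_isLocalization (Localization.Away G) (Submonoid.powers G) T').2 inferInstance
    have hex' := qr_flat (S := T') hex
    simp only [← IsScalarTower.algebraMap_apply B (Localization.Away G) T'] at hex'
    refine ⟨G', hG, ?_⟩
    have he : (fun i => algebraMap B' T' (algebraMap T B' (algebraMap A T (x i)))) = fun i => algebraMap B T' (y i) :=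
      funext fun i => by rw [hcm, ← IsScalarTower.algebraMap_apply B B' T']
    rw [he]
    exact hex'
  · push_neg at hyQ
    obtain ⟨i, hi⟩ := hyQ
    let G' := algebraMap B B' (y i)
    refine ⟨G', hi, qr_of_span_eq_top (Ideal.eq_top_of_isUnit_mem _ (Ideal.subset_span ⟨i, rfl⟩) ?_)⟩
    show IsUnit (algebraMap B' (Localization.Away G') (algebraMap T B' (algebraMap A T (x i))))
    rw [show algebraMap T B' (algebraMap A T (x i)) = G' from hcm (x i)]
    exact IsLocalization.Away.algebraMap_isUnit G'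

/-- An ideal whose extension to a faithfully flat algebra is locally quasi-regular is locally quasi-regular. -/
theorem isLocallyQuasiRegular_of_faithfullyFlat {A B : Type u} [CommRing A] [CommRing B] [Algebra A B]
    [Module.FaithfullyFlat A B] (I : Ideal A) (hK : PP16.IsLocallyQuasiRegular B (I.map (algebraMap A B))) :
    PP16.IsLocallyQuasiRegular A I := by
  classical
  have hfg : I.FG := Ideal.FG.of_FG_map_of_faithfullyFlat (S := B) (fg_of_isLocallyQuasiRegular _ hK)
  intro p hp hIp
  haveI := hp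
  let A' := Localization.AtPrime p
  obtain ⟨n₀, z, hz⟩ := Submodule.fg_iff_exists_fin_generating_family.1 hfg
  have hexgen : ∃ r, ∃ x : Fin r → A, (∀ i, x i ∈ I) ∧
      ∃ g : A, g ∉ p ∧ ∀ a ∈ I, g * a ∈ Ideal.span (Set.range x) :=
    ⟨n₀, z, fun i => hz ▸ Submodule.subset_span ⟨i, rfl⟩, 1, p.one_notMem,
      fun a ha => by rw [one_mul]; exact hz.ge ha⟩
  obtain ⟨r, ⟨x, hxI, g, hg, hgx⟩, hmin⟩ : ∃ r, (∃ x : Fin r → A, (∀ i, x i ∈ I) ∧
      ∃ g : A, g ∉ p ∧ ∀ a ∈ I, g * a ∈ Ideal.span (Set.range x)) ∧ ∀ r' < r, ¬ ∃ x : Fin r' → A, (∀ i, x i ∈ I) ∧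
      ∃ g : A, g ∉ p ∧ ∀ a ∈ I, g * a ∈ Ideal.span (Set.range x) :=
    ⟨Nat.find hexgen, Nat.find_spec hexgen, fun r' h => Nat.find_min hexgen h⟩
  have hind : ∀ u : Fin r → A, ∑ i, u i * x i = 0 → ∀ i, u i ∈ p := by
    intro u hu i
    by_contra hi
    obtain ⟨r', rfl⟩ : ∃ r', r = r' + 1 := ⟨r - 1, by have := i.2; omega⟩
    refine hmin r' (by omega) ⟨fun j => x (i.succAbove j), fun j => hxI _, u i * g,
      fun h => (hp.mem_or_mem h).elim hi hg, fun a ha => ?_⟩
    obtain ⟨v, hv⟩ := Ideal.mem_span_range_iff_exists_fun.1 (hgx a ha)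
    rw [mul_assoc, ← hv, Finset.mul_sum]
    refine Ideal.sum_mem _ fun j _ => ?_
    by_cases hj : j = i
    · subst hj
      rw [← Finset.add_sum_erase _ _ (Finset.mem_univ j)] at hu
      rw [mul_left_comm, eq_neg_of_add_eq_zero_left hu]
      refine Ideal.mul_mem_left _ _ (neg_mem (Ideal.sum_mem _ fun k hk => ?_))
      obtain ⟨m, rfl⟩ := Fin.exists_succAbove_eq (Finset.ne_of_mem_erase hk)
      exact Ideal.mul_mem_left _ _ (Ideal.subset_span ⟨m, rfl⟩)
    · obtain ⟨m, rfl⟩ := Fin.exists_succAbove_eq hj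
      exact Ideal.mul_mem_left _ _ (Ideal.mul_mem_left _ _ (Ideal.subset_span ⟨m, rfl⟩))
  let T := Localization.Away g
  let B' := T ⊗[A] B
  letI : Algebra B B' := Algebra.TensorProduct.rightAlgebra
  haveI : Module.Flat B B' := Module.Flat.isBaseChange A B T B' (Algebra.IsPushout.out (R := A) (S := B) (R' := T) (S' := B'))
  let xT : Fin r → T := fun i => algebraMap A T (x i)
  have hspan : Ideal.span (Set.range xT) = I.map (algebraMap A T) := by
    refine le_antisymm (Ideal.span_le.2 (Set.range_subset_iff.2 fun i => Ideal.mem_map_of_mem _ (hxI i)))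
      (Ideal.map_le_iff_le_comap.2 fun a ha => ?_)
    rw [Ideal.mem_comap, ← Ideal.unit_mul_mem_iff_mem _ (IsLocalization.Away.algebraMap_isUnit (S := T) g), ← map_mul]
    have := Ideal.mem_map_of_mem (algebraMap A T) (hgx a ha)
    rwa [Ideal.map_span, ← Set.range_comp] at this
  have hB' : Ideal.span (Set.range fun i => algebraMap T B' (xT i)) =
      (I.map (algebraMap A B)).map (algebraMap B B') := by
    have h1 : Ideal.span (Set.range fun i => algebraMap T B' (xT i)) =
        (Ideal.span (Set.range xT)).map (algebraMap T B') := by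
      rw [Ideal.map_span, ← Set.range_comp]
      rfl
    rw [h1, hspan, Ideal.map_map, Ideal.map_map, ← IsScalarTower.algebraMap_eq A T B',
      ← IsScalarTower.algebraMap_eq A B B']
  obtain ⟨hpT, hpc⟩ := exists_prime_of_away T p hg
  let pT := p.map (algebraMap A T)
  obtain ⟨h, hh, hex⟩ := exists_qr_of_ff (A := T) (B := B') xT pT (fun u hu i => by
      obtain ⟨s, hs⟩ := IsLocalization.exist_integer_multiples_of_finite (Submonoid.powers g) u
      choose v hv using hs
      have h1 : algebraMap A T (∑ j, v j * x j) = 0 := by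
        rw [map_sum, ← mul_zero (algebraMap A T s), ← hu, Finset.mul_sum]
        exact Finset.sum_congr rfl fun j _ => by rw [map_mul, hv, Algebra.smul_def, mul_assoc]
      obtain ⟨⟨s', hs'⟩, hs0⟩ := (IsLocalization.map_eq_zero_iff (Submonoid.powers g) T _).1 h1
      have hv' := hind (fun j => s' * v j) (by simpa only [Finset.mul_sum, mul_assoc] using hs0) i
      have hnot : s' ∉ p := by
        obtain ⟨k, rfl⟩ := hs'
        exact fun hk => hg (hp.mem_of_pow_mem k hk)
      have h2 : algebraMap A T (v i) ∈ pT := Ideal.mem_map_of_mem _ ((hp.mem_or_mem hv').resolve_left hnot)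
      rwa [hv, Algebra.smul_def, Ideal.unit_mul_mem_iff_mem _ (IsLocalization.map_units T s)] at h2)
    (fun i => Ideal.mem_map_of_mem _ (hIp (hxI i))) (fun Q hQ hxQ => by
      haveI := hQ
      rw [hB']
      have hle : I.map (algebraMap A B) ≤ Q.comap (algebraMap B B') := by
        rw [← Ideal.map_le_iff_le_comap, ← hB']
        exact Ideal.span_le.2 (Set.range_subset_iff.2 hxQ)
      obtain ⟨g₀, hg₀, hon⟩ := QRNear.exists_on (hK (Q.comap (algebraMap B B')) hle)
      let T₀ := Localization.Away (algebraMap B B' g₀)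
      haveI : Module.Flat B T₀ := Module.Flat.trans B B' T₀
      obtain ⟨r₀, f₀, hf₀, hI₀⟩ := hon T₀ (by
        rw [IsScalarTower.algebraMap_apply B B' T₀]
        exact IsLocalization.Away.algebraMap_isUnit (algebraMap B B' g₀))
      refine ⟨algebraMap B B' g₀, hg₀, r₀, f₀, hf₀, ?_⟩
      rw [hI₀, IsScalarTower.algebraMap_eq B B' T₀, ← Ideal.map_map])
  let T' := Localization.Away h
  obtain ⟨G, hG, hGT⟩ := Groth.Agent.KRegLib.exists_away_away T p hg h hh T'
  haveI := hGT
  let eq : T' ≃ₐ[A] Localization.Away G := IsLocalization.algEquiv (Submonoid.powers G) _ _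
  letI : Algebra T' (Localization.Away G) := eq.toAlgHom.toRingHom.toAlgebra
  haveI : Module.Flat T' (Localization.Away G) := RingHom.Flat.of_bijective (f := eq.toAlgHom.toRingHom) eq.bijective
  refine ⟨G, hG, r, fun i => algebraMap T' (Localization.Away G) (algebraMap T T' (xT i)), qr_flat hex, ?_⟩
  rw [← map_span_range (fun i => algebraMap T T' (xT i)), ← map_span_range xT, hspan, Ideal.map_map,
    Ideal.map_map, RingHom.comp_assoc, ← IsScalarTower.algebraMap_eq A T T']
  congr 1
  exact RingHom.ext fun x => eq.commutes x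

end Groth.Agent.Synt29.QRDescent
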