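import Groth.Agent.Synt29.OmegaAffine
import Groth.Agent.OmegaLib.AffineHom

/-! Extending derivations from the global functions of an affine scheme. -/

set_option autoImplicit false

universe u

open CategoryTheory CategoryTheory.Limits AlgebraicGeometry TopologicalSpace Opposite

namespace Groth.Agent.Synt29.OmegaStalk

variable {X S : Scheme.{u}} [IsAffine X] [IsAffine S]

lemma globLocalized_of_isQCoh {M : X.Modules} (hM : Coh.IsQCoh M) :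
    OmegaLib.GlobLocalized M := fun r =>
  ⟨fun k => by
    obtain ⟨n, t, ht⟩ := QCoh.exists_pow_smul_eq_map hM (isAffineOpen_top X) r k
    exact ⟨n, t, ht.symm⟩,
  fun k hk => QCoh.exists_pow_smul_eq_zero hM (isAffineOpen_top X) r k hk⟩

lemma isoSpec_inv_appTop_apply (b : Γ(X, ⊤)) :
    X.isoSpec.inv.app ⊤ b = OmAff.toΓ Γ(X, ⊤) b := by
  have h : X.isoSpec.inv.appTop = (Scheme.ΓSpecIso Γ(X, ⊤)).inv := by
    rw [← Iso.comp_hom_eq_id, ← Scheme.toSpecΓ_appTop X, show X.toSpecΓ = X.isoSpec.hom from rfl,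
      ← Scheme.Hom.comp_appTop, Iso.hom_inv_id, Scheme.Hom.id_appTop]
  exact congr($h b)

theorem exists_der_of_top (f : X ⟶ S) (F : X.Modules) (δ : Γ(X, ⊤) →+ Γ(F, ⊤))
    (hmul : ∀ a b : Γ(X, ⊤), δ (a * b) = a • δ b + b • δ a)
    (hbase : ∀ c : Γ(S, ⊤), δ (f.appTop c) = 0) :
    ∃ D : OmegaSh.Der f F, D.app ⊤ = δ := by
  let _ := f.appTop.hom.toAlgebra
  have hsq : X.isoSpec.inv ≫ f = OmegaLib.sMap Γ(S, ⊤) Γ(X, ⊤) ≫ S.isoSpec.inv :=
    (Scheme.isoSpec_inv_naturality f).symm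
  let P := Omega.sheaf (OmegaLib.sMap Γ(S, ⊤) Γ(X, ⊤))
  let d : OmegaSh.Der f ((Scheme.Modules.pushforward X.isoSpec.inv).obj P) :=
    pushDer X.isoSpec.inv (derOfOpen (X.isoSpec.inv ≫ f) _ S.isoSpec.inv hsq
      (OmegaSh.dOmega (OmegaLib.sMap Γ(S, ⊤) Γ(X, ⊤))))
  obtain ⟨e, he⟩ := OmegaLib.exists_iso_kTilde Γ(S, ⊤) Γ(X, ⊤)
  have hq : Coh.IsQCoh P := (QCoh.isQCoh_iff_iso e).2
    (inferInstanceAs (SheafOfModules.IsQuasicoherent (R := (Spec Γ(X, ⊤)).ringCatSheaf) (tilde _)))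
  have hQ := globLocalized_of_isQCoh (QCoh.isQCoh_pushforward X.isoSpec.inv hq)
  -- the linear map
  let _ : Module Γ(S, ⊤) Γ(F, ⊤) := Module.compHom _ (algebraMap Γ(S, ⊤) Γ(X, ⊤))
  have : IsScalarTower Γ(S, ⊤) Γ(X, ⊤) Γ(F, ⊤) := IsScalarTower.of_algebraMap_smul fun _ _ => rfl
  let δ' : Derivation Γ(S, ⊤) Γ(X, ⊤) Γ(F, ⊤) :=
    Derivation.mk'
      { toFun := δ
        map_add' := map_add δ
        map_smul' := fun a b => by
          show δ (a • b) = f.appTop a • δ b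
          rw [Algebra.smul_def]
          show δ (f.appTop a * b) = _
          rw [hmul, hbase, smul_zero, add_zero] }
      fun a b => hmul a b
  have hbij := ConcreteCategory.bijective_of_isIso (e.hom.app (⊤ : (Spec Γ(X, ⊤)).Opens))
  let t : Ω[Γ(X, ⊤)⁄Γ(S, ⊤)] ≃+ Γ(OmegaLib.kTilde Γ(S, ⊤) Γ(X, ⊤), ⊤) :=
    AddEquiv.ofBijective _ (top_toTop_bijective Γ(S, ⊤) Γ(X, ⊤))
  let ψ : Γ((Scheme.Modules.pushforward X.isoSpec.inv).obj P, ⊤) →+ Γ(F, ⊤) :=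
    (δ'.liftKaehlerDifferential.toAddMonoidHom).comp
      (t.symm.toAddMonoidHom.comp (e.hom.app (⊤ : (Spec Γ(X, ⊤)).Opens)).hom)
  have hψ : ∀ (r : Γ(X, ⊤)) k, ψ (r • k) = r • ψ k := by
    intro r k
    obtain ⟨z, hz⟩ := (top_toTop_bijective Γ(S, ⊤) Γ(X, ⊤)).2
      (e.hom.app (⊤ : (Spec Γ(X, ⊤)).Opens) k)
    have h1 : e.hom.app (⊤ : (Spec Γ(X, ⊤)).Opens) (r • k) =
        OmegaLib.toTop Γ(S, ⊤) Γ(X, ⊤) (r • z) := by
      rw [OmegaLib.toTop_smul, hz, ← isoSpec_inv_appTop_apply]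
      exact Scheme.Modules.Hom.app_smul e.hom (X.isoSpec.inv.app ⊤ r) k
    show δ'.liftKaehlerDifferential (t.symm (e.hom.app (⊤ : (Spec Γ(X, ⊤)).Opens) (r • k))) =
      r • δ'.liftKaehlerDifferential (t.symm (e.hom.app (⊤ : (Spec Γ(X, ⊤)).Opens) k))
    rw [h1, show t.symm (OmegaLib.toTop _ _ (r • z)) = r • z from t.symm_apply_apply (r • z), ← hz,
      show t.symm (OmegaLib.toTop _ _ z) = z from t.symm_apply_apply z, map_smul]
  obtain ⟨φ, hφ⟩ := OmegaLib.exists_hom_of_affine hQ ψ hψ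
  refine ⟨d.postcomp φ.val, AddMonoidHom.ext fun b => ?_⟩
  show φ.app ⊤ (d.app ⊤ b) = δ b
  rw [hφ]
  show δ'.liftKaehlerDifferential (t.symm (e.hom.app (⊤ : (Spec Γ(X, ⊤)).Opens)
    (OmegaSh.dSect (OmegaLib.sMap Γ(S, ⊤) Γ(X, ⊤)) ⊤ (X.isoSpec.inv.app ⊤ b)))) = δ b
  rw [isoSpec_inv_appTop_apply, he, show t.symm (OmegaLib.toTop _ _ _) = _ from t.symm_apply_apply _]
  exact δ'.liftKaehlerDifferential_comp_D b

end Groth.Agent.Synt29.OmegaStalk
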