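import Mathlib
import Groth.Agent.Synt29.FieldMor
import Groth.Agent.Synt29.CIBaseChange

/-!
# Complete intersection points of fibres and base change
-/

universe u

open AlgebraicGeometry CategoryTheory CategoryTheory.Limits

set_option linter.style.haveILetI false
set_option backward.isDefEq.respectTransparency.types false

namespace Groth.Agent.Synt29

theorem isCIOver_stalk_iff_of_isPullback {K L : Type u} [Field K] [Field L]
    (φ : CommRingCat.of K ⟶ CommRingCat.of L) {Z Z' : Scheme.{u}} (p : Z ⟶ Spec (CommRingCat.of K))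
    (p' : Z' ⟶ Spec (CommRingCat.of L)) (m : Z' ⟶ Z) (h : IsPullback m p' p (Spec.map φ))
    (hp : LocallyOfFiniteType p) (z' : Z') :
    (letI := (stalkHom L p' z').toAlgebra; Synt.IsCIOver L (Z'.presheaf.stalk z')) ↔
      (letI := (stalkHom K p (m z')).toAlgebra; Synt.IsCIOver K (Z.presheaf.stalk (m z'))) := by
  haveI : IsAffineHom m := MorphismProperty.of_isPullback (P := @IsAffineHom) h.flip inferInstance
  obtain ⟨W, hW, hzW, -⟩ := exists_isAffineOpen_mem_and_subset (U := ⊤) (x := m z') trivial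
  let W' : Z'.Opens := m ⁻¹ᵁ W
  have hW' : IsAffineOpen W' := hW.preimage m
  have hUY : W' = m ⁻¹ᵁ W ⊓ p' ⁻¹ᵁ ⊤ := by simp [W']
  have hpo := (isIso_pushoutSection_iff h (US := ⊤) (UT := ⊤) (UX := W) le_top le_top hUY).1
    (isIso_pushoutSection_of_isAffineOpen h le_top le_top hUY (isAffineOpen_top _) (isAffineOpen_top _) hW)
  let eK := Scheme.ΓSpecIso (CommRingCat.of K)
  let eL := Scheme.ΓSpecIso (CommRingCat.of L)
  have hφ : (Spec.map φ).appLE ⊤ ⊤ le_top ≫ eL.hom = eK.hom ≫ φ := by
    rw [← Scheme.ΓSpecIso_naturality φ]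
    congr 1
  have hpo' : IsPushout (CommRingCat.ofHom (secHom K p W)) φ (m.appLE W W' le_rfl) (CommRingCat.ofHom (secHom L p' W')) := by
    refine hpo.of_iso eK (Iso.refl _) eL (Iso.refl _) ?_ ?_ ?_ ?_
    · simp [secHom, eK]
    · exact hφ
    · simp
    · simp [secHom, eL]
  letI := φ.hom.toAlgebra
  letI := (secHom K p W).toAlgebra
  letI := (secHom L p' W').toAlgebra
  letI := (m.appLE W W' le_rfl).hom.toAlgebra
  letI : Algebra K Γ(Z', W') := ((secHom L p' W').comp φ.hom).toAlgebra
  haveI : IsScalarTower K L Γ(Z', W') := IsScalarTower.of_algebraMap_eq fun _ => rfl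
  haveI : IsScalarTower K Γ(Z, W) Γ(Z', W') := IsScalarTower.of_algebraMap_eq fun a =>
    (RingHom.congr_fun (congrArg CommRingCat.Hom.hom hpo'.w) a).symm
  haveI : Algebra.FiniteType K Γ(Z, W) := finiteType_secHom K p ⟨W, hW⟩
  haveI : Algebra.IsPushout K L Γ(Z, W) Γ(Z', W') := CommRingCat.isPushout_iff_isPushout.1 hpo'.flip
  rw [isCIOver_stalk_iff L p' ⟨W', hW'⟩ z' hzW, isCIOver_stalk_iff K p ⟨W, hW⟩ (m z') hzW]
  exact isCIOver_atPrime_iff_of_isPushout _ _
    (congrArg PrimeSpectrum.asIdeal (IsAffineOpen.comap_primeIdealOf_appLE W hW W' hW' le_rfl hzW))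

theorem isCIOver_fiber_iff {X S X' S' : Scheme.{u}} (f : X ⟶ S) [LocallyOfFiniteType f] (g : S' ⟶ S)
    (g' : X' ⟶ X) (f' : X' ⟶ S') (hsq : IsPullback g' f' f g) (x' : X') :
    (letI := (stalkHom (S'.residueField (f' x')) (f'.fiberToSpecResidueField (f' x')) (f'.asFiber x')).toAlgebra; Synt.IsCIOver (S'.residueField (f' x')) ((f'.fiber (f' x')).presheaf.stalk (f'.asFiber x'))) ↔
    (letI := (stalkHom (S.residueField (f (g' x'))) (f.fiberToSpecResidueField (f (g' x'))) (f.asFiber (g' x'))).toAlgebra; Synt.IsCIOver (S.residueField (f (g' x'))) ((f.fiber (f (g' x'))).presheaf.stalk (f.asFiber (g' x')))) := by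
  have key : ∀ (s : S) (z : f.fiber s), f (g' x') = s → f.fiberι s z = g' x' →
      ((letI := (stalkHom (S.residueField s) (f.fiberToSpecResidueField s) z).toAlgebra; Synt.IsCIOver (S.residueField s) ((f.fiber s).presheaf.stalk z)) ↔
      (letI := (stalkHom (S.residueField (f (g' x'))) (f.fiberToSpecResidueField (f (g' x'))) (f.asFiber (g' x'))).toAlgebra; Synt.IsCIOver (S.residueField (f (g' x'))) ((f.fiber (f (g' x'))).presheaf.stalk (f.asFiber (g' x'))))) := by
    intro s z hs hz
    subst hs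
    obtain rfl : z = f.asFiber (g' x') := (f.fiberι _).isEmbedding.injective (hz.trans (f.fiberι_asFiber _).symm)
    exact Iff.rfl
  have hp : LocallyOfFiniteType (f.fiberToSpecResidueField (g (f' x'))) :=
    MorphismProperty.pullback_snd _ _ inferInstance
  refine (isCIOver_stalk_iff_of_isPullback (g.residueFieldMap (f' x')) (f.fiberToSpecResidueField (g (f' x')))
    (f'.fiberToSpecResidueField (f' x')) _ (isPullback_fiberToSpecResidueField_of_isPullback hsq (f' x'))
    hp (f'.asFiber x')).trans ?_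
  refine key _ _ ?_ ?_
  · rw [← Scheme.Hom.comp_apply, hsq.w, Scheme.Hom.comp_apply]
  · unfold Scheme.Hom.fiberι
    refine ((Scheme.Hom.comp_apply _ _ _).symm.trans (congrArg (fun φ : f'.fiber (f' x') ⟶ X => φ (f'.asFiber x')) (pullback.lift_fst _ _ _))).trans ?_
    exact (Scheme.Hom.comp_apply _ _ _).trans (congrArg g' (f'.fiberι_asFiber x'))

end Groth.Agent.Synt29
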