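import Groth.Agent.H26.LefFEt.Clopen
import Mathlib.AlgebraicGeometry.Morphisms.FlatRank

/-!
# Finite locally free covers étale near `V(𝓘)` are étale everywhere

If sections of finite locally free modules are determined by the formal completion along `V(𝓘)`, then every
clopen subset of a finite locally free cover meets the preimage of `V(𝓘)`; so the clopen part of the square
extending the diagonal is the diagonal.
-/

noncomputable section

set_option autoImplicit false
set_option linter.style.haveILetI false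
set_option maxHeartbeats 400000
set_option backward.isDefEq.respectTransparency false
set_option backward.isDefEq.respectTransparency.types false

universe u

open CategoryTheory CategoryTheory.Limits AlgebraicGeometry TopologicalSpace Opposite

namespace Groth.Agent.Synt29.EtGlobal

open Groth.Agent Groth.Agent.H26 Groth.Agent.H26.LefFEt
open Groth.Agent.H9Misc.LocFreeHomTensor (tenHomIso isFinLocFree_dual)
open Groth.Agent.SheafHomY

variable {W X : Scheme.{u}} (f : W ⟶ X)

theorem gb_of_hb_flat [IsLocallyNoetherian X] [IsFinite f] [Flat f] [LocallyOfFinitePresentation f] (𝓘 : X.IdealSheafData)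
    (h : ∀ D : X.Modules, FlatMod.IsFinLocFree D → Lef.HomToFormalBijective 𝓘 D) : GB 𝓘 f := by
  obtain ⟨hinj, hsurj⟩ := h _ (isFinLocFree_dual (isFinLocFree_A f))
  haveI := isIso_Phi_structure f
  haveI hPhi : ∀ n, IsIso ((Phi f).app (ClSub.quotMod (𝓘 ^ (n + 1)))) := fun n =>
    haveI := CurvePoint.epi_toSubscheme (𝓘 ^ (n + 1))
    isIso_Phi_of_epi f (LogNCD2.isQCoh_quotMod _) (ClSub.toSubscheme (𝓘 ^ (n + 1)))
  have hbO := bijective_Theta f (Coh.structureModule X)
  have key : ∀ (φ : dual (A f) ⟶ Coh.structureModule X) (n : ℕ),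
      Theta f _ (φ ≫ ClSub.toSubscheme (𝓘 ^ (n + 1))) ≫ cMap f (𝓘 ^ (n + 1)) =
        (Theta f _ φ ≫ (uIso f).hom) ≫ ClSub.toSubscheme (thick 𝓘 f n) := fun φ n => by
    rw [Theta_naturality, Category.assoc, Category.assoc, pullback_toSub_cMap]
  have red : ∀ (a : Coh.structureModule W ⟶ Coh.structureModule W) (n : ℕ),
      (a ≫ ClSub.toSubscheme (thick 𝓘 f n)).app ⊤ (1 : Γ(W, ⊤)) =
        (thick 𝓘 f n).subschemeι.app ⊤ (show Γ(W, ⊤) from a.app ⊤ (1 : Γ(W, ⊤))) := fun a n => rfl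
  refine ⟨fun t t' htt => ?_, fun z hz => ?_⟩
  · obtain ⟨φ, hφ⟩ := hbO.2 (QCoh.homOfTop (P := Coh.structureModule W) t ≫ (uIso f).inv)
    obtain ⟨φ', hφ'⟩ := hbO.2 (QCoh.homOfTop (P := Coh.structureModule W) t' ≫ (uIso f).inv)
    have : φ = φ' := hinj φ φ' fun n => (bijective_Theta f _).1 <| by
      rw [← cancel_mono (cMap f (𝓘 ^ (n + 1))), key, key, hφ, hφ']
      simp only [Category.assoc, Iso.inv_hom_id_assoc]
      refine LefIdem.hom_ext_one _ _ ?_
      rw [red, red, LefIdem.app_homOfTop, LefIdem.app_homOfTop]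
      exact htt n
    subst this
    have h2 := (cancel_mono (uIso f).inv).1 (hφ.symm.trans hφ')
    exact (LefIdem.app_homOfTop (P := Coh.structureModule W) t).symm.trans
      ((congrArg (fun a => a.app ⊤ (1 : Γ(W, ⊤))) h2).trans (LefIdem.app_homOfTop (P := Coh.structureModule W) t'))
  · let zz : ∀ n, Coh.structureModule W ⟶ ClSub.quotMod (thick 𝓘 f n) := fun n =>
      QCoh.homOfTop (P := ClSub.quotMod (thick 𝓘 f n)) (z n)
    choose y hy using fun n => (bijective_Theta f (ClSub.quotMod (𝓘 ^ (n + 1)))).2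
      (zz n ≫ inv (cMap f (𝓘 ^ (n + 1))))
    have hzz : ∀ n, zz (n + 1) ≫ Lef.quotMap (thick_le 𝓘 f n) = zz n := fun n =>
      homOfTop_quotMap (thick_le 𝓘 f n) (z (n + 1)) (z n) (hz n)
    obtain ⟨φ, hφ⟩ := hsurj y fun n => (bijective_Theta f _).1 <| by
      rw [Theta_naturality, hy, hy, ← cancel_mono (cMap f (𝓘 ^ (n + 1))), Category.assoc, Category.assoc,
        pullback_quotMap_cMap f _ (thick_le 𝓘 f n), IsIso.inv_hom_id_assoc, hzz, Category.assoc,
        IsIso.inv_hom_id, Category.comp_id]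
    refine ⟨(Theta f _ φ ≫ (uIso f).hom).app ⊤ (1 : Γ(W, ⊤)), fun n => ?_⟩
    rw [← red, ← key, hφ, hy, Category.assoc, IsIso.inv_hom_id, Category.comp_id]
    exact LefIdem.app_homOfTop (P := ClSub.quotMod (thick 𝓘 f n)) (z n)


variable [IsLocallyNoetherian X] {𝓘 : X.IdealSheafData}

/-- Clopen subsets of finite locally free covers meet the preimage of `V(𝓘)`. -/
theorem eq_empty_of_isClopen (hb : ∀ D : X.Modules, FlatMod.IsFinLocFree D → Lef.HomToFormalBijective 𝓘 D)
    [IsFinite f] [Flat f] [LocallyOfFinitePresentation f] {C : Set W} (hC : IsClopen C)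
    (h : ∀ z ∈ C, f z ∉ (𝓘.support : Set X)) : C = ∅ := by
  by_contra hne
  obtain ⟨x, ⟨z, hz, rfl⟩, hx⟩ := inter_range_nonempty 𝓘 (gb_of_hb_flat (𝟙 X) 𝓘 hb) (f.base '' C)
    ⟨f.isClosedMap _ hC.1, f.isOpenMap _ hC.2⟩ ((Set.nonempty_iff_ne_empty.2 hne).image _)
  exact h z hz (𝓘.range_subschemeι.le hx)

/-- A finite locally free cover étale over a neighbourhood of `V(𝓘)` is étale. -/
theorem etale_of_etale_nhd (hb : ∀ D : X.Modules, FlatMod.IsFinLocFree D → Lef.HomToFormalBijective 𝓘 D)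
    [IsFinite f] [Flat f] [LocallyOfFinitePresentation f] (V : X.Opens) (hV : (𝓘.support : Set X) ⊆ V)
    (he : Etale (f ∣_ V)) : Etale f := by
  let P := pullback f f
  let p₁ : P ⟶ W := pullback.fst f f
  let g : P ⟶ X := p₁ ≫ f
  let Δ : W ⟶ P := pullback.diagonal f
  have hΔg : ∀ w : W, g (Δ w) = f w := fun w => by
    show (Δ ≫ p₁ ≫ f) w = f w
    simp [Δ, p₁]
  let O : W.Opens := f ⁻¹ᵁ V
  haveI : Etale (O.ι ≫ f) := by
    haveI := he
    show Etale ((f ⁻¹ᵁ V).ι ≫ f)
    rw [← morphismRestrict_ι]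
    infer_instance
  haveI hΔO : IsOpenImmersion (O.ι ≫ Δ) := by
    have e : O.ι ≫ Δ = pullback.diagonal (O.ι ≫ f) ≫
        pullback.map (O.ι ≫ f) (O.ι ≫ f) f f O.ι O.ι (𝟙 X) (by simp) (by simp) := by
      apply pullback.hom_ext <;> simp [Δ]
    rw [e]
    infer_instance
  -- the clopen extending the diagonal
  let j := pullback.fst g 𝓘.subschemeι
  have hj : ∀ z, g (j z) ∈ (𝓘.support : Set X) := fun z => by
    have : j z ∈ g.base ⁻¹' (𝓘.support : Set X) := range_fst_pullback 𝓘 g ▸ ⟨z, rfl⟩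
    exact this
  have hC : IsClopen (j.base ⁻¹' Set.range Δ.base) := by
    refine ⟨Δ.isClosedEmbedding.isClosed_range.preimage j.continuous, ?_⟩
    have e : j.base ⁻¹' Set.range Δ.base = j.base ⁻¹' Set.range (O.ι ≫ Δ).base := by
      ext z
      constructor
      · rintro ⟨w, hw⟩
        have hwV : w ∈ O := by
          show f w ∈ V
          rw [← hΔg w, hw]
          exact hV (hj z)
        exact ⟨⟨w, hwV⟩, hw⟩
      · rintro ⟨w, hw⟩
        exact ⟨O.ι w, hw⟩
    rw [e]
    exact (O.ι ≫ Δ).isOpenEmbedding.isOpen_range.preimage j.continuous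
  obtain ⟨G, hG, hGC⟩ := exists_isClopen_ext 𝓘 (gb_of_hb_flat g 𝓘 hb) _ hC
  have hGs : ∀ z : P, g z ∈ (𝓘.support : Set X) → (z ∈ G ↔ z ∈ Set.range Δ.base) := fun z hz => by
    obtain ⟨y, rfl⟩ : z ∈ Set.range j.base := by rw [range_fst_pullback]; exact hz
    exact Set.ext_iff.1 hGC y
  have hΔG : ∀ w, Δ w ∈ G := fun w => by
    by_contra hw
    exact (Set.eq_empty_iff_forall_notMem.1 (eq_empty_of_isClopen f hb (hG.compl.preimage Δ.continuous)
      fun z hz hzs => hz ((hGs (Δ z) (by rw [hΔg]; exact hzs)).2 ⟨z, rfl⟩)) w) hw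
  let GO : P.Opens := ⟨G, hG.2⟩
  haveI : IsClosedImmersion GO.ι :=
    IsClosedImmersion.of_isPreimmersion _ (by rw [Scheme.Opens.range_ι]; exact hG.1)
  let q : (GO : Scheme.{u}) ⟶ W := GO.ι ≫ p₁
  let d : W ⟶ (GO : Scheme.{u}) := IsOpenImmersion.lift GO.ι Δ (by
    rw [Scheme.Opens.range_ι]
    rintro _ ⟨w, rfl⟩
    exact hΔG w)
  have hd : d ≫ GO.ι = Δ := IsOpenImmersion.lift_fac _ _ _
  have hdq : d ≫ q = 𝟙 W := by
    show d ≫ GO.ι ≫ p₁ = 𝟙 W
    rw [reassoc_of% hd]
    simp [Δ, p₁]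
  haveI hdO : IsOpenImmersion (O.ι ≫ d) := by
    haveI : IsOpenImmersion ((O.ι ≫ d) ≫ GO.ι) := by rw [Category.assoc, hd]; infer_instance
    exact IsOpenImmersion.of_comp (O.ι ≫ d) GO.ι
  -- the rank is one
  have hq1 : ∀ w, f w ∈ (𝓘.support : Set X) → q.finrank w = 1 := fun w hw => by
    let Z : Set (GO : Scheme.{u}) := (Set.range (O.ι ≫ d).base)ᶜ
    have hZ : IsClosed (q.base '' Z) := q.isClosedMap _ (O.ι ≫ d).isOpenEmbedding.isOpen_range.isClosed_compl
    let U' : W.Opens := O ⊓ ⟨(q.base '' Z)ᶜ, hZ.isOpen_compl⟩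
    have hwU : w ∈ U' := by
      refine ⟨hV hw, ?_⟩
      rintro ⟨z, hz, hzw⟩
      have hzs : g (GO.ι z) ∈ (𝓘.support : Set X) := by
        show f (q z) ∈ _
        rw [hzw]; exact hw
      obtain ⟨w', hw'⟩ := (hGs _ hzs).1 z.2
      have hdz : d w' = z := GO.ι.isOpenEmbedding.injective (by rw [← Scheme.Hom.comp_apply, hd]; exact hw')
      have hw'V : w' ∈ O := by
        show f w' ∈ V
        rw [← hΔg w', hw']
        exact hV hzs
      exact hz ⟨⟨w', hw'V⟩, hdz⟩
    let s : (U' : Scheme.{u}) ⟶ (q ⁻¹ᵁ U' : (GO : Scheme.{u}).Opens) :=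
      IsOpenImmersion.lift (q ⁻¹ᵁ U').ι (U'.ι ≫ d) (by
        rw [Scheme.Opens.range_ι]
        rintro _ ⟨x, rfl⟩
        show q ((U'.ι ≫ d) x) ∈ U'
        rw [← Scheme.Hom.comp_apply, Category.assoc, hdq, Category.comp_id]
        exact x.2)
    have hs : s ≫ (q ⁻¹ᵁ U').ι = U'.ι ≫ d := IsOpenImmersion.lift_fac _ _ _
    have hss : s ≫ q ∣_ U' = 𝟙 _ := by
      rw [← cancel_mono U'.ι, Category.assoc, morphismRestrict_ι, reassoc_of% hs, hdq, Category.comp_id,
        Category.id_comp]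
    haveI : IsOpenImmersion s := by
      haveI : IsOpenImmersion (s ≫ (q ⁻¹ᵁ U').ι) := by
        rw [hs, ← W.homOfLE_ι (inf_le_left : U' ≤ O), Category.assoc]
        infer_instance
      exact IsOpenImmersion.of_comp s (q ⁻¹ᵁ U').ι
    haveI : Surjective s := ⟨fun z => by
      obtain ⟨o, ho⟩ : z.1 ∈ Set.range (O.ι ≫ d).base := by
        by_contra hn
        exact (z.2 : q z.1 ∈ U').2 ⟨z.1, hn, rfl⟩
      have hoU : O.ι o ∈ U' := by
        have h1 : q z.1 = O.ι o := by
          rw [← ho, ← Scheme.Hom.comp_apply, Category.assoc, hdq, Category.comp_id]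
        exact h1 ▸ z.2
      refine ⟨⟨O.ι o, hoU⟩, (q ⁻¹ᵁ U').ι.isOpenEmbedding.injective ?_⟩
      rw [← Scheme.Hom.comp_apply, hs]
      exact ho⟩
    haveI : Epi s.base := (TopCat.epi_iff_surjective _).mpr s.surjective
    haveI : IsIso s := IsOpenImmersion.isIso s
    haveI : IsIso (q ∣_ U') := by
      rw [← IsIso.inv_eq_of_hom_inv_id hss]
      infer_instance
    have h1 := Scheme.Hom.finrank_of_isPullback (q ⁻¹ᵁ U').ι (q ∣_ U') q U'.ι
      (isPullback_morphismRestrict q U').flip ⟨w, hwU⟩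
    rw [Scheme.Hom.finrank_eq_one_of_isIso] at h1
    exact h1.symm
  have hN : {w | q.finrank w ≠ 1} = ∅ :=
    eq_empty_of_isClopen f hb ((q.isLocallyConstant_finrank).isClopen_fiber 1).compl
      fun w hw hws => hw (hq1 w hws)
  haveI : IsIso q := (Scheme.Hom.isIso_iff_finrank_eq q).2 (funext fun w => by
    by_contra hw
    exact (Set.eq_empty_iff_forall_notMem.1 hN w) hw)
  haveI : IsIso d := by
    rw [← IsIso.inv_eq_of_inv_hom_id hdq]
    infer_instance
  haveI : IsOpenImmersion (pullback.diagonal f) := by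
    show IsOpenImmersion Δ
    rw [← hd]
    infer_instance
  exact Etale.of_formallyUnramified_of_flat f

end Groth.Agent.Synt29.EtGlobal
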