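import Groth.Agent.S9386
import Groth.Agent.S9370
import Groth.Agent.S9371
import Groth.Agent.S9711
import Groth.Agent.Synt29.OmegaRestrict
import Groth.Agent.Synt29.OmegaExists
import Groth.Agent.GrpOmega.Section

/-! A common refinement of two factorisations through smooth morphisms. -/

set_option autoImplicit false

universe u

open CategoryTheory CategoryTheory.Limits AlgebraicGeometry TopologicalSpace Opposite

namespace Groth.Agent.Synt29.CommonFact

open OmegaStalk

/-- Modules carrying universal derivations are isomorphic. -/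
theorem nonempty_iso_of_isUniversal {X Y : Scheme.{u}} {f : X ⟶ Y} {Ω Ω' : X.Modules} {d : OmegaSh.Der f Ω}
    (hd : OmegaSh.IsUniversal d) {d' : OmegaSh.Der f Ω'} (hd' : OmegaSh.IsUniversal d') : Nonempty (Ω ≅ Ω') := by
  obtain ⟨α, hα, -⟩ := hd Ω' d'
  obtain ⟨β, hβ, -⟩ := hd' Ω d
  refine ⟨⟨α, β, ?_, ?_⟩⟩
  · obtain ⟨γ, -, hγ⟩ := hd Ω d
    refine (hγ _ ?_).trans (hγ (𝟙 Ω) (PresheafOfModules.Derivation.ext rfl)).symm
    refine PresheafOfModules.Derivation.ext ?_
    funext U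
    refine AddMonoidHom.ext fun a => ?_
    show β.app U.unop (α.app U.unop (d.app U.unop a)) = d.app U.unop a
    rw [show α.app U.unop (d.app U.unop a) = d'.app U.unop a from
      PresheafOfModules.Derivation.congr_d hα a]
    exact PresheafOfModules.Derivation.congr_d hβ a
  · obtain ⟨γ, -, hγ⟩ := hd' Ω' d'
    refine (hγ _ ?_).trans (hγ (𝟙 Ω') (PresheafOfModules.Derivation.ext rfl)).symm
    refine PresheafOfModules.Derivation.ext ?_
    funext U
    refine AddMonoidHom.ext fun a => ?_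
    show α.app U.unop (β.app U.unop (d'.app U.unop a)) = d'.app U.unop a
    rw [show β.app U.unop (d'.app U.unop a) = d.app U.unop a from
      PresheafOfModules.Derivation.congr_d hβ a]
    exact PresheafOfModules.Derivation.congr_d hα a

/-- The differentials of a base change, restricted to an open subscheme and pulled back. -/
theorem nonempty_pullback_iso {X V V' W Y W₀ : Scheme.{u}} (g : V ⟶ Y) (g' : V' ⟶ Y) (p₁ : W ⟶ V) (p₂ : W ⟶ V')
    (hsq : IsPullback p₂ p₁ g' g) (ι : W₀ ⟶ W) [IsOpenImmersion ι] (j : X ⟶ W₀) (i' : X ⟶ V')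
    (hj : j ≫ ι ≫ p₂ = i') (Ω' : V'.Modules) (d' : OmegaSh.Der g' Ω') (hd' : OmegaSh.IsUniversal d')
    (Ωp : W₀.Modules) (dp : OmegaSh.Der (ι ≫ p₁) Ωp) (hdp : OmegaSh.IsUniversal dp) :
    Nonempty ((Scheme.Modules.pullback j).obj Ωp ≅ (Scheme.Modules.pullback i').obj Ω') := by
  obtain ⟨Ω₀, d₀, hd₀⟩ := OmegaExists.exists_isUniversal p₁
  obtain ⟨c₀, hc₀, -⟩ := S9370.result g' p₁ p₂ g hsq.w.symm Ω' d' hd' Ω₀ d₀ hd₀
  haveI := S9386.result g' g p₂ p₁ hsq Ω' d' hd' Ω₀ d₀ hd₀ c₀ hc₀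
  obtain ⟨e⟩ := nonempty_iso_of_isUniversal hdp (isUniversal_restrictDer ι hd₀)
  subst hj
  exact ⟨(Scheme.Modules.pullback j).mapIso (e ≪≫ (Scheme.Modules.restrictFunctorIsoPullback ι).app Ω₀ ≪≫
      (Scheme.Modules.pullback ι).mapIso (asIso c₀).symm ≪≫ (Scheme.Modules.pullbackComp ι p₂).app Ω') ≪≫
    (Scheme.Modules.pullbackComp j (ι ≫ p₂)).app Ω'⟩

/-- Two factorisations through smooth morphisms by immersions are dominated by a third one, by a
closed immersion into an open subscheme of the fibre product. -/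
theorem exists_common {X V V' Y : Scheme.{u}} (g : V ⟶ Y) [Smooth g] (g' : V' ⟶ Y) [Smooth g']
    (i : X ⟶ V) [IsImmersion i] (i' : X ⟶ V') [IsImmersion i'] (h : i ≫ g = i' ≫ g') :
    ∃ (W : Scheme.{u}) (p : W ⟶ V) (p' : W ⟶ V') (j : X ⟶ W), Smooth p ∧ Smooth p' ∧
      IsClosedImmersion j ∧ j ≫ p = i ∧ j ≫ p' = i' ∧ p ≫ g = p' ≫ g' ∧
      (∀ (Ω' : V'.Modules) (d' : OmegaSh.Der g' Ω') (_ : OmegaSh.IsUniversal d')
        (Ωp : W.Modules) (dp : OmegaSh.Der p Ωp) (_ : OmegaSh.IsUniversal dp),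
        Nonempty ((Scheme.Modules.pullback j).obj Ωp ≅ (Scheme.Modules.pullback i').obj Ω')) ∧
      (∀ (Ω : V.Modules) (d : OmegaSh.Der g Ω) (_ : OmegaSh.IsUniversal d)
        (Ωp : W.Modules) (dp : OmegaSh.Der p' Ωp) (_ : OmegaSh.IsUniversal dp),
        Nonempty ((Scheme.Modules.pullback j).obj Ωp ≅ (Scheme.Modules.pullback i).obj Ω)) := by
  let l := pullback.lift i i' h
  haveI : IsImmersion (l ≫ pullback.fst g g') := by rw [pullback.lift_fst]; infer_instance
  haveI : IsImmersion l := IsImmersion.of_comp l (pullback.fst g g')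
  refine ⟨_, l.coborderRange.ι ≫ pullback.fst g g', l.coborderRange.ι ≫ pullback.snd g g', l.liftCoborder,
    inferInstance, inferInstance, inferInstance, ?_, ?_, ?_, ?_, ?_⟩
  · rw [Scheme.Hom.liftCoborder_ι_assoc, pullback.lift_fst]
  · rw [Scheme.Hom.liftCoborder_ι_assoc, pullback.lift_snd]
  · rw [Category.assoc, Category.assoc, pullback.condition]
  · intro Ω' d' hd' Ωp dp hdp
    exact nonempty_pullback_iso g g' _ _ (IsPullback.of_hasPullback g g').flip _ _ _
      (by rw [Scheme.Hom.liftCoborder_ι_assoc, pullback.lift_snd]) Ω' d' hd' Ωp dp hdp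
  · intro Ω d hd Ωp dp hdp
    exact nonempty_pullback_iso g' g _ _ (IsPullback.of_hasPullback g g') _ _ _
      (by rw [Scheme.Hom.liftCoborder_ι_assoc, pullback.lift_fst]) Ω d hd Ωp dp hdp

end Groth.Agent.Synt29.CommonFact
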