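import Groth.Agent.Synt29.SurfBidual
import Groth.Agent.CxSuppLib.Basic
import Groth.Agent.S15848
import Groth.Agent.S1689
import Groth.Agent.KZ.CohClass

/-!
The first local Ext sheaf on a surface: locality and kernels with locally free resolutions.
-/

set_option autoImplicit false
set_option linter.style.haveILetI false
set_option linter.unusedSectionVars false
set_option backward.isDefEq.respectTransparency false
set_option backward.isDefEq.respectTransparency.types false
set_option maxHeartbeats 1000000

universe u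

open CategoryTheory CategoryTheory.Limits AlgebraicGeometry TopologicalSpace
open Groth.Agent Groth.Agent.SheafHomX

noncomputable section

namespace Groth.Agent.Synt29.ExtOne

variable {X : Scheme.{u}}

/-- Restriction inverts what stalks invert. -/
theorem isIso_restrict_of_stalk (U : X.Opens) {A B : X.Modules} (g : A ⟶ B)
    (h : ∀ x ∈ U, Function.Bijective ((DerSch.stalkFunctor X x).map g).hom) :
    IsIso ((Scheme.Modules.restrictFunctor U.ι).map g) := by
  refine KFlatLib.isIso_of_stalk _ fun u => ?_
  have hsq := (Scheme.Modules.restrictStalkNatIso U.ι u).hom.naturality g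
  haveI : IsIso ((Scheme.Modules.toPresheaf X ⋙ TopCat.Presheaf.stalkFunctor _ (U.ι.base u)).map g) :=
    (ConcreteCategory.isIso_iff_bijective _).2 (h _ u.2)
  haveI : IsIso ((Scheme.Modules.restrictFunctor U.ι ⋙ Scheme.Modules.toPresheaf _ ⋙
      TopCat.Presheaf.stalkFunctor _ u).map g) := IsIso.of_isIso_fac_right hsq
  exact (ConcreteCategory.isIso_iff_bijective _).2 (ConcreteCategory.bijective_of_isIso
    ((Scheme.Modules.restrictFunctor U.ι ⋙ Scheme.Modules.toPresheaf _ ⋙
      TopCat.Presheaf.stalkFunctor _ u).map g))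

variable {ω : X.Modules} (I : InjectiveResolution ω)

/-- The first local Ext sheaf into `ω`. -/
abbrev E1 (F : X.Modules) : X.Modules := (ExtShShift.cx I F).homology 1

/-- Its functoriality. -/
abbrev E1map {A B : X.Modules} (g : A ⟶ B) : E1 I B ⟶ E1 I A :=
  HomologicalComplex.homologyMap (ExtShShift.cxMap I g) 1

theorem isIso_restrict_E1map (U : X.Opens) {A B : X.Modules} (g : A ⟶ B)
    [IsIso ((Scheme.Modules.restrictFunctor U.ι).map g)] :
    IsIso ((Scheme.Modules.restrictFunctor U.ι).map (E1map I g)) := by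
  let R := Scheme.Modules.restrictFunctor U.ι
  haveI : R.PreservesHomology := inferInstance
  haveI : ∀ i, IsIso (((R.mapHomologicalComplex (ComplexShape.up ℕ)).map (ExtShShift.cxMap I g)).f i) := fun i =>
    SheafHomY.isIso_restrict_homMap U.ι g (I.cocomplex.X i)
  haveI : IsIso ((R.mapHomologicalComplex (ComplexShape.up ℕ)).map (ExtShShift.cxMap I g)) :=
    HomologicalComplex.Hom.isIso_of_components _
  have h := ShortComplex.mapHomologyIso_hom_naturality
    ((HomologicalComplex.shortComplexFunctor _ _ 1).map (ExtShShift.cxMap I g)) R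
  haveI : IsIso (ShortComplex.homologyMap (R.mapShortComplex.map
      ((HomologicalComplex.shortComplexFunctor _ _ 1).map (ExtShShift.cxMap I g)))) :=
    inferInstanceAs (IsIso (HomologicalComplex.homologyMap
      ((R.mapHomologicalComplex (ComplexShape.up ℕ)).map (ExtShShift.cxMap I g)) 1))
  exact IsIso.of_isIso_fac_left h.symm

/-- The local Ext sheaf lives on the support. -/
theorem support_E1 {F : X.Modules} {Z : Set X} (hZ : IsClosed Z) (h : CohB1.support F ⊆ Z) :
    CohB1.support (E1 I F) ⊆ Z := by
  let U : X.Opens := ⟨Zᶜ, hZ.isOpen_compl⟩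
  let R := Scheme.Modules.restrictFunctor U.ι
  have hr : Set.range U.ι.base = Zᶜ := Scheme.Opens.range_ι U
  have hF : IsZero (R.obj F) := (CxSuppLib.isZero_restrict_iff U.ι F).2 (by rw [hr, compl_compl]; exact h)
  haveI : IsIso (R.map (0 : F ⟶ F)) := ⟨⟨0, hF.eq_of_src _ _, hF.eq_of_src _ _⟩⟩
  haveI h0 := isIso_restrict_E1map I U (0 : F ⟶ F)
  have hc : ExtShShift.cxMap I (0 : F ⟶ F) = 0 := HomologicalComplex.hom_ext _ _ fun n => by
    show (homMap (0 : F ⟶ F)).app _ = _
    rw [homMap_zero]
    rfl
  have hz : R.map (E1map I (0 : F ⟶ F)) = 0 := by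
    rw [E1map, hc, HomologicalComplex.homologyMap_zero, Functor.map_zero]
  have hz' : IsZero (R.obj (E1 I F)) := by
    rw [IsZero.iff_id_eq_zero, ← cancel_epi (R.map (E1map I (0 : F ⟶ F))), Category.comp_id, comp_zero, hz]
  have := (CxSuppLib.isZero_restrict_iff U.ι _).1 hz'
  rwa [hr, compl_compl] at this

/-- `E¹` from a resolution. -/
theorem nonempty_E1_iso {S : ShortComplex X.Modules} (hS : S.ShortExact) (h2 : FlatMod.IsFinLocFree S.X₂) :
    Nonempty (E1 I S.X₃ ≅ cokernel ((homMap S.f).app ω)) := by
  have hz : IsZero ((ExtShShift.cx I S.X₂).homology 1) :=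
    ExtShShift.isZero_of_exact I S.X₂ (fun u hu => by haveI := hu; exact AmpleVan.epi_hom_map h2 u) 0
  obtain ⟨w, hc⟩ := ExtShShift.exists_shortExact I hS
  have hex := hc.homology_exact₃ 0 1 rfl
  haveI : Epi (hc.δ 0 1 rfl) := (hc.homology_exact₁ 0 1 rfl).epi_f (hz.eq_of_tgt _ _)
  exact ⟨(IsColimit.coconePointUniqueUpToIso (cokernelIsCokernel _) hex.gIsCokernel).symm ≪≫
    cokernel.mapIso _ _ (ExtShShift.zeroIso I _).symm (ExtShShift.zeroIso I _).symm (by
      show HomologicalComplex.homologyMap (ExtShShift.cxMap I S.f) 0 ≫ (ExtShShift.zeroIso I _).inv =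
        (ExtShShift.zeroIso I _).inv ≫ (homMap S.f).app ω
      rw [Iso.eq_inv_comp, ← Category.assoc, Iso.comp_inv_eq, ExtShShift.zeroIso_naturality])⟩

/-- `E¹` is what the derived internal hom computes. -/
theorem nonempty_derived_iso (F : X.Modules) [DCoh.HasSheafHom F] [(DCoh.sheafHom F).Additive]
    [HasInjectiveResolutions X.Modules] :
    Nonempty (((DCoh.sheafHom F).rightDerived 1).obj ω ≅ E1 I F) := by
  haveI : (hom F).Additive := additive_hom F
  exact ⟨I.isoRightDerivedObj (DCoh.sheafHom F) 1 ≪≫
    (HomologicalComplex.homologyFunctor _ _ 1).mapIso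
      ((NatIso.mapHomologicalComplex (SheafHomY.sheafHomLeftIso F) _).app I.cocomplex)⟩

section Kernel

variable [IsIntegral X] [IsLocallyNoetherian X] (hreg : ∀ x : X, IsRegularLocalRing (X.presheaf.stalk x))
  (hdim : topologicalKrullDim X ≤ 2)

include hreg hdim in
/-- The kernel of a morphism of locally free modules on a regular surface is locally free. -/
theorem lf_kernel {K' Q : X.Modules} (hK : FlatMod.IsFinLocFree K') (hQ : FlatMod.IsFinLocFree Q) (g : K' ⟶ Q) :
    FlatMod.IsFinLocFree (kernel g) := by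
  have hnorm := SurfRankOne.normal_of_regular hreg
  have hK'c := CurveDeg.isCoh_of_isFinLocFree hK
  have hQc := CurveDeg.isCoh_of_isFinLocFree hQ
  let K := kernel g
  have hKc : Coh.IsCoh K := QCoh.isCoh_kernel hK'c hQc g
  have htK : TorSh.IsTorsionFree K :=
    SurfRankOne.tf_of_mono (kernel.ι g) (GenDiff29.isTorsionFree_of_isFinLocFree hK)
  let β : K ⟶ RefHull.ddual K := RefHull.bidualMap K
  have hDc : Coh.IsCoh (RefHull.ddual K) := RefX.isCoh_dual (RefX.isCoh_dual hKc)
  have hbij : ∀ x : X, Order.coheight x ≤ 1 → Function.Bijective ((DerSch.stalkFunctor X x).map β).hom := by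
    intro x hx
    have hr : RefHull.IsReflexiveAt K x := by
      haveI := (hnorm x).1
      haveI := (hnorm x).2
      haveI := QCoh.finite_stalk_of_isFT hKc.1 hKc.2 x
      haveI : Module.IsTorsionFree (X.presheaf.stalk x) (K.presheaf.stalk x) := htK x
      rcases lt_or_eq_of_le hx with h | h
      · have hxη : x = genericPoint X := by
          rw [ENat.lt_one_iff_eq_zero, Order.coheight_eq_zero] at h
          exact (Specializes.antisymm (h (RefX.specializes_genericPoint x)) (RefX.specializes_genericPoint x)).eq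
        subst hxη
        letI : Field (X.presheaf.stalk (genericPoint X)) := inferInstanceAs (Field X.functionField)
        show Module.IsReflexive (X.presheaf.stalk (genericPoint X)) (K.presheaf.stalk (genericPoint X))
        infer_instance
      · have hd : ringKrullDim (X.presheaf.stalk x) = 1 := by
          rw [ringKrullDim_stalk_eq_coheight, h]
          rfl
        haveI := CDiv6.isDVR_of_dim_eq_one (X.presheaf.stalk x) hd
        haveI : Module.Free (X.presheaf.stalk x) (K.presheaf.stalk x) := Module.free_of_finite_type_torsion_free'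
        show Module.IsReflexive (X.presheaf.stalk x) (K.presheaf.stalk x)
        infer_instance
    have h := (RefX.stalkMap_bidual_bijective_iff hKc x).2 hr
    exact ⟨fun a b hab => h.1 (((LMStab.stalkMap_eq β x a).trans hab).trans (LMStab.stalkMap_eq β x b).symm), fun y => by
      obtain ⟨a, ha⟩ := h.2 y
      exact ⟨a, (LMStab.stalkMap_eq β x a).symm.trans ha⟩⟩
  have hη : Order.coheight (genericPoint X) ≤ 1 := by rw [RefX.coheight_genericPoint]; exact zero_le
  obtain ⟨ψ, hψ⟩ := LMStab.exists_factor hnorm hK'c (LMStab.reflexive_of_lf hK'c hK) β (kernel.ι g)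
    (hbij _ hη).1 fun x hx => (hbij x hx).2
  have hψg : ψ ≫ g = 0 := by
    refine RefX.hom_ext_generic hQc (fun x => GenDiff29.isTorsionFree_of_isFinLocFree hQ x) fun v => ?_
    obtain ⟨a, rfl⟩ := (hbij _ hη).2 v
    rw [← LMStab.stalkMap_eq, ← RefX.stalkMap_comp_apply, ← RefX.stalkMap_comp_apply, ← Category.assoc, hψ,
      kernel.condition, comp_zero]
  let r : RefHull.ddual K ⟶ K := kernel.lift g ψ hψg
  have hr : β ≫ r = 𝟙 K := by
    rw [← cancel_mono (kernel.ι g), Category.assoc, kernel.lift_ι, hψ, Category.id_comp]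
  have hrβ : r ≫ β = 𝟙 _ := by
    refine RefX.hom_ext_generic hDc
      (fun x => RefX.torsionFree_of_reflexive (RefX.isReflexiveAt_dual (RefX.isCoh_dual hKc) x)) fun v => ?_
    obtain ⟨a, rfl⟩ := (hbij _ hη).2 v
    rw [← LMStab.stalkMap_eq, ← RefX.stalkMap_comp_apply, ← RefX.stalkMap_comp_apply, ← Category.assoc, hr,
      Category.id_comp, Category.comp_id]
  have href : RefHull.IsReflexive K := ⟨r, hr, hrβ⟩
  exact (S1689.result X hreg hdim K hKc).1 fun x => (RefX.isReflexive_iff hKc).1 href x

omit [IsIntegral X] in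
/-- An extension of locally free modules. -/
theorem lf_extension {S : ShortComplex X.Modules} (hS : S.ShortExact) (h₂ : Coh.IsCoh S.X₂)
    (h₁ : FlatMod.IsFinLocFree S.X₁) (h₃ : FlatMod.IsFinLocFree S.X₃) : FlatMod.IsFinLocFree S.X₂ := by
  refine QCoh.isFinLocFree_iff.2 ⟨QCoh.isCoh_iff_isFP.1 h₂, fun x => ?_⟩
  let T := S.map (DerSch.stalkFunctor X x)
  have hx : T.ShortExact := (KFlatLib.shortExact_iff_stalk S).1 hS x
  haveI : Module.Free (X.presheaf.stalk x) T.X₁ := (QCoh.isFinLocFree_iff.1 h₁).2 x
  haveI : Module.Free (X.presheaf.stalk x) T.X₃ := (QCoh.isFinLocFree_iff.1 h₃).2 x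
  obtain ⟨t, ht⟩ := Module.projective_lifting_property (R := X.presheaf.stalk x) (P := T.X₃)
    T.g.hom LinearMap.id hx.moduleCat_surjective_g
  exact Module.Free.of_equiv (R := X.presheaf.stalk x) (M := T.X₁ × T.X₃)
    ((((ShortComplex.ShortExact.moduleCat_exact_iff_function_exact T).1 hx.exact).splitSurjectiveEquiv
      hx.moduleCat_injective_f ⟨t, ht⟩).1.symm)

include hreg hdim in
/-- Kernels of maps to a module with a locally free resolution of length one. -/
theorem lf_kernel_of_res {P Q F N : X.Modules} (v : P ⟶ Q) (π : Q ⟶ N) (w : v ≫ π = 0)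
    (hS : (ShortComplex.mk v π w).ShortExact) (hP : FlatMod.IsFinLocFree P) (hQ : FlatMod.IsFinLocFree Q)
    (hF : FlatMod.IsFinLocFree F) (f : F ⟶ N) : FlatMod.IsFinLocFree (kernel f) := by
  haveI := hS.mono_f
  haveI : Epi π := hS.epi_g
  have hFc := CurveDeg.isCoh_of_isFinLocFree hF
  have hQc := CurveDeg.isCoh_of_isFinLocFree hQ
  let K' := pullback f π
  haveI : Epi (pullback.fst f π) := Abelian.epi_pullback_of_epi_g f π
  have hK : ShortComplex.ShortExact (ShortComplex.mk (pullback.lift (f := f) (g := π) 0 v (by rw [zero_comp, w]))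
      (pullback.fst f π) (pullback.lift_fst _ _ _)) := by
    haveI : Mono (pullback.lift (f := f) (g := π) 0 v (by rw [zero_comp, w])) :=
      mono_of_mono_fac (pullback.lift_snd _ _ _)
    refine { exact := ShortComplex.exact_of_f_is_kernel _ (KernelFork.IsLimit.ofι' _ _ fun {A} a ha => ?_) }
    have h2 : (a ≫ pullback.snd f π) ≫ π = 0 := by
      rw [Category.assoc, ← pullback.condition, ← Category.assoc]
      exact (congrArg (· ≫ f) ha).trans zero_comp
    refine ⟨hS.exact.lift (a ≫ pullback.snd f π) h2, pullback.hom_ext ?_ ?_⟩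
    · rw [Category.assoc, pullback.lift_fst, comp_zero]
      exact ha.symm
    · rw [Category.assoc, pullback.lift_snd]
      exact hS.exact.lift_f _ h2
  have hK'c : Coh.IsCoh K' :=
    KZ.isCoh_X₂ hK (CurveDeg.isCoh_of_isFinLocFree hP) hFc
  have h := lf_kernel hreg hdim (lf_extension hK hK'c hP hF) hQ (pullback.snd f π)
  let e : kernel (pullback.snd f π) ≅ kernel f :=
    { hom := kernel.lift f (kernel.ι (pullback.snd f π) ≫ pullback.fst f π)
        (by rw [Category.assoc, pullback.condition, ← Category.assoc, kernel.condition, zero_comp])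
      inv := kernel.lift _ (pullback.lift (kernel.ι f) 0 (by rw [kernel.condition, zero_comp]))
        (pullback.lift_snd _ _ _)
      hom_inv_id := by
        rw [← cancel_mono (kernel.ι _)]
        refine pullback.hom_ext ?_ ?_ <;> simp
      inv_hom_id := by
        rw [← cancel_mono (kernel.ι _)]
        simp }
  exact H23.PullPush.isFinLocFree_of_iso e h

end Kernel

end Groth.Agent.Synt29.ExtOne

end
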