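import Groth.Agent.Synt29.ExtOne
import Groth.Agent.Synt29.LMSimple
import Groth.Agent.AffCompl.AmpleConn
import Groth.Agent.GenusOneSS.Eval
import Groth.Agent.AmpleX.Generated

/-!
Cohomology of the first local Ext sheaf into the canonical module of a projective surface.
-/

set_option autoImplicit false
set_option linter.style.haveILetI false
set_option linter.unusedSectionVars false
set_option backward.isDefEq.respectTransparency false
set_option backward.isDefEq.respectTransparency.types false
set_option maxHeartbeats 1000000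

universe u

open CategoryTheory CategoryTheory.Limits AlgebraicGeometry TopologicalSpace
open Groth.Agent Groth.Agent.H23.PicMul Groth.Agent.SheafHomX
open scoped Groth.Agent.H23.PicMul

noncomputable section

namespace Groth.Agent.Synt29.ExtOne

attribute [local instance] H23.PicMul.clMonoid

variable {k : Type u} [Field k] [IsAlgClosed k] [CharZero k] {X : Scheme.{u}}
  [X.Over (Spec (CommRingCat.of k))] [IsProper (X ↘ Spec (CommRingCat.of k))] [IsIntegral X]
  [Smooth (X ↘ Spec (CommRingCat.of k))] (hdim : topologicalKrullDim X = 2)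
  {H : X.Modules} (hH : CohB1.IsAmple H)
  {ω : X.Modules} (hω : Canon.IsTopDiff (X ↘ Spec (CommRingCat.of k)) 2 ω)

include hdim hH hω in
/-- Serre duality for locally free modules. -/
theorem finrank_hh_hom {F : X.Modules} (hF : FlatMod.IsFinLocFree F) {p : ℕ} (hp : p ≤ 2) :
    Module.finrank k (Coh.HH X ((hom F).obj ω) p) = Module.finrank k (Coh.HH X F (2 - p)) := by
  haveI : IsNoetherian X := CurveCohLib.isNoetherian_of_proper (k := k)
  haveI := CurveFin.smoothOfRelativeDimension_of_dim (f := X ↘ Spec (CommRingCat.of k)) (d := 2) hdim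
  haveI : HasExt.{u} X.Modules := IsGrothendieckAbelian.hasExt _
  obtain ⟨r, ι, hι, hfac⟩ := AmpleEmbed.exists_closedImmersion (X ↘ Spec (CommRingCat.of k)) hH
  haveI := hι
  obtain ⟨e₁⟩ := S19675.result k 2 r X ι hfac _ hω F (CurveDeg.isCoh_of_isFinLocFree hF) p hp
  obtain ⟨e₂⟩ := PnDual.nonempty_ext_linearEquiv_HH (A := k) hF ω p
  rw [← e₂.finrank_eq, e₁.finrank_eq]
  exact Subspace.dual_finrank_eq

include k hdim hH in
/-- A resolution whose first term has no cohomology below the top degree. -/
theorem exists_res {F : X.Modules} (hF : Coh.IsCoh F) :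
    ∃ (E : X.Modules) (p : E ⟶ F), FlatMod.IsFinLocFree E ∧ Epi p ∧
      Subsingleton (Coh.HH X E 0) ∧ Subsingleton (Coh.HH X E 1) := by
  haveI : IsNoetherian X := CurveCohLib.isNoetherian_of_proper (k := k)
  haveI : X.IsSeparated := AmpleX.isSeparated_of_isAmple hH
  obtain ⟨M, hM, hHM⟩ := H23.PicInv.exists_inverse hH.1
  have hnorm := SurfRankOne.normal_of_regular (X := X) (SurfHodge.regular k)
  have hdep : ∀ x : X, IsClosed ({x} : Set X) → ((2 : ℕ) : ℕ∞) ≤
      LocCoh.depth (X.presheaf.stalk x) ((Coh.structureModule X).presheaf.stalk x) := fun x hx =>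
    AffCompl.two_le_depth k hnorm hdim.ge hx
  obtain ⟨n₀, h₀⟩ := NegVanAmple.exists_vanishing (X ↘ Spec (CommRingCat.of k)) hH hHM
    (F := Coh.structureModule X) QCoh.isCoh_structureModule' 2 hdep 0 two_pos
  obtain ⟨n₁, h₁⟩ := NegVanAmple.exists_vanishing (X ↘ Spec (CommRingCat.of k)) hH hHM
    (F := Coh.structureModule X) QCoh.isCoh_structureModule' 2 hdep 1 one_lt_two
  obtain ⟨n₂, h₂⟩ := AmpleX.eventually_isGloballyGenerated hH hF.1 hF.2
  let n := n₀ + n₁ + n₂
  let T := CohB1.tensorMod F (CohB1.tensorPow H n)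
  have hTc : Coh.IsCoh T :=
    ParShLib.isCoh_tensorMod hF (CurveDeg.isCoh_of_isInvertible (InvX.isInvertible_tensorPow hH.1 n))
  obtain ⟨ε, -, hε⟩ := GenusOneSS.exists_eval k hTc (h₂ n (by omega))
  haveI := hε
  let Mn := CohB1.tensorPow M n
  have hMn : PicF.IsInvertible Mn := InvX.isInvertible_tensorPow hM n
  haveI : (ten Mn).IsLeftAdjoint := SheafHomX.isLeftAdjoint_ten _
  obtain ⟨c⟩ := cl_eq_iff.1 (show PicF.cl ((ten Mn).obj T) = PicF.cl F by
    show PicF.cl (CohB1.tensorMod (CohB1.tensorMod F (CohB1.tensorPow H n)) Mn) = _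
    rw [cl_tensor, cl_tensor, cl_tensorPow, cl_tensorPow, mul_assoc, ← mul_pow, ← cl_tensor H M, cl_eq_iff.2 hHM, ← one_def, one_pow, mul_one])
  haveI : Epi ((ten Mn).map ε) := (ten Mn).map_epi ε
  refine ⟨(ten Mn).obj (FlatMod.freeMod X (Module.finrank k (Coh.HH X T 0))), (ten Mn).map ε ≫ c.hom,
    PnEuler.isFinLocFree_tensorMod (GenusOneSS.isFinLocFree_freeMod _) (H23.PullPush.isFinLocFree_of_isInvertible hMn),
    inferInstance, ?_, ?_⟩
  · refine LMSimple.subsingleton_free (k := k) (G := ten Mn)
      (fun {S} hS => KFlatLib.flatObj_of_isFlat (KFlatLib.isFlat_of_isFinLocFree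
        (H23.PullPush.isFinLocFree_of_isInvertible hMn)) S hS) (h₀ n (by omega)) _
  · refine LMSimple.subsingleton_free (k := k) (G := ten Mn)
      (fun {S} hS => KFlatLib.flatObj_of_isFlat (KFlatLib.isFlat_of_isFinLocFree
        (H23.PullPush.isFinLocFree_of_isInvertible hMn)) S hS) (h₁ n (by omega)) _

include hdim hH hω in
/-- Duality between the sections and the first cohomology of the local Ext sheaf. -/
theorem finrank_h1_E1 (I : InjectiveResolution ω) {F : X.Modules} (hF : Coh.IsCoh F)
    [Subsingleton (F.presheaf.stalk (genericPoint X))]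
    (hker : ∀ {E : X.Modules}, FlatMod.IsFinLocFree E → ∀ f : E ⟶ F, FlatMod.IsFinLocFree (kernel f)) :
    Module.finrank k (Coh.HH X (E1 I F) 1) = Module.finrank k (Coh.HH X F 0) := by
  haveI : IsNoetherian X := CurveCohLib.isNoetherian_of_proper (k := k)
  haveI := CurveFin.smoothOfRelativeDimension_of_dim (f := X ↘ Spec (CommRingCat.of k)) (d := 2) hdim
  have hωi : PicF.IsInvertible ω := SmoothTop.isInvertible_top (X ↘ Spec (CommRingCat.of k)) 2 hω
  have hωl := H23.PullPush.isFinLocFree_of_isInvertible hωi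
  obtain ⟨E₀, p, hE₀, hp, h00, h01⟩ := exists_res (k := k) hdim hH hF
  haveI := hp
  let u := kernel.ι p
  have hE₁ := hker hE₀ p
  let S : ShortComplex X.Modules := ShortComplex.mk u p (kernel.condition p)
  have hS : S.ShortExact := { exact := ShortComplex.exact_kernel p }
  let v := (homMap u).app ω
  haveI : Mono v := by
    obtain ⟨z, -, hex⟩ := ExtShShift.homMap_exact hS.exact ω
    exact hex.mono_g ((SurfBidual.isZero_hom_of_generic (F := F) (CurveDeg.isCoh_of_isInvertible hωi).1
      (K3Ext.tf_line hωi)).eq_of_src _ _)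
  let T : ShortComplex X.Modules := ShortComplex.mk v (cokernel.π v) (cokernel.condition v)
  have hT : T.ShortExact := { exact := ShortComplex.exact_cokernel v }
  obtain ⟨e⟩ := nonempty_E1_iso I hS hE₀
  -- the middle is computed by the kernel
  haveI : Subsingleton (Coh.HH X T.X₁ 1) := LMSimple.subsingleton_of_finrank_zero (k := k)
    (LMHom.isCoh_hom hE₀ (CurveDeg.isCoh_of_isInvertible hωi)) (by
      rw [finrank_hh_hom hdim hH hω hE₀ one_le_two]
      haveI := h01
      exact Module.finrank_zero_of_subsingleton)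
  haveI : Subsingleton (Coh.HH X T.X₁ (1 + 1)) := LMSimple.subsingleton_of_finrank_zero (k := k)
    (LMHom.isCoh_hom hE₀ (CurveDeg.isCoh_of_isInvertible hωi)) (by
      rw [finrank_hh_hom hdim hH hω hE₀ le_rfl]
      haveI := h00
      exact Module.finrank_zero_of_subsingleton)
  have hsurj : Function.Surjective (PnCoh.Finite.mapLin k T.g 1) := by
    rw [← LinearMap.range_eq_top, ← CurveCohLib.ker_deltaLin k hT 1]
    exact LinearMap.ker_eq_top.2 (LinearMap.ext fun _ => Subsingleton.elim _ _)
  have hinj : Function.Injective (PnCoh.Finite.mapLin k T.g 1) := by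
    rw [← LinearMap.ker_eq_bot, CurveCohLib.ker_mapLin_g k hT 1, LinearMap.range_eq_bot]
    exact LinearMap.ext fun z => by rw [Subsingleton.elim z 0, map_zero, map_zero]
  -- sections of the quotient
  haveI : Subsingleton (Coh.HH X S.X₂ 0) := h00
  haveI : Subsingleton (Coh.HH X S.X₂ (0 + 1)) := h01
  have hs : Function.Surjective (PnCoh.Finite.deltaLin k hS 0) := by
    rw [← LinearMap.range_eq_top, ← CurveCohLib.ker_mapLin_f_succ k hS 0]
    exact LinearMap.ker_eq_top.2 (LinearMap.ext fun _ => Subsingleton.elim _ _)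
  have hi : Function.Injective (PnCoh.Finite.deltaLin k hS 0) := by
    rw [← LinearMap.ker_eq_bot, CurveCohLib.ker_deltaLin k hS 0, LinearMap.range_eq_bot]
    exact LinearMap.ext fun z => by rw [Subsingleton.elim z 0, map_zero, map_zero]
  rw [(CurveCohLib.hhEquiv (k := k) e 1).finrank_eq, ← (LinearEquiv.ofBijective _ ⟨hinj, hsurj⟩).finrank_eq,
    finrank_hh_hom hdim hH hω hE₁ one_le_two]
  exact (LinearEquiv.ofBijective _ ⟨hi, hs⟩).finrank_eq.symm

end Groth.Agent.Synt29.ExtOne

end
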