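import Mathlib

/-!
Graph charts of the Grassmannian of quotients of a free module.
-/

set_option autoImplicit false

universe u w

open TensorProduct

namespace Groth.Agent.Synt29.GrassGraph

open Module (Grassmannian)

variable {R : Type u} [CommRing R] {d : ℕ}

section Alg

variable (A : Type w) [CommRing A] [Algebra R A]

/-- The standard basis of the base-changed free module. -/
noncomputable def bas : Module.Basis (Fin d) A (A ⊗[R] (Fin d → R)) :=
  Algebra.TensorProduct.basis A (Pi.basisFun R (Fin d))

variable {A}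

theorem bas_apply (c : Fin d) : bas (R := R) A c = (1 : A) ⊗ₜ[R] (Pi.basisFun R (Fin d) c) :=
  Algebra.TensorProduct.basis_apply ..

/-- The coordinates of the graph projection attached to a set of columns and a matrix. -/
noncomputable def proj (S : Finset (Fin d)) (u : {c // c ∉ S} → S → A) :
    A ⊗[R] (Fin d → R) →ₗ[A] (S → A) :=
  (bas A).constr A fun c => if h : c ∈ S then Pi.single ⟨c, h⟩ 1 else u ⟨c, h⟩

theorem proj_bas (S : Finset (Fin d)) (u : {c // c ∉ S} → S → A) (c : Fin d) :
    proj (R := R) S u (bas A c) = if h : c ∈ S then Pi.single ⟨c, h⟩ 1 else u ⟨c, h⟩ :=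
  Module.Basis.constr_basis ..

theorem proj_bas_mem (S : Finset (Fin d)) (u : {c // c ∉ S} → S → A) (c : S) :
    proj (R := R) S u (bas A c) = Pi.single c 1 := by
  rw [proj_bas, dif_pos c.2]

theorem proj_bas_notMem (S : Finset (Fin d)) (u : {c // c ∉ S} → S → A) (c : {c // c ∉ S}) :
    proj (R := R) S u (bas A c) = u c := by
  rw [proj_bas, dif_neg c.2]

/-- The section of the graph projection. -/
noncomputable def sect (S : Finset (Fin d)) : (S → A) →ₗ[A] A ⊗[R] (Fin d → R) :=
  (Pi.basisFun A S).constr A fun c => bas A c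

theorem proj_sect (S : Finset (Fin d)) (u : {c // c ∉ S} → S → A) (y : S → A) :
    proj (R := R) S u (sect S y) = y := by
  have : (proj (R := R) S u).comp (sect S) = LinearMap.id := by
    refine (Pi.basisFun A S).ext fun c => ?_
    rw [LinearMap.comp_apply, sect, Module.Basis.constr_basis, proj_bas_mem, LinearMap.id_apply, Pi.basisFun_apply]
  exact LinearMap.congr_fun this y

theorem proj_surjective (S : Finset (Fin d)) (u : {c // c ∉ S} → S → A) :
    Function.Surjective (proj (R := R) S u) := fun y => ⟨_, proj_sect S u y⟩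

/-- The generators of the graph. -/
noncomputable def vec (S : Finset (Fin d)) (u : {c // c ∉ S} → S → A) (c : {c // c ∉ S}) : A ⊗[R] (Fin d → R) :=
  bas A c - sect S (u c)

theorem proj_vec (S : Finset (Fin d)) (u : {c // c ∉ S} → S → A) (c : {c // c ∉ S}) :
    proj (R := R) S u (vec S u c) = 0 := by
  rw [vec, map_sub, proj_bas_notMem, proj_sect, sub_self]

theorem ker_proj (S : Finset (Fin d)) (u : {c // c ∉ S} → S → A) :
    LinearMap.ker (proj (R := R) S u) = Submodule.span A (Set.range (vec S u)) := by
  classical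
  refine le_antisymm (fun x hx => ?_) (Submodule.span_le.2 ?_)
  · have h : x - sect S (proj S u x) ∈ Submodule.span A (Set.range (vec (R := R) S u)) := by
      have : ∀ z, z - sect S (proj S u z) ∈ Submodule.span A (Set.range (vec (R := R) S u)) := by
        intro z
        induction (bas (R := R) A).mem_span z using Submodule.span_induction with
        | mem z hz =>
          obtain ⟨c, rfl⟩ := hz
          by_cases hc : c ∈ S
          · rw [show proj S u (bas A c) = Pi.single ⟨c, hc⟩ 1 from proj_bas_mem S u ⟨c, hc⟩]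
            rw [show sect (R := R) S (Pi.single (⟨c, hc⟩ : S) (1 : A)) = bas A c by
              rw [← Pi.basisFun_apply, sect, Module.Basis.constr_basis], sub_self]
            exact zero_mem _
          · rw [show proj S u (bas A c) = u ⟨c, hc⟩ from proj_bas_notMem S u ⟨c, hc⟩]
            exact Submodule.subset_span ⟨⟨c, hc⟩, rfl⟩
        | zero => simp
        | add a b _ _ ha hb => rw [map_add, map_add, add_sub_add_comm]; exact add_mem ha hb
        | smul t a _ ha => rw [map_smul, map_smul, ← smul_sub]; exact Submodule.smul_mem _ t ha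
      exact this x
    rwa [LinearMap.mem_ker.1 hx, map_zero, sub_zero] at h
  · rintro _ ⟨c, rfl⟩
    exact proj_vec S u c

theorem proj_injective (S : Finset (Fin d)) {u u' : {c // c ∉ S} → S → A}
    (h : LinearMap.ker (proj (R := R) S u) = LinearMap.ker (proj (R := R) S u')) : u = u' := by
  funext c
  have : vec (R := R) S u c ∈ LinearMap.ker (proj (R := R) S u') := h ▸ proj_vec S u c
  rw [LinearMap.mem_ker, vec, map_sub, proj_bas_notMem, proj_sect, sub_eq_zero] at this
  exact this.symm

variable [Nontrivial A] in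
theorem finrank_pi_finset (S : Finset (Fin d)) : Module.finrank A (S → A) = S.card := by
  rw [Module.finrank_pi, Fintype.card_coe]

/-- The point of the Grassmannian with given graph. -/
noncomputable def graph {m : ℕ} (S : Finset (Fin d)) (hS : S.card = m) (u : {c // c ∉ S} → S → A) :
    Grassmannian A (A ⊗[R] (Fin d → R)) m :=
  letI e := (proj (R := R) S u).quotKerEquivOfSurjective (proj_surjective S u)
  { toSubmodule := LinearMap.ker (proj (R := R) S u)
    finite_quotient := Module.Finite.equiv e.symm
    projective_quotient := Module.Projective.of_equiv e.symm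
    rankAtStalk_eq := fun p => by
      have : Nontrivial A := PrimeSpectrum.nontrivial p
      rw [Module.rankAtStalk_eq_of_equiv e, Module.rankAtStalk_eq_finrank_of_free]
      simp [finrank_pi_finset, hS] }

theorem graph_toSubmodule {m : ℕ} (S : Finset (Fin d)) (hS : S.card = m) (u : {c // c ∉ S} → S → A) :
    (graph (R := R) S hS u).toSubmodule = LinearMap.ker (proj (R := R) S u) := rfl

/-- The composite from the free module on a set of columns to the quotient. -/
noncomputable def colMap (S : Finset (Fin d)) (N : Submodule A (A ⊗[R] (Fin d → R))) :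
    (S → A) →ₗ[A] (A ⊗[R] (Fin d → R)) ⧸ N :=
  N.mkQ.comp (sect S)

/-- A submodule lies in the chart of a set of columns. -/
def InChart {m : ℕ} (S : Finset (Fin d)) (N : Grassmannian A (A ⊗[R] (Fin d → R)) m) : Prop :=
  Function.Surjective (colMap S N.toSubmodule)

theorem graph_inChart {m : ℕ} (S : Finset (Fin d)) (hS : S.card = m) (u : {c // c ∉ S} → S → A) :
    InChart S (graph (R := R) S hS u) := by
  intro q
  obtain ⟨x, rfl⟩ := Submodule.mkQ_surjective _ q
  refine ⟨proj S u x, ?_⟩
  rw [colMap, LinearMap.comp_apply, Submodule.mkQ_apply, Submodule.mkQ_apply, Submodule.Quotient.eq,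
    graph_toSubmodule, LinearMap.mem_ker, map_sub, proj_sect, sub_self]

theorem InChart.bijective {m : ℕ} {S : Finset (Fin d)} {N : Grassmannian A (A ⊗[R] (Fin d → R)) m}
    (h : InChart S N) (hS : S.card = m) : Function.Bijective (colMap S N.toSubmodule) :=
  Module.bijective_of_surjective_of_rankAtStalk_eq h fun q _ => by
    have : Nontrivial A := PrimeSpectrum.nontrivial ⟨q, inferInstance⟩
    rw [N.rankAtStalk_eq, Module.rankAtStalk_eq_finrank_of_free]
    simp [finrank_pi_finset, hS]

theorem InChart.exists_eq {m : ℕ} {S : Finset (Fin d)} {N : Grassmannian A (A ⊗[R] (Fin d → R)) m}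
    (h : InChart S N) (hS : S.card = m) : ∃! u, N = graph (R := R) S hS u := by
  let e := LinearEquiv.ofBijective _ (h.bijective hS)
  let u : {c // c ∉ S} → S → A := fun c => e.symm (N.toSubmodule.mkQ (bas A c))
  have hP : proj (R := R) S u = e.symm.toLinearMap.comp N.toSubmodule.mkQ := by
    refine (bas A).ext fun c => ?_
    by_cases hc : c ∈ S
    · rw [show proj S u (bas A c) = Pi.single ⟨c, hc⟩ 1 from proj_bas_mem S u ⟨c, hc⟩, LinearMap.comp_apply,
        LinearEquiv.coe_coe]
      refine (e.symm_apply_eq.2 ?_).symm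
      show _ = N.toSubmodule.mkQ (sect S (Pi.single (⟨c, hc⟩ : S) (1 : A)))
      rw [← Pi.basisFun_apply, sect, Module.Basis.constr_basis]
    · exact proj_bas_notMem S u ⟨c, hc⟩
  refine ⟨u, Grassmannian.ext ?_, fun u' hu' => proj_injective (R := R) S ?_⟩
  · rw [graph_toSubmodule, hP, LinearEquiv.ker_comp, Submodule.ker_mkQ]
  · rw [← graph_toSubmodule S hS, ← hu', hP, LinearEquiv.ker_comp, Submodule.ker_mkQ]

end Alg

section Map

variable {A B : Type w} [CommRing A] [Algebra R A] [CommRing B] [Algebra R B]

/-- The semilinear map between base changes. -/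
noncomputable def ι (φ : A →ₐ[R] B) : A ⊗[R] (Fin d → R) →ₗ[R] B ⊗[R] (Fin d → R) :=
  φ.toLinearMap.rTensor (Fin d → R)

theorem ι_tmul (φ : A →ₐ[R] B) (a : A) (x : Fin d → R) : ι φ (a ⊗ₜ[R] x) = φ a ⊗ₜ[R] x := rfl

theorem ι_bas (φ : A →ₐ[R] B) (c : Fin d) : ι φ (bas A c) = bas B c := by
  rw [bas_apply, bas_apply, ι_tmul, map_one]

theorem ι_smul (φ : A →ₐ[R] B) (a : A) (x : A ⊗[R] (Fin d → R)) : ι φ (a • x) = φ a • ι φ x := by
  induction x with
  | zero => simp
  | tmul a' m => rw [smul_tmul', ι_tmul, ι_tmul, smul_tmul', smul_eq_mul, map_mul, smul_eq_mul]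
  | add x y hx hy => rw [smul_add, map_add, map_add, smul_add, hx, hy]

theorem ι_ι {C : Type w} [CommRing C] [Algebra R C] (φ : A →ₐ[R] B) (ψ : B →ₐ[R] C) (x : A ⊗[R] (Fin d → R)) :
    ι ψ (ι φ x) = ι (ψ.comp φ) x := by
  induction x with
  | zero => simp
  | tmul a m => rfl
  | add x y hx hy => simp only [map_add, hx, hy]

theorem ι_baseChange (φ : A →ₐ[R] B) (f : (Fin d → R) →ₗ[R] (Fin d → R)) (x : A ⊗[R] (Fin d → R)) :
    ι φ (f.baseChange A x) = f.baseChange B (ι φ x) := by
  induction x with
  | zero => simp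
  | tmul a m => rfl
  | add x y hx hy => simp only [map_add, hx, hy]

theorem map_eq_span {m : ℕ} (φ : A →ₐ[R] B) (N : Grassmannian A (A ⊗[R] (Fin d → R)) m) :
    (Grassmannian.map φ N).toSubmodule = Submodule.span B (ι φ '' N.toSubmodule) := by
  letI : Algebra A B := φ.toRingHom.toAlgebra
  haveI : IsScalarTower R A B := IsScalarTower.of_algebraMap_eq' φ.comp_algebraMap.symm
  let cbc := AlgebraTensorModule.cancelBaseChange R A B B (Fin d → R)
  have hι : ∀ x, ι φ x = cbc (1 ⊗ₜ[A] x) := fun x => by
    induction x with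
    | zero => simp
    | tmul a m => simp [cbc, ι_tmul, Algebra.smul_def]; rfl
    | add x y hx hy => rw [map_add, tmul_add, map_add, hx, hy]
  rw [Grassmannian.map_toSubmodule]
  refine le_antisymm (fun z hz => ?_) (Submodule.span_le.2 ?_)
  · have hz' : (N.toSubmodule.mkQ).baseChange B (cbc.symm z) = 0 := hz
    obtain ⟨v, hv⟩ := (lTensor_exact (M := N.toSubmodule) B (LinearMap.exact_subtype_mkQ N.toSubmodule)
      N.toSubmodule.mkQ_surjective (cbc.symm z)).1 hz'
    rw [← cbc.apply_symm_apply z, ← hv]
    clear hv hz' hz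
    induction v with
    | zero => simp
    | tmul b x =>
      rw [LinearMap.lTensor_tmul, show b ⊗ₜ[A] (N.toSubmodule.subtype x) = b • ((1 : B) ⊗ₜ[A] (x : A ⊗[R] (Fin d → R))) by
        rw [smul_tmul', smul_eq_mul, mul_one]; rfl, map_smul, ← hι]
      exact Submodule.smul_mem _ _ (Submodule.subset_span ⟨_, x.2, rfl⟩)
    | add x y hx hy => rw [map_add, map_add]; exact add_mem hx hy
  · rintro _ ⟨x, hx, rfl⟩
    show (N.toSubmodule.mkQ).baseChange B (cbc.symm (ι φ x)) = 0
    rw [hι, LinearEquiv.symm_apply_apply, LinearMap.baseChange_tmul, Submodule.mkQ_apply,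
      (Submodule.Quotient.mk_eq_zero _).2 hx, tmul_zero]

theorem ι_sect (φ : A →ₐ[R] B) (S : Finset (Fin d)) (y : S → A) :
    ι φ (sect S y) = sect (R := R) S (fun c => φ (y c)) := by
  rw [sect, sect, Module.Basis.constr_apply_fintype, Module.Basis.constr_apply_fintype, map_sum]
  refine Finset.sum_congr rfl fun c _ => ?_
  rw [ι_smul, ι_bas]
  simp

theorem span_image_ι (φ : A →ₐ[R] B) (s : Set (A ⊗[R] (Fin d → R))) :
    Submodule.span B (ι φ '' (Submodule.span A s)) = Submodule.span B (ι φ '' s) := by
  refine le_antisymm (Submodule.span_le.2 ?_) (Submodule.span_mono (Set.image_mono Submodule.subset_span))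
  rintro _ ⟨x, hx, rfl⟩
  induction hx using Submodule.span_induction with
  | mem z hz => exact Submodule.subset_span ⟨z, hz, rfl⟩
  | zero => simp
  | add a b _ _ ha hb => rw [map_add]; exact add_mem ha hb
  | smul t a _ ha => rw [ι_smul]; exact Submodule.smul_mem _ _ ha

theorem map_graph {m : ℕ} (φ : A →ₐ[R] B) (S : Finset (Fin d)) (hS : S.card = m) (u : {c // c ∉ S} → S → A) :
    Grassmannian.map φ (graph (R := R) S hS u) = graph S hS (fun c c' => φ (u c c')) := by
  refine Grassmannian.ext ?_
  rw [map_eq_span, graph_toSubmodule, graph_toSubmodule, ker_proj, ker_proj, span_image_ι, ← Set.range_comp]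
  congr 2
  funext c
  rw [Function.comp_apply, vec, vec, map_sub, ι_bas, ι_sect]

theorem InChart.map {m : ℕ} (φ : A →ₐ[R] B) {S : Finset (Fin d)} (hS : S.card = m)
    {N : Grassmannian A (A ⊗[R] (Fin d → R)) m} (h : InChart S N) : InChart S (Grassmannian.map φ N) := by
  obtain ⟨u, rfl, -⟩ := h.exists_eq hS
  rw [map_graph]
  exact graph_inChart S hS _

theorem map_le_of_le {m : ℕ} (φ : A →ₐ[R] B) (f : (Fin d → R) →ₗ[R] (Fin d → R))
    {N N' : Grassmannian A (A ⊗[R] (Fin d → R)) m}
    (h : N.toSubmodule.map (f.baseChange A) ≤ N'.toSubmodule) :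
    (Grassmannian.map φ N).toSubmodule.map (f.baseChange B) ≤ (Grassmannian.map φ N').toSubmodule := by
  rw [map_eq_span, map_eq_span, Submodule.map_span, Submodule.span_le]
  rintro _ ⟨_, ⟨x, hx, rfl⟩, rfl⟩
  rw [← ι_baseChange]
  exact Submodule.subset_span ⟨_, h ⟨x, hx, rfl⟩, rfl⟩

end Map

end Groth.Agent.Synt29.GrassGraph
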