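import Groth.Agent.Synt29.HVSect
import Groth.Agent.LocCohDepth.TildeFlasque
import Groth.Agent.SiteBase.Top

/-!
# Annihilation and exact sequences for `HV` in higher degrees
-/

set_option autoImplicit false
set_option linter.style.haveILetI false
set_option linter.unusedSectionVars false
set_option backward.isDefEq.respectTransparency false
set_option backward.isDefEq.respectTransparency.types false
set_option maxHeartbeats 1000000

universe u

open CategoryTheory CategoryTheory.Limits AlgebraicGeometry Opposite TopologicalSpace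
open Groth.Agent Groth.Agent.LocCohDepth.Punct
open Groth.Agent.PnCoh.Finite (mapLin deltaLin)
open Abelian (Ext)

noncomputable section

namespace Groth.Agent.Synt29.HVHigh

variable {A : Type u} [CommRing A]

instance additive_tilde : (tilde.functor (CommRingCat.of A)).Additive := by
  haveI : (tilde.functor (CommRingCat.of A)).IsLeftAdjoint := (tilde.adjunction (R := CommRingCat.of A)).isLeftAdjoint
  haveI : (tilde.functor (CommRingCat.of A)).PreservesZeroMorphisms := Functor.preservesZeroMorphisms_of_isLeftAdjoint _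
  haveI := preservesBinaryBiproducts_of_preservesBinaryCoproducts (tilde.functor (CommRingCat.of A))
  exact Functor.additive_of_preservesBinaryBiproducts _

instance zero_tilde : (tilde.functor (CommRingCat.of A)).PreservesZeroMorphisms := by
  haveI : (tilde.functor (CommRingCat.of A)).IsLeftAdjoint := (tilde.adjunction (R := CommRingCat.of A)).isLeftAdjoint
  exact Functor.preservesZeroMorphisms_of_isLeftAdjoint _

/-- The exact sequence of sheaves. -/
abbrev T (S : ShortComplex (ModuleCat.{u} (CommRingCat.of A))) :=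
  (S.map (tilde.functor (CommRingCat.of A))).map (QCoh.toAbFunctor (Spec (CommRingCat.of A)))

theorem shortExact_tilde {R : CommRingCat.{u}} {S : ShortComplex (ModuleCat.{u} R)} (hS : S.ShortExact) :
    ((S.map (tilde.functor R)).map (QCoh.toAbFunctor (Spec R))).ShortExact :=
  QCoh.toAb_shortExact (hS.map_of_exact (tilde.functor R))

theorem shT {S : ShortComplex (ModuleCat.{u} (CommRingCat.of A))} (hS : S.ShortExact) : (T S).ShortExact :=
  shortExact_tilde (R := CommRingCat.of A) hS

variable (V : (Spec (CommRingCat.of A)).Opens) {S : ShortComplex (ModuleCat.{u} (CommRingCat.of A))}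

/-- `H^i(V, N~)`. -/
abbrev H (N : ModuleCat.{u} (CommRingCat.of A)) (i : ℕ) : Type u := Formal2.HV A N i V

/-- The map induced by a linear map. -/
abbrev m {N M : ModuleCat.{u} (CommRingCat.of A)} (φ : N ⟶ M) (i : ℕ) : H V N i →+ H V M i :=
  Formal2.HVmap A φ.hom i V

theorem m_comp {L N M : ModuleCat.{u} (CommRingCat.of A)} (φ : L ⟶ N) (ψ : N ⟶ M) (i : ℕ) (x : H V L i) :
    m V (φ ≫ ψ) i x = m V ψ i (m V φ i x) := by
  let g₁ : HVSect.sh (L : Type u) ⟶ HVSect.sh (N : Type u) := (SheafOfModules.toSheaf _).map (tilde.map φ)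
  let g₂ : HVSect.sh (N : Type u) ⟶ HVSect.sh (M : Type u) := (SheafOfModules.toSheaf _).map (tilde.map ψ)
  have e : (SheafOfModules.toSheaf _).map (tilde.map (φ ≫ ψ)) = g₁ ≫ g₂ := by
    rw [show tilde.map (φ ≫ ψ) = tilde.map φ ≫ tilde.map ψ from (tilde.functor (CommRingCat.of A)).map_comp φ ψ]
    exact (SheafOfModules.toSheaf _).map_comp _ _
  show Ext.comp x (Ext.mk₀ ((SheafOfModules.toSheaf _).map (tilde.map (φ ≫ ψ)))) (add_zero i) =
    Ext.comp (Ext.comp x (Ext.mk₀ g₁) (add_zero i)) (Ext.mk₀ g₂) (add_zero i)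
  rw [Ext.comp_assoc_of_third_deg_zero, Ext.mk₀_comp_mk₀, e]

theorem m_id (N : ModuleCat.{u} (CommRingCat.of A)) (i : ℕ) (x : H V N i) : m V (𝟙 N) i x = x := by
  show Ext.comp x (Ext.mk₀ ((SheafOfModules.toSheaf _).map (tilde.map (𝟙 N)))) (add_zero i) = x
  rw [show tilde.map (𝟙 N) = 𝟙 (tilde N) from (tilde.functor (CommRingCat.of A)).map_id N,
    show (SheafOfModules.toSheaf _).map (𝟙 (tilde N)) = 𝟙 _ from (SheafOfModules.toSheaf _).map_id _,
    Ext.comp_mk₀_id]

/-- The connecting map. -/
def δ (hS : S.ShortExact) (i : ℕ) : H V S.X₃ i →+ H V S.X₁ (i + 1) :=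
  AddMonoidHom.mk' (fun x => Ext.comp x (shT (A := A) hS).extClass rfl) fun x y => Ext.add_comp _ _ _ _

theorem exact₁ (hS : S.ShortExact) (i : ℕ) (x : H V S.X₁ (i + 1)) (hx : m V S.f (i + 1) x = 0) :
    ∃ y, δ V hS i y = x :=
  Ext.covariant_sequence_exact₁ _ (shT (A := A) hS) x hx rfl

theorem exact₂ (hS : S.ShortExact) (i : ℕ) (x : H V S.X₂ i) (hx : m V S.g i x = 0) :
    ∃ y, m V S.f i y = x :=
  Ext.covariant_sequence_exact₂ _ (shT (A := A) hS) x hx

theorem exact₃ (hS : S.ShortExact) (i : ℕ) (x : H V S.X₃ i) (hx : δ V hS i x = 0) :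
    ∃ y, m V S.g i y = x :=
  Ext.covariant_sequence_exact₃ _ (shT (A := A) hS) x rfl hx

theorem δ_natural {S' : ShortComplex (ModuleCat.{u} (CommRingCat.of A))} (hS : S.ShortExact) (hS' : S'.ShortExact)
    (τ : S ⟶ S') (i : ℕ) (x : H V S.X₃ i) :
    δ V hS' i (m V τ.τ₃ i x) = m V τ.τ₁ (i + 1) (δ V hS i x) := by
  let τ' : T S ⟶ T S' := (QCoh.toAbFunctor (Spec (CommRingCat.of A))).mapShortComplex.map
    ((tilde.functor (CommRingCat.of A)).mapShortComplex.map τ)
  have h := ShortComplex.ShortExact.extClass_naturality (shT (A := A) hS) (shT (A := A) hS') τ'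
  show Ext.comp (Ext.comp x (Ext.mk₀ τ'.τ₃) (add_zero i)) (shT (A := A) hS').extClass rfl =
    Ext.comp (Ext.comp x (shT (A := A) hS).extClass rfl) (Ext.mk₀ τ'.τ₁) (add_zero (i + 1))
  rw [Ext.comp_assoc_of_second_deg_zero, ← h, Ext.comp_assoc_of_third_deg_zero]

theorem subsingleton_injective [IsNoetherianRing A] (E : ModuleCat.{u} (CommRingCat.of A)) [Module.Injective A E]
    (i : ℕ) : Subsingleton (H V E (i + 1)) := by
  haveI hf := LocCohDepth.isFlasque_tilde (A := A) E
  exact SiteBase.subsingleton_HU_of_isFlasque _ _ i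

theorem m_smul_zero (U : (Spec (CommRingCat.of A)).Opens) (N : ModuleCat.{u} (CommRingCat.of A)) (a : A)
    (x : H U N 0) : HVSect.ev U N (m U (a • 𝟙 N) 0 x) = a • HVSect.ev U N x := by
  refine (HVSect.ev_natural U (a • 𝟙 N : N ⟶ N).hom x).trans ?_
  exact mapLin_smul N a 0 (HVSect.ev U N x)

/-- A scalar killing `H^(i+1)` of the sheaf on the open subscheme kills `HV`. -/
theorem kill [IsNoetherianRing A] (𝔞 : Ideal A) (a : A) : ∀ (i : ℕ) (N : ModuleCat.{u} (CommRingCat.of A)),
    (∀ x : Coh.HH (LocCoh.puncturedOpen A 𝔞 : Scheme.{u}) ((G (LocCoh.puncturedOpen A 𝔞)).obj N) (i + 1), a • x = 0) →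
      ∀ x : H (LocCoh.puncturedOpen A 𝔞) N (i + 1), m (LocCoh.puncturedOpen A 𝔞) (a • 𝟙 N) (i + 1) x = 0 := by
  intro i
  induction i with
  | zero =>
    intro N hN x
    let U := LocCoh.puncturedOpen A 𝔞
    let S : ShortComplex (ModuleCat.{u} (CommRingCat.of A)) :=
      ShortComplex.mk (Injective.ι N) (cokernel.π (Injective.ι N)) (cokernel.condition _)
    have hS : S.ShortExact := { exact := ShortComplex.exact_of_g_is_cokernel _ (cokernelIsCokernel _) }
    haveI : Injective S.X₂ := inferInstanceAs (Injective (Injective.under N))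
    haveI : Module.Injective A S.X₂ := Module.injective_module_of_injective_object A S.X₂
    haveI := subsingleton_injective U S.X₂ 0
    obtain ⟨q, rfl⟩ := exact₁ U hS 0 x (Subsingleton.elim _ _)
    let τ : S ⟶ S := { τ₁ := a • 𝟙 S.X₁, τ₂ := a • 𝟙 S.X₂, τ₃ := a • 𝟙 S.X₃
                       comm₁₂ := by rw [Linear.smul_comp, Category.id_comp, Linear.comp_smul, Category.comp_id]
                       comm₂₃ := by rw [Linear.smul_comp, Category.id_comp, Linear.comp_smul, Category.comp_id] }
    refine (δ_natural U hS hS τ 0 q).symm.trans ?_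
    have h1 : a • HVSect.ev U S.X₃ q ∈ LinearMap.range (mapLin A ((G U).map S.g) 0) := by
      have := CurveCohLib.ker_deltaLin (S := S.map (G U)) A (GrLib8.PuncturedLC.shortExact_G U hS) 0
      refine this.le ?_
      rw [LinearMap.mem_ker, LinearMap.map_smul]
      exact hN _
    obtain ⟨e, he⟩ := h1
    obtain ⟨w, rfl⟩ := (HVSect.ev U S.X₂).surjective e
    have h2 : m U S.g 0 w = m U (a • 𝟙 S.X₃) 0 q := by
      apply (HVSect.ev U S.X₃).injective
      rw [m_smul_zero, ← he]
      exact HVSect.ev_natural U S.g.hom w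
    show δ U hS 0 (m U (a • 𝟙 S.X₃) 0 q) = 0
    rw [← h2]
    show Ext.comp (Ext.comp w (Ext.mk₀ (T S).g) (add_zero 0)) (shT (A := A) hS).extClass rfl = 0
    rw [Ext.comp_assoc_of_second_deg_zero, ShortComplex.ShortExact.comp_extClass, Ext.comp_zero]
  | succ i ih =>
    intro N hN x
    let U := LocCoh.puncturedOpen A 𝔞
    let S : ShortComplex (ModuleCat.{u} (CommRingCat.of A)) :=
      ShortComplex.mk (Injective.ι N) (cokernel.π (Injective.ι N)) (cokernel.condition _)
    have hS : S.ShortExact := { exact := ShortComplex.exact_of_g_is_cokernel _ (cokernelIsCokernel _) }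
    haveI : Injective S.X₂ := inferInstanceAs (Injective (Injective.under N))
    haveI : Module.Injective A S.X₂ := Module.injective_module_of_injective_object A S.X₂
    haveI := subsingleton_injective U S.X₂ (i + 1)
    obtain ⟨q, rfl⟩ := exact₁ U hS (i + 1) x (Subsingleton.elim _ _)
    let τ : S ⟶ S := { τ₁ := a • 𝟙 S.X₁, τ₂ := a • 𝟙 S.X₂, τ₃ := a • 𝟙 S.X₃
                       comm₁₂ := by rw [Linear.smul_comp, Category.id_comp, Linear.comp_smul, Category.comp_id]
                       comm₂₃ := by rw [Linear.smul_comp, Category.id_comp, Linear.comp_smul, Category.comp_id] }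
    refine (δ_natural U hS hS τ (i + 1) q).symm.trans ?_
    show δ U hS (i + 1) (m U (a • 𝟙 S.X₃) (i + 1) q) = 0
    rw [ih S.X₃ (fun z => ?_) q, map_zero]
    have hinj : deltaLin A (GrLib8.PuncturedLC.shortExact_G U hS) (i + 1) (a • z) = 0 := by
      rw [LinearMap.map_smul]
      exact hN _
    haveI : Subsingleton (Coh.HH (U : Scheme.{u}) (S.map (G U)).X₂ (i + 1)) :=
      GrLib8.PuncturedLC.subsingleton_HH_injective 𝔞 S.X₂ i
    obtain ⟨w, hw⟩ := (CurveCohLib.ker_deltaLin (S := S.map (G U)) A (GrLib8.PuncturedLC.shortExact_G U hS) (i + 1)).le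
      (LinearMap.mem_ker.2 hinj)
    rw [← hw, Subsingleton.elim w 0, map_zero]

end Groth.Agent.Synt29.HVHigh
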