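import Mathlib

/-!
An open chart of a scheme representing a functor on algebras.
-/

set_option autoImplicit false
set_option backward.isDefEq.respectTransparency false

universe u

open CategoryTheory CategoryTheory.Limits AlgebraicGeometry

namespace Groth.Agent.Synt29.RepOpen

variable {R : Type u} [CommRing R]

/-- The spectrum of an algebra over the base. -/
noncomputable abbrev sp (A : CommAlgCat.{u} R) : Over (Spec (CommRingCat.of R)) :=
  Over.mk (Spec.map (CommRingCat.ofHom (algebraMap R A)))

/-- The map of spectra. -/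
noncomputable abbrev spMap {A B : CommAlgCat.{u} R} (φ : A ⟶ B) : (sp B).left ⟶ (sp A).left :=
  Spec.map (CommRingCat.ofHom φ.hom.toRingHom)

theorem spMap_w {A B : CommAlgCat.{u} R} (φ : A ⟶ B) : spMap φ ≫ (sp A).hom = (sp B).hom := by
  show Spec.map _ ≫ Spec.map _ = Spec.map _
  rw [← Spec.map_comp, ← CommRingCat.ofHom_comp]
  exact congrArg (fun t => Spec.map (CommRingCat.ofHom t)) φ.hom.comp_algebraMap

/-- The map of spectra over the base. -/
noncomputable abbrev spOver {A B : CommAlgCat.{u} R} (φ : A ⟶ B) : sp B ⟶ sp A :=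
  Over.homMk (spMap φ) (spMap_w φ)

theorem exists_spMap {A B : CommAlgCat.{u} R} (g : sp B ⟶ sp A) : ∃ φ : A ⟶ B, g = spOver φ := by
  have hw := Over.w g
  obtain ⟨χ, hχ⟩ : ∃ χ, Spec.map χ = g.left := ⟨Spec.preimage g.left, Spec.map_preimage _⟩
  have hc : χ.hom.comp (algebraMap R A) = algebraMap R B := by
    have : Spec.map χ ≫ Spec.map (CommRingCat.ofHom (algebraMap R A)) =
        Spec.map (CommRingCat.ofHom (algebraMap R B)) := by rw [hχ]; exact hw
    rw [← Spec.map_comp] at this
    exact congrArg CommRingCat.Hom.hom (Spec.map_injective this)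
  exact ⟨CommAlgCat.ofHom (⟨χ.hom, fun r => RingHom.congr_fun hc r⟩ : A →ₐ[R] B),
    Over.OverMorphism.ext hχ.symm⟩

theorem algebraMap_algHom {A : Type u} [CommRing A] [Algebra R A] (h : A) :
    ∃ φ : CommAlgCat.of R A ⟶ CommAlgCat.of R (Localization.Away h),
      φ.hom.toRingHom = algebraMap A (Localization.Away h) :=
  ⟨CommAlgCat.ofHom (IsScalarTower.toAlgHom R A (Localization.Away h)), rfl⟩

/-- The map to the localisation at one element. -/
noncomputable abbrev toAway (A : CommAlgCat.{u} R) (h : A) : A ⟶ CommAlgCat.of R (Localization.Away h) :=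
  CommAlgCat.ofHom (IsScalarTower.toAlgHom R A (Localization.Away h))

variable (X : Over (Spec (CommRingCat.of R))) (F : CommAlgCat.{u} R ⥤ Type u)
  (e : ∀ A, (sp A ⟶ X) ≃ F.obj A)

/-- The bijections commute with base change. -/
def IsNat : Prop := ∀ (A B : CommAlgCat.{u} R) (φ : A ⟶ B) (g : sp A ⟶ X), e B (spOver φ ≫ g) = F.map φ (e A g)

/-- A chart of the functor: an open subfunctor corepresented by an algebra. -/
structure Chart where
  /-- The condition. -/
  P : ∀ A : CommAlgCat.{u} R, F.obj A → Prop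
  /-- The algebra. -/
  C : CommAlgCat.{u} R
  /-- The universal point. -/
  univ : F.obj C
  mem_univ : P C univ
  map_mem : ∀ {A B : CommAlgCat.{u} R} (φ : A ⟶ B) {x : F.obj A}, P A x → P B (F.map φ x)
  lift : ∀ {A : CommAlgCat.{u} R} {x : F.obj A}, P A x → ∃! φ : C ⟶ A, F.map φ univ = x
  isOpen : ∀ {A : CommAlgCat.{u} R} (x : F.obj A) (L : CommAlgCat.{u} R), IsField L → ∀ (ψ : A ⟶ L),
    P L (F.map ψ x) → ∃ h : A, ψ.hom h ≠ 0 ∧ P _ (F.map (toAway A h) x)

variable {X F e} (he : IsNat X F e) (c : Chart F)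

/-- The morphism from the chart. -/
noncomputable def Chart.hom (e : ∀ A, (sp A ⟶ X) ≃ F.obj A) : sp c.C ⟶ X := (e c.C).symm c.univ

include he in
theorem fac_iff {A : CommAlgCat.{u} R} (g : sp A ⟶ X) :
    (∃ l : sp A ⟶ sp c.C, l ≫ c.hom e = g) ↔ c.P A (e A g) := by
  refine ⟨?_, fun h => ?_⟩
  · rintro ⟨l, rfl⟩
    obtain ⟨φ, rfl⟩ := exists_spMap l
    rw [he, Chart.hom, Equiv.apply_symm_apply]
    exact c.map_mem φ c.mem_univ
  · obtain ⟨φ, hφ, -⟩ := c.lift h
    exact ⟨spOver φ, (e A).injective (by rw [he, Chart.hom, Equiv.apply_symm_apply, hφ])⟩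

include he in
theorem fac_unique {A : CommAlgCat.{u} R} (l l' : sp A ⟶ sp c.C) (h : l ≫ c.hom e = l' ≫ c.hom e) : l = l' := by
  obtain ⟨φ, rfl⟩ := exists_spMap l
  obtain ⟨φ', rfl⟩ := exists_spMap l'
  have h' := congrArg (e A) h
  rw [he, he, Chart.hom, Equiv.apply_symm_apply] at h'
  rw [(c.lift (c.map_mem φ' c.mem_univ)).unique h' rfl]

/-- An affine scheme over the base is a spectrum of an algebra. -/
theorem exists_sp_iso (T : Over (Spec (CommRingCat.of R))) [IsAffine T.left] :
    ∃ (A : CommAlgCat.{u} R), Nonempty (sp A ≅ T) := by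
  let i := T.left.isoSpec
  obtain ⟨χ, hχ⟩ : ∃ χ, Spec.map χ = i.inv ≫ T.hom := ⟨Spec.preimage _, Spec.map_preimage _⟩
  letI : Algebra R Γ(T.left, ⊤) := χ.hom.toAlgebra
  exact ⟨CommAlgCat.of R Γ(T.left, ⊤), ⟨Over.isoMk i.symm hχ.symm⟩⟩

include he in
theorem mono_hom : Mono (c.hom e).left := by
  refine ⟨fun {T} u v h => ?_⟩
  refine Scheme.Cover.hom_ext T.affineCover _ _ fun i => ?_
  let T' : Over (Spec (CommRingCat.of R)) := Over.mk (T.affineCover.f i ≫ u ≫ (sp c.C).hom)
  have : IsAffine T'.left := inferInstanceAs (IsAffine (T.affineCover.X i))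
  obtain ⟨A, ⟨iA⟩⟩ := exists_sp_iso T'
  let u' : T' ⟶ sp c.C := Over.homMk (T.affineCover.f i ≫ u) (Category.assoc _ _ _)
  let v' : T' ⟶ sp c.C := Over.homMk (T.affineCover.f i ≫ v) (by
    show (T.affineCover.f i ≫ v) ≫ (sp c.C).hom = T.affineCover.f i ≫ u ≫ (sp c.C).hom
    rw [← Over.w (c.hom e), ← Category.assoc u, h]; simp)
  have : iA.hom ≫ u' = iA.hom ≫ v' := fac_unique he c _ _ (Over.OverMorphism.ext (by
    simp only [Over.comp_left, u', v', Over.homMk_left, Category.assoc, h]))
  have := congrArg CommaMorphism.left ((cancel_epi iA.hom).1 this)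
  simpa [u', v'] using this

theorem spOver_comp {A B C : CommAlgCat.{u} R} (φ : A ⟶ B) (ψ : B ⟶ C) :
    spOver (φ ≫ ψ) = spOver ψ ≫ spOver φ := by
  refine Over.OverMorphism.ext ?_
  show Spec.map _ = Spec.map _ ≫ Spec.map _
  rw [← Spec.map_comp]
  rfl

include he in
theorem mem_range_iff {A : CommAlgCat.{u} R} (g : sp A ⟶ X) (p : Spec (CommRingCat.of A)) :
    g.left p ∈ Set.range (c.hom e).left ↔ ∃ h : A, h ∉ p.asIdeal ∧ c.P _ (F.map (toAway A h) (e A g)) := by
  constructor
  · rintro ⟨z, hz⟩
    obtain ⟨w, hw1, hw2⟩ := Scheme.Pullback.exists_preimage_pullback (f := g.left) (g := (c.hom e).left) p z hz.symm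
    let P' := pullback g.left (c.hom e).left
    obtain ⟨χ, hχ⟩ : ∃ χ, Spec.map χ = P'.fromSpecResidueField w ≫ pullback.fst g.left (c.hom e).left :=
      ⟨Spec.preimage _, Spec.map_preimage _⟩
    letI : Algebra R (P'.residueField w) := (χ.hom.comp (algebraMap R A)).toAlgebra
    let L := CommAlgCat.of R (P'.residueField w)
    let ψ : A ⟶ L := CommAlgCat.ofHom (⟨χ.hom, fun r => rfl⟩ : A →ₐ[R] (P'.residueField w))
    have hfac : c.P L (F.map ψ (e A g)) := by
      rw [← he, ← fac_iff he c]
      refine ⟨Over.homMk (P'.fromSpecResidueField w ≫ pullback.snd g.left (c.hom e).left) ?_, Over.OverMorphism.ext ?_⟩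
      · have h1 := spMap_w ψ
        rw [← Over.w (c.hom e), Category.assoc, ← pullback.condition_assoc, ← reassoc_of% hχ, Over.w g]
        exact h1
      · show (P'.fromSpecResidueField w ≫ _) ≫ (c.hom e).left = Spec.map χ ≫ g.left
        rw [hχ, Category.assoc, Category.assoc, pullback.condition]
    obtain ⟨h, hne, hh⟩ := c.isOpen (e A g) L (Field.toIsField (P'.residueField w)) ψ hfac
    refine ⟨h, fun hp => hne ?_, hh⟩
    have h0 : (Spec.map χ) (IsLocalRing.closedPoint (P'.residueField w)) = p := by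
      rw [hχ, Scheme.Hom.comp_apply, Scheme.fromSpecResidueField_apply]; exact hw1
    rw [← h0] at hp
    have : χ.hom h ∈ (IsLocalRing.closedPoint (P'.residueField w)).asIdeal := hp
    have h1 : χ.hom h ∈ IsLocalRing.maximalIdeal (P'.residueField w) := this
    rwa [IsLocalRing.maximalIdeal_eq_bot, Ideal.mem_bot] at h1
  · rintro ⟨h, hp, hh⟩
    rw [← he, ← fac_iff he c] at hh
    obtain ⟨l, hl⟩ := hh
    have hp' : p ∈ Set.range (spMap (toAway A h)) := by
      show p ∈ Set.range (PrimeSpectrum.comap (algebraMap A (Localization.Away h)))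
      rw [PrimeSpectrum.localization_away_comap_range (Localization.Away h) h]
      exact hp
    obtain ⟨q, rfl⟩ := hp'
    refine ⟨l.left q, ?_⟩
    rw [← Scheme.Hom.comp_apply, ← Over.comp_left, hl]
    rfl

include he in
theorem isOpenImmersion_hom : IsOpenImmersion (c.hom e).left := by
  have hm := mono_hom he c
  rw [IsZariskiLocalAtTarget.iff_of_openCover (P := @IsOpenImmersion) X.left.affineCover]
  intro i
  let T : Over (Spec (CommRingCat.of R)) := Over.mk (X.left.affineCover.f i ≫ X.hom)
  have : IsAffine T.left := inferInstanceAs (IsAffine (X.left.affineCover.X i))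
  obtain ⟨A, ⟨iA⟩⟩ := exists_sp_iso T
  let ι : T ⟶ X := Over.homMk (X.left.affineCover.f i) rfl
  let g : sp A ⟶ X := iA.hom ≫ ι
  show IsOpenImmersion (pullback.snd (c.hom e).left (X.left.affineCover.f i))
  set q := pullback.snd (c.hom e).left (X.left.affineCover.f i) with hqdef
  have hq : Mono q := inferInstanceAs (Mono (pullback.snd _ _))
  let j : T.left ≅ (sp A).left := ((Over.forget _).mapIso iA).symm
  have : IsOpenImmersion (q ≫ j.hom) := by
    set r := q ≫ j.hom with hrdef
    have hr : Mono r := mono_comp _ _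
    have hrg : r ≫ g.left = pullback.fst (c.hom e).left (X.left.affineCover.f i) ≫ (c.hom e).left := by
      rw [pullback.condition, hrdef, Category.assoc]
      congr 1
      show iA.inv.left ≫ iA.hom.left ≫ ι.left = _
      rw [← Category.assoc, ← Over.comp_left, iA.inv_hom_id, Over.id_left, Category.id_comp]
      rfl
    have hloc : ∀ z, ∃ U : (sp A).left.Opens, r z ∈ U ∧ IsIso (r ∣_ U) := by
      intro z
      have hz : g.left (r z) ∈ Set.range (c.hom e).left :=
        ⟨pullback.fst (c.hom e).left (X.left.affineCover.f i) z, by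
          rw [← Scheme.Hom.comp_apply, ← hrg, Scheme.Hom.comp_apply]⟩
      obtain ⟨h, hh, hP⟩ := (mem_range_iff he c g _).1 hz
      rw [← he, ← fac_iff he c] at hP
      obtain ⟨l, hl⟩ := hP
      have hoi : IsOpenImmersion (spMap (toAway A h)) := IsOpenImmersion.of_isLocalization h
      refine ⟨(spMap (toAway A h)).opensRange, ?_, ?_⟩
      · show r z ∈ Set.range (PrimeSpectrum.comap (algebraMap A (Localization.Away h)))
        rw [PrimeSpectrum.localization_away_comap_range (Localization.Away h) h]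
        exact hh
      · let U := (spMap (toAway A h)).opensRange
        let b : (sp (CommAlgCat.of R (Localization.Away h))).left ⟶ pullback (c.hom e).left (X.left.affineCover.f i) :=
          pullback.lift l.left (spMap (toAway A h) ≫ iA.hom.left) (by
            rw [← Over.comp_left, hl, Category.assoc]; rfl)
        have hb : b ≫ r = spMap (toAway A h) := by
          rw [hrdef, ← Category.assoc, pullback.lift_snd, Category.assoc]
          show _ ≫ iA.hom.left ≫ iA.inv.left = _
          rw [← Over.comp_left, iA.hom_inv_id, Over.id_left, Category.comp_id]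
        let iso := (spMap (toAway A h)).isoOpensRange
        have hiso : (iso.inv ≫ b) ≫ r = U.ι := by
          rw [Category.assoc, hb]
          exact Scheme.Hom.isoOpensRange_inv_comp _
        have hbmem : Set.range (iso.inv ≫ b) ⊆ (r ⁻¹ᵁ U : Set _) := by
          rintro _ ⟨y, rfl⟩
          show r ((iso.inv ≫ b) y) ∈ U
          rw [← Scheme.Hom.comp_apply, hiso]
          exact y.2
        let sec := IsOpenImmersion.lift (r ⁻¹ᵁ U).ι (iso.inv ≫ b) (by simpa using hbmem)
        have hsec : sec ≫ r ∣_ U = 𝟙 _ := by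
          rw [← cancel_mono U.ι, Category.assoc, morphismRestrict_ι, IsOpenImmersion.lift_fac_assoc, hiso,
            Category.id_comp]
        have : Mono (r ∣_ U) := mono_of_mono_fac (morphismRestrict_ι r U)
        exact ⟨sec, by rw [← cancel_mono (r ∣_ U), Category.assoc, hsec, Category.comp_id, Category.id_comp], hsec⟩
    choose U hU hUiso using hloc
    have hcov : ⨆ z, r ⁻¹ᵁ U z = ⊤ :=
      eq_top_iff.2 fun z _ => TopologicalSpace.Opens.mem_iSup.2 ⟨z, hU z⟩
    have hopen : ∀ z, IsOpenImmersion ((r ⁻¹ᵁ U z).ι ≫ r) := fun z => by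
      have := hUiso z
      rw [← morphismRestrict_ι]
      infer_instance
    have : Flat r := IsZariskiLocalAtSource.of_iSup_eq_top _ hcov fun z => by
      have := hopen z; infer_instance
    have : LocallyOfFinitePresentation r := IsZariskiLocalAtSource.of_iSup_eq_top _ hcov fun z => by
      have := hopen z; infer_instance
    exact IsOpenImmersion.of_flat_of_mono r
  have e1 : q = (q ≫ j.hom) ≫ j.inv := ((Category.assoc _ _ _).trans ((congrArg (q ≫ ·) j.hom_inv_id).trans (Category.comp_id q))).symm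
  rw [e1]
  infer_instance

end Groth.Agent.Synt29.RepOpen
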