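import Groth.Prelude.Def_W4c1limliniiiiLG
import Groth.Agent.Synt29.GrassGraph
import Groth.Agent.Synt29.RepOpen

/-!
The functor of linked tuples and its graph charts.
-/

set_option autoImplicit false

universe u w

open TensorProduct CategoryTheory W4c1limliniiii

namespace Groth.Agent.Synt29.LG

open GrassGraph
open Module (Grassmannian)

variable {R : Type u} [CommRing R] {d r n : ℕ}

/-- The functor of linked tuples. -/
noncomputable def functor (r : ℕ) (f g : Fin n → ((Fin d → R) →ₗ[R] (Fin d → R))) :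
    CommAlgCat.{u} R ⥤ Type u where
  obj A := LGPoints R d r n f g A
  map {A B} φ := ↾fun V => ⟨fun i => Grassmannian.map φ.hom (V.1 i), fun i =>
    ⟨map_le_of_le φ.hom (f i) (V.2 i).1, map_le_of_le φ.hom (g i) (V.2 i).2⟩⟩
  map_id A := by refine ConcreteCategory.hom_ext _ _ fun V => ?_; exact Subtype.ext (funext fun i => Grassmannian.map_id _ A (V.1 i))
  map_comp φ ψ := by refine ConcreteCategory.hom_ext _ _ fun V => ?_; exact Subtype.ext (funext fun i => Grassmannian.map_comp _ φ.hom ψ.hom (V.1 i))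

theorem functor_map_val {f g : Fin n → ((Fin d → R) →ₗ[R] (Fin d → R))} {A B : CommAlgCat.{u} R} (φ : A ⟶ B)
    (V : (functor r f g).obj A) (i : Fin (n + 1)) :
    ((functor r f g).map φ V).1 i = Grassmannian.map φ.hom (V.1 i) := rfl

section Span

variable {A B : Type w} [CommRing A] [Algebra R A] [CommRing B] [Algebra R B]

theorem proj_ι (φ : A →ₐ[R] B) (S : Finset (Fin d)) (u : {c // c ∉ S} → S → A) (x : A ⊗[R] (Fin d → R)) :
    proj (R := R) S (fun c c' => φ (u c c')) (ι φ x) = fun c' => φ (proj (R := R) S u x c') := by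
  induction (bas (R := R) A).mem_span x using Submodule.span_induction with
  | mem z hz =>
    obtain ⟨c, rfl⟩ := hz
    rw [ι_bas]
    funext c'
    by_cases hc : c ∈ S
    · rw [proj_bas, proj_bas, dif_pos hc, dif_pos hc, Pi.single_apply, Pi.single_apply]
      split_ifs <;> simp
    · rw [proj_bas, proj_bas, dif_neg hc, dif_neg hc]
  | zero => funext c'; simp
  | add a b _ _ ha hb => funext c'; simp [map_add, ha, hb]
  | smul t a _ ha => funext c'; simp [ι_smul, ha]

theorem repr_ι (φ : A →ₐ[R] B) (x : A ⊗[R] (Fin d → R)) (c : Fin d) :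
    (bas (R := R) B).repr (ι φ x) c = φ ((bas (R := R) A).repr x c) := by
  induction (bas (R := R) A).mem_span x using Submodule.span_induction with
  | mem z hz =>
    obtain ⟨c', rfl⟩ := hz
    rw [ι_bas, Module.Basis.repr_self, Module.Basis.repr_self, Finsupp.single_apply, Finsupp.single_apply]
    split_ifs <;> simp
  | zero => simp
  | add a b _ _ ha hb => simp [ha, hb]
  | smul t a _ ha => simp [ι_smul, ha]

theorem det_ι (φ : A →ₐ[R] B) (v : Fin d → A ⊗[R] (Fin d → R)) :
    (bas (R := R) B).det (fun i => ι φ (v i)) = φ ((bas (R := R) A).det v) := by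
  rw [Module.Basis.det_apply, Module.Basis.det_apply, AlgHom.map_det]
  congr 1
  ext a b
  simp [Module.Basis.toMatrix_apply, repr_ι]

theorem span_eq_top_iff_isUnit_det (v : Fin d → A ⊗[R] (Fin d → R)) :
    Submodule.span A (Set.range v) = ⊤ ↔ IsUnit ((bas (R := R) A).det v) := by
  refine ⟨fun h => ?_, fun h => ((bas (R := R) A).is_basis_iff_det.2 h).2⟩
  refine (bas (R := R) A).is_basis_iff_det.1 ⟨?_, h⟩
  rcases subsingleton_or_nontrivial A with hA | hA
  · exact linearIndependent_of_subsingleton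
  have : Module.Finite A (A ⊗[R] (Fin d → R)) := Module.Finite.of_basis (bas A)
  exact linearIndependent_of_top_le_span_of_card_eq_finrank h.ge (by
    rw [Module.finrank_eq_card_basis (bas (R := R) A)])

/-- Spanning at a field-valued point holds on a neighbourhood. -/
theorem exists_det_ne_zero {L : Type w} [Field L] [Algebra R L] (ψ : A →ₐ[R] L)
    (s : Set (A ⊗[R] (Fin d → R))) (h : Submodule.span L (ι ψ '' s) = ⊤) :
    ∃ v : Fin d → A ⊗[R] (Fin d → R), (∀ i, v i ∈ s) ∧ ψ ((bas (R := R) A).det v) ≠ 0 := by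
  obtain ⟨b, hb, hsp, hli⟩ := exists_linearIndependent L (ι ψ '' s)
  rw [h] at hsp
  let B' : Module.Basis b L (L ⊗[R] (Fin d → R)) := Module.Basis.mk hli (by rw [Subtype.range_coe]; exact hsp.ge)
  let eb := B'.indexEquiv (bas (R := R) L)
  choose x hx hx' using fun i : Fin d => hb (eb.symm i).2
  refine ⟨x, hx, ?_⟩
  rw [← det_ι]
  have : (fun i => ι ψ (x i)) = ⇑(B'.reindex eb) := funext fun i => by
    rw [hx', Module.Basis.reindex_apply, Module.Basis.mk_apply]
  rw [this]
  exact ((bas (R := R) L).isUnit_det (B'.reindex eb)).ne_zero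

theorem span_eq_top_of_isUnit (φ : A →ₐ[R] B) (s : Set (A ⊗[R] (Fin d → R))) (v : Fin d → A ⊗[R] (Fin d → R))
    (hv : ∀ i, v i ∈ s) (h : IsUnit (φ ((bas (R := R) A).det v))) :
    Submodule.span B (ι φ '' s) = ⊤ := by
  rw [← det_ι, ← span_eq_top_iff_isUnit_det] at h
  exact eq_top_iff.2 (h ▸ Submodule.span_mono (by rintro _ ⟨i, rfl⟩; exact ⟨_, hv i, rfl⟩))

theorem range_sect (S : Finset (Fin d)) :
    LinearMap.range (sect (R := R) (A := A) S) = Submodule.span A (bas A '' (S : Set (Fin d))) := by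
  rw [sect, Module.Basis.constr_range, Set.image_eq_range]
  rfl

theorem inChart_iff {m : ℕ} (S : Finset (Fin d)) (N : Grassmannian A (A ⊗[R] (Fin d → R)) m) :
    InChart S N ↔ N.toSubmodule ⊔ Submodule.span A (bas A '' (S : Set (Fin d))) = ⊤ := by
  rw [InChart, ← LinearMap.range_eq_top, colMap, LinearMap.range_comp, Submodule.map_mkQ_eq_top, range_sect]

theorem sup_eq_span {m : ℕ} (φ : A →ₐ[R] B) (S : Finset (Fin d)) (N : Grassmannian A (A ⊗[R] (Fin d → R)) m) :
    (Grassmannian.map φ N).toSubmodule ⊔ Submodule.span B (bas B '' (S : Set (Fin d))) =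
      Submodule.span B (ι φ '' ((N.toSubmodule : Set (A ⊗[R] (Fin d → R))) ∪ bas A '' (S : Set (Fin d)))) := by
  rw [map_eq_span, Set.image_union, Submodule.span_union, Set.image_image]
  congr 2
  exact Set.image_congr fun c _ => (ι_bas φ c).symm

/-- Being in all the charts at a field-valued point is an open condition. -/
theorem exists_ne_zero_inChart {m : ℕ} {κ : Type} [Fintype κ] (S : κ → Finset (Fin d))
    (N : κ → Grassmannian A (A ⊗[R] (Fin d → R)) m) {L : Type w} [Field L] [Algebra R L] (ψ : A →ₐ[R] L)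
    (h : ∀ i, InChart (S i) (Grassmannian.map ψ (N i))) :
    ∃ a : A, ψ a ≠ 0 ∧ ∀ (B : Type w) [CommRing B] [Algebra R B] (φ : A →ₐ[R] B), IsUnit (φ a) →
      ∀ i, InChart (S i) (Grassmannian.map φ (N i)) := by
  have h' := fun i => exists_det_ne_zero ψ _ (((sup_eq_span ψ (S i) (N i)).symm.trans ((inChart_iff _ _).1 (h i))))
  choose v hv hne using h'
  refine ⟨∏ i, (bas (R := R) A).det (v i), by rw [map_prod]; exact Finset.prod_ne_zero_iff.2 fun i _ => hne i,
    fun B _ _ φ hu i => (inChart_iff _ _).2 ?_⟩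
  rw [sup_eq_span]
  refine span_eq_top_of_isUnit φ _ (v i) (hv i) (isUnit_of_dvd_unit ?_ hu)
  exact map_dvd φ (Finset.dvd_prod_of_mem _ (Finset.mem_univ i))

end Span

variable (f g : Fin n → ((Fin d → R) →ₗ[R] (Fin d → R))) (S : Fin (n + 1) → Finset (Fin d))

/-- The variables of a chart. -/
abbrev GVar := Σ i : Fin (n + 1), {c // c ∉ S i} × {c // c ∈ S i}

/-- The index set of the equations. -/
abbrev GEq := (Σ i : Fin n, {c // c ∉ S i.castSucc} × {c // c ∈ S i.succ}) ⊕
  (Σ i : Fin n, {c // c ∉ S i.succ} × {c // c ∈ S i.castSucc})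

variable {A : Type u} [CommRing A] [Algebra R A]

/-- The entries of the equations at given matrices. -/
noncomputable def eqVal (u : ∀ i : Fin (n + 1), {c // c ∉ S i} → {c // c ∈ S i} → A) : GEq S → A
  | .inl ⟨i, c, c'⟩ => proj (R := R) (S i.succ) (u i.succ) ((f i).baseChange A (vec (S i.castSucc) (u i.castSucc) c)) c'
  | .inr ⟨i, c, c'⟩ => proj (R := R) (S i.castSucc) (u i.castSucc) ((g i).baseChange A (vec (S i.succ) (u i.succ) c)) c'

variable {f g S} in
theorem linked_iff {m : ℕ} (hS : ∀ i, (S i).card = m) (u : ∀ i : Fin (n + 1), {c // c ∉ S i} → {c // c ∈ S i} → A) :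
    (∀ i : Fin n,
      Submodule.map ((f i).baseChange A) (graph (R := R) (S i.castSucc) (hS _) (u _)).toSubmodule ≤
          (graph (R := R) (S i.succ) (hS _) (u _)).toSubmodule ∧
        Submodule.map ((g i).baseChange A) (graph (R := R) (S i.succ) (hS _) (u _)).toSubmodule ≤
          (graph (R := R) (S i.castSucc) (hS _) (u _)).toSubmodule) ↔ ∀ q, eqVal f g S u q = 0 := by
  simp only [graph_toSubmodule]
  constructor
  · rintro h (⟨i, c, c'⟩ | ⟨i, c, c'⟩)
    · exact congrFun (LinearMap.mem_ker.1 ((h i).1 ⟨_, proj_vec _ _ c, rfl⟩)) c'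
    · exact congrFun (LinearMap.mem_ker.1 ((h i).2 ⟨_, proj_vec _ _ c, rfl⟩)) c'
  · intro h i
    constructor <;> rw [ker_proj, Submodule.map_span, Submodule.span_le] <;> rintro _ ⟨_, ⟨c, rfl⟩, rfl⟩ <;>
      refine LinearMap.mem_ker.2 (funext fun c' => ?_)
    · exact h (.inl ⟨i, c, c'⟩)
    · exact h (.inr ⟨i, c, c'⟩)

theorem eqVal_map {B : Type u} [CommRing B] [Algebra R B] (φ : A →ₐ[R] B)
    (u : ∀ i : Fin (n + 1), {c // c ∉ S i} → {c // c ∈ S i} → A) (q : GEq S) :
    eqVal f g S (fun i c c' => φ (u i c c')) q = φ (eqVal f g S u q) := by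
  rcases q with ⟨i, c, c'⟩ | ⟨i, c, c'⟩ <;>
  · simp only [eqVal]
    rw [← congrFun (proj_ι (R := R) φ _ _ _) c', ι_baseChange]
    congr 3
    simp only [vec, map_sub, ι_bas, ι_sect]

/-- The ideal of the chart. -/
noncomputable def gIdeal : Ideal (MvPolynomial (GVar S) R) :=
  Ideal.span (Set.range (eqVal f g S fun i c c' => MvPolynomial.X ⟨i, c, c'⟩))

/-- The ring of the chart. -/
noncomputable abbrev GRing := MvPolynomial (GVar S) R ⧸ gIdeal f g S

theorem finitePresentation_gRing : Algebra.FinitePresentation R (GRing f g S) :=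
  Algebra.FinitePresentation.quotient (Submodule.fg_span (Set.finite_range _))

/-- The universal matrices. -/
noncomputable def uUniv (i : Fin (n + 1)) (c : {c // c ∉ S i}) (c' : {c // c ∈ S i}) : GRing f g S :=
  Ideal.Quotient.mkₐ R _ (MvPolynomial.X ⟨i, c, c'⟩)

theorem eqVal_univ (q : GEq S) : eqVal f g S (uUniv f g S) q = 0 := by
  rw [show uUniv f g S = fun i c c' => Ideal.Quotient.mkₐ R (gIdeal f g S) (MvPolynomial.X ⟨i, c, c'⟩) from rfl,
    eqVal_map f g S (Ideal.Quotient.mkₐ R (gIdeal f g S)), Ideal.Quotient.mkₐ_eq_mk, Ideal.Quotient.eq_zero_iff_mem]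
  exact Ideal.subset_span ⟨q, rfl⟩

/-- The chart of a tuple of sets of columns. -/
noncomputable def gChart (hS : ∀ i, (S i).card = d - r) : RepOpen.Chart (functor r f g) where
  P A V := ∀ i, InChart (S i) (V.1 i)
  C := CommAlgCat.of R (GRing f g S)
  univ := ⟨fun i => graph (R := R) (S i) (hS i) (uUniv f g S i), (linked_iff hS _).2 (eqVal_univ f g S)⟩
  mem_univ i := graph_inChart (S i) (hS i) _
  map_mem {_ _} φ {V} h i := (h i).map φ.hom (hS i)
  lift {A V} h := by
    choose u hu hu' using fun i => (h i).exists_eq (hS i)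
    let η : MvPolynomial (GVar S) R →ₐ[R] A := MvPolynomial.aeval fun v => u v.1 v.2.1 v.2.2
    have hη : gIdeal f g S ≤ RingHom.ker η := Ideal.span_le.2 (by
      rintro _ ⟨q, rfl⟩
      have hq := (linked_iff hS u).1 (fun i => by rw [← hu i.castSucc, ← hu i.succ]; exact V.2 i) q
      rw [SetLike.mem_coe, RingHom.mem_ker, ← eqVal_map, show (fun i c c' => η (MvPolynomial.X ⟨i, c, c'⟩)) = u by
        funext i c c'; simp [η]]
      exact hq)
    let ρ : GRing f g S →ₐ[R] A := Ideal.Quotient.liftₐ _ η hη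
    have hρ : ∀ i c c', ρ (Ideal.Quotient.mkₐ R _ (MvPolynomial.X ⟨i, c, c'⟩)) = u i c c' := fun i c c' =>
      (show ρ (Ideal.Quotient.mkₐ R _ (MvPolynomial.X ⟨i, c, c'⟩)) = η (MvPolynomial.X ⟨i, c, c'⟩) from rfl).trans
        (MvPolynomial.aeval_X _ _)
    refine ⟨CommAlgCat.ofHom ρ, Subtype.ext (funext fun i => ?_), fun ρ' hρ' => ?_⟩
    · show Grassmannian.map ρ (graph (R := R) (S i) (hS i) (uUniv f g S i)) = _
      rw [map_graph, hu i]
      congr 1
      funext c c'
      exact hρ i c c'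
    · refine CommAlgCat.hom_ext (Ideal.Quotient.algHom_ext _ (MvPolynomial.algHom_ext fun v => ?_))
      obtain ⟨i, c, c'⟩ := v
      have h1 := congrFun (congrArg Subtype.val hρ') i
      replace h1 : Grassmannian.map ρ'.hom (graph (R := R) (S i) (hS i) (uUniv f g S i)) = V.1 i := h1
      rw [map_graph] at h1
      have h2 := congrFun (congrFun (hu' i _ h1.symm) c) c'
      exact h2.trans (hρ i c c').symm
  isOpen {A} V L hL ψ h := by
    letI := hL.toField
    obtain ⟨a, ha, ha'⟩ := exists_ne_zero_inChart S V.1 ψ.hom h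
    exact ⟨a, ha, fun i => ha' _ _ (IsLocalization.Away.algebraMap_isUnit a) i⟩

end Groth.Agent.Synt29.LG
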