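import Groth.Agent.Synt29.LGDeform

/-!
The exact locus is dense: exact generizations of every point.
-/

set_option autoImplicit false
set_option backward.isDefEq.respectTransparency false

universe u

open TensorProduct CategoryTheory AlgebraicGeometry W4c1limliniiii

namespace Groth.Agent.Synt29.LG

open GrassGraph RepOpen
open Module (Grassmannian)

variable {R : Type u} [CommRing R] {d r n : ℕ}

/-- The axioms of a linked Grassmannian, at every field over the base. -/
structure Hyp (f g : Fin n → ((Fin d → R) →ₗ[R] (Fin d → R))) (s : R) : Prop where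
  comp : ∀ i, (f i).comp (g i) = s • LinearMap.id ∧ (g i).comp (f i) = s • LinearMap.id
  rank : ∀ (L : Type u) [Field L] [Algebra R L] (i : Fin n),
    d ≤ Module.finrank L (LinearMap.range ((f i).baseChange L)) +
      Module.finrank L (LinearMap.range ((g i).baseChange L))
  inf : ∀ (L : Type u) [Field L] [Algebra R L] (i j : Fin n), i.val + 1 = j.val →
    LinearMap.range ((f i).baseChange L) ⊓ LinearMap.ker ((f j).baseChange L) = ⊥ ∧
      LinearMap.range ((g j).baseChange L) ⊓ LinearMap.ker ((g i).baseChange L) = ⊥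

section Rank

variable {L K : Type u} [Field L] [Algebra R L] [Field K] [Algebra R K]

theorem finrank_range_ι (ψ : L →ₐ[R] K) (p : (Fin d → R) →ₗ[R] (Fin d → R)) :
    Module.finrank K (LinearMap.range (p.baseChange K)) = Module.finrank L (LinearMap.range (p.baseChange L)) := by
  have htop : Submodule.span K (ι ψ '' ((⊤ : Submodule L (L ⊗[R] (Fin d → R))) : Set (L ⊗[R] (Fin d → R)))) = ⊤ := by
    rw [eq_top_iff, ← (bas (R := R) K).span_eq, Submodule.span_le]
    rintro _ ⟨c, rfl⟩
    exact Submodule.subset_span ⟨bas L c, trivial, ι_bas ψ c⟩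
  rw [LinearMap.range_eq_map, LinearMap.range_eq_map, ← htop, map_span_ι, finrank_span_ι]

theorem range_inf_ker_ι (ψ : L →ₐ[R] K) (p q : (Fin d → R) →ₗ[R] (Fin d → R))
    (h : LinearMap.range (p.baseChange L) ⊓ LinearMap.ker (q.baseChange L) = ⊥) :
    LinearMap.range (p.baseChange K) ⊓ LinearMap.ker (q.baseChange K) = ⊥ := by
  have htop : Submodule.span K (ι ψ '' ((⊤ : Submodule L (L ⊗[R] (Fin d → R))) : Set (L ⊗[R] (Fin d → R)))) = ⊤ := by
    rw [eq_top_iff, ← (bas (R := R) K).span_eq, Submodule.span_le]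
    rintro _ ⟨c, rfl⟩
    exact Submodule.subset_span ⟨bas L c, trivial, ι_bas ψ c⟩
  rw [LinearMap.range_eq_map, ← htop, map_span_ι, inf_comm, ker_inf_span_ι, ← LinearMap.range_eq_map, inf_comm, h,
    Submodule.bot_coe, Set.image_singleton, map_zero, Submodule.span_zero_singleton]

end Rank

/-- Over a field the axioms pass to every extension. -/
theorem hyp_of_field {k : Type u} [Field k] (f g : Fin n → ((Fin d → k) →ₗ[k] (Fin d → k))) (s : k)
    (hI : ∀ i, (f i).comp (g i) = s • LinearMap.id ∧ (g i).comp (f i) = s • LinearMap.id)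
    (hII : ∀ i, d ≤ Module.finrank k (LinearMap.range (f i)) + Module.finrank k (LinearMap.range (g i)))
    (hIII : ∀ i j : Fin n, i.val + 1 = j.val →
      LinearMap.range (f i) ⊓ LinearMap.ker (f j) = ⊥ ∧ LinearMap.range (g j) ⊓ LinearMap.ker (g i) = ⊥) :
    Hyp f g s where
  comp := hI
  rank L _ _ i := by
    have key : ∀ p : (Fin d → k) →ₗ[k] (Fin d → k),
        Module.finrank k (LinearMap.range (p.baseChange k)) = Module.finrank k (LinearMap.range p) := fun p => by
      let e := TensorProduct.lid k (Fin d → k)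
      have : p.baseChange k = e.symm.toLinearMap.comp (p.comp e.toLinearMap) := LinearMap.ext fun x => by
        induction x with
        | zero => simp
        | tmul a m => simp [e, TensorProduct.smul_tmul', TensorProduct.smul_tmul]
        | add x y hx hy => rw [map_add, map_add, hx, hy]
      rw [this, LinearMap.range_comp, LinearMap.range_comp_of_range_eq_top _ e.range]
      exact (e.symm.submoduleMap _).finrank_eq.symm
    rw [finrank_range_ι (Algebra.ofId k L), finrank_range_ι (Algebra.ofId k L), key, key]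
    exact hII i
  inf L _ _ i j h := ⟨range_inf_ker_baseChange _ _ (hIII i j h).1 L, range_inf_ker_baseChange _ _ (hIII i j h).2 L⟩

variable {f g : Fin n → ((Fin d → R) →ₗ[R] (Fin d → R))} {s : R}

section FieldFacts

variable {L : Type u} [Field L] [Algebra R L] {V : Fin (n + 1) → Grassmannian L (L ⊗[R] (Fin d → R)) (d - r)}

theorem Hyp.exact_of_scalar_ne (H : Hyp f g s) (hs : algebraMap R L s ≠ 0) : IsExact R d r n f g L V := by
  intro i
  refine ⟨fun x hx => ?_, fun x hx => ?_⟩
  · have h := (fg_apply H.comp i x).1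
    rw [LinearMap.mem_ker.1 hx.1, map_zero] at h
    rw [(smul_eq_zero.1 h.symm).resolve_left hs]; exact zero_mem _
  · have h := (fg_apply H.comp i x).2
    rw [LinearMap.mem_ker.1 hx.1, map_zero] at h
    rw [(smul_eq_zero.1 h.symm).resolve_left hs]; exact zero_mem _

theorem Hyp.edgeExact_of_rank (H : Hyp f g s) (hr : r ≤ d) (hs : algebraMap R L s = 0)
    (hV : V ∈ LGPoints R d r n f g L) (i : Fin n) (h : rkF f V i + rkG g V i = r) : EdgeExact f g V i := by
  have := finite_total (R := R) (d := d) (L := L)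
  have hF : (V i.castSucc).toSubmodule.map ((f i).baseChange L) ≤
      LinearMap.ker ((g i).baseChange L) ⊓ (V i.succ).toSubmodule := le_inf (by
    rintro _ ⟨y, -, rfl⟩
    rw [LinearMap.mem_ker, (fg_apply H.comp i y).2, hs, zero_smul]) (hV i).1
  have hG : (V i.succ).toSubmodule.map ((g i).baseChange L) ≤
      LinearMap.ker ((f i).baseChange L) ⊓ (V i.castSucc).toSubmodule := le_inf (by
    rintro _ ⟨y, -, rfl⟩
    rw [LinearMap.mem_ker, (fg_apply H.comp i y).1, hs, zero_smul]) (hV i).2
  have h1 := finrank_map_eq ((f i).baseChange L) (V i.castSucc).toSubmodule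
  have h2 := finrank_map_eq ((g i).baseChange L) (V i.succ).toSubmodule
  rw [finrank_member hr] at h1 h2
  simp only [rkF, rkG] at h
  exact ⟨(Submodule.eq_of_le_of_finrank_le hF (by omega)).ge, (Submodule.eq_of_le_of_finrank_le hG (by omega)).ge⟩

theorem Hyp.rank_of_exact (H : Hyp f g s) (hr : r ≤ d) (hs : algebraMap R L s = 0)
    (hV : V ∈ LGPoints R d r n f g L) (hE : IsExact R d r n f g L V) (i : Fin n) : rkF f V i + rkG g V i = r :=
  (exact_rank H.comp hr hV hs hE i).2

end FieldFacts

section Scheme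

variable {X : Over (Spec (CommRingCat.of R))} {e : ∀ A, (sp A ⟶ X) ≃ LGPoints R d r n f g A}
  (he : IsNat X (functor r f g) e)

/-- The point carried by a field-valued point. -/
noncomputable def ctr {L : CommAlgCat.{u} R} (hL : IsField L) (p : sp L ⟶ X) : X.left :=
  letI := hL.toField
  p.left ⟨(⊥ : Ideal L), Ideal.isPrime_bot⟩

theorem left_eq_ctr {L : CommAlgCat.{u} R} (hL : IsField L) (p : sp L ⟶ X) (z : (sp L).left) :
    p.left z = ctr hL p := by
  letI := hL.toField
  have : Subsingleton (PrimeSpectrum L) := inferInstance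
  exact congrArg _ (this.elim z _)

include he in
theorem specializes_step {L K A : CommAlgCat.{u} R} (hL : IsField L) (hK : IsField K) (p : sp L ⟶ X)
    (Vt : LGPoints R d r n f g A) (ev : A ⟶ L) (toK : A ⟶ K) (hinj : Function.Injective toK.hom)
    (hev : (functor r f g).map ev Vt = e L p) :
    ctr hK (spOver toK ≫ (e A).symm Vt) ⤳ ctr hL p := by
  letI := hL.toField
  letI := hK.toField
  have hp : spOver ev ≫ (e A).symm Vt = p := (e L).injective
    ((he A L ev _).trans ((congrArg ((functor r f g).map ev) ((e A).apply_symm_apply Vt)).trans hev))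
  conv_rhs => rw [← hp]
  refine Specializes.map ?_ ((e A).symm Vt).left.continuous
  refine (PrimeSpectrum.le_iff_specializes
    (PrimeSpectrum.comap toK.hom.toRingHom ⟨(⊥ : Ideal K), Ideal.isPrime_bot⟩)
    (PrimeSpectrum.comap ev.hom.toRingHom ⟨(⊥ : Ideal L), Ideal.isPrime_bot⟩)).1 fun a ha => ?_
  have h0 : toK.hom a = 0 := ha
  have : a = 0 := hinj (h0.trans (map_zero _).symm)
  rw [this]
  exact Ideal.zero_mem _

include he in
theorem exists_step_point (H : Hyp f g s) (hr : r ≤ d) {K : CommAlgCat.{u} R} (hK : IsField K) (q : sp K ⟶ X)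
    (hs : algebraMap R K s = 0) (m : Fin n)
    (hex : ∀ i < m, EdgeExact f g (e K q).1 i) :
    ∃ (K' : CommAlgCat.{u} R) (hK' : IsField K') (q' : sp K' ⟶ X), ctr hK' q' ⤳ ctr hK q ∧
      algebraMap R K' s = 0 ∧
      ((∀ i, i ≤ m → EdgeExact f g (e K' q').1 i) ∧
        (∀ i, i < m → rkF f (e K' q').1 i = rkF f (e K q).1 i) ∧
        rkF f (e K' q').1 m + rkG g (e K q).1 m = r ∧
        (∀ i, m < i → rkF f (e K' q').1 i = rkF f (e K q).1 i ∧ rkG g (e K' q').1 i = rkG g (e K q).1 i)) := by
  letI := hK.toField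
  obtain ⟨A, iA, aA, K', iK, aK, ev, toK, Vt, hVt, hinj, hsK', hev, hrest⟩ :=
    exists_step H.comp hr hs (fun i => H.rank K i) (fun i j h => (H.inf K i j h).1) (e K q).2 m hex
  let toK' : CommAlgCat.of R A ⟶ CommAlgCat.of R K' := CommAlgCat.ofHom toK
  let ev' : CommAlgCat.of R A ⟶ K := CommAlgCat.ofHom ev
  have hev' : (functor r f g).map ev' ⟨Vt, hVt⟩ = e K q := Subtype.ext (funext hev)
  let q' : sp (CommAlgCat.of R K') ⟶ X := spOver toK' ≫ (e (CommAlgCat.of R A)).symm ⟨Vt, hVt⟩
  have hq' : (e _ q').1 = fun i => Grassmannian.map toK (Vt i) :=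
    congrArg Subtype.val ((he _ _ toK' _).trans
      (congrArg ((functor r f g).map toK') ((e (CommAlgCat.of R A)).apply_symm_apply ⟨Vt, hVt⟩)))
  refine ⟨CommAlgCat.of R K', Field.toIsField K', q',
    specializes_step (A := CommAlgCat.of R A) (K := CommAlgCat.of R K') (L := K) he hK (Field.toIsField K') q
      ⟨Vt, hVt⟩ ev' toK' hinj hev', hsK', ?_⟩
  simp only [hq']
  exact hrest

include he in
/-- Every point with vanishing scalar has an exact generization with controlled ranks. -/
theorem exists_exact_rank (H : Hyp f g s) (hr : r ≤ d) {L : CommAlgCat.{u} R} (hL : IsField L) (p : sp L ⟶ X)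
    (hs : algebraMap R L s = 0) :
    ∃ (K : CommAlgCat.{u} R) (hK : IsField K) (q : sp K ⟶ X), ctr hK q ⤳ ctr hL p ∧
      algebraMap R K s = 0 ∧ IsExact R d r n f g K (e K q).1 ∧
      ∀ i, rkF f (e K q).1 i + rkG g (e L p).1 i = r := by
  letI := hL.toField
  suffices h : ∀ m : ℕ, m ≤ n → ∃ (K : CommAlgCat.{u} R) (hK : IsField K) (q : sp K ⟶ X), ctr hK q ⤳ ctr hL p ∧
      algebraMap R K s = 0 ∧ (
        (∀ i : Fin n, i.val < m → EdgeExact f g (e K q).1 i ∧ rkF f (e K q).1 i + rkG g (e L p).1 i = r) ∧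
        (∀ i : Fin n, m ≤ i.val → rkF f (e K q).1 i = rkF f (e L p).1 i ∧ rkG g (e K q).1 i = rkG g (e L p).1 i)) by
    obtain ⟨K, hK, q, h1, h2, h3, -⟩ := h n le_rfl
    exact ⟨K, hK, q, h1, h2, fun i => (h3 i i.2).1, fun i => (h3 i i.2).2⟩
  intro m
  induction m with
  | zero => exact fun _ => ⟨L, hL, p, specializes_refl _, hs, fun i h => absurd h (Nat.not_lt_zero _), fun i _ => ⟨rfl, rfl⟩⟩
  | succ m ih =>
    intro hm
    obtain ⟨K, hK, q, hqp, hsK, hlow, hhigh⟩ := ih (by omega)
    obtain ⟨K', hK', q', hq'q, hsK', hex, hbelow, hat, habove⟩ :=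
      exists_step_point he H hr hK q hsK ⟨m, hm⟩ (fun i hi => (hlow i hi).1)
    refine ⟨K', hK', q', hq'q.trans hqp, hsK', ?_, ?_⟩
    · intro i hi
      refine ⟨hex i (Fin.le_def.2 (Nat.lt_succ_iff.1 hi)), ?_⟩
      rcases eq_or_lt_of_le (Nat.lt_succ_iff.1 hi) with h | h
      · have h1 := (hhigh i h.ge).2
        obtain rfl : i = ⟨m, hm⟩ := Fin.ext h
        rw [← h1]; exact hat
      · rw [hbelow i (Fin.lt_def.2 h)]; exact (hlow i h).2
    · intro i hi
      have h1 := habove i (Fin.lt_def.2 hi)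
      have h2 := hhigh i (Nat.le_of_succ_le hi)
      exact ⟨h1.1.trans h2.1, h1.2.trans h2.2⟩

/-- The exact locus. -/
def exactLocus (e : ∀ A, (sp A ⟶ X) ≃ LGPoints R d r n f g A)
    (hI : ∀ i, (f i).comp (g i) = s • LinearMap.id ∧ (g i).comp (f i) = s • LinearMap.id) : Set X.left :=
  {x | ∃ (S T : Fin (n + 1) → Finset (Fin d)) (hd : EData S T r), x ∈ Set.range ((eChart hd hI).hom e).left}

include he in
theorem isOpen_exactLocus (hI : ∀ i, (f i).comp (g i) = s • LinearMap.id ∧ (g i).comp (f i) = s • LinearMap.id) :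
    IsOpen (exactLocus e hI) := by
  rw [isOpen_iff_forall_mem_open]
  rintro x ⟨S, T, hd, hx⟩
  have := isOpenImmersion_hom he (eChart hd hI)
  exact ⟨_, fun y hy => ⟨S, T, hd, hy⟩, ((eChart hd hI).hom e).left.isOpenEmbedding.isOpen_range, hx⟩

include he in
theorem mem_exactLocus_iff (H : Hyp f g s) (hr : r ≤ d) {L : CommAlgCat.{u} R} (hL : IsField L) (p : sp L ⟶ X) :
    ctr hL p ∈ exactLocus e H.comp ↔ IsExact R d r n f g L (e L p).1 := by
  letI := hL.toField
  constructor
  · rintro ⟨S, T, hd, hx⟩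
    exact isExact_of_mem he H.comp hr hL hd p ⟨(⊥ : Ideal L), Ideal.isPrime_bot⟩ hx
  · intro h
    exact exists_eChart_mem he H.comp hr hL (fun i j hij => (H.inf L i j hij).1) p h _

include he in
theorem exists_specializes_exact (H : Hyp f g s) (hr : r ≤ d) (x : X.left) :
    ∃ y ∈ exactLocus e H.comp, y ⤳ x := by
  obtain ⟨L, hL, p, hp⟩ := exists_point x
  letI := hL.toField
  obtain rfl : ctr hL p = x := hp _
  by_cases hs : algebraMap R L s = 0
  · obtain ⟨K, hK, q, h1, -, h3, -⟩ := exists_exact_rank he H hr hL p hs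
    exact ⟨_, (mem_exactLocus_iff he H hr hK q).2 h3, h1⟩
  · exact ⟨_, (mem_exactLocus_iff he H hr hL p).2 (H.exact_of_scalar_ne hs), specializes_refl _⟩

include he in
theorem dense_exactLocus (H : Hyp f g s) (hr : r ≤ d) : Dense (exactLocus e H.comp) := fun x => by
  obtain ⟨y, hy, hyx⟩ := exists_specializes_exact he H hr x
  exact closure_mono (Set.singleton_subset_iff.2 hy) (specializes_iff_mem_closure.1 hyx)

include he in
theorem exists_exactChart_closure (H : Hyp f g s) (hr : r ≤ d) {Z : Set X.left} (hZ : Z ∈ irreducibleComponents X.left) :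
    ∃ y ∈ exactLocus e H.comp, Z = closure {y} := by
  obtain ⟨η, hη⟩ := QuasiSober.sober hZ.1 (isClosed_of_mem_irreducibleComponents Z hZ)
  obtain ⟨y, hy, hyη⟩ := exists_specializes_exact he H hr η
  have hle : Z ⊆ closure {y} := by
    rw [← hη.def]
    exact closure_minimal (Set.singleton_subset_iff.2 (specializes_iff_mem_closure.1 hyη)) isClosed_closure
  exact ⟨y, hy, Set.Subset.antisymm hle (hZ.2 isIrreducible_singleton.closure hle)⟩

end Scheme

end Groth.Agent.Synt29.LG
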