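import Groth.Agent.Synt29.LGSpan

/-!
Deforming a linked tuple so that one more edge becomes exact.
-/

set_option autoImplicit false

universe u

open TensorProduct W4c1limliniiii

namespace Groth.Agent.Synt29.LG

open GrassGraph
open Module (Grassmannian)

section LinAlg

variable {L : Type*} [Field L] {M : Type*} [AddCommGroup M] [Module L M] [Module.Finite L M]

theorem exists_compl_in (G K : Submodule L M) (hG : G ≤ K) : ∃ C ≤ K, G ⊔ C = K ∧ G ⊓ C = ⊥ := by
  obtain ⟨C₀, hC₀⟩ := G.exists_isCompl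
  refine ⟨C₀ ⊓ K, inf_le_right, ?_, ?_⟩
  · rw [← sup_inf_assoc_of_le C₀ hG, hC₀.sup_eq_top, top_inf_eq]
  · rw [← inf_assoc, hC₀.inf_eq_bot, bot_inf_eq]

theorem exists_deform (f g : M →ₗ[L] M) (hfg : f.comp g = 0) (hker : LinearMap.ker g = LinearMap.range f)
    (Vm Vn F₀ : Submodule L M) (hf : Vm.map f ≤ Vn) (hg : Vn.map g ≤ Vm) (hF₀ : F₀ ≤ Vm)
    (hdis : F₀ ⊓ LinearMap.ker f = ⊥) (hdim : Module.finrank L Vm = Module.finrank L Vn) :
    ∃ φ : M →ₗ[L] M, (∀ x ∈ F₀, φ x = 0) ∧ (∀ x ∈ Vn.map g, φ x = 0) ∧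
      (∀ x, f (φ x) ∈ LinearMap.ker g ⊓ Vn) ∧
      ∃ C ≤ LinearMap.ker f ⊓ Vm, LinearMap.range (f.comp φ) ≤ C.map (f.comp φ) ∧
        LinearMap.ker g ⊓ Vn ≤ Vm.map f ⊔ C.map (f.comp φ) := by
  have hGK : Vn.map g ≤ LinearMap.ker f ⊓ Vm := le_inf (by
    rintro _ ⟨y, -, rfl⟩
    rw [LinearMap.mem_ker, ← LinearMap.comp_apply, hfg, LinearMap.zero_apply]) hg
  have hFL : Vm.map f ≤ LinearMap.ker g ⊓ Vn := le_inf (by
    rintro _ ⟨y, -, rfl⟩
    rw [hker]; exact ⟨y, rfl⟩) hf
  obtain ⟨C, hCK, hC1, hC2⟩ := exists_compl_in _ _ hGK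
  obtain ⟨D, hDL, hD1, hD2⟩ := exists_compl_in _ _ hFL
  have hdimCD : Module.finrank L C = Module.finrank L D := by
    have a := Submodule.finrank_sup_add_finrank_inf_eq (Vn.map g) C
    have b := Submodule.finrank_sup_add_finrank_inf_eq (Vm.map f) D
    rw [hC1, hC2, finrank_bot] at a
    rw [hD1, hD2, finrank_bot] at b
    have c := finrank_map_eq f Vm
    have c' := finrank_map_eq g Vn
    omega
  let e : C ≃ₗ[L] D := LinearEquiv.ofFinrankEq C D hdimCD
  have hDr : D ≤ LinearMap.range f := hker ▸ hDL.trans inf_le_left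
  obtain ⟨σ, hσ⟩ := Module.projective_lifting_property f.rangeRestrict
    (Submodule.inclusion hDr) f.surjective_rangeRestrict
  have hE : (F₀ ⊔ Vn.map g) ⊓ C = ⊥ := by
    rw [eq_bot_iff]
    rintro x ⟨hx, hxC⟩
    obtain ⟨a, ha, b, hb, rfl⟩ := Submodule.mem_sup.1 hx
    have hfab : a + b ∈ LinearMap.ker f := (hCK hxC).1
    have hfb : b ∈ LinearMap.ker f := (hGK hb).1
    have ha0 : a = 0 := (Submodule.eq_bot_iff _).1 hdis a ⟨ha, by simpa using (LinearMap.ker f).sub_mem hfab hfb⟩
    rw [ha0, zero_add] at hxC ⊢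
    exact hC2.le ⟨hb, hxC⟩
  obtain ⟨E', hE'le, hE'⟩ : ∃ E', F₀ ⊔ Vn.map g ≤ E' ∧ IsCompl C E' := by
    obtain ⟨C', hC'⟩ := (C ⊔ (F₀ ⊔ Vn.map g)).exists_isCompl
    refine ⟨(F₀ ⊔ Vn.map g) ⊔ C', le_sup_left, ?_, ?_⟩
    · exact Disjoint.disjoint_sup_right_of_disjoint_sup_left (disjoint_iff.2 (by rw [inf_comm]; exact hE)) hC'.disjoint
    · rw [codisjoint_iff, ← sup_assoc, hC'.sup_eq_top]
  let π := C.linearProjOfIsCompl E' hE'
  let φ : M →ₗ[L] M := σ.comp (e.toLinearMap.comp π)
  have hfφ : ∀ x, f (φ x) = (e (π x) : M) := fun x => congrArg Subtype.val (LinearMap.congr_fun hσ (e (π x)))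
  have hzero : ∀ x ∈ F₀ ⊔ Vn.map g, φ x = 0 := fun x hx => by
    have : π x = 0 := Submodule.linearProjOfIsCompl_apply_right hE' ⟨x, hE'le hx⟩
    simp [φ, this]
  have hDmem : ∀ y : D, (y : M) ∈ C.map (f.comp φ) := fun y => by
    refine ⟨(e.symm y : M), (e.symm y).2, ?_⟩
    rw [LinearMap.comp_apply, hfφ, show π (e.symm y : M) = e.symm y from
      Submodule.linearProjOfIsCompl_apply_left hE' (e.symm y), e.apply_symm_apply]
  refine ⟨φ, fun x hx => hzero x (Submodule.mem_sup_left hx), fun x hx => hzero x (Submodule.mem_sup_right hx),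
    fun x => by rw [hfφ]; exact hDL (e (π x)).2, C, hCK, ?_, ?_⟩
  · rintro _ ⟨x, rfl⟩
    rw [LinearMap.comp_apply, hfφ]
    exact hDmem _
  · rw [← hD1]
    exact sup_le_sup_left (fun y hy => hDmem ⟨y, hy⟩) _

end LinAlg

variable {R : Type u} [CommRing R] {d r n : ℕ} {f g : Fin n → ((Fin d → R) →ₗ[R] (Fin d → R))}

/-- Exactness at one edge. -/
def EdgeExact {A : Type u} [CommRing A] [Algebra R A] (f g : Fin n → ((Fin d → R) →ₗ[R] (Fin d → R)))
    (V : Fin (n + 1) → Grassmannian A (A ⊗[R] (Fin d → R)) (d - r)) (i : Fin n) : Prop :=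
  LinearMap.ker ((g i).baseChange A) ⊓ (V i.succ).toSubmodule ≤
      Submodule.map ((f i).baseChange A) (V i.castSucc).toSubmodule ∧
    LinearMap.ker ((f i).baseChange A) ⊓ (V i.castSucc).toSubmodule ≤
      Submodule.map ((g i).baseChange A) (V i.succ).toSubmodule

/-- The rank of a forward map on a tuple. -/
noncomputable def rkF {L : Type u} [CommRing L] [Algebra R L] (f : Fin n → ((Fin d → R) →ₗ[R] (Fin d → R)))
    (V : Fin (n + 1) → Grassmannian L (L ⊗[R] (Fin d → R)) (d - r)) (i : Fin n) : ℕ :=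
  Module.finrank L ((V i.castSucc).toSubmodule.map ((f i).baseChange L))

/-- The rank of a backward map on a tuple. -/
noncomputable def rkG {L : Type u} [CommRing L] [Algebra R L] (g : Fin n → ((Fin d → R) →ₗ[R] (Fin d → R)))
    (V : Fin (n + 1) → Grassmannian L (L ⊗[R] (Fin d → R)) (d - r)) (i : Fin n) : ℕ :=
  Module.finrank L ((V i.succ).toSubmodule.map ((g i).baseChange L))

section Pencil

variable {L : Type u} [Field L] [Algebra R L]

/-- The deformation of a vector. -/
noncomputable def defVec {A : Type u} [CommRing A] [Algebra R A] (ι₀ : L →ₐ[R] A) (t : A)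
    (φ : L ⊗[R] (Fin d → R) →ₗ[L] L ⊗[R] (Fin d → R)) (x : L ⊗[R] (Fin d → R)) : A ⊗[R] (Fin d → R) :=
  ι ι₀ x + t • ι ι₀ (φ x)

theorem defVec_mem_span {A : Type u} [CommRing A] [Algebra R A] (ι₀ : L →ₐ[R] A) (t : A)
    (φ : L ⊗[R] (Fin d → R) →ₗ[L] L ⊗[R] (Fin d → R)) {κ : Type} (y : κ → L ⊗[R] (Fin d → R))
    {x : L ⊗[R] (Fin d → R)} (hx : x ∈ Submodule.span L (Set.range y)) :
    defVec ι₀ t φ x ∈ Submodule.span A (Set.range fun q => defVec ι₀ t φ (y q)) := by
  induction hx using Submodule.span_induction with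
  | mem z hz => obtain ⟨q, rfl⟩ := hz; exact Submodule.subset_span ⟨q, rfl⟩
  | zero => simp [defVec]
  | add a b _ _ ha hb =>
    have : defVec ι₀ t φ (a + b) = defVec ι₀ t φ a + defVec ι₀ t φ b := by
      simp only [defVec, map_add, smul_add]; abel
    rw [this]; exact add_mem ha hb
  | smul c a _ ha =>
    have : defVec ι₀ t φ (c • a) = ι₀ c • defVec ι₀ t φ a := by
      simp only [defVec, map_smul, ι_smul, smul_add, smul_comm t (ι₀ c)]
    rw [this]; exact Submodule.smul_mem _ _ ha

theorem ι_defVec_zero {A : Type u} [CommRing A] [Algebra R A] (ι₀ : L →ₐ[R] A) (t : A) (ev : A →ₐ[R] L)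
    (hev : ev.comp ι₀ = AlgHom.id R L) (ht : ev t = 0)
    (φ : L ⊗[R] (Fin d → R) →ₗ[L] L ⊗[R] (Fin d → R)) (x : L ⊗[R] (Fin d → R)) :
    ι ev (defVec ι₀ t φ x) = x := by
  rw [defVec, map_add, ι_smul, ht, zero_smul, add_zero, ι_ι, hev]
  exact LinearMap.congr_fun (LinearMap.rTensor_id (Fin d → R) L) x

/-- The ring of germs at zero of the line over a field. -/
theorem exists_germ :
    ∃ (A : Type u) (_ : CommRing A) (_ : Algebra R A) (K : Type u) (_ : Field K) (_ : Algebra R K)
      (ι₀ : L →ₐ[R] A) (t : A) (ev : A →ₐ[R] L) (toK : A →ₐ[R] K),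
      ev.comp ι₀ = AlgHom.id R L ∧ ev t = 0 ∧ (∀ a, ev a ≠ 0 → IsUnit a) ∧ toK t ≠ 0 ∧ Function.Injective toK := by
  let P := RingHom.ker (Polynomial.evalRingHom (0 : L))
  have : P.IsPrime := RingHom.ker_isPrime _
  let A := Localization.AtPrime P
  let K := FractionRing (Polynomial L)
  let ev0 : Polynomial L →ₐ[R] L := (Polynomial.aeval (0 : L)).restrictScalars R
  have hev0 : ∀ a, ev0 a = a.eval 0 := fun a => Polynomial.coe_aeval_eq_eval (0 : L) ▸ rfl
  let ev : A →ₐ[R] L := IsLocalization.liftAlgHom (M := P.primeCompl) (f := ev0) (fun y => by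
    rw [isUnit_iff_ne_zero]
    intro h
    exact y.2 ((hev0 y.1).symm.trans h))
  let toK : A →ₐ[R] K := IsLocalization.liftAlgHom (M := P.primeCompl)
    (f := IsScalarTower.toAlgHom R (Polynomial L) K) (fun y => by
      rw [isUnit_iff_ne_zero]
      intro h
      have h0 : y.1 = 0 := IsFractionRing.injective (Polynomial L) K (h.trans (map_zero _).symm)
      exact y.2 (h0 ▸ P.zero_mem))
  have hevl : ∀ a, ev (algebraMap (Polynomial L) A a) = a.eval 0 := fun a =>
    (IsLocalization.lift_eq _ a).trans (hev0 a)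
  refine ⟨A, inferInstance, inferInstance, K, inferInstance, inferInstance,
    IsScalarTower.toAlgHom R L A, algebraMap (Polynomial L) A Polynomial.X, ev, toK, ?_, ?_, ?_, ?_, ?_⟩
  · refine AlgHom.ext fun c => ?_
    show ev (algebraMap L A c) = c
    rw [IsScalarTower.algebraMap_apply L (Polynomial L) A, hevl]
    simp
  · rw [hevl]; simp
  · intro a ha
    obtain ⟨⟨b, y⟩, hby⟩ := IsLocalization.surj P.primeCompl a
    have hb : b ∈ P.primeCompl := fun hb => ha (by
      have h1 := congrArg ev hby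
      rw [map_mul, hevl, hevl, show (b : Polynomial L).eval 0 = 0 from hb] at h1
      exact (mul_eq_zero.1 h1).resolve_right y.2)
    have hu := IsLocalization.map_units A (⟨b, hb⟩ : P.primeCompl)
    rw [show algebraMap (Polynomial L) A (⟨b, hb⟩ : P.primeCompl).1 = a * algebraMap _ A y.1 from hby.symm,
      IsUnit.mul_iff] at hu
    exact hu.1
  · intro h
    have h' : algebraMap (Polynomial L) K Polynomial.X = 0 := (IsLocalization.lift_eq _ _).symm.trans h
    exact Polynomial.X_ne_zero (IsFractionRing.injective (Polynomial L) K (h'.trans (map_zero _).symm))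
  · rw [injective_iff_map_eq_zero]
    intro a ha
    obtain ⟨⟨b, y⟩, hby⟩ := IsLocalization.surj P.primeCompl a
    have h1 := congrArg toK hby
    rw [map_mul, ha, zero_mul] at h1
    have h2 : algebraMap (Polynomial L) K b = 0 := ((IsLocalization.lift_eq _ b).symm.trans h1.symm)
    have hb : b = 0 := IsFractionRing.injective (Polynomial L) K (h2.trans (map_zero _).symm)
    rw [hb, map_zero] at hby
    exact (IsUnit.mul_left_eq_zero (IsLocalization.map_units A y)).1 hby

variable {s : R} (hI : ∀ i, (f i).comp (g i) = s • LinearMap.id ∧ (g i).comp (f i) = s • LinearMap.id)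
  (hr : r ≤ d) (hs : algebraMap R L s = 0)
  (hII : ∀ i, d ≤ Module.finrank L (LinearMap.range ((f i).baseChange L)) +
    Module.finrank L (LinearMap.range ((g i).baseChange L)))
  (hIII : ∀ i j : Fin n, i.val + 1 = j.val →
    LinearMap.range ((f i).baseChange L) ⊓ LinearMap.ker ((f j).baseChange L) = ⊥)
  {V : Fin (n + 1) → Grassmannian L (L ⊗[R] (Fin d → R)) (d - r)}

include hI hs hII in
theorem ker_g_eq (i : Fin n) : LinearMap.ker ((g i).baseChange L) = LinearMap.range ((f i).baseChange L) := by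
  have := finite_total (R := R) (d := d) (L := L)
  refine (Submodule.eq_of_le_of_finrank_le ?_ ?_).symm
  · rintro _ ⟨y, rfl⟩
    rw [LinearMap.mem_ker, (fg_apply hI i y).2, hs, zero_smul]
  · have h := LinearMap.finrank_range_add_finrank_ker ((g i).baseChange L)
    rw [finrank_total] at h
    have := hII i
    omega

include hI hr hs hII hIII in
/-- The deformation step. -/
theorem exists_step (hV : V ∈ LGPoints R d r n f g L) (m : Fin n) (hex : ∀ i < m, EdgeExact f g V i) :
    ∃ (A : Type u) (_ : CommRing A) (_ : Algebra R A) (K : Type u) (_ : Field K) (_ : Algebra R K)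
      (ev : A →ₐ[R] L) (toK : A →ₐ[R] K) (Vt : Fin (n + 1) → Grassmannian A (A ⊗[R] (Fin d → R)) (d - r)),
      Vt ∈ LGPoints R d r n f g A ∧ Function.Injective toK ∧ algebraMap R K s = 0 ∧
      (∀ i, Grassmannian.map ev (Vt i) = V i) ∧
      (∀ i, i ≤ m → EdgeExact f g (fun i => Grassmannian.map toK (Vt i)) i) ∧
      (∀ i, i < m → rkF f (fun i => Grassmannian.map toK (Vt i)) i = rkF f V i) ∧
      rkF f (fun i => Grassmannian.map toK (Vt i)) m + rkG g V m = r ∧
      (∀ i, m < i → rkF f (fun i => Grassmannian.map toK (Vt i)) i = rkF f V i ∧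
        rkG g (fun i => Grassmannian.map toK (Vt i)) i = rkG g V i) := by
  classical
  have := finite_total (R := R) (d := d) (L := L)
  -- the chain up to the edge
  let f' : Fin m.val → ((Fin d → R) →ₗ[R] (Fin d → R)) := fun i => f ⟨i, by omega⟩
  let g' : Fin m.val → ((Fin d → R) →ₗ[R] (Fin d → R)) := fun i => g ⟨i, by omega⟩
  let V' : Fin (m.val + 1) → Grassmannian L (L ⊗[R] (Fin d → R)) (d - r) := fun i => V ⟨i, by omega⟩
  have hI' : ∀ i, (f' i).comp (g' i) = s • LinearMap.id ∧ (g' i).comp (f' i) = s • LinearMap.id := fun i => hI _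
  have hV' : V' ∈ LGPoints R d r m.val f' g' L := fun i => hV ⟨i, by omega⟩
  have hE' : IsExact R d r m.val f' g' L V' := fun i => hex ⟨i, by omega⟩ (Fin.lt_def.2 i.2)
  obtain ⟨S, T, hd, u, hu⟩ := exists_isGen hI' hr hV'
    (fun i j h => hIII ⟨i, by omega⟩ ⟨j, by omega⟩ h) hE'
  let pos : Gen T → Fin (m.val + 1) := fun q => q.1
  let v : Gen T → L ⊗[R] (Fin d → R) := gen S T u
  have hsp : ∀ i, (V' i).toSubmodule = Submodule.span L (Set.range (tv f' g' pos v i)) := hu.eq_span hV'
  have hdetL : ∀ i, IsUnit ((bas (R := R) L).det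
      (Sum.elim (tv f' g' pos v i) (fun c : {c // c ∈ S i} => bas L c.1) ∘ (hd.exists_equiv i).some)) := hu.unit
  -- the linear map
  let lst : Fin (m.val + 1) := Fin.last _
  let F₀ := Submodule.span L (Set.range fun q : {q // pos q ≠ lst} => tv f' g' pos v lst q.1)
  have hm1 : V' lst = V m.castSucc := rfl
  have hF₀ : F₀ ≤ (V m.castSucc).toSubmodule := by
    rw [← hm1, hsp]; exact Submodule.span_mono (by rintro _ ⟨q, rfl⟩; exact ⟨q.1, rfl⟩)
  have hdis : F₀ ⊓ LinearMap.ker ((f m).baseChange L) = ⊥ := by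
    rcases Nat.eq_zero_or_pos m.val with h0 | h0
    · have : F₀ = ⊥ := Submodule.span_eq_bot.2 (by
        rintro _ ⟨q, rfl⟩
        exact absurd (Fin.ext (show (pos q.1 : ℕ) = m.val by have := (pos q.1).2; omega)) q.2)
      rw [this, bot_inf_eq]
    · rw [eq_bot_iff, ← hIII ⟨m.val - 1, by omega⟩ m (Nat.sub_add_cancel h0)]
      refine inf_le_inf_right _ (Submodule.span_le.2 ?_)
      rintro _ ⟨q, rfl⟩
      have hlt : (pos q.1 : ℕ) ≤ (⟨m.val - 1, by omega⟩ : Fin m.val) := by
        have := (pos q.1).2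
        have : (pos q.1 : ℕ) ≠ m.val := fun h => q.2 (Fin.ext h)
        show (pos q.1 : ℕ) ≤ m.val - 1
        omega
      refine ⟨tv f' g' pos v (⟨m.val - 1, by omega⟩ : Fin m.val).castSucc q.1, ?_⟩
      have he : lst = (⟨m.val - 1, by omega⟩ : Fin m.val).succ := Fin.ext (Nat.sub_add_cancel h0).symm
      show (f ⟨m.val - 1, _⟩).baseChange L _ = tv f' g' pos v lst q.1
      generalize q.1 = q0 at hlt ⊢
      rw [he]
      exact f_tv_of_le (f := f') (g := g') pos v ⟨m.val - 1, by omega⟩ hlt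
  obtain ⟨φ, hφF, hφG, hfφ, C, hC, hrg, hL'⟩ := exists_deform ((f m).baseChange L) ((g m).baseChange L)
    (LinearMap.ext fun x => by rw [LinearMap.comp_apply, (fg_apply hI m x).1, hs, zero_smul]; rfl)
    (ker_g_eq hI hs hII m) (V m.castSucc).toSubmodule (V m.succ).toSubmodule F₀ (hV m).1 (hV m).2 hF₀ hdis
    ((finrank_member hr _).trans (finrank_member hr _).symm)
  -- the family over the germ
  obtain ⟨A, iA, aA, K, iK, aK, ι₀, t, ev, toK, hev, ht, hunit, htK, hinj⟩ := exists_germ (R := R) (L := L)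
  have hevι : ∀ x : L ⊗[R] (Fin d → R), ι ev (ι ι₀ x) = x := fun x => by
    rw [ι_ι, hev]; exact LinearMap.congr_fun (LinearMap.rTensor_id (Fin d → R) L) x
  let vt : Gen T → A ⊗[R] (Fin d → R) := fun q => if pos q = lst then defVec ι₀ t φ (v q) else ι ι₀ (v q)
  have hvt : ∀ i q, ι ev (tv f' g' pos vt i q) = tv f' g' pos v i q := fun i q => by
    rw [ι_tv]
    congr 1
    funext q
    simp only [vt]
    split_ifs
    exacts [ι_defVec_zero ι₀ t ev hev ht φ _, hevι _]
  have hlast : ∀ q, tv f' g' pos vt lst q = defVec ι₀ t φ (tv f' g' pos v lst q) := fun q => by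
    by_cases hq : pos q = lst
    · rw [← hq, tv_self, tv_self]; simp [vt, hq]
    · have h0 : φ (tv f' g' pos v lst q) = 0 := hφF _ (Submodule.subset_span ⟨⟨q, hq⟩, rfl⟩)
      rw [defVec, h0, map_zero, smul_zero, add_zero, ι_tv]
      show (tr f' g' (pos q) lst).baseChange A (vt q) = (tr f' g' (pos q) lst).baseChange A (ι ι₀ (v q))
      simp [vt, hq]
  have hdet : ∀ i, IsUnit ((bas (R := R) A).det
      (Sum.elim (tv f' g' pos vt i) (fun c : {c // c ∈ S i} => bas A c.1) ∘ (hd.exists_equiv i).some)) := fun i => by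
    refine hunit _ ?_
    rw [← det_ι]
    have he : (fun k => ι ev ((Sum.elim (tv f' g' pos vt i) (fun c : {c // c ∈ S i} => bas A c.1) ∘
        (hd.exists_equiv i).some) k)) =
        Sum.elim (tv f' g' pos v i) (fun c : {c // c ∈ S i} => bas L c.1) ∘ (hd.exists_equiv i).some := funext fun k => by
      rcases h : (hd.exists_equiv i).some k with q | c <;> simp only [Function.comp_apply, h, Sum.elim_inl, Sum.elim_inr]
      exacts [hvt i q, ι_bas ev c.1]
    rw [he]
    exact (hdetL i).ne_zero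
  let Pt : Fin (m.val + 1) → Grassmannian A (A ⊗[R] (Fin d → R)) (d - r) := fun i =>
    spanPoint r (S i) (hd.card_cols i) (hd.exists_equiv i).some (tv f' g' pos vt i) (hdet i)
  let Vt : Fin (n + 1) → Grassmannian A (A ⊗[R] (Fin d → R)) (d - r) := fun j =>
    if h : j.val ≤ m.val then Pt ⟨j, by omega⟩ else Grassmannian.map ι₀ (V j)
  have hle : ∀ (j : Fin (n + 1)) (h : j.val ≤ m.val),
      (Vt j).toSubmodule = Submodule.span A (Set.range (tv f' g' pos vt ⟨j, by omega⟩)) := fun j h => by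
    simp only [Vt, dif_pos h]; rfl
  have hgt : ∀ (j : Fin (n + 1)), m.val < j.val → (Vt j).toSubmodule = Submodule.span A (ι ι₀ '' (V j).toSubmodule) :=
    fun j h => by simp only [Vt, dif_neg (not_le.2 h)]; exact map_eq_span ι₀ (V j)
  have hm0 : (Vt m.castSucc).toSubmodule =
      Submodule.span A (Set.range fun q => defVec ι₀ t φ (tv f' g' pos v lst q)) := by
    rw [hle m.castSucc le_rfl]
    exact congrArg (fun w => Submodule.span A (Set.range w)) (funext hlast)
  refine ⟨A, iA, aA, K, iK, aK, ev, toK, Vt, ?_, hinj, ?_, ?_, ?_⟩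
  · -- linked
    intro i
    rcases lt_trichotomy i.val m.val with h | h | h
    · rw [hle i.castSucc h.le, hle i.succ h]
      exact linked_span (f := f') (g := g') pos hI' vt ⟨i.val, h⟩
    · obtain rfl : i = m := Fin.ext h
      rw [hm0, hgt i.succ (Nat.lt_succ_self _), Submodule.map_span, Submodule.span_le, Submodule.map_span,
        Submodule.span_le]
      have hmem : ∀ q, tv f' g' pos v lst q ∈ (V i.castSucc).toSubmodule := fun q => by
        rw [← hm1, hsp]; exact Submodule.subset_span ⟨q, rfl⟩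
      refine ⟨?_, ?_⟩
      · rintro _ ⟨_, ⟨q, rfl⟩, rfl⟩
        simp only [SetLike.mem_coe, defVec]
        rw [map_add, map_smul, ← ι_baseChange, ← ι_baseChange]
        exact add_mem (Submodule.subset_span ⟨_, (hV i).1 ⟨_, hmem q, rfl⟩, rfl⟩)
          (Submodule.smul_mem _ _ (Submodule.subset_span ⟨_, (hfφ _).2, rfl⟩))
      · rintro _ ⟨_, ⟨y, hy, rfl⟩, rfl⟩
        rw [← ι_baseChange, SetLike.mem_coe]
        have hx : (g i).baseChange L y ∈ (V i.castSucc).toSubmodule := (hV i).2 ⟨y, hy, rfl⟩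
        have := defVec_mem_span ι₀ t φ (tv f' g' pos v lst) (x := (g i).baseChange L y) (by rw [← hsp, hm1]; exact hx)
        rwa [defVec, hφG _ ⟨y, hy, rfl⟩, map_zero, smul_zero, add_zero] at this
    · rw [hgt i.castSucc h, hgt i.succ (Nat.lt_succ_of_lt h), ← map_eq_span, ← map_eq_span]
      exact ⟨map_le_of_le ι₀ (f i) (hV i).1, map_le_of_le ι₀ (g i) (hV i).2⟩
  · rw [← toK.commutes, show algebraMap R A s = ι₀ (algebraMap R L s) from (ι₀.commutes s).symm, hs,
      map_zero, map_zero]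
  · intro j
    refine Grassmannian.ext ?_
    rw [map_eq_span]
    by_cases h : j.val ≤ m.val
    · rw [hle j h, span_image_ι, ← Set.range_comp, show (V j).toSubmodule = (V' ⟨j, by omega⟩).toSubmodule from rfl, hsp]
      exact congrArg (fun w => Submodule.span L (Set.range w)) (funext fun q => hvt _ q)
    · rw [hgt j (not_le.1 h), span_image_ι, Set.image_image]
      simp only [hevι, Set.image_id', Submodule.span_eq]
  -- the generic fibre
  have := finite_total (R := R) (d := d) (L := K)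
  have hsK : algebraMap R K s = 0 := by
    rw [← toK.commutes, show algebraMap R A s = ι₀ (algebraMap R L s) from (ι₀.commutes s).symm, hs,
      map_zero, map_zero]
  let VK : Fin (n + 1) → Grassmannian K (K ⊗[R] (Fin d → R)) (d - r) := fun i => Grassmannian.map toK (Vt i)
  let ψ : L →ₐ[R] K := toK.comp ι₀
  let vK : Gen T → K ⊗[R] (Fin d → R) := fun q => ι toK (vt q)
  let VK' : Fin (m.val + 1) → Grassmannian K (K ⊗[R] (Fin d → R)) (d - r) := fun i => VK ⟨i, by omega⟩
  have hspK : ∀ i, (VK' i).toSubmodule = Submodule.span K (Set.range (tv f' g' pos vK i)) := fun i => by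
    show (Grassmannian.map toK (Vt ⟨i, by omega⟩)).toSubmodule = _
    rw [map_eq_span, hle _ (Nat.lt_succ_iff.1 i.2), span_image_ι, ← Set.range_comp]
    exact congrArg (fun w => Submodule.span K (Set.range w)) (funext fun q => ι_tv pos toK vt i q)
  have hLIK : ∀ i, LinearIndependent K (tv f' g' pos vK i) := fun i => by
    have h := (hdet i).map toK
    rw [← det_ι] at h
    obtain ⟨h1, -⟩ := (bas (R := R) K).is_basis_iff_det.2 h
    have h2 := h1.comp _ ((hd.exists_equiv i).some.symm.injective.comp Sum.inl_injective)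
    convert! h2 using 1
    funext q
    simp [vK, ι_tv]
  have hLI : ∀ i, LinearIndependent L (tv f' g' pos v i) := fun i => by
    obtain ⟨h1, -⟩ := (bas (R := R) L).is_basis_iff_det.2 (hdetL i)
    have h2 := h1.comp _ ((hd.exists_equiv i).some.symm.injective.comp Sum.inl_injective)
    convert! h2 using 1
    funext q
    simp
  have hhigh : ∀ j : Fin (n + 1), m.val < j.val →
      (VK j).toSubmodule = Submodule.span K (ι ψ '' (V j).toSubmodule) := fun j h => by
    show (Grassmannian.map toK (Vt j)).toSubmodule = _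
    rw [map_eq_span, hgt j h, span_image_ι, Set.image_image]
    simp only [ι_ι, ψ]
  -- the edge itself
  let L' := LinearMap.ker ((g m).baseChange L) ⊓ (V m.succ).toSubmodule
  let VmK : Submodule K (K ⊗[R] (Fin d → R)) :=
    Submodule.span K (Set.range fun q => defVec ψ (toK t) φ (tv f' g' pos v lst q))
  have hVmK : (VK m.castSucc).toSubmodule = VmK := by
    show (Grassmannian.map toK (Vt m.castSucc)).toSubmodule = _
    rw [map_eq_span, hm0, span_image_ι, ← Set.range_comp]
    refine congrArg (fun w => Submodule.span K (Set.range w)) (funext fun q => ?_)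
    simp only [Function.comp_apply, defVec, map_add, ι_smul, ι_ι, ψ]
  have hinK : ∀ x ∈ (V m.castSucc).toSubmodule, defVec ψ (toK t) φ x ∈ VmK := fun x hx =>
    defVec_mem_span ψ (toK t) φ _ (by rw [← hsp, hm1]; exact hx)
  have hD : ∀ x, ι ψ (((f m).baseChange L) (φ x)) ∈ VmK.map ((f m).baseChange K) := fun x => by
    obtain ⟨c, hc, hcx⟩ := hrg ⟨x, rfl⟩
    rw [← show ((f m).baseChange L) (φ c) = ((f m).baseChange L) (φ x) from hcx]
    have h1 : (f m).baseChange K (defVec ψ (toK t) φ c) ∈ VmK.map ((f m).baseChange K) := ⟨_, hinK c (hC hc).2, rfl⟩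
    rw [defVec, map_add, map_smul, ← ι_baseChange, ← ι_baseChange, LinearMap.mem_ker.1 (hC hc).1, map_zero,
      zero_add] at h1
    have h2 := Submodule.smul_mem _ (toK t)⁻¹ h1
    rwa [inv_smul_smul₀ htK] at h2
  have hfm : VmK.map ((f m).baseChange K) = Submodule.span K (ι ψ '' L') := by
    refine le_antisymm ?_ (Submodule.span_le.2 ?_)
    · rw [Submodule.map_span, Submodule.span_le]
      rintro _ ⟨_, ⟨q, rfl⟩, rfl⟩
      simp only [SetLike.mem_coe, defVec]
      rw [map_add, map_smul, ← ι_baseChange, ← ι_baseChange]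
      refine add_mem (Submodule.subset_span ⟨_, ⟨?_, ?_⟩, rfl⟩)
        (Submodule.smul_mem _ _ (Submodule.subset_span ⟨_, hfφ _, rfl⟩))
      · rw [SetLike.mem_coe, LinearMap.mem_ker, (fg_apply hI m _).2, hs, zero_smul]
      · exact (hV m).1 ⟨_, by rw [SetLike.mem_coe, ← hm1, hsp]; exact Submodule.subset_span ⟨q, rfl⟩, rfl⟩
    · rintro _ ⟨z, hz, rfl⟩
      obtain ⟨_, ⟨x, hx, rfl⟩, _, ⟨c, -, rfl⟩, rfl⟩ := Submodule.mem_sup.1 (hL' hz)
      rw [map_add]
      refine add_mem ?_ (hD c)
      have h1 : (f m).baseChange K (defVec ψ (toK t) φ x) ∈ VmK.map ((f m).baseChange K) := ⟨_, hinK x hx, rfl⟩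
      rw [defVec, map_add, map_smul, ← ι_baseChange, ← ι_baseChange] at h1
      simpa using sub_mem h1 (Submodule.smul_mem _ (toK t) (hD x))
  have hfmr : rkF f VK m + rkG g V m = r := by
    rw [rkF, hVmK, hfm, finrank_span_ι, rkG, add_comm]
    show _ + Module.finrank L ↥(LinearMap.ker ((g m).baseChange L) ⊓ (V m.succ).toSubmodule) = r
    rw [finrank_map_eq, finrank_member hr]
  have hexm : EdgeExact f g VK m := by
    refine ⟨?_, ?_⟩
    · rw [hVmK, hfm, hhigh m.succ (Nat.lt_succ_self _), ker_inf_span_ι]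
    · have hGK : Submodule.span K (ι ψ '' ↑((V m.succ).toSubmodule.map ((g m).baseChange L))) ≤
          LinearMap.ker ((f m).baseChange K) ⊓ (VK m.castSucc).toSubmodule := by
        rw [Submodule.span_le, hVmK]
        rintro _ ⟨_, ⟨y, hy, rfl⟩, rfl⟩
        refine ⟨?_, ?_⟩
        · rw [SetLike.mem_coe, LinearMap.mem_ker, ι_baseChange, (fg_apply hI m _).1, hsK, zero_smul]
        · have := hinK ((g m).baseChange L y) ((hV m).2 ⟨y, hy, rfl⟩)
          rwa [defVec, hφG _ ⟨y, hy, rfl⟩, map_zero, smul_zero, add_zero] at this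
      rw [hhigh m.succ (Nat.lt_succ_self _), map_span_ι]
      refine (Submodule.eq_of_le_of_finrank_le hGK ?_).ge
      have h1 := finrank_map_eq ((f m).baseChange K) (VK m.castSucc).toSubmodule
      rw [finrank_member hr] at h1
      rw [finrank_span_ι]
      simp only [rkF, rkG] at hfmr
      omega
  refine ⟨fun i hi => ?_, fun i hi => ?_, hfmr, fun i hi => ?_⟩
  · rcases eq_or_lt_of_le hi with rfl | hlt
    · exact hexm
    · exact exact_of_span (f := f') (g := g') pos hI' hsK vK (V := VK') hspK hLIK ⟨i.val, hlt⟩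
  · have h1 := finrank_map_f_span (f := f') (g := g') pos hI' hsK vK (V := VK') hspK hLIK ⟨i.val, hi⟩
    have h2 := finrank_map_f_span (f := f') (g := g') pos hI' hs v (V := V') hsp hLI ⟨i.val, hi⟩
    exact h1.trans h2.symm
  · have hi' : m.val < i.val := hi
    constructor
    · show Module.finrank K (Submodule.map _ (VK i.castSucc).toSubmodule) = _
      rw [hhigh i.castSucc hi', map_span_ι, finrank_span_ι]; rfl
    · show Module.finrank K (Submodule.map _ (VK i.succ).toSubmodule) = _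
      rw [hhigh i.succ (Nat.lt_succ_of_lt hi'), map_span_ι, finrank_span_ι]; rfl

end Pencil

end Groth.Agent.Synt29.LG
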