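import Groth.Agent.Synt29.LGTransport

/-!
Charts of the exact locus: opens of affine spaces.
-/

set_option autoImplicit false

universe u

open TensorProduct CategoryTheory W4c1limliniiii

namespace Groth.Agent.Synt29.LG

open GrassGraph
open Module (Grassmannian)

variable {R : Type u} [CommRing R] {d r n : ℕ} (f g : Fin n → ((Fin d → R) →ₗ[R] (Fin d → R)))
  (S T : Fin (n + 1) → Finset (Fin d))

/-- The index set of the generators. -/
abbrev Gen := Σ j : Fin (n + 1), {c // c ∈ T j}

/-- The variables. -/
abbrev EVar := Σ j : Fin (n + 1), {c // c ∈ T j} × {c // c ∈ S j}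

/-- The data of an exact chart. -/
structure EData (r : ℕ) : Prop where
  le : r ≤ d
  card_cols : ∀ i, (S i).card = d - r
  disj : ∀ j, ∀ c ∈ T j, c ∉ S j
  card_gen : ∑ j, (T j).card = r

variable {S T} in
theorem EData.exists_equiv (h : EData S T r) (i : Fin (n + 1)) :
    Nonempty (Fin d ≃ Gen T ⊕ {c // c ∈ S i}) :=
  ⟨(Fintype.equivFinOfCardEq (by
    rw [Fintype.card_sum, Fintype.card_sigma]
    simp only [Fintype.card_coe]
    rw [h.card_gen, h.card_cols]
    have := h.le
    omega)).symm⟩

section Vectors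

variable {A : Type u} [CommRing A] [Algebra R A] (u : Gen T → Fin d → A)

/-- A generator. -/
noncomputable def gen (q : Gen T) : A ⊗[R] (Fin d → R) :=
  bas A q.2.1 - sect (R := R) (S q.1) (fun c => u q c)

/-- A transported generator. -/
noncomputable def tgen (i : Fin (n + 1)) (q : Gen T) : A ⊗[R] (Fin d → R) :=
  (tr f g q.1 i).baseChange A (gen S T u q)

/-- The transported generators with the columns. -/
noncomputable def full (i : Fin (n + 1)) : Gen T ⊕ {c // c ∈ S i} → A ⊗[R] (Fin d → R) :=
  Sum.elim (tgen f g S T u i) fun c => bas A c.1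

variable (hd : EData S T r)

/-- The determinant of one copy. -/
noncomputable def detI (i : Fin (n + 1)) : A :=
  (bas (R := R) A).det (full f g S T u i ∘ (hd.exists_equiv i).some)

variable {f g S T u}

theorem ι_full {B : Type u} [CommRing B] [Algebra R B] (φ : A →ₐ[R] B) (i : Fin (n + 1))
    (q : Gen T ⊕ {c // c ∈ S i}) : ι φ (full f g S T u i q) = full f g S T (fun a b => φ (u a b)) i q := by
  rcases q with q | c
  · simp only [full, Sum.elim_inl, tgen, ι_baseChange, gen, map_sub, ι_bas, ι_sect]
  · simp only [full, Sum.elim_inr, ι_bas]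

theorem detI_map {B : Type u} [CommRing B] [Algebra R B] (φ : A →ₐ[R] B) (i : Fin (n + 1)) :
    detI f g S T (fun a b => φ (u a b)) hd i = φ (detI f g S T u hd i) := by
  rw [detI, detI, ← det_ι]
  congr 1
  exact funext fun k => (ι_full φ i _).symm

theorem linearIndependent_full {i : Fin (n + 1)} (h : IsUnit (detI f g S T u hd i)) :
    LinearIndependent A (full f g S T u i) ∧ Submodule.span A (Set.range (full f g S T u i)) = ⊤ := by
  obtain ⟨h1, h2⟩ := (bas (R := R) A).is_basis_iff_det.2 h
  refine ⟨?_, ?_⟩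
  · have := h1.comp _ (hd.exists_equiv i).some.symm.injective
    simpa [Function.comp_assoc] using this
  · rwa [(hd.exists_equiv i).some.surjective.range_comp] at h2

theorem isCompl_span {i : Fin (n + 1)} (h : IsUnit (detI f g S T u hd i)) :
    IsCompl (Submodule.span A (Set.range (tgen f g S T u i)))
      (Submodule.span A (bas (R := R) A '' (S i : Set (Fin d)))) := by
  obtain ⟨h1, h2⟩ := linearIndependent_full hd h
  obtain ⟨-, -, hdisj⟩ := linearIndependent_sum.1 h1
  rw [show Submodule.span A (bas (R := R) A '' (S i : Set (Fin d))) =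
      Submodule.span A (Set.range fun c : {c // c ∈ S i} => bas (R := R) A c.1) by rw [Set.image_eq_range]; rfl]
  refine ⟨by simpa [full, Function.comp_def] using hdisj, codisjoint_iff.2 ?_⟩
  rw [← Submodule.span_union, ← Set.Sum.elim_range]
  exact h2

/-- The point with given generators. -/
noncomputable def ofGen {i : Fin (n + 1)} (h : IsUnit (detI f g S T u hd i)) :
    Grassmannian A (A ⊗[R] (Fin d → R)) (d - r) :=
  letI hinj : Function.Injective (sect (R := R) (A := A) (S i)) := fun y y' hy => by
    have := congrArg (proj (R := R) (S i) (fun _ _ => 0)) hy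
    rwa [proj_sect, proj_sect] at this
  letI e := ((Submodule.quotientEquivOfIsCompl _ _ (isCompl_span hd h)).trans
    (LinearEquiv.ofEq _ _ (range_sect (S i)).symm)).trans (LinearEquiv.ofInjective _ hinj).symm
  { toSubmodule := Submodule.span A (Set.range (tgen f g S T u i))
    finite_quotient := Module.Finite.equiv e.symm
    projective_quotient := Module.Projective.of_equiv e.symm
    rankAtStalk_eq := fun p => by
      have : Nontrivial A := PrimeSpectrum.nontrivial p
      rw [Module.rankAtStalk_eq_of_equiv e, Module.rankAtStalk_eq_finrank_of_free]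
      simp [finrank_pi_finset, hd.card_cols] }

/-- Membership of a tuple in the exact chart, with given parameters. -/
structure IsGen (V : Fin (n + 1) → Grassmannian A (A ⊗[R] (Fin d → R)) (d - r)) (u : Gen T → Fin d → A) : Prop where
  mem : ∀ q, gen S T u q ∈ (V q.1).toSubmodule
  unit : ∀ i, IsUnit (detI f g S T u hd i)

variable {hd} {V : Fin (n + 1) → Grassmannian A (A ⊗[R] (Fin d → R)) (d - r)}

theorem IsGen.inChart (hu : IsGen (f := f) (g := g) hd V u)
    (hV : V ∈ LGPoints R d r n f g A) (i : Fin (n + 1)) : InChart (S i) (V i) := by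
  rw [inChart_iff, eq_top_iff, ← (linearIndependent_full hd (hu.unit i)).2, Submodule.span_le]
  rintro _ ⟨q | c, rfl⟩
  · exact Submodule.mem_sup_left (map_tr_le (fun j => (V j).toSubmodule) hV q.1 i (hu.mem q))
  · exact Submodule.mem_sup_right (Submodule.subset_span ⟨c.1, c.2, rfl⟩)

theorem inf_eq_bot {m : ℕ} {S : Finset (Fin d)} {N : Grassmannian A (A ⊗[R] (Fin d → R)) m}
    (h : InChart S N) (hS : S.card = m) :
    N.toSubmodule ⊓ Submodule.span A (bas (R := R) A '' (S : Set (Fin d))) = ⊥ := by
  rw [← range_sect, eq_bot_iff]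
  rintro _ ⟨hN, y, rfl⟩
  have : y = 0 := (h.bijective hS).1 (by simp [colMap, (Submodule.Quotient.mk_eq_zero _).2 hN])
  simp [this]

theorem IsGen.eq_span (hu : IsGen (f := f) (g := g) hd V u) (hV : V ∈ LGPoints R d r n f g A) (i : Fin (n + 1)) :
    (V i).toSubmodule = Submodule.span A (Set.range (tgen f g S T u i)) := by
  refine le_antisymm (fun x hx => ?_) (Submodule.span_le.2 ?_)
  · have hx' : x ∈ Submodule.span A (Set.range (tgen f g S T u i)) ⊔
        Submodule.span A (bas (R := R) A '' (S i : Set (Fin d))) := by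
      rw [(isCompl_span hd (hu.unit i)).sup_eq_top]; trivial
    obtain ⟨a, ha, b, hb, rfl⟩ := Submodule.mem_sup.1 hx'
    have haV : a ∈ (V i).toSubmodule := (Submodule.span_le.2 (by
      rintro _ ⟨q, rfl⟩; exact map_tr_le (fun j => (V j).toSubmodule) hV q.1 i (hu.mem q))) ha
    have : b ∈ (V i).toSubmodule ⊓ Submodule.span A (bas (R := R) A '' (S i : Set (Fin d))) :=
      ⟨by simpa using (V i).toSubmodule.sub_mem hx haV, hb⟩
    rw [inf_eq_bot (hu.inChart hV i) (hd.card_cols i), Submodule.mem_bot] at this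
    rwa [this, add_zero]
  · rintro _ ⟨q, rfl⟩
    exact map_tr_le (fun j => (V j).toSubmodule) hV q.1 i (hu.mem q)

theorem IsGen.map {B : Type u} [CommRing B] [Algebra R B] (φ : A →ₐ[R] B) (hu : IsGen (f := f) (g := g) hd V u) :
    IsGen (f := f) (g := g) hd (fun i => Grassmannian.map φ (V i)) (fun a b => φ (u a b)) := by
  refine ⟨fun q => ?_, fun i => by rw [detI_map]; exact (hu.unit i).map φ⟩
  rw [map_eq_span]
  refine Submodule.subset_span ⟨gen S T u q, hu.mem q, ?_⟩
  simp only [gen, map_sub, ι_bas, ι_sect]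

/-- Parameters are unique on the relevant entries. -/
theorem gen_unique (hch : ∀ j, InChart (S j) (V j)) (hcard : ∀ j, (S j).card = d - r) {u' : Gen T → Fin d → A}
    (h : ∀ q, gen S T u q ∈ (V q.1).toSubmodule) (h' : ∀ q, gen S T u' q ∈ (V q.1).toSubmodule)
    (q : Gen T) (c : Fin d) (hc : c ∈ S q.1) : u q c = u' q c := by
  have hsub : sect (R := R) (S q.1) (fun c => u' q c) - sect (R := R) (S q.1) (fun c => u q c) ∈
      (V q.1).toSubmodule ⊓ LinearMap.range (sect (R := R) (A := A) (S q.1)) := by
    refine ⟨?_, sub_mem ⟨_, rfl⟩ ⟨_, rfl⟩⟩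
    simpa [gen] using (V q.1).toSubmodule.sub_mem (h q) (h' q)
  rw [range_sect, inf_eq_bot (hch q.1) (hcard q.1), Submodule.mem_bot, sub_eq_zero] at hsub
  have := congrArg (proj (R := R) (S q.1) (fun _ _ => 0)) hsub
  rw [proj_sect, proj_sect] at this
  exact (congrFun this ⟨c, hc⟩).symm

theorem detI_congr {u' : Gen T → Fin d → A} (h : ∀ (q : Gen T) (c : Fin d), c ∈ S q.1 → u q c = u' q c)
    (i : Fin (n + 1)) : detI f g S T u hd i = detI f g S T u' hd i := by
  have : full f g S T u i = full f g S T u' i := by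
    funext q
    rcases q with q | c
    · simp only [full, Sum.elim_inl, tgen, gen]
      congr 3
      funext c
      exact h q c.1 c.2
    · rfl
  rw [detI, detI, this]

end Vectors

/-- The universal parameters in the polynomial ring. -/
noncomputable def uX (q : Gen T) (c : Fin d) : MvPolynomial (EVar S T) R :=
  if hc : c ∈ S q.1 then MvPolynomial.X ⟨q.1, q.2, ⟨c, hc⟩⟩ else 0

variable {S T} (hd : EData S T r)

/-- The function to invert. -/
noncomputable def eDen : MvPolynomial (EVar S T) R := ∏ i, detI f g S T (uX S T) hd i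

/-- The ring of an exact chart. -/
abbrev ERing := Localization.Away (eDen f g hd)

/-- The universal parameters. -/
noncomputable def uU (q : Gen T) (c : Fin d) : ERing f g hd :=
  IsScalarTower.toAlgHom R (MvPolynomial (EVar S T) R) (ERing f g hd) (uX S T q c)

theorem isUnit_detI_uU (i : Fin (n + 1)) : IsUnit (detI f g S T (uU f g hd) hd i) := by
  rw [show uU f g hd = fun q c => IsScalarTower.toAlgHom R _ (ERing f g hd) (uX S T q c) from rfl, detI_map]
  refine isUnit_of_dvd_unit ?_ (IsLocalization.Away.algebraMap_isUnit (S := ERing f g hd) (eDen f g hd))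
  exact map_dvd _ (Finset.dvd_prod_of_mem _ (Finset.mem_univ i))

variable {f g} {s : R} (hI : ∀ i, (f i).comp (g i) = s • LinearMap.id ∧ (g i).comp (f i) = s • LinearMap.id)

section Linked

variable {A : Type u} [CommRing A] [Algebra R A] {u : Gen T → Fin d → A}

include hI in
theorem ofGen_linked (hu : ∀ i, IsUnit (detI f g S T u hd i)) :
    (fun i => ofGen hd (hu i)) ∈ LGPoints R d r n f g A := by
  intro i
  constructor <;>
    rw [show ∀ j, (ofGen hd (hu j)).toSubmodule = Submodule.span A (Set.range (tgen f g S T u j)) from fun _ => rfl,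
      show ∀ j, (ofGen hd (hu j)).toSubmodule = Submodule.span A (Set.range (tgen f g S T u j)) from fun _ => rfl,
      Submodule.map_span, Submodule.span_le] <;>
    rintro _ ⟨_, ⟨q, rfl⟩, rfl⟩ <;>
    simp only [SetLike.mem_coe, tgen, baseChange_comp_apply, Fin.val_castSucc, Fin.val_succ]
  · rcases le_or_gt (q.1 : ℕ) i with h | h
    · rw [f_comp_tr_of_le f g i h]
      exact Submodule.subset_span ⟨q, by simp [tgen]⟩
    · rw [f_comp_tr_of_lt (fun i => (hI i).1) i h, baseChange_smul_apply]
      exact Submodule.smul_mem _ _ (Submodule.subset_span ⟨q, by simp [tgen]⟩)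
  · rcases le_or_gt (q.1 : ℕ) i with h | h
    · rw [g_comp_tr_of_le (fun i => (hI i).2) i h, baseChange_smul_apply]
      exact Submodule.smul_mem _ _ (Submodule.subset_span ⟨q, by simp [tgen]⟩)
    · rw [g_comp_tr_of_lt f g i h]
      exact Submodule.subset_span ⟨q, by simp [tgen]⟩

theorem isGen_ofGen (hu : ∀ i, IsUnit (detI f g S T u hd i)) :
    IsGen (f := f) (g := g) hd (fun i => ofGen hd (hu i)) u := by
  refine ⟨fun q => Submodule.subset_span ⟨q, ?_⟩, hu⟩
  rw [tgen, tr_self, LinearMap.baseChange_id, LinearMap.id_apply]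

end Linked

/-- The chart of the exact locus. -/
noncomputable def eChart : RepOpen.Chart (functor r f g) where
  P A V := ∃ u, IsGen (f := f) (g := g) hd V.1 (u : Gen T → Fin d → A)
  C := CommAlgCat.of R (ERing f g hd)
  univ := ⟨fun i => ofGen hd (isUnit_detI_uU f g hd i), ofGen_linked hd hI _⟩
  mem_univ := ⟨_, isGen_ofGen hd (isUnit_detI_uU f g hd)⟩
  map_mem {_ _} φ {V} h := by
    obtain ⟨u, hu⟩ := h
    exact ⟨_, hu.map φ.hom⟩
  lift {A V} h := by
    obtain ⟨u, hu⟩ := h
    let η : MvPolynomial (EVar S T) R →ₐ[R] A := MvPolynomial.aeval fun v => u ⟨v.1, v.2.1⟩ v.2.2.1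
    have hη : ∀ (q : Gen T) (c : Fin d), c ∈ S q.1 → η (uX S T q c) = u q c := fun q c hc => by
      simp [η, uX, dif_pos hc]
    have hden : IsUnit (η.toRingHom (eDen f g hd)) := by
      show IsUnit (η (eDen f g hd))
      rw [eDen, map_prod]
      refine IsUnit.prod_univ_iff.2 fun i => ?_
      rw [← detI_map, detI_congr hη]
      exact hu.unit i
    let ρ : ERing f g hd →ₐ[R] A := IsLocalization.liftAlgHom (M := Submonoid.powers (eDen f g hd)) (f := η)
      (fun y => by obtain ⟨k, hk⟩ := y.2; rw [← hk, map_pow]; exact hden.pow k)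
    have hρ : ∀ q c, ρ (uU f g hd q c) = η (uX S T q c) := fun q c => IsLocalization.lift_eq _ _
    have hgen : IsGen (f := f) (g := g) hd V.1 (fun q c => ρ (uU f g hd q c)) := by
      refine ⟨fun q => ?_, fun i => ?_⟩
      · have : gen (R := R) S T (fun q c => ρ (uU f g hd q c)) q = gen (R := R) S T u q := by
          simp only [gen]
          congr 2
          funext c
          rw [hρ, hη q c c.2]
        rw [this]; exact hu.mem q
      · rw [detI_congr (fun q c hc => (hρ q c).trans (hη q c hc))]; exact hu.unit i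
    refine ⟨CommAlgCat.ofHom ρ, Subtype.ext (funext fun i => Grassmannian.ext ?_), fun ρ' hρ' => ?_⟩
    · have h1 := (isGen_ofGen hd (isUnit_detI_uU f g hd)).map ρ
      rw [hgen.eq_span V.2 i]
      exact h1.eq_span ((functor r f g).map (CommAlgCat.ofHom ρ)
        ⟨_, ofGen_linked hd hI (isUnit_detI_uU f g hd)⟩).2 i
    · have h1 := (isGen_ofGen hd (isUnit_detI_uU f g hd)).map ρ'.hom
      have h2 : ∀ q, gen S T (fun a b => ρ'.hom (uU f g hd a b)) q ∈ (V.1 q.1).toSubmodule := fun q => by
        rw [← congrFun (congrArg Subtype.val hρ') q.1]; exact h1.mem q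
      refine CommAlgCat.hom_ext (IsLocalization.algHom_ext (Submonoid.powers (eDen f g hd))
        (MvPolynomial.algHom_ext fun v => ?_))
      obtain ⟨j, c, c'⟩ := v
      have h3 := gen_unique (fun j => hgen.inChart V.2 j) hd.card_cols h2 hgen.mem ⟨j, c⟩ c'.1 c'.2
      have hX : uX (R := R) S T ⟨j, c⟩ c'.1 = MvPolynomial.X ⟨j, c, c'⟩ := by rw [uX, dif_pos c'.2]
      simp only [uU] at h3
      rw [hX] at h3
      exact h3
  isOpen {A} V L hL ψ h := by
    letI := hL.toField
    obtain ⟨uL, huL⟩ := h
    obtain ⟨a, ha, ha'⟩ := exists_ne_zero_inChart S V.1 ψ.hom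
      (fun i => huL.inChart ((functor r f g).map ψ V).2 i)
    let A' := Localization.Away a
    let φ : (A : Type u) →ₐ[R] A' := IsScalarTower.toAlgHom R A A'
    have hch : ∀ i, InChart (S i) (Grassmannian.map φ (V.1 i)) :=
      ha' A' φ (IsLocalization.Away.algebraMap_isUnit a)
    choose u' hu' _ using fun i => (hch i).exists_eq (hd.card_cols i)
    let u : Gen T → Fin d → A' := fun q c =>
      if hc : c ∈ S q.1 then u' q.1 ⟨q.2.1, hd.disj _ _ q.2.2⟩ ⟨c, hc⟩ else 0
    have hmem : ∀ q, gen (R := R) S T u q ∈ (Grassmannian.map φ (V.1 q.1)).toSubmodule := fun q => by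
      rw [hu', graph_toSubmodule, ker_proj]
      refine Submodule.subset_span ⟨⟨q.2.1, hd.disj _ _ q.2.2⟩, ?_⟩
      simp only [vec, gen]
      congr 2
      funext c
      simp [u, dif_pos c.2]
    have hu0 : IsUnit (ψ.hom.toRingHom a) := isUnit_iff_ne_zero.2 ha
    let ψ' : A' →ₐ[R] L := IsLocalization.liftAlgHom (M := Submonoid.powers a) (f := ψ.hom)
      (fun y => by obtain ⟨k, hk⟩ := y.2; rw [← hk, map_pow]; exact hu0.pow k)
    have hψ : ψ'.comp φ = ψ.hom := AlgHom.ext fun x => IsLocalization.lift_eq _ _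
    have hdet : ∀ i, ψ' (detI f g S T u hd i) ≠ 0 := fun i => by
      rw [← detI_map, detI_congr (u' := uL) ?_]
      · exact (huL.unit i).ne_zero
      intro q c hc
      refine gen_unique (u := fun a b => ψ' (u a b)) (V := fun j => Grassmannian.map ψ.hom (V.1 j))
        (fun j => huL.inChart ((functor r f g).map ψ V).2 j) hd.card_cols (fun q => ?_) huL.mem q c hc
      rw [← hψ, Grassmannian.map_comp, map_eq_span]
      refine Submodule.subset_span ⟨gen S T u q, hmem q, ?_⟩
      simp only [gen, map_sub, ι_bas, ι_sect]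
    obtain ⟨⟨b, ⟨_, k, rfl⟩⟩, hb⟩ := IsLocalization.surj (Submonoid.powers a) (∏ i, detI f g S T u hd i)
    have hb' : φ b = (∏ i, detI f g S T u hd i) * φ a ^ k := by rw [← map_pow]; exact hb.symm
    refine ⟨a * b, ?_, ?_⟩
    · have h1 := congrArg ψ' hb'
      rw [map_mul, map_pow, ← AlgHom.comp_apply, ← AlgHom.comp_apply, hψ, map_prod] at h1
      show ψ.hom (a * b) ≠ 0
      rw [map_mul, h1]
      exact mul_ne_zero ha (mul_ne_zero (Finset.prod_ne_zero_iff.2 fun i _ => hdet i) (pow_ne_zero _ ha))
    · let B := Localization.Away (a * b)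
      have hab : IsUnit (algebraMap A B a) ∧ IsUnit (algebraMap A B b) := by
        have := IsLocalization.Away.algebraMap_isUnit (S := B) (a * b)
        rwa [map_mul, IsUnit.mul_iff] at this
      let χ : A' →ₐ[R] B := IsLocalization.liftAlgHom (M := Submonoid.powers a)
        (f := IsScalarTower.toAlgHom R A B)
        (fun y => by obtain ⟨k, hk⟩ := y.2; rw [← hk, map_pow]; exact hab.1.pow k)
      have hχ : χ.comp φ = IsScalarTower.toAlgHom R A B := AlgHom.ext fun x => IsLocalization.lift_eq _ _
      refine ⟨fun q c => χ (u q c), fun q => ?_, fun i => ?_⟩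
      · show _ ∈ (Grassmannian.map (IsScalarTower.toAlgHom R A B) (V.1 q.1)).toSubmodule
        rw [← hχ, Grassmannian.map_comp, map_eq_span]
        refine Submodule.subset_span ⟨gen S T u q, hmem q, ?_⟩
        simp only [gen, map_sub, ι_bas, ι_sect]
        rfl
      · rw [detI_map]
        have h1 : IsUnit (χ (φ b)) := by rw [← AlgHom.comp_apply, hχ]; exact hab.2
        rw [hb', map_mul, IsUnit.mul_iff, map_prod, IsUnit.prod_univ_iff] at h1
        exact h1.1 i

end Groth.Agent.Synt29.LG
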