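import Groth.Agent.Synt29.LGExact

/-!
Linked tuples over fields: every exact one lies in an exact chart.
-/

set_option autoImplicit false

universe u

open TensorProduct W4c1limliniiii

namespace Groth.Agent.Synt29.LG

open GrassGraph
open Module (Grassmannian)

variable {R : Type u} [CommRing R] {d r n : ℕ} {f g : Fin n → ((Fin d → R) →ₗ[R] (Fin d → R))}
  {L : Type u} [Field L] [Algebra R L]

theorem finrank_total : Module.finrank L (L ⊗[R] (Fin d → R)) = d := by
  rw [Module.finrank_eq_card_basis (bas (R := R) L), Fintype.card_fin]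

theorem finite_total : Module.Finite L (L ⊗[R] (Fin d → R)) := Module.Finite.of_basis (bas L)

theorem finrank_quot {m : ℕ} (N : Grassmannian L (L ⊗[R] (Fin d → R)) m) :
    Module.finrank L ((L ⊗[R] (Fin d → R)) ⧸ N.toSubmodule) = m := by
  have h := N.rankAtStalk_eq ⟨⊥, Ideal.isPrime_bot⟩
  rwa [Module.rankAtStalk_eq_finrank_of_free] at h

theorem finrank_member (hr : r ≤ d) (N : Grassmannian L (L ⊗[R] (Fin d → R)) (d - r)) :
    Module.finrank L N.toSubmodule = r := by
  have := finite_total (R := R) (d := d) (L := L)
  have h := Submodule.finrank_quotient_add_finrank N.toSubmodule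
  rw [finrank_quot, finrank_total] at h
  omega

/-- A spanning family of a quotient contains a basis. -/
theorem exists_subset_span {M : Type*} [AddCommGroup M] [Module L M] [Module.Finite L M] {κ : Type*} (v : κ → M)
    (W : Submodule L M) (hv : ∀ k, v k ∈ W) (U : Submodule L M) (hU : U ≤ W)
    (hsp : W ≤ Submodule.span L (Set.range v) ⊔ U) :
    ∃ t : Finset κ, W = Submodule.span L (v '' t) ⊔ U ∧ t.card + Module.finrank L U = Module.finrank L W := by
  classical
  obtain ⟨b, hb, hbs, hbli⟩ := exists_linearIndependent L (Set.range fun k => U.mkQ (v k))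
  have hbfin : b.Finite := hbli.setFinite
  choose x hx using fun y : b => hb y.2
  haveI := hbfin.fintype
  have hxinj : Function.Injective x := fun y y' h => Subtype.ext (by
    have h1 := hx y; have h2 := hx y'; rw [h] at h1; exact h1.symm.trans h2)
  refine ⟨Finset.univ.image x, ?_, ?_⟩
  all_goals
    have himg : (U.mkQ '' (v '' (Finset.univ.image x : Finset κ))) = b := by
      ext y
      simp only [Finset.coe_image, Finset.coe_univ, Set.image_univ, ← Set.range_comp, Set.mem_range,
        Function.comp_apply]
      exact ⟨fun ⟨z, hz⟩ => by have := hx z; simp only at this; rw [← hz, this]; exact z.2, fun hy => ⟨⟨y, hy⟩, hx ⟨y, hy⟩⟩⟩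
    have hmap : Submodule.map U.mkQ W = Submodule.span L b := by
      refine le_antisymm ?_ ?_
      · rw [hbs]
        refine (Submodule.map_mono hsp).trans (le_of_eq ?_)
        rw [Submodule.map_sup, Submodule.map_span, ← Set.range_comp, Submodule.mkQ_map_self, sup_bot_eq]
        rfl
      · rw [← himg, ← Submodule.map_span]
        refine Submodule.map_mono (Submodule.span_le.2 ?_)
        rintro _ ⟨k, -, rfl⟩; exact hv k
    have hW : W = Submodule.span L (v '' (Finset.univ.image x : Finset κ)) ⊔ U := by
      have := congrArg (Submodule.comap U.mkQ) hmap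
      rw [Submodule.comap_map_eq, Submodule.ker_mkQ, ← himg, ← Submodule.map_span, Submodule.comap_map_eq,
        Submodule.ker_mkQ, sup_eq_left.2 hU] at this
      exact this
  · exact hW
  · have h1 := LinearMap.finrank_range_add_finrank_ker (U.mkQ.domRestrict W)
    rw [LinearMap.range_domRestrict, hmap] at h1
    have h2 : Module.finrank L (LinearMap.ker (U.mkQ.domRestrict W)) = Module.finrank L U := by
      rw [LinearMap.ker_domRestrict, Submodule.ker_mkQ]
      exact (Submodule.comapSubtypeEquivOfLe hU).finrank_eq
    have h3 : Module.finrank L (Submodule.span L b) = hbfin.toFinset.card := by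
      rw [finrank_span_set_eq_card (s := b) hbli]
      congr 1
      exact (Set.toFinset_congr rfl).trans (by ext; simp)
    rw [Finset.card_image_of_injective _ hxinj, Finset.card_univ]
    have h4 : hbfin.toFinset.card = Fintype.card b := by
      rw [Set.Finite.toFinset_eq_toFinset, Set.toFinset_card]
    omega

theorem exists_cols {m : ℕ} (N : Grassmannian L (L ⊗[R] (Fin d → R)) m) :
    ∃ S : Finset (Fin d), S.card = m ∧ InChart S N := by
  have := finite_total (R := R) (d := d) (L := L)
  obtain ⟨t, ht, hcard⟩ := exists_subset_span (bas (R := R) L) ⊤ (fun _ => trivial) N.toSubmodule le_top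
    (by rw [(bas (R := R) L).span_eq]; simp)
  refine ⟨t, ?_, (inChart_iff _ _).2 (by rw [sup_comm]; exact ht.symm)⟩
  have h := Submodule.finrank_quotient_add_finrank N.toSubmodule
  rw [finrank_quot, finrank_total] at h
  rw [finrank_top, finrank_total] at hcard
  omega

/-- The graph generators span the member. -/
theorem InChart.span_gen {m : ℕ} {S : Finset (Fin d)} (hS : S.card = m)
    {N : Grassmannian L (L ⊗[R] (Fin d → R)) m} (h : InChart S N) :
    ∃ u : Fin d → Fin d → L, (∀ c : {c // c ∉ S}, bas (R := R) L c.1 - sect (R := R) S (fun c' => u c.1 c') ∈ N.toSubmodule) ∧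
      N.toSubmodule ≤ Submodule.span L (Set.range fun c : {c // c ∉ S} =>
        bas (R := R) L c.1 - sect (R := R) S (fun c' => u c.1 c')) := by
  obtain ⟨u, rfl, -⟩ := h.exists_eq hS
  classical
  let u' : Fin d → Fin d → L := fun c c' => if h : c ∉ S ∧ c' ∈ S then u ⟨c, h.1⟩ ⟨c', h.2⟩ else 0
  have hu : ∀ c : {c // c ∉ S}, (fun c' : S => u' c.1 c') = u c := fun c => by
    funext c'; simp [u', c.2]
  refine ⟨u', fun c => ?_, ?_⟩
  · rw [hu]; exact proj_vec S u c
  · rw [graph_toSubmodule, ker_proj]
    refine le_of_eq (congrArg _ (congrArg Set.range (funext fun c => ?_)))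
    rw [hu]; rfl

variable {s : R} (hI : ∀ i, (f i).comp (g i) = s • LinearMap.id ∧ (g i).comp (f i) = s • LinearMap.id)

include hI in
theorem fg_apply (i : Fin n) (x : L ⊗[R] (Fin d → R)) :
    (f i).baseChange L ((g i).baseChange L x) = algebraMap R L s • x ∧
      (g i).baseChange L ((f i).baseChange L x) = algebraMap R L s • x := by
  constructor
  · rw [baseChange_comp_apply, (hI i).1, baseChange_smul_apply, LinearMap.baseChange_id]; rfl
  · rw [baseChange_comp_apply, (hI i).2, baseChange_smul_apply, LinearMap.baseChange_id]; rfl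

theorem finrank_map_eq {M : Type*} [AddCommGroup M] [Module L M] [Module.Finite L M] (p : M →ₗ[L] M)
    (W : Submodule L M) :
    Module.finrank L (W.map p) + Module.finrank L ↥(LinearMap.ker p ⊓ W) = Module.finrank L W := by
  have h := LinearMap.finrank_range_add_finrank_ker (p.domRestrict W)
  rw [LinearMap.range_domRestrict] at h
  rw [← h, LinearMap.ker_domRestrict]
  congr 1
  rw [inf_comm, ← Submodule.map_comap_subtype]
  exact (Submodule.equivMapOfInjective _ W.injective_subtype _).finrank_eq.symm

variable (hr : r ≤ d) {V : Fin (n + 1) → Grassmannian L (L ⊗[R] (Fin d → R)) (d - r)}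
  (hV : V ∈ LGPoints R d r n f g L)

section ZeroScalar

variable (hs : algebraMap R L s = 0)

include hI hr hV hs in
theorem exact_rank (hE : IsExact R d r n f g L V) (i : Fin n) :
    LinearMap.ker ((f i).baseChange L) ⊓ (V i.castSucc).toSubmodule = (V i.succ).toSubmodule.map ((g i).baseChange L) ∧
    Module.finrank L ((V i.castSucc).toSubmodule.map ((f i).baseChange L)) +
      Module.finrank L ((V i.succ).toSubmodule.map ((g i).baseChange L)) = r := by
  have heq : LinearMap.ker ((f i).baseChange L) ⊓ (V i.castSucc).toSubmodule =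
      (V i.succ).toSubmodule.map ((g i).baseChange L) := by
    refine le_antisymm (hE i).2 (le_inf ?_ (hV i).2)
    rintro _ ⟨y, -, rfl⟩
    rw [LinearMap.mem_ker, (fg_apply hI i y).1, hs, zero_smul]
  refine ⟨heq, ?_⟩
  have := finite_total (R := R) (d := d) (L := L)
  rw [← heq, finrank_map_eq, finrank_member hr]

end ZeroScalar

variable (hIII : ∀ i j : Fin n, i.val + 1 = j.val →
  LinearMap.range ((f i).baseChange L) ⊓ LinearMap.ker ((f j).baseChange L) = ⊥)

include hI hr hV hIII in
/-- An exact point over a field lies in an exact chart. -/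
theorem exists_isGen (hE : IsExact R d r n f g L V) :
    ∃ (S T : Fin (n + 1) → Finset (Fin d)) (hd : EData S T r) (u : Gen T → Fin d → L),
      IsGen (f := f) (g := g) hd V u := by
  classical
  have := finite_total (R := R) (d := d) (L := L)
  choose S hS hch using fun j => exists_cols (V j)
  choose u0 hu0 hspan using fun j => InChart.span_gen (hS j) (hch j)
  -- it suffices to choose the generators
  suffices h : ∃ T : ∀ j, Finset {c // c ∉ S j}, ∑ j, (T j).card = r ∧
      ∀ i, (V i).toSubmodule ≤ Submodule.span L (⋃ j, (fun c : {c // c ∉ S j} =>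
        (tr f g j i).baseChange L (bas (R := R) L c.1 - sect (R := R) (S j) (fun c' => u0 j c.1 c'))) '' (T j)) by
    obtain ⟨T, hcard, hgen⟩ := h
    let T' : Fin (n + 1) → Finset (Fin d) := fun j => (T j).map (Function.Embedding.subtype _)
    have hd : EData S T' r := ⟨hr, hS, fun j c hc => by
      obtain ⟨y, -, rfl⟩ := Finset.mem_map.1 hc; exact y.2, by simpa [T'] using hcard⟩
    refine ⟨S, T', hd, fun q c => u0 q.1 q.2.1 c, fun q => ?_, fun i => ?_⟩
    · exact hu0 q.1 ⟨q.2.1, hd.disj _ _ q.2.2⟩
    · rw [detI, ← span_eq_top_iff_isUnit_det, (hd.exists_equiv i).some.surjective.range_comp, eq_top_iff,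
        ← (inChart_iff _ _).1 (hch i)]
      refine sup_le ((hgen i).trans (Submodule.span_le.2 ?_)) (Submodule.span_le.2 ?_)
      · refine Set.iUnion_subset fun j => ?_
        rintro _ ⟨c, hc, rfl⟩
        exact Submodule.subset_span ⟨Sum.inl ⟨j, c.1, Finset.mem_map.2 ⟨c, hc, rfl⟩⟩, rfl⟩
      · rintro _ ⟨c, hc, rfl⟩
        exact Submodule.subset_span ⟨Sum.inr ⟨c, hc⟩, rfl⟩
  let w : ∀ j, {c // c ∉ S j} → L ⊗[R] (Fin d → R) := fun j c =>
    bas (R := R) L c.1 - sect (R := R) (S j) (fun c' => u0 j c.1 c')
  by_cases hs : algebraMap R L s = 0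
  swap
  · -- all maps are isomorphisms
    have hinj : ∀ i : Fin n, Function.Injective ((f i).baseChange L) := fun i x y hxy => by
      have := congrArg ((g i).baseChange L) hxy
      rw [(fg_apply hI i x).2, (fg_apply hI i y).2] at this
      exact smul_right_injective _ hs this
    have hmap : ∀ i : Fin n, (V i.succ).toSubmodule = (V i.castSucc).toSubmodule.map ((f i).baseChange L) := fun i =>
      (Submodule.eq_of_le_of_finrank_eq (hV i).1 (by
        rw [← (Submodule.equivMapOfInjective _ (hinj i) _).finrank_eq, finrank_member hr, finrank_member hr])).symm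
    refine ⟨fun j => if j = 0 then Finset.univ else ∅, ?_, fun i => ?_⟩
    · rw [Finset.sum_eq_single (0 : Fin (n + 1)) (fun j _ hj => by simp only [if_neg hj, Finset.card_empty]) (by simp)]
      simp only [if_pos]
      rw [Finset.card_univ, Fintype.card_subtype_compl, Fintype.card_fin, Fintype.card_coe, hS]
      omega
    · have hi : (V i).toSubmodule ≤ Submodule.span L ((tr f g (0 : Fin (n + 1)) i).baseChange L '' Set.range (w 0)) := by
        induction i using Fin.induction with
        | zero => simpa [tr_self, LinearMap.baseChange_id] using hspan 0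
        | succ i ih =>
          rw [hmap i]
          refine (Submodule.map_mono ih).trans ?_
          rw [Submodule.map_span, ← Set.image_comp]
          refine le_of_eq (congrArg _ (Set.image_congr fun x _ => ?_))
          rw [Function.comp_apply, baseChange_comp_apply, Fin.val_castSucc,
            f_comp_tr_of_le f g i (by simp), ← Fin.val_succ]
      refine hi.trans (Submodule.span_le.2 ?_)
      rintro _ ⟨_, ⟨c, rfl⟩, rfl⟩
      exact Submodule.subset_span (Set.mem_iUnion.2 ⟨0, c, by simp, rfl⟩)
  -- the scalar is zero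
  let Up : Fin (n + 1) → Submodule L (L ⊗[R] (Fin d → R)) :=
    Fin.cases ⊥ fun i => (V i.castSucc).toSubmodule.map ((f i).baseChange L)
  let Dn : Fin (n + 1) → Submodule L (L ⊗[R] (Fin d → R)) :=
    Fin.lastCases ⊥ fun i => (V i.succ).toSubmodule.map ((g i).baseChange L)
  have hle : ∀ j, Up j ⊔ Dn j ≤ (V j).toSubmodule := fun j => by
    refine sup_le ?_ ?_
    · cases j using Fin.cases with
      | zero => simp [Up]
      | succ i => simpa [Up] using (hV i).1
    · cases j using Fin.lastCases with
      | last => simp [Dn]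
      | cast i => simpa [Dn] using (hV i).2
  have hdisj : ∀ j, Disjoint (Up j) (Dn j) := fun j => by
    cases j using Fin.cases with
    | zero => simp [Up]
    | succ i =>
      by_cases h : (i : ℕ) + 1 < n
      · have hj : i.succ = Fin.castSucc (⟨i + 1, h⟩ : Fin n) := Fin.ext (by simp)
        rw [Submodule.disjoint_def]
        intro x hx hx'
        simp only [Up, Fin.cases_succ] at hx
        rw [hj] at hx'
        simp only [Dn, Fin.lastCases_castSucc] at hx'
        obtain ⟨a, -, rfl⟩ := hx
        obtain ⟨b, -, hb⟩ := hx'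
        have h0 : (f ⟨i + 1, h⟩).baseChange L ((f i).baseChange L a) = 0 := by
          rw [← hb, (fg_apply hI _ b).1, hs, zero_smul]
        exact (Submodule.eq_bot_iff _).1 (hIII i ⟨i + 1, h⟩ rfl) _ ⟨⟨a, rfl⟩, h0⟩
      · have hj : i.succ = Fin.last n := Fin.ext (by simp; omega)
        rw [hj]
        simp [Dn]
  choose T hT hTc using fun j => exists_subset_span (w j) (V j).toSubmodule (fun c => hu0 j c) (Up j ⊔ Dn j) (hle j)
    ((hspan j).trans le_sup_left)
  refine ⟨T, ?_, ?_⟩
  · have h1 : ∀ j, (T j).card + (Module.finrank L (Up j) + Module.finrank L (Dn j)) = r := fun j => by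
      have := hTc j
      rw [finrank_member hr] at this
      have h := Submodule.finrank_sup_add_finrank_inf_eq (Up j) (Dn j)
      rw [(hdisj j).eq_bot, finrank_bot, add_zero] at h
      omega
    have h2 : ∑ j, (T j).card + (∑ j, Module.finrank L (Up j) + ∑ j, Module.finrank L (Dn j)) = (n + 1) * r := by
      rw [← Finset.sum_add_distrib, ← Finset.sum_add_distrib, Finset.sum_congr rfl fun j _ => h1 j]
      simp
    have h3 : ∑ j, Module.finrank L (Up j) + ∑ j, Module.finrank L (Dn j) = n * r := by
      rw [Fin.sum_univ_succ, Fin.sum_univ_castSucc (f := fun j => Module.finrank L (Dn j))]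
      have eU : ∀ i : Fin n, Up i.succ = (V i.castSucc).toSubmodule.map ((f i).baseChange L) := fun i => rfl
      have eD : ∀ i : Fin n, Dn i.castSucc = (V i.succ).toSubmodule.map ((g i).baseChange L) := fun i =>
        Fin.lastCases_castSucc ..
      have eU0 : Module.finrank L (Up 0) = 0 := by rw [show Up 0 = ⊥ from rfl, finrank_bot]
      have eDl : Module.finrank L (Dn (Fin.last n)) = 0 := by
        rw [show Dn (Fin.last n) = ⊥ from Fin.lastCases_last, finrank_bot]
      rw [eU0, eDl, zero_add, add_zero, Finset.sum_congr rfl fun i _ => congrArg (fun W : Submodule L _ => Module.finrank L W) (eU i),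
        Finset.sum_congr rfl fun i _ => congrArg (fun W : Submodule L _ => Module.finrank L W) (eD i),
        ← Finset.sum_add_distrib, Finset.sum_congr rfl fun i _ => (exact_rank hI hr hV hs hE i).2]
      simp
    rw [add_one_mul] at h2
    omega
  · let G : Fin (n + 1) → Set (Fin (n + 1)) → Submodule L (L ⊗[R] (Fin d → R)) := fun i J =>
      Submodule.span L (⋃ j ∈ J, (fun c => (tr f g j i).baseChange L (w j c)) '' (T j : Set _))
    have hself : ∀ i, Submodule.span L (w i '' (T i : Set _)) ≤ G i {i} := fun i => by
      refine Submodule.span_mono ?_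
      simp [tr_self, LinearMap.baseChange_id]
    have hup : ∀ j, Up j ≤ G j {q | q < j} := by
      intro j
      induction j using Fin.induction with
      | zero => simp [Up]
      | succ i ih =>
        simp only [Up, Fin.cases_succ]
        rw [hT i.castSucc, Submodule.map_sup, Submodule.map_sup]
        refine sup_le ?_ (sup_le ?_ ?_)
        · refine (Submodule.map_mono (hself _)).trans ?_
          simp only [G, Submodule.map_span]
          refine Submodule.span_le.2 ?_
          rintro _ ⟨x, hx, rfl⟩
          obtain ⟨q, hq, c, hc, rfl⟩ := Set.mem_iUnion₂.1 hx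
          refine Submodule.subset_span (Set.mem_iUnion₂.2 ⟨q, ?_, c, hc, ?_⟩)
          · rw [Set.mem_singleton_iff.1 hq]; exact Fin.castSucc_lt_succ
          · rw [baseChange_comp_apply, Fin.val_castSucc, f_comp_tr_of_le f g i (by
              rw [Set.mem_singleton_iff.1 hq]; simp), ← Fin.val_succ]
        · refine (Submodule.map_mono ih).trans ?_
          simp only [G, Submodule.map_span]
          refine Submodule.span_le.2 ?_
          rintro _ ⟨x, hx, rfl⟩
          obtain ⟨q, hq, c, hc, rfl⟩ := Set.mem_iUnion₂.1 hx
          refine Submodule.subset_span (Set.mem_iUnion₂.2 ⟨q, lt_trans hq Fin.castSucc_lt_succ, c, hc, ?_⟩)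
          rw [baseChange_comp_apply, Fin.val_castSucc, f_comp_tr_of_le f g i (by
            have := Fin.lt_def.1 (show q < i.castSucc from hq); simp at this; omega), ← Fin.val_succ]
        · simp only [Dn, Fin.lastCases_castSucc]
          rintro _ ⟨_, ⟨y, -, rfl⟩, rfl⟩
          rw [(fg_apply hI i y).1, hs, zero_smul]
          exact zero_mem _
    have hdn : ∀ j, Dn j ≤ G j {q | j < q} := by
      intro j
      induction j using Fin.reverseInduction with
      | last => simp [Dn]
      | cast i ih =>
        simp only [Dn, Fin.lastCases_castSucc]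
        rw [hT i.succ, Submodule.map_sup, Submodule.map_sup]
        refine sup_le ?_ (sup_le ?_ ?_)
        · refine (Submodule.map_mono (hself _)).trans ?_
          simp only [G, Submodule.map_span]
          refine Submodule.span_le.2 ?_
          rintro _ ⟨x, hx, rfl⟩
          obtain ⟨q, hq, c, hc, rfl⟩ := Set.mem_iUnion₂.1 hx
          refine Submodule.subset_span (Set.mem_iUnion₂.2 ⟨q, ?_, c, hc, ?_⟩)
          · rw [Set.mem_singleton_iff.1 hq]; exact Fin.castSucc_lt_succ
          · rw [baseChange_comp_apply, Fin.val_succ, g_comp_tr_of_lt f g i (by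
              rw [Set.mem_singleton_iff.1 hq]; simp)]
            rfl
        · simp only [Up, Fin.cases_succ]
          rintro _ ⟨_, ⟨y, -, rfl⟩, rfl⟩
          rw [(fg_apply hI i y).2, hs, zero_smul]
          exact zero_mem _
        · refine (Submodule.map_mono ih).trans ?_
          simp only [G, Submodule.map_span]
          refine Submodule.span_le.2 ?_
          rintro _ ⟨x, hx, rfl⟩
          obtain ⟨q, hq, c, hc, rfl⟩ := Set.mem_iUnion₂.1 hx
          refine Submodule.subset_span (Set.mem_iUnion₂.2 ⟨q, lt_trans Fin.castSucc_lt_succ hq, c, hc, ?_⟩)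
          rw [baseChange_comp_apply, Fin.val_succ, g_comp_tr_of_lt f g i (by
            have := Fin.lt_def.1 (show i.succ < q from hq); simp at this; omega)]
          rfl
    intro i
    have hmono : ∀ J, G i J ≤ Submodule.span L (⋃ j : Fin (n + 1), (fun c => (tr f g j i).baseChange L (w j c)) '' (T j : Set _)) :=
      fun J => Submodule.span_mono (Set.iUnion₂_subset fun j _ => Set.subset_iUnion
        (fun j : Fin (n + 1) => (fun c => (tr f g j i).baseChange L (w j c)) '' (T j : Set _)) j)
    rw [hT i]
    exact sup_le ((hself i).trans (hmono _)) (sup_le ((hup i).trans (hmono _)) ((hdn i).trans (hmono _)))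

include hI hr hV in
/-- A point of an exact chart over a field is exact. -/
theorem isExact_of_isGen {S T : Fin (n + 1) → Finset (Fin d)} {hd : EData S T r} {u : Gen T → Fin d → L}
    (hu : IsGen (f := f) (g := g) hd V u) : IsExact R d r n f g L V := by
  classical
  intro i
  by_cases hs : algebraMap R L s = 0
  swap
  · constructor <;> rintro x ⟨hx, -⟩ <;>
      [have h := (fg_apply hI i x).1; have h := (fg_apply hI i x).2] <;>
      · rw [LinearMap.mem_ker.1 hx, map_zero] at h
        rw [(smul_eq_zero.1 h.symm).resolve_left hs]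
        exact zero_mem _
  have hLI : ∀ j, LinearIndependent L (tgen f g S T u j) := fun j =>
    ((linearIndependent_sum.1 (linearIndependent_full hd (hu.unit j)).1).1 : _)
  have key : ∀ (A B : Fin (n + 1)) (p : L ⊗[R] (Fin d → R) →ₗ[L] L ⊗[R] (Fin d → R)) (P : Gen T → Prop)
      (W : Submodule L (L ⊗[R] (Fin d → R))),
      (∀ q, P q → p (tgen f g S T u A q) = 0 ∧ tgen f g S T u A q ∈ W) →
      (∀ q, ¬ P q → p (tgen f g S T u A q) = tgen f g S T u B q) →
      LinearMap.ker p ⊓ (V A).toSubmodule ≤ W := by
    intro A B p P W hP hnP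
    have hsplit : Set.range (tgen f g S T u A) =
        Set.range (fun q : {q // P q} => tgen f g S T u A q.1) ∪ Set.range (fun q : {q // ¬ P q} => tgen f g S T u A q.1) := by
      ext x
      simp only [Set.mem_range, Set.mem_union, Subtype.exists, exists_prop]
      exact ⟨fun ⟨q, hq⟩ => (em (P q)).imp (fun h => ⟨q, h, hq⟩) (fun h => ⟨q, h, hq⟩),
        fun h => h.elim (fun ⟨q, _, hq⟩ => ⟨q, hq⟩) (fun ⟨q, _, hq⟩ => ⟨q, hq⟩)⟩
    rintro x ⟨hx, hxV⟩
    rw [SetLike.mem_coe, hu.eq_span hV, hsplit, Submodule.span_union, Submodule.mem_sup] at hxV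
    obtain ⟨y, hy, z, hz, rfl⟩ := hxV
    have hpy : p y = 0 := (Submodule.span_le (p := LinearMap.ker p)).2
      (by rintro _ ⟨q, rfl⟩; exact (hP q.1 q.2).1) hy
    have hpz : p z = 0 := by simpa [hpy] using LinearMap.mem_ker.1 hx
    have hdis := Submodule.range_ker_disjoint (f := p) (v := fun q : {q // ¬ P q} => tgen f g S T u A q.1) (by
      have : (p ∘ fun q : {q // ¬ P q} => tgen f g S T u A q.1) = (tgen f g S T u B) ∘ Subtype.val :=
        funext fun q => hnP q.1 q.2
      rw [this]; exact (hLI B).comp _ Subtype.val_injective)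
    have hz0 : z = 0 := Submodule.disjoint_def.1 hdis z hz hpz
    rw [hz0, add_zero]
    exact (Submodule.span_le (p := W)).2 (by rintro _ ⟨q, rfl⟩; exact (hP q.1 q.2).2) hy
  constructor
  · refine key i.succ i.castSucc _ (fun q => (q.1 : ℕ) ≤ i) _ (fun q hq => ⟨?_, ?_⟩) fun q hq => ?_
    · simp only [tgen, baseChange_comp_apply, Fin.val_succ]
      rw [g_comp_tr_of_le (fun i => (hI i).2) i hq, baseChange_smul_apply, hs, zero_smul]
    · refine ⟨tgen f g S T u i.castSucc q, ?_, ?_⟩
      · rw [hu.eq_span hV]; exact Submodule.subset_span ⟨q, rfl⟩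
      · simp only [tgen, baseChange_comp_apply, Fin.val_castSucc, Fin.val_succ]
        rw [f_comp_tr_of_le f g i hq]
    · simp only [tgen, baseChange_comp_apply, Fin.val_castSucc, Fin.val_succ]
      rw [g_comp_tr_of_lt f g i (not_le.1 hq)]
  · refine key i.castSucc i.succ _ (fun q => (i : ℕ) < q.1) _ (fun q hq => ⟨?_, ?_⟩) fun q hq => ?_
    · simp only [tgen, baseChange_comp_apply, Fin.val_castSucc]
      rw [f_comp_tr_of_lt (fun i => (hI i).1) i hq, baseChange_smul_apply, hs, zero_smul]
    · refine ⟨tgen f g S T u i.succ q, ?_, ?_⟩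
      · rw [hu.eq_span hV]; exact Submodule.subset_span ⟨q, rfl⟩
      · simp only [tgen, baseChange_comp_apply, Fin.val_castSucc, Fin.val_succ]
        rw [g_comp_tr_of_lt f g i hq]
    · simp only [tgen, baseChange_comp_apply, Fin.val_castSucc, Fin.val_succ]
      rw [f_comp_tr_of_le f g i (not_lt.1 hq)]

end Groth.Agent.Synt29.LG
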