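import Groth.Agent.Synt29.LGClosure

/-!
The chain read backwards.
-/

set_option autoImplicit false
set_option backward.isDefEq.respectTransparency false

universe u

open TensorProduct CategoryTheory AlgebraicGeometry W4c1limliniiii

namespace Groth.Agent.Synt29.LG

open GrassGraph RepOpen
open Module (Grassmannian)

variable {R : Type u} [CommRing R] {d r n : ℕ} {f g : Fin n → ((Fin d → R) →ₗ[R] (Fin d → R))} {s : R}

/-- The forward maps of the reversed chain. -/
def revF (g : Fin n → ((Fin d → R) →ₗ[R] (Fin d → R))) : Fin n → ((Fin d → R) →ₗ[R] (Fin d → R)) :=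
  fun i => g i.rev

theorem revF_rev (g : Fin n → ((Fin d → R) →ₗ[R] (Fin d → R))) (i : Fin n) : revF g i.rev = g i :=
  congrArg g (Fin.rev_rev i)

theorem mem_rev {A : Type u} [CommRing A] [Algebra R A]
    {V : Fin (n + 1) → Grassmannian A (A ⊗[R] (Fin d → R)) (d - r)} (hV : V ∈ LGPoints R d r n f g A) :
    (fun i => V i.rev) ∈ LGPoints R d r n (revF g) (revF f) A := fun i => by
  simp only [Fin.rev_castSucc, Fin.rev_succ]
  exact ⟨(hV i.rev).2, (hV i.rev).1⟩

theorem mem_of_rev {A : Type u} [CommRing A] [Algebra R A]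
    {V : Fin (n + 1) → Grassmannian A (A ⊗[R] (Fin d → R)) (d - r)}
    (hV : V ∈ LGPoints R d r n (revF g) (revF f) A) : (fun i => V i.rev) ∈ LGPoints R d r n f g A := fun i => by
  simp only [Fin.rev_castSucc, Fin.rev_succ]
  have h := hV i.rev
  rw [revF_rev, revF_rev] at h
  exact ⟨h.2, h.1⟩

variable (f g) in
/-- Tuples and reversed tuples. -/
def revEquiv (A : Type u) [CommRing A] [Algebra R A] :
    LGPoints R d r n f g A ≃ LGPoints R d r n (revF g) (revF f) A where
  toFun V := ⟨fun i => V.1 i.rev, mem_rev V.2⟩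
  invFun V := ⟨fun i => V.1 i.rev, mem_of_rev V.2⟩
  left_inv V := Subtype.ext (funext fun i => congrArg V.1 (Fin.rev_rev i))
  right_inv V := Subtype.ext (funext fun i => congrArg V.1 (Fin.rev_rev i))

variable {X : Over (Spec (CommRingCat.of R))} (e : ∀ A, (sp A ⟶ X) ≃ LGPoints R d r n f g A)

/-- The representation read backwards. -/
noncomputable def revRep (A : CommAlgCat.{u} R) : (sp A ⟶ X) ≃ LGPoints R d r n (revF g) (revF f) A :=
  (e A).trans (revEquiv f g A)

theorem revRep_val (A : CommAlgCat.{u} R) (p : sp A ⟶ X) (i : Fin (n + 1)) :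
    (revRep e A p).1 i = (e A p).1 i.rev := rfl

theorem isNat_rev (he : IsNat X (functor r f g) e) : IsNat X (functor r (revF g) (revF f)) (revRep e) :=
  fun A B φ x => Subtype.ext (funext fun i => congrFun (congrArg Subtype.val (he A B φ x)) i.rev)

theorem Hyp.rev (H : Hyp f g s) : Hyp (revF g) (revF f) s where
  comp i := ⟨(H.comp i.rev).2, (H.comp i.rev).1⟩
  rank L _ _ i := (add_comm _ _).trans_ge (H.rank L i.rev)
  inf L _ _ i j h := by
    have := H.inf L j.rev i.rev (by simp [Fin.val_rev]; omega)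
    exact ⟨this.2, this.1⟩

variable {e}

theorem rkF_rev {K : CommAlgCat.{u} R} (p : sp K ⟶ X) (i : Fin n) :
    rkF (revF g) (revRep e K p).1 i.rev = rkG g (e K p).1 i := by
  show Module.finrank K ↥(((e K p).1 i.rev.castSucc.rev).toSubmodule.map ((g i.rev.rev).baseChange K)) = _
  rw [show i.rev.castSucc.rev = i.succ by rw [Fin.rev_castSucc, Fin.rev_rev], Fin.rev_rev]
  rfl

theorem rkG_rev {K : CommAlgCat.{u} R} (p : sp K ⟶ X) (i : Fin n) :
    rkG (revF f) (revRep e K p).1 i.rev = rkF f (e K p).1 i := by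
  show Module.finrank K ↥(((e K p).1 i.rev.succ.rev).toSubmodule.map ((f i.rev.rev).baseChange K)) = _
  rw [show i.rev.succ.rev = i.castSucc by rw [Fin.rev_succ, Fin.rev_rev], Fin.rev_rev]
  rfl

theorem isExact_of_rev {K : CommAlgCat.{u} R} (p : sp K ⟶ X)
    (h : IsExact R d r n (revF g) (revF f) K (revRep e K p).1) : IsExact R d r n f g K (e K p).1 := fun i => by
  have h' := h i.rev
  simp only [revRep_val, revF, Fin.rev_succ, Fin.rev_castSucc, Fin.rev_rev] at h'
  exact ⟨h'.2, h'.1⟩

end Groth.Agent.Synt29.LG
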