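import Groth.Agent.Synt29.RepGlueX
import Groth.Agent.Synt29.LGField

/-!
Linked tuples form a Zariski sheaf covered by graph charts.
-/

set_option autoImplicit false
set_option backward.isDefEq.respectTransparency false
set_option linter.style.haveILetI false

universe u

open TensorProduct CategoryTheory W4c1limliniiii

namespace Groth.Agent.Synt29.LG

open GrassGraph RepOpen
open Module (Grassmannian)

variable {R : Type u} [CommRing R] {d : ℕ}

section Loc

variable {A B : Type u} [CommRing A] [Algebra R A] [CommRing B] [Algebra R B] (φ : A →ₐ[R] B) (h : A)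

/-- A homomorphism inverting one element. -/
structure IsInvertOne : Prop where
  surj : ∀ b : B, ∃ (k : ℕ) (a : A), φ h ^ k * b = φ a
  ker : ∀ a : A, φ a = 0 → ∃ k : ℕ, h ^ k * a = 0
  unit : IsUnit (φ h)

theorem isInvertOne_away {A : Type u} [CommRing A] [Algebra R A] (h : A) :
    IsInvertOne (IsScalarTower.toAlgHom R A (Localization.Away h)) h where
  surj b := by
    obtain ⟨⟨a, ⟨_, k, rfl⟩⟩, e⟩ := IsLocalization.surj (Submonoid.powers h) b
    exact ⟨k, a, by rw [← map_pow]; exact (mul_comm _ _).trans e⟩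
  ker a ha := by
    obtain ⟨⟨_, k, rfl⟩, e⟩ := (IsLocalization.map_eq_zero_iff (Submonoid.powers h) (Localization.Away h) a).1 ha
    exact ⟨k, e⟩
  unit := IsLocalization.Away.algebraMap_isUnit h

variable {φ h} (H : IsInvertOne φ h)

include H in
theorem exists_smul_eq_ι (z : B ⊗[R] (Fin d → R)) :
    ∃ (k : ℕ) (x : A ⊗[R] (Fin d → R)), φ h ^ k • z = ι φ x := by
  induction (bas (R := R) B).mem_span z using Submodule.span_induction with
  | mem z hz => obtain ⟨c, rfl⟩ := hz; exact ⟨0, bas A c, by rw [pow_zero, one_smul, ι_bas]⟩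
  | zero => exact ⟨0, 0, by simp⟩
  | add a b _ _ ha hb =>
    obtain ⟨k, x, hx⟩ := ha
    obtain ⟨l, y, hy⟩ := hb
    refine ⟨k + l, h ^ l • x + h ^ k • y, ?_⟩
    rw [map_add, ι_smul, ι_smul, map_pow, map_pow, ← hx, ← hy, smul_smul, smul_smul, smul_add, ← pow_add,
      ← pow_add, add_comm l k]
  | smul t a _ ha =>
    obtain ⟨k, x, hx⟩ := ha
    obtain ⟨l, a', ha'⟩ := H.surj t
    refine ⟨k + l, a' • x, ?_⟩
    rw [ι_smul, ← ha', ← hx, smul_smul, smul_smul, pow_add]
    ring_nf

include H in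
theorem exists_pow_smul_eq_zero {x : A ⊗[R] (Fin d → R)} (hx : ι φ x = 0) : ∃ k : ℕ, h ^ k • x = 0 := by
  classical
  have hc : ∀ c, ∃ k : ℕ, h ^ k * (bas (R := R) A).repr x c = 0 := fun c => H.ker _ (by
    rw [← repr_ι, hx, map_zero]; rfl)
  choose k hk using hc
  refine ⟨∑ c, k c, (bas (R := R) A).ext_elem fun c => ?_⟩
  rw [map_smul, Finsupp.smul_apply, map_zero, Finsupp.zero_apply, smul_eq_mul,
    ← Finset.sum_erase_add _ _ (Finset.mem_univ c), pow_add, mul_assoc, hk, mul_zero]

include H in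
/-- An element mapping into the extended submodule lies in it after multiplication by a power. -/
theorem exists_pow_smul_mem {N : Submodule A (A ⊗[R] (Fin d → R))} {x : A ⊗[R] (Fin d → R)}
    (hx : ι φ x ∈ Submodule.span B (ι φ '' N)) : ∃ k : ℕ, h ^ k • x ∈ N := by
  have key : ∀ z ∈ Submodule.span B (ι φ '' (N : Set (A ⊗[R] (Fin d → R)))),
      ∃ (k : ℕ), ∃ y ∈ N, φ h ^ k • z = ι φ y := by
    intro z hz
    induction hz using Submodule.span_induction with
    | mem z hz => obtain ⟨y, hy, rfl⟩ := hz; exact ⟨0, y, hy, by rw [pow_zero, one_smul]⟩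
    | zero => exact ⟨0, 0, N.zero_mem, by simp⟩
    | add a b _ _ ha hb =>
      obtain ⟨k, x, hxN, hx⟩ := ha
      obtain ⟨l, y, hyN, hy⟩ := hb
      refine ⟨k + l, h ^ l • x + h ^ k • y, add_mem (N.smul_mem _ hxN) (N.smul_mem _ hyN), ?_⟩
      rw [map_add, ι_smul, ι_smul, map_pow, map_pow, ← hx, ← hy, smul_smul, smul_smul, smul_add, ← pow_add,
        ← pow_add, add_comm l k]
    | smul t a _ ha =>
      obtain ⟨k, x, hxN, hx⟩ := ha
      obtain ⟨l, a', ha'⟩ := H.surj t
      refine ⟨k + l, a' • x, N.smul_mem _ hxN, ?_⟩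
      rw [ι_smul, ← ha', ← hx, smul_smul, smul_smul, pow_add]
      ring_nf
  obtain ⟨k, y, hy, e⟩ := key _ hx
  rw [← map_pow, ← ι_smul, ← sub_eq_zero, ← map_sub] at e
  obtain ⟨l, hl⟩ := exists_pow_smul_eq_zero H e
  refine ⟨l + k, ?_⟩
  rw [smul_sub, sub_eq_zero, smul_smul, ← pow_add] at hl
  rw [hl]
  exact N.smul_mem _ hy

end Loc

section Span

variable {A : Type u} [CommRing A] [Algebra R A] {B : Type u} [CommRing B] [Algebra R B]

set_option backward.isDefEq.respectTransparency true in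
theorem ker_baseChangeMkQ [Algebra A B] [IsScalarTower R A B] (N : Submodule A (A ⊗[R] (Fin d → R))) :
    LinearMap.ker (Grassmannian.baseChangeMkQ B N) =
      Submodule.span B (ι (IsScalarTower.toAlgHom R A B) '' N) := by
  let φ := IsScalarTower.toAlgHom R A B
  let cbc := AlgebraTensorModule.cancelBaseChange R A B B (Fin d → R)
  have hι : ∀ x, ι φ x = cbc (1 ⊗ₜ[A] x) := fun x => by
    induction x with
    | zero => simp
    | tmul a m => simp [cbc, ι_tmul, Algebra.smul_def]; rfl
    | add x y hx hy => rw [map_add, tmul_add, map_add, hx, hy]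
  refine le_antisymm (fun z hz => ?_) (Submodule.span_le.2 ?_)
  · have hz' : (N.mkQ).baseChange B (cbc.symm z) = 0 := hz
    obtain ⟨v, hv⟩ := (lTensor_exact (M := N) B (LinearMap.exact_subtype_mkQ N)
      N.mkQ_surjective (cbc.symm z)).1 hz'
    rw [← cbc.apply_symm_apply z, ← hv]
    clear hv hz' hz
    induction v with
    | zero => simp
    | tmul b x =>
      rw [LinearMap.lTensor_tmul, show b ⊗ₜ[A] (N.subtype x) = b • ((1 : B) ⊗ₜ[A] (x : A ⊗[R] (Fin d → R))) by
        rw [smul_tmul', smul_eq_mul, mul_one]; rfl, map_smul, ← hι]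
      exact Submodule.smul_mem _ _ (Submodule.subset_span ⟨_, x.2, rfl⟩)
    | add x y hx hy => rw [map_add, map_add]; exact add_mem hx hy
  · rintro _ ⟨x, hx, rfl⟩
    show (N.mkQ).baseChange B (cbc.symm (ι φ x)) = 0
    rw [hι, LinearEquiv.symm_apply_apply, LinearMap.baseChange_tmul, Submodule.mkQ_apply,
      (Submodule.Quotient.mk_eq_zero _).2 hx, tmul_zero]

/-- Membership is local. -/
theorem mem_of_local {N : Submodule A (A ⊗[R] (Fin d → R))} {x : A ⊗[R] (Fin d → R)} (s : Set A)
    (hs : Ideal.span s = ⊤) (hx : ∀ h ∈ s, ι (IsScalarTower.toAlgHom R A (Localization.Away h)) x ∈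
      Submodule.span (Localization.Away h) (ι (IsScalarTower.toAlgHom R A (Localization.Away h)) '' N)) : x ∈ N :=
  Submodule.mem_of_span_eq_top_of_smul_pow_mem N s hs x fun h => exists_pow_smul_mem (isInvertOne_away h.1) (hx h h.2)

theorem fg_of_projective_quotient {m : ℕ} (N : Grassmannian A (A ⊗[R] (Fin d → R)) m) : N.toSubmodule.FG := by
  have := Module.Finite.of_basis (bas (R := R) (d := d) A)
  obtain ⟨σ, hσ⟩ := Module.projective_lifting_property N.toSubmodule.mkQ LinearMap.id N.toSubmodule.mkQ_surjective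
  have hσ' : ∀ y, N.toSubmodule.mkQ (σ y) = y := fun y => LinearMap.congr_fun hσ y
  have : N.toSubmodule = LinearMap.range (LinearMap.id - σ.comp N.toSubmodule.mkQ) := by
    apply le_antisymm
    · intro x hx
      refine ⟨x, ?_⟩
      simp [(Submodule.Quotient.mk_eq_zero _).2 hx]
    · rintro _ ⟨x, rfl⟩
      rw [← Submodule.Quotient.mk_eq_zero, ← Submodule.mkQ_apply]
      simp only [LinearMap.sub_apply, LinearMap.id_apply, LinearMap.comp_apply, map_sub, hσ', sub_self]
  rw [this, LinearMap.range_eq_map]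
  exact Module.Finite.fg_top.map _

theorem grassmannian_of_local {m : ℕ} (N : Submodule A (A ⊗[R] (Fin d → R))) (hfg : N.FG) (s : Set A)
    (hs : Ideal.span s = ⊤)
    (M : ∀ h ∈ s, Grassmannian (Localization.Away h) (Localization.Away h ⊗[R] (Fin d → R)) m)
    (hM : ∀ (h) (hh : h ∈ s), (M h hh).toSubmodule =
      Submodule.span (Localization.Away h) (ι (IsScalarTower.toAlgHom R A (Localization.Away h)) '' N)) :
    ∃ G : Grassmannian A (A ⊗[R] (Fin d → R)) m, G.toSubmodule = N := by
  let Q := (A ⊗[R] (Fin d → R)) ⧸ N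
  have : Module.Free A (A ⊗[R] (Fin d → R)) := Module.Free.of_basis (bas A)
  have hfin : Module.Finite A (A ⊗[R] (Fin d → R)) := Module.Finite.of_basis (bas A)
  have : Module.Finite A Q := inferInstance
  have : Module.FinitePresentation A (A ⊗[R] (Fin d → R)) := Module.finitePresentation_of_projective _ _
  have hfp : Module.FinitePresentation A Q :=
    Module.finitePresentation_of_surjective N.mkQ N.mkQ_surjective (by rw [Submodule.ker_mkQ]; exact hfg)
  have e : ∀ (h) (hh : h ∈ s), ∃ _ : Module.Projective (Localization.Away h) (Localization.Away h ⊗[A] Q),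
      ∀ p, Module.rankAtStalk (R := Localization.Away h) (Localization.Away h ⊗[A] Q) p = m := fun h hh => by
    let φ := IsScalarTower.toAlgHom R A (Localization.Away h)
    have hk : LinearMap.ker (Grassmannian.baseChangeMkQ (Localization.Away h) N) = (M h hh).toSubmodule :=
      (ker_baseChangeMkQ N).trans (hM h hh).symm
    let eq : ((Localization.Away h ⊗[R] (Fin d → R)) ⧸ (M h hh).toSubmodule) ≃ₗ[Localization.Away h]
        Localization.Away h ⊗[A] Q :=
      (Submodule.quotEquivOfEq _ _ hk.symm).trans (Grassmannian.baseChangeMkQEquiv N)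
    exact ⟨Module.Projective.of_equiv eq, fun p => by
      rw [← Module.rankAtStalk_eq_of_equiv eq]; exact (M h hh).rankAtStalk_eq p⟩
  have hflat : Module.Flat A Q := by
    refine Module.flat_of_isLocalized_span A Q s hs (fun h => Localization.Away h.1 ⊗[A] Q)
      (fun h => TensorProduct.mk A (Localization.Away h.1) Q 1) fun h => ?_
    obtain ⟨hp, -⟩ := e h.1 h.2
    exact Module.Flat.trans A (Localization.Away h.1) _
  have hproj : Module.Projective A Q := Module.Flat.projective_of_finitePresentation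
  refine ⟨⟨N, inferInstanceAs (Module.Finite A Q), hproj, fun p => ?_⟩, rfl⟩
  obtain ⟨h, hh, hp⟩ : ∃ h ∈ s, h ∉ p.asIdeal := by
    by_contra hcon
    push Not at hcon
    exact p.isPrime.ne_top (top_unique (hs ▸ Ideal.span_le.2 hcon))
  obtain ⟨q, rfl⟩ : p ∈ Set.range (PrimeSpectrum.comap (algebraMap A (Localization.Away h))) := by
    rw [PrimeSpectrum.localization_away_comap_range (Localization.Away h) h]
    exact hp
  obtain ⟨-, hr⟩ := e h hh
  rw [← hr q]
  exact (Module.rankAtStalk_baseChange (R := A) (M := Q) q).symm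

/-- Grassmannian points glue. -/
theorem exists_glue {m : ℕ} (s : Finset A) (hs : Ideal.span (s : Set A) = ⊤)
    (M : ∀ h ∈ s, Grassmannian (Localization.Away h) (Localization.Away h ⊗[R] (Fin d → R)) m)
    (hcompat : ∀ (h) (hh : h ∈ s) (h') (hh' : h' ∈ s) (B : Type u) [CommRing B] [Algebra R B]
      (φ : Localization.Away h →ₐ[R] B) (ψ : Localization.Away h' →ₐ[R] B),
      φ.comp (IsScalarTower.toAlgHom R A _) = ψ.comp (IsScalarTower.toAlgHom R A _) →
        Grassmannian.map φ (M h hh) = Grassmannian.map ψ (M h' hh')) :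
    ∃ G : Grassmannian A (A ⊗[R] (Fin d → R)) m,
      ∀ (h) (hh : h ∈ s), Grassmannian.map (IsScalarTower.toAlgHom R A (Localization.Away h)) G = M h hh := by
  classical
  let φ := fun h : A => IsScalarTower.toAlgHom R A (Localization.Away h)
  let C : Set (A ⊗[R] (Fin d → R)) := {x | ∀ (h) (hh : h ∈ s), ι (φ h) x ∈ (M h hh).toSubmodule}
  have key : ∀ (h) (hh : h ∈ s) (z : Localization.Away h ⊗[R] (Fin d → R)), z ∈ (M h hh).toSubmodule →
      ∃ (k : ℕ) (x : A ⊗[R] (Fin d → R)), x ∈ C ∧ φ h h ^ k • z = ι (φ h) x := by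
    intro h hh z hz
    obtain ⟨k, x, hx⟩ := exists_smul_eq_ι (isInvertOne_away h) z
    have hloc : ∀ (h') (hh' : h' ∈ s), ∃ j : ℕ, h ^ j • x ∈ ((M h' hh').toSubmodule.restrictScalars A).comap
        (⟨⟨ι (φ h'), map_add _⟩, fun a x => by
          show ι (φ h') (a • x) = a • ι (φ h') x
          rw [ι_smul]; exact algebraMap_smul (Localization.Away h') a _⟩ : _ →ₗ[A] _) := by
      intro h' hh'
      let B := Localization.Away (φ h' h)
      let χ' : Localization.Away h' →ₐ[R] B := IsScalarTower.toAlgHom R (Localization.Away h') B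
      have hu : IsUnit ((χ'.comp (φ h')).toRingHom h) := (isInvertOne_away (R := R) (φ h' h)).unit
      let χ : Localization.Away h →ₐ[R] B := IsLocalization.liftAlgHom (M := Submonoid.powers h)
        (f := χ'.comp (φ h')) (fun y => by obtain ⟨i, hi⟩ := y.2; rw [← hi, map_pow]; exact hu.pow i)
      have hχ : χ.comp (φ h) = χ'.comp (φ h') := AlgHom.ext fun x => IsLocalization.lift_eq _ _
      have hmem : ι χ' (ι (φ h') x) ∈ Submodule.span B (ι χ' '' (M h' hh').toSubmodule) := by
        rw [← map_eq_span, ← hcompat h hh h' hh' B χ χ' hχ, map_eq_span, ι_ι, ← hχ, ← ι_ι, ← hx]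
        exact Submodule.subset_span ⟨_, Submodule.smul_mem _ _ hz, rfl⟩
      obtain ⟨j, hj⟩ := exists_pow_smul_mem (isInvertOne_away (R := R) (φ h' h)) hmem
      refine ⟨j, ?_⟩
      show ι (φ h') (h ^ j • x) ∈ (M h' hh').toSubmodule
      rw [ι_smul, map_pow]
      exact hj
    choose j hj using hloc
    refine ⟨(∑ p : {a // a ∈ s}, j p.1 p.2) + k, h ^ (∑ p : {a // a ∈ s}, j p.1 p.2) • x, fun h' hh' => ?_, ?_⟩
    · have := hj h' hh'
      rw [← Finset.sum_erase_add _ _ (Finset.mem_univ (⟨h', hh'⟩ : {a // a ∈ s})), pow_add, mul_smul, ι_smul]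
      exact Submodule.smul_mem _ _ this
    · rw [ι_smul, pow_add, mul_smul, hx, map_pow]
  have hgen : ∀ p : {a // a ∈ s}, ∃ t : Finset (A ⊗[R] (Fin d → R)), (t : Set _) ⊆ C ∧
      (M p.1 p.2).toSubmodule ≤ Submodule.span (Localization.Away p.1) (ι (φ p.1) '' t) := fun p => by
    obtain ⟨t, ht⟩ := fg_of_projective_quotient (M p.1 p.2)
    choose k x hxC hx using fun z : t => key p.1 p.2 z.1 (ht.le (Submodule.subset_span z.2))
    refine ⟨Finset.univ.image x, by intro y hy; obtain ⟨z, -, rfl⟩ := Finset.mem_image.1 hy; exact hxC z, ?_⟩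
    rw [← ht, Submodule.span_le]
    intro z hz
    have hu := ((isInvertOne_away (R := R) p.1).unit).pow (k ⟨z, hz⟩)
    have : z = (↑hu.unit⁻¹ : Localization.Away p.1) • ι (φ p.1) (x ⟨z, hz⟩) := by
      rw [← hx, smul_smul, IsUnit.val_inv_mul, one_smul]
    rw [this]
    exact Submodule.smul_mem _ _ (Submodule.subset_span ⟨x ⟨z, hz⟩, Finset.mem_coe.2 (Finset.mem_image_of_mem _ (Finset.mem_univ _)), rfl⟩)
  choose t htC ht using hgen
  let N : Submodule A (A ⊗[R] (Fin d → R)) := Submodule.span A ↑(Finset.univ.biUnion t)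
  have hN : ∀ (h) (hh : h ∈ s), (M h hh).toSubmodule = Submodule.span (Localization.Away h) (ι (φ h) '' N) := by
    intro h hh
    rw [span_image_ι]
    refine le_antisymm ((ht ⟨h, hh⟩).trans (Submodule.span_mono (Set.image_mono fun y hy =>
      Finset.mem_biUnion.2 ⟨⟨h, hh⟩, Finset.mem_univ _, hy⟩))) (Submodule.span_le.2 ?_)
    rintro _ ⟨y, hy, rfl⟩
    obtain ⟨p, -, hp⟩ := Finset.mem_biUnion.1 hy
    exact htC p hp h hh
  obtain ⟨G, hG⟩ := grassmannian_of_local N (Submodule.fg_span (Finset.finite_toSet _)) s hs M hN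
  exact ⟨G, fun h hh => Grassmannian.ext (by rw [map_eq_span, hG, hN h hh])⟩

end Span

end Groth.Agent.Synt29.LG
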