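import Groth.Agent.Synt29.LGScheme

/-!
Linked tuples spanned by transported vectors, and extension of the ground field.
-/

set_option autoImplicit false

universe u

open TensorProduct W4c1limliniiii

namespace Groth.Agent.Synt29.LG

open GrassGraph
open Module (Grassmannian)

variable {R : Type u} [CommRing R] {d r n : ℕ}

section Field

variable {L K : Type u} [Field L] [Algebra R L] [Field K] [Algebra R K] (ψ : L →ₐ[R] K)

theorem linearIndependent_ι {κ : Type*} [Finite κ] {v : κ → L ⊗[R] (Fin d → R)}
    (hv : LinearIndependent L v) : LinearIndependent K (fun q => ι ψ (v q)) := by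
  classical
  have := Fintype.ofFinite κ
  obtain ⟨π, hπ⟩ := LinearMap.exists_leftInverse_of_injective (Fintype.linearCombination L v)
    (LinearMap.ker_eq_bot.2 (linearIndependent_iff_injective_fintypeLinearCombination.1 hv))
  let πK : K ⊗[R] (Fin d → R) →ₗ[K] (κ → K) := (bas K).constr K fun c q => ψ (π (bas (R := R) L c) q)
  have h : ∀ x q, πK (ι ψ x) q = ψ (π x q) := fun x q => by
    induction (bas (R := R) L).mem_span x using Submodule.span_induction with
    | mem z hz =>
      obtain ⟨c, rfl⟩ := hz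
      rw [ι_bas]
      exact congrFun (Module.Basis.constr_basis (bas (R := R) K) K _ c) q
    | zero => simp
    | add a b _ _ ha hb => simp [ha, hb]
    | smul t a _ ha => simp [ι_smul, ha]
  refine LinearIndependent.of_comp πK ?_
  have he : (⇑πK ∘ fun q => ι ψ (v q)) = fun q => Pi.single q (1 : K) := by
    funext q q'
    have h1 := congrFun (LinearMap.congr_fun hπ (Pi.single q 1)) q'
    rw [LinearMap.comp_apply, Fintype.linearCombination_apply_single, one_smul, LinearMap.id_apply] at h1
    rw [Function.comp_apply, h, h1, Pi.single_apply, Pi.single_apply]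
    split_ifs <;> simp
  rw [he]
  exact Pi.linearIndependent_single_one κ K

theorem exists_li_span {M : Type*} [AddCommGroup M] [Module L M] [Module.Finite L M] (W : Submodule L M) :
    ∃ (m : ℕ) (v : Fin m → M), LinearIndependent L v ∧ Submodule.span L (Set.range v) = W ∧ Module.finrank L W = m := by
  let b := Module.finBasis L W
  refine ⟨_, fun i => (b i).1, b.linearIndependent.map' W.subtype W.ker_subtype, ?_, rfl⟩
  have h := congrArg (Submodule.map W.subtype) b.span_eq
  rw [Submodule.map_span, ← Set.range_comp, Submodule.map_top, Submodule.range_subtype] at h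
  exact h

theorem finrank_span_ι (W : Submodule L (L ⊗[R] (Fin d → R))) :
    Module.finrank K (Submodule.span K (ι ψ '' (W : Set (L ⊗[R] (Fin d → R))))) = Module.finrank L W := by
  have := finite_total (R := R) (d := d) (L := L)
  obtain ⟨m, v, hv, hW, hm⟩ := exists_li_span W
  rw [hm, ← hW, span_image_ι, ← Set.range_comp]
  exact (finrank_span_eq_card (linearIndependent_ι ψ hv)).trans (Fintype.card_fin m)

theorem map_span_ι (p : (Fin d → R) →ₗ[R] (Fin d → R)) (W : Submodule L (L ⊗[R] (Fin d → R))) :
    (Submodule.span K (ι ψ '' W)).map (p.baseChange K) = Submodule.span K (ι ψ '' W.map (p.baseChange L)) := by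
  rw [Submodule.map_span, Submodule.map_coe, Set.image_image, Set.image_image]
  congr 1
  exact Set.image_congr fun x _ => (ι_baseChange ψ p x).symm

theorem span_ι_le_ker_inf (p : (Fin d → R) →ₗ[R] (Fin d → R)) (W : Submodule L (L ⊗[R] (Fin d → R))) :
    Submodule.span K (ι ψ '' ↑(LinearMap.ker (p.baseChange L) ⊓ W)) ≤
      LinearMap.ker (p.baseChange K) ⊓ Submodule.span K (ι ψ '' W) := by
  refine Submodule.span_le.2 ?_
  rintro _ ⟨x, ⟨hx1, hx2⟩, rfl⟩
  refine ⟨?_, Submodule.subset_span ⟨x, hx2, rfl⟩⟩
  rw [SetLike.mem_coe, LinearMap.mem_ker, ← ι_baseChange, LinearMap.mem_ker.1 hx1, map_zero]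

theorem ker_inf_span_ι (p : (Fin d → R) →ₗ[R] (Fin d → R)) (W : Submodule L (L ⊗[R] (Fin d → R))) :
    LinearMap.ker (p.baseChange K) ⊓ Submodule.span K (ι ψ '' W) =
      Submodule.span K (ι ψ '' ↑(LinearMap.ker (p.baseChange L) ⊓ W)) := by
  have := finite_total (R := R) (d := d) (L := L)
  have := finite_total (R := R) (d := d) (L := K)
  refine (Submodule.eq_of_le_of_finrank_eq (span_ι_le_ker_inf ψ p W) ?_).symm
  have h1 := finrank_map_eq (p.baseChange K) (Submodule.span K (ι ψ '' W))
  have h2 := finrank_map_eq (p.baseChange L) W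
  rw [map_span_ι, finrank_span_ι, finrank_span_ι] at h1
  rw [finrank_span_ι]
  omega

end Field

section Span

variable {f g : Fin n → ((Fin d → R) →ₗ[R] (Fin d → R))} {A : Type u} [CommRing A] [Algebra R A] {κ : Type}
  (pos : κ → Fin (n + 1))

variable (f g) in
/-- The transports of a family. -/
noncomputable def tv (v : κ → A ⊗[R] (Fin d → R)) (i : Fin (n + 1)) (q : κ) : A ⊗[R] (Fin d → R) :=
  (tr f g (pos q) i).baseChange A (v q)

theorem tv_self (v : κ → A ⊗[R] (Fin d → R)) (q : κ) : tv f g pos v (pos q) q = v q := by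
  rw [tv, tr_self, LinearMap.baseChange_id, LinearMap.id_apply]

theorem ι_tv {B : Type u} [CommRing B] [Algebra R B] (φ : A →ₐ[R] B) (v : κ → A ⊗[R] (Fin d → R))
    (i : Fin (n + 1)) (q : κ) : ι φ (tv f g pos v i q) = tv f g pos (fun q => ι φ (v q)) i q := by
  rw [tv, tv, ι_baseChange]

variable {s : R} (hI : ∀ i, (f i).comp (g i) = s • LinearMap.id ∧ (g i).comp (f i) = s • LinearMap.id)
  (v : κ → A ⊗[R] (Fin d → R))

theorem f_tv_of_le (i : Fin n) {q : κ} (h : (pos q : ℕ) ≤ i) :
    (f i).baseChange A (tv f g pos v i.castSucc q) = tv f g pos v i.succ q := by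
  simp only [tv, baseChange_comp_apply, Fin.val_castSucc, Fin.val_succ]
  rw [f_comp_tr_of_le f g i h]

theorem g_tv_of_lt (i : Fin n) {q : κ} (h : (i : ℕ) < pos q) :
    (g i).baseChange A (tv f g pos v i.succ q) = tv f g pos v i.castSucc q := by
  simp only [tv, baseChange_comp_apply, Fin.val_castSucc, Fin.val_succ]
  rw [g_comp_tr_of_lt f g i h]

include hI in
theorem f_tv_of_lt (i : Fin n) {q : κ} (h : (i : ℕ) < pos q) :
    (f i).baseChange A (tv f g pos v i.castSucc q) = algebraMap R A s • tv f g pos v i.succ q := by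
  simp only [tv, baseChange_comp_apply, Fin.val_castSucc, Fin.val_succ]
  rw [f_comp_tr_of_lt (fun i => (hI i).1) i h, baseChange_smul_apply]

include hI in
theorem g_tv_of_le (i : Fin n) {q : κ} (h : (pos q : ℕ) ≤ i) :
    (g i).baseChange A (tv f g pos v i.succ q) = algebraMap R A s • tv f g pos v i.castSucc q := by
  simp only [tv, baseChange_comp_apply, Fin.val_castSucc, Fin.val_succ]
  rw [g_comp_tr_of_le (fun i => (hI i).2) i h, baseChange_smul_apply]

include hI in
theorem linked_span (i : Fin n) :
    (Submodule.span A (Set.range (tv f g pos v i.castSucc))).map ((f i).baseChange A) ≤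
        Submodule.span A (Set.range (tv f g pos v i.succ)) ∧
      (Submodule.span A (Set.range (tv f g pos v i.succ))).map ((g i).baseChange A) ≤
        Submodule.span A (Set.range (tv f g pos v i.castSucc)) := by
  constructor <;> rw [Submodule.map_span, Submodule.span_le] <;> rintro _ ⟨_, ⟨q, rfl⟩, rfl⟩
  · rcases le_or_gt (pos q : ℕ) i with h | h
    · rw [f_tv_of_le pos v i h]; exact Submodule.subset_span ⟨q, rfl⟩
    · rw [f_tv_of_lt pos hI v i h]; exact Submodule.smul_mem _ _ (Submodule.subset_span ⟨q, rfl⟩)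
  · rcases le_or_gt (pos q : ℕ) i with h | h
    · rw [g_tv_of_le pos hI v i h]; exact Submodule.smul_mem _ _ (Submodule.subset_span ⟨q, rfl⟩)
    · rw [g_tv_of_lt pos v i h]; exact Submodule.subset_span ⟨q, rfl⟩

theorem isCompl_sect {S : Finset (Fin d)} (eq : Fin d ≃ κ ⊕ {c // c ∈ S}) (w : κ → A ⊗[R] (Fin d → R))
    (h : IsUnit ((bas (R := R) A).det (Sum.elim w (fun c => bas A c.1) ∘ eq))) :
    IsCompl (Submodule.span A (Set.range w)) (LinearMap.range (sect (R := R) (A := A) S)) := by
  obtain ⟨h1, h2⟩ := (bas (R := R) A).is_basis_iff_det.2 h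
  rw [eq.surjective.range_comp] at h2
  have h1' : LinearIndependent A (Sum.elim w fun c : {c // c ∈ S} => bas (R := R) A c.1) := by
    have := h1.comp _ eq.symm.injective
    simpa [Function.comp_assoc] using this
  obtain ⟨-, -, hdisj⟩ := linearIndependent_sum.1 h1'
  rw [show LinearMap.range (sect (R := R) (A := A) S) =
    Submodule.span A (Set.range fun c : {c // c ∈ S} => bas (R := R) A c.1) by
      rw [range_sect, Set.image_eq_range]; rfl]
  refine ⟨by simpa [Function.comp_def] using hdisj, codisjoint_iff.2 ?_⟩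
  rw [← Submodule.span_union, ← Set.Sum.elim_range]
  exact h2

theorem sect_injective (S : Finset (Fin d)) : Function.Injective (sect (R := R) (A := A) S) := fun y y' hy => by
  have := congrArg (proj (R := R) S (fun _ _ => 0)) hy
  rwa [proj_sect, proj_sect] at this

theorem finite_projective_rank {m : ℕ} {M : Type u} [AddCommGroup M] [Module A M] {S : Finset (Fin d)}
    (hS : S.card = m) {N K : Submodule A M} (hc : IsCompl N K) (e : (S → A) ≃ₗ[A] K) :
    Module.Finite A (M ⧸ N) ∧ Module.Projective A (M ⧸ N) ∧ ∀ p, Module.rankAtStalk (R := A) (M ⧸ N) p = m := by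
  let e' := (Submodule.quotientEquivOfIsCompl N K hc).trans e.symm
  refine ⟨Module.Finite.equiv e'.symm, Module.Projective.of_equiv e'.symm, fun p => ?_⟩
  have : Nontrivial A := PrimeSpectrum.nontrivial p
  rw [Module.rankAtStalk_eq_of_equiv e', Module.rankAtStalk_eq_finrank_of_free]
  simp [hS]

variable (r) in
/-- The point spanned by a family complementary to columns. -/
noncomputable def spanPoint (S : Finset (Fin d)) (hS : S.card = d - r) (eq : Fin d ≃ κ ⊕ {c // c ∈ S})
    (w : κ → A ⊗[R] (Fin d → R))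
    (h : IsUnit ((bas (R := R) A).det (Sum.elim w (fun c => bas A c.1) ∘ eq))) :
    Grassmannian A (A ⊗[R] (Fin d → R)) (d - r) where
  toSubmodule := Submodule.span A (Set.range w)
  finite_quotient :=
    (finite_projective_rank hS (isCompl_sect eq w h) (LinearEquiv.ofInjective _ (sect_injective S))).1
  projective_quotient :=
    (finite_projective_rank hS (isCompl_sect eq w h) (LinearEquiv.ofInjective _ (sect_injective S))).2.1
  rankAtStalk_eq :=
    (finite_projective_rank hS (isCompl_sect eq w h) (LinearEquiv.ofInjective _ (sect_injective S))).2.2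

end Span

section Exact

variable {f g : Fin n → ((Fin d → R) →ₗ[R] (Fin d → R))} {L : Type u} [Field L] [Algebra R L] {κ : Type}
  [Fintype κ] (pos : κ → Fin (n + 1)) {s : R}
  (hI : ∀ i, (f i).comp (g i) = s • LinearMap.id ∧ (g i).comp (f i) = s • LinearMap.id)
  (hs : algebraMap R L s = 0) (v : κ → L ⊗[R] (Fin d → R))
  {V : Fin (n + 1) → Grassmannian L (L ⊗[R] (Fin d → R)) (d - r)}
  (hsp : ∀ i, (V i).toSubmodule = Submodule.span L (Set.range (tv f g pos v i)))

include hI hs hsp in
/-- The rank of a forward map on a spanned tuple. -/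
theorem finrank_map_f_span (hLI : ∀ i, LinearIndependent L (tv f g pos v i)) (i : Fin n) :
    Module.finrank L ((V i.castSucc).toSubmodule.map ((f i).baseChange L)) =
      Fintype.card {q // (pos q : ℕ) ≤ i} := by
  classical
  have : (V i.castSucc).toSubmodule.map ((f i).baseChange L) =
      Submodule.span L (Set.range fun q : {q // (pos q : ℕ) ≤ i} => tv f g pos v i.succ q.1) := by
    rw [hsp, Submodule.map_span]
    refine le_antisymm (Submodule.span_le.2 ?_) (Submodule.span_le.2 ?_)
    · rintro _ ⟨_, ⟨q, rfl⟩, rfl⟩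
      rcases le_or_gt (pos q : ℕ) i with h | h
      · rw [f_tv_of_le pos v i h]; exact Submodule.subset_span ⟨⟨q, h⟩, rfl⟩
      · rw [f_tv_of_lt pos hI v i h, hs, zero_smul]; exact zero_mem _
    · rintro _ ⟨q, rfl⟩
      exact Submodule.subset_span ⟨_, ⟨q.1, rfl⟩, f_tv_of_le pos v i q.2⟩
  rw [this]
  exact finrank_span_eq_card ((hLI i.succ).comp _ Subtype.val_injective)

include hI hs hsp in
/-- A tuple spanned by independent transports is exact. -/
theorem exact_of_span (hLI : ∀ i, LinearIndependent L (tv f g pos v i)) : IsExact R d r n f g L V := by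
  classical
  intro i
  have key : ∀ (A B : Fin (n + 1)) (p : L ⊗[R] (Fin d → R) →ₗ[L] L ⊗[R] (Fin d → R)) (P : κ → Prop)
      (W : Submodule L (L ⊗[R] (Fin d → R))),
      (∀ q, P q → p (tv f g pos v A q) = 0 ∧ tv f g pos v A q ∈ W) →
      (∀ q, ¬ P q → p (tv f g pos v A q) = tv f g pos v B q) →
      LinearMap.ker p ⊓ (V A).toSubmodule ≤ W := by
    intro A B p P W hP hnP
    have hsplit : Set.range (tv f g pos v A) =
        Set.range (fun q : {q // P q} => tv f g pos v A q.1) ∪ Set.range (fun q : {q // ¬ P q} => tv f g pos v A q.1) := by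
      ext x
      simp only [Set.mem_range, Set.mem_union, Subtype.exists, exists_prop]
      exact ⟨fun ⟨q, hq⟩ => (em (P q)).imp (fun h => ⟨q, h, hq⟩) (fun h => ⟨q, h, hq⟩),
        fun h => h.elim (fun ⟨q, _, hq⟩ => ⟨q, hq⟩) (fun ⟨q, _, hq⟩ => ⟨q, hq⟩)⟩
    rintro x ⟨hx, hxV⟩
    rw [SetLike.mem_coe, hsp, hsplit, Submodule.span_union, Submodule.mem_sup] at hxV
    obtain ⟨y, hy, z, hz, rfl⟩ := hxV
    have hpy : p y = 0 := (Submodule.span_le (p := LinearMap.ker p)).2
      (by rintro _ ⟨q, rfl⟩; exact (hP q.1 q.2).1) hy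
    have hpz : p z = 0 := by simpa [hpy] using LinearMap.mem_ker.1 hx
    have hdis := Submodule.range_ker_disjoint (f := p) (v := fun q : {q // ¬ P q} => tv f g pos v A q.1) (by
      have : (p ∘ fun q : {q // ¬ P q} => tv f g pos v A q.1) = (tv f g pos v B) ∘ Subtype.val :=
        funext fun q => hnP q.1 q.2
      rw [this]; exact (hLI B).comp _ Subtype.val_injective)
    rw [Submodule.disjoint_def.1 hdis z hz hpz, add_zero]
    exact (Submodule.span_le (p := W)).2 (by rintro _ ⟨q, rfl⟩; exact (hP q.1 q.2).2) hy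
  constructor
  · refine key i.succ i.castSucc _ (fun q => (pos q : ℕ) ≤ i) _ (fun q hq => ⟨?_, ?_⟩) fun q hq =>
      g_tv_of_lt pos v i (not_le.1 hq)
    · rw [g_tv_of_le pos hI v i hq, hs, zero_smul]
    · exact ⟨tv f g pos v i.castSucc q, by rw [hsp]; exact Submodule.subset_span ⟨q, rfl⟩, f_tv_of_le pos v i hq⟩
  · refine key i.castSucc i.succ _ (fun q => (i : ℕ) < pos q) _ (fun q hq => ⟨?_, ?_⟩) fun q hq =>
      f_tv_of_le pos v i (not_lt.1 hq)
    · rw [f_tv_of_lt pos hI v i hq, hs, zero_smul]
    · exact ⟨tv f g pos v i.succ q, by rw [hsp]; exact Submodule.subset_span ⟨q, rfl⟩, g_tv_of_lt pos v i hq⟩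

end Exact

end Groth.Agent.Synt29.LG
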