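import Groth.Agent.Synt29.LGCharts

/-!
Transports along the chain of a linked Grassmannian.
-/

set_option autoImplicit false

universe u w

open TensorProduct W4c1limliniiii

namespace Groth.Agent.Synt29.LG

open GrassGraph
open Module (Grassmannian)

variable {R : Type u} [CommRing R] {d n : ℕ} (f g : Fin n → ((Fin d → R) →ₗ[R] (Fin d → R)))

/-- The maps indexed by natural numbers. -/
def extN (f : Fin n → ((Fin d → R) →ₗ[R] (Fin d → R))) (a : ℕ) : (Fin d → R) →ₗ[R] (Fin d → R) :=
  if h : a < n then f ⟨a, h⟩ else 0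

/-- Forward composites. -/
def upN (j : ℕ) : ℕ → ((Fin d → R) →ₗ[R] (Fin d → R))
  | 0 => LinearMap.id
  | k + 1 => (extN f (j + k)).comp (upN j k)

/-- Backward composites. -/
def dnN (j : ℕ) : ℕ → ((Fin d → R) →ₗ[R] (Fin d → R))
  | 0 => LinearMap.id
  | k + 1 => (extN g (j - (k + 1))).comp (dnN j k)

/-- The transport from one copy to another. -/
def tr (j i : ℕ) : (Fin d → R) →ₗ[R] (Fin d → R) :=
  if j ≤ i then upN f j (i - j) else dnN g j (j - i)

theorem tr_self (j : ℕ) : tr f g j j = LinearMap.id := by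
  rw [tr, if_pos le_rfl, Nat.sub_self]; rfl

theorem f_comp_tr_of_le (i : Fin n) {j : ℕ} (h : j ≤ i) : (f i).comp (tr f g j i) = tr f g j (i + 1) := by
  rw [tr, if_pos h, tr, if_pos (by omega), show (i : ℕ) + 1 - j = (i - j) + 1 by omega, upN, extN,
    dif_pos (by omega)]
  congr 2
  exact Fin.ext (by simp; omega)

theorem g_comp_tr_of_lt (i : Fin n) {j : ℕ} (h : (i : ℕ) < j) : (g i).comp (tr f g j (i + 1)) = tr f g j i := by
  rcases eq_or_lt_of_le (show (i : ℕ) + 1 ≤ j from h) with rfl | h'
  · rw [tr_self, LinearMap.comp_id, tr, if_neg (by omega), show (i : ℕ) + 1 - i = 0 + 1 by omega, dnN, dnN,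
      LinearMap.comp_id, extN, dif_pos (by omega)]
    congr 1
  · rw [tr, if_neg (by omega), tr, if_neg (by omega), show j - (i : ℕ) = (j - (i + 1)) + 1 by omega, dnN, extN,
      dif_pos (by omega)]
    congr 2
    exact Fin.ext (by simp; omega)

variable {f g} {s : R}

theorem f_comp_tr_of_lt (hI : ∀ i, (f i).comp (g i) = s • LinearMap.id) (i : Fin n) {j : ℕ} (h : (i : ℕ) < j) :
    (f i).comp (tr f g j i) = s • tr f g j (i + 1) := by
  rw [← g_comp_tr_of_lt f g i h, ← LinearMap.comp_assoc, hI, LinearMap.smul_comp, LinearMap.id_comp]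

theorem g_comp_tr_of_le (hI : ∀ i, (g i).comp (f i) = s • LinearMap.id) (i : Fin n) {j : ℕ} (h : j ≤ i) :
    (g i).comp (tr f g j (i + 1)) = s • tr f g j i := by
  rw [← f_comp_tr_of_le f g i h, ← LinearMap.comp_assoc, hI, LinearMap.smul_comp, LinearMap.id_comp]

variable {A : Type w} [CommRing A] [Algebra R A]

theorem baseChange_comp_apply (p q : (Fin d → R) →ₗ[R] (Fin d → R)) (x : A ⊗[R] (Fin d → R)) :
    p.baseChange A (q.baseChange A x) = (p.comp q).baseChange A x := by
  rw [LinearMap.baseChange_comp]; rfl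

theorem baseChange_smul_apply (c : R) (p : (Fin d → R) →ₗ[R] (Fin d → R)) (x : A ⊗[R] (Fin d → R)) :
    (c • p).baseChange A x = algebraMap R A c • p.baseChange A x := by
  rw [LinearMap.baseChange_smul, LinearMap.smul_apply, algebraMap_smul]

/-- A linked tuple is stable under transports. -/
theorem map_tr_le (V : Fin (n + 1) → Submodule A (A ⊗[R] (Fin d → R)))
    (hV : ∀ i : Fin n, (V i.castSucc).map ((f i).baseChange A) ≤ V i.succ ∧
      (V i.succ).map ((g i).baseChange A) ≤ V i.castSucc)
    (j i : Fin (n + 1)) {x : A ⊗[R] (Fin d → R)} (hx : x ∈ V j) : (tr f g j i).baseChange A x ∈ V i := by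
  let W : ℕ → Submodule A (A ⊗[R] (Fin d → R)) := fun a => if h : a < n + 1 then V ⟨a, h⟩ else ⊤
  have hW : ∀ j : Fin (n + 1), W j = V j := fun j => dif_pos j.2
  have hup : ∀ (k : ℕ) (a : ℕ) (x), x ∈ W a → (upN f a k).baseChange A x ∈ W (a + k) := by
    intro k
    induction k with
    | zero => intro a x hx; simpa [upN, LinearMap.baseChange_id] using hx
    | succ k ih =>
      intro a x hx
      rw [upN, ← baseChange_comp_apply, extN]
      have hk := ih a x hx
      split_ifs with h
      · simp only [W, dif_pos (show a + k < n + 1 by omega)] at hk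
        simp only [W, dif_pos (show a + (k + 1) < n + 1 by omega)]
        exact (hV ⟨a + k, h⟩).1 ⟨_, hk, rfl⟩
      · simp
  have hdn : ∀ (k : ℕ) (a : ℕ) (x), a < n + 1 → k ≤ a → x ∈ W a → (dnN g a k).baseChange A x ∈ W (a - k) := by
    intro k
    induction k with
    | zero => intro a x _ _ hx; simpa [dnN, LinearMap.baseChange_id] using hx
    | succ k ih =>
      intro a x ha hk hx
      rw [dnN, ← baseChange_comp_apply, extN, dif_pos (by omega)]
      have hk' := ih a x ha (by omega) hx
      simp only [W, dif_pos (show a - k < n + 1 by omega)] at hk'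
      simp only [W, dif_pos (show a - (k + 1) < n + 1 by omega)]
      refine (hV ⟨a - (k + 1), by omega⟩).2 ⟨_, ?_, rfl⟩
      have he : Fin.succ (⟨a - (k + 1), by omega⟩ : Fin n) = ⟨a - k, by omega⟩ :=
        Fin.ext (show a - (k + 1) + 1 = a - k by omega)
      rw [he]
      exact hk'
  rw [← hW] at hx ⊢
  rw [tr]
  split_ifs with h
  · have := hup ((i : ℕ) - j) j x hx
    rwa [show (j : ℕ) + ((i : ℕ) - j) = i by omega] at this
  · have := hdn ((j : ℕ) - i) j x j.2 (by omega) hx
    rwa [show (j : ℕ) - ((j : ℕ) - i) = i by omega] at this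

end Groth.Agent.Synt29.LG
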