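import Groth.Agent.Synt29.K3ExtMain
import Groth.Agent.RefX.Generic
import Groth.Agent.GenusOneSS.Free

/-!
Subsheaves of free modules on a surface with Picard group `ℤ`: degrees, and rank one pieces of degree zero.
-/

set_option autoImplicit false
set_option linter.style.haveILetI false
set_option linter.unusedSectionVars false
set_option backward.isDefEq.respectTransparency false
set_option backward.isDefEq.respectTransparency.types false
set_option maxHeartbeats 800000

universe u

open CategoryTheory CategoryTheory.Limits AlgebraicGeometry TopologicalSpace Polynomial StabCat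
open Groth.Agent Groth.Agent.H23.PicMul Groth.Agent.HilbPoly Groth.Agent.Synt29.SurfRankOne Groth.Agent.Synt29.K3Ext
open scoped Groth.Agent.H23.PicMul

noncomputable section

namespace Groth.Agent.Synt29.LMStab

attribute [local instance] H23.PicMul.clMonoid

section Integral

variable {X : Scheme.{u}} [IsIntegral X] [IsLocallyNoetherian X]

/-- The stalk map as a linear map. -/
theorem stalkMap_eq {F G : X.Modules} (φ : F ⟶ G) (x : X) (v : F.presheaf.stalk x) :
    RefHull.stalkMapₗ φ x v = ((DerSch.stalkFunctor X x).map φ).hom v := by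
  obtain ⟨U, hx, m, rfl⟩ := TopCat.Presheaf.exists_germ_eq F.presheaf v
  rw [RefHull.stalkMapₗ_germ]
  exact (DerSch.stalkFunctor_map_germ x φ U hx m).symm

theorem isZero_of_genRank_zero {G : X.Modules} (hG : Coh.IsCoh G) (htG : TorSh.IsTorsionFree G)
    (h : CurveCohLib.genRank G = 0) : IsZero G := by
  by_contra h0
  refine mem_support hG htG h0 ?_
  letI : Field (X.presheaf.stalk (genericPoint X)) := inferInstanceAs (Field X.functionField)
  haveI : Module.Finite (X.presheaf.stalk (genericPoint X)) (G.presheaf.stalk (genericPoint X)) :=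
    QCoh.finite_stalk_of_isFT hG.1 hG.2 _
  exact Module.finrank_zero_iff.1 h

theorem genRank_zero_of_notMem {G : X.Modules} (h : genericPoint X ∉ CohB1.support G) :
    CurveCohLib.genRank G = 0 := by
  haveI : Subsingleton (G.presheaf.stalk (genericPoint X)) := not_not.1 h
  exact Module.finrank_zero_of_subsingleton

theorem genRank_eq_of_surjective {F G : X.Modules} (f : F ⟶ G) [Mono f]
    (h : Function.Surjective ((DerSch.stalkFunctor X (genericPoint X)).map f).hom) :
    CurveCohLib.genRank F = CurveCohLib.genRank G := by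
  let g : F.presheaf.stalk (genericPoint X) →ₗ[X.presheaf.stalk (genericPoint X)] G.presheaf.stalk (genericPoint X) :=
    ((DerSch.stalkFunctor X (genericPoint X)).map f).hom
  exact (LinearEquiv.ofBijective g ⟨CurveCohLib.stalk_injective f _, h⟩).finrank_eq

/-- A morphism out of a subsheaf which is everything in codimension one extends to a reflexive target. -/
theorem exists_factor (hnorm : Pi1.IsNormalScheme X) {G₁ G₂ E : X.Modules} (hE : Coh.IsCoh E)
    (hEr : RefHull.IsReflexive E) (u : G₁ ⟶ G₂) (g : G₁ ⟶ E)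
    (hη : Function.Injective ((DerSch.stalkFunctor X (genericPoint X)).map u).hom)
    (hu : ∀ x : X, Order.coheight x ≤ 1 → Function.Surjective ((DerSch.stalkFunctor X x).map u).hom) :
    ∃ v : G₂ ⟶ E, u ≫ v = g := by
  let η := genericPoint X
  let f : G₁.presheaf.stalk η →ₗ[X.presheaf.stalk η] G₂.presheaf.stalk η := RefHull.stalkMapₗ u η
  have hf : Function.Bijective f := by
    refine ⟨fun a b h => hη ?_, fun y => ?_⟩
    · rw [← stalkMap_eq, ← stalkMap_eq]
      exact h
    · obtain ⟨a, ha⟩ := hu η (by rw [RefX.coheight_genericPoint]; exact zero_le) y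
      exact ⟨a, (stalkMap_eq u η a).trans ha⟩
  let e := LinearEquiv.ofBijective f hf
  let T : G₂.presheaf.stalk η →ₗ[X.presheaf.stalk η] E.presheaf.stalk η :=
    (RefHull.stalkMapₗ g η).comp e.symm.toLinearMap
  obtain ⟨ψ, hψ⟩ := (RefX.exists_hom_iff hnorm hE T).2 fun x hx => by
    have hx' : Order.coheight x ≤ 1 := by
      rw [ringKrullDim_stalk_eq_coheight] at hx
      exact le_of_eq (by exact_mod_cast hx)
    rintro _ ⟨a, rfl⟩
    obtain ⟨b, rfl⟩ := hu x hx' a
    refine ⟨RefHull.stalkMapₗ g x b, ?_⟩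
    have h1 : e.symm (RefX.spM G₂ (RefX.specializes_genericPoint x) (((DerSch.stalkFunctor X x).map u).hom b)) =
        RefX.spM G₁ (RefX.specializes_genericPoint x) b := by
      rw [LinearEquiv.symm_apply_eq, ← stalkMap_eq]
      exact (RefX.stalkMap_spM u _ b).symm
    show _ = RefHull.stalkMapₗ g η (e.symm _)
    rw [h1]
    exact (RefX.stalkMap_spM g _ b).symm
  haveI : IsIso (RefHull.bidualMap E) := hEr
  refine ⟨ψ ≫ inv (RefHull.bidualMap E), ?_⟩
  rw [← cancel_mono (RefHull.bidualMap E), Category.assoc, Category.assoc, IsIso.inv_hom_id, Category.comp_id]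
  refine RefX.hom_ext_generic (RefX.isCoh_dual (RefX.isCoh_dual hE))
    (fun x => RefX.torsionFree_of_reflexive (RefX.isReflexiveAt_dual (RefX.isCoh_dual hE) x)) fun v => ?_
  rw [RefX.stalkMap_comp_apply, RefX.stalkMap_comp_apply, LinearMap.congr_fun hψ]
  show RefHull.stalkMapₗ (RefHull.bidualMap E) η (RefHull.stalkMapₗ g η (e.symm (e v))) = _
  rw [LinearEquiv.symm_apply_apply]

theorem reflexive_of_lf {E : X.Modules} (hEc : Coh.IsCoh E) (hE : FlatMod.IsFinLocFree E) :
    RefHull.IsReflexive E := by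
  refine (RefX.isReflexive_iff hEc).2 fun x => ?_
  haveI := QCoh.free_stalk_of_isFinLocFree hE x
  haveI := QCoh.finite_stalk_of_isFT hEc.1 hEc.2 x
  show Module.IsReflexive (X.presheaf.stalk x) (E.presheaf.stalk x)
  infer_instance

end Integral

section Surface

variable {k : Type u} [Field k] {X : Scheme.{u}} [X.Over (Spec (CommRingCat.of k))]
  [IsProper (X ↘ Spec (CommRingCat.of k))] [IsIntegral X] (hdim : topologicalKrullDim X = 2)
  {L : X.Modules} (hL : CohB1.IsAmple L)
  {pO : ℚ[X]} (hpO : ShStab.IsHilbPoly k X L (Coh.structureModule X) pO)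
  [PicGrp.Law X] (hreg : ∀ x : X, IsRegularLocalRing (X.presheaf.stalk x))
  (hgen : ∀ c : PicLoc.PicSet X, ∃ n : ℤ, c = PicGrp.cls L hL.1 ^ n) (hp1 : pO.coeff 1 = 0)

include hdim hL hpO hreg hgen hp1 in
/-- The two top coefficients of a torsion free module. -/
theorem rank_deg {G : X.Modules} (hG : Coh.IsCoh G) (htG : TorSh.IsTorsionFree G) {pG : ℚ[X]}
    (hpG : ShStab.IsHilbPoly k X L G pG) :
    pG.coeff 2 = CurveCohLib.genRank G * pO.coeff 2 ∧ ∃ t : ℤ, pG.coeff 1 = 2 * t * pO.coeff 2 := by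
  haveI : IsNoetherian X := CurveCohLib.isNoetherian_of_proper (k := k)
  obtain ⟨r, hr⟩ : ∃ r, CurveCohLib.genRank G = r := ⟨_, rfl⟩
  rw [hr]
  induction r generalizing G pG with
  | zero =>
    have hz := isZero_of_genRank_zero hG htG hr
    rw [HilbPoly.isHilbPoly_unique hpG (HilbPoly.hilb_isZero hz)]
    exact ⟨by simp, 0, by simp⟩
  | succ r ih =>
    have h0 : ¬ IsZero G := fun hz => by
      have : CurveCohLib.genRank G = 0 := genRank_zero_of_notMem (by
        rw [QCoh.support_eq_empty_of_isZero hz hG.1]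
        exact Set.notMem_empty _)
      omega
    obtain ⟨j, M, hM, hcl, s, hs⟩ := exists_hom_inv (k := k) hdim hL hG h0
    obtain ⟨W, ψ, l, -, -, -, pK, pN, hKc, hNc, hKr, -, -, hpK, hpN, htN, hK2, hN2, hN1⟩ :=
      exists_saturated_line hdim hL hpO hG htG hpG hM hcl s hs
    have hadd := genRank_kernel_add ψ hG
    obtain ⟨hN2', t, ht⟩ := ih hNc htN hpN (by omega)
    obtain ⟨R, -, β, -, -, a, b, -, hK1⟩ :=
      exists_hull hdim hL hpO hreg hgen hKc (tf_of_mono (kernel.ι ψ) htG) hpK hK2
    refine ⟨?_, t + (a - b), ?_⟩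
    · push_cast
      linarith
    · push_cast
      rw [hp1] at hK1
      linarith

variable {E : X.Modules} (hE : Coh.IsCoh E) (htE : TorSh.IsTorsionFree E) {ι : Type*}
  (p : ι → (E ⟶ Coh.structureModule X))
  (hjoint : ∀ {G : X.Modules} (f : G ⟶ E), (∀ j, f ≫ p j = 0) → f = 0)

include hdim hL hpO hreg hgen hp1 htE hjoint in
/-- A subsheaf of a module with enough coordinates has degree at most zero, and contains a rank one piece of
degree zero if it has degree zero. -/
theorem le_free {G : X.Modules} (f : G ⟶ E) [Mono f] (hG : Coh.IsCoh G) {pG : ℚ[X]}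
    (hpG : ShStab.IsHilbPoly k X L G pG) :
    pG.coeff 1 ≤ 0 ∧ (0 ≤ pG.coeff 1 → ¬ IsZero G → ∃ (G₁ : X.Modules) (g : G₁ ⟶ G) (_ : Mono g)
      (_ : Coh.IsCoh G₁) (p₁ : ℚ[X]), ShStab.IsHilbPoly k X L G₁ p₁ ∧ p₁.coeff 2 = pO.coeff 2 ∧ p₁.coeff 1 = 0) := by
  haveI : IsNoetherian X := CurveCohLib.isNoetherian_of_proper (k := k)
  have hOc : Coh.IsCoh (Coh.structureModule X) := QCoh.isCoh_structureModule'
  have hOi : PicF.IsInvertible (Coh.structureModule X) := InvX.isInvertible_structureModule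
  obtain ⟨r, hr⟩ : ∃ r, CurveCohLib.genRank G = r := ⟨_, rfl⟩
  induction r using Nat.strong_induction_on generalizing G pG with
  | _ r ih =>
    by_cases h0 : IsZero G
    · rw [HilbPoly.isHilbPoly_unique hpG (HilbPoly.hilb_isZero h0)]
      exact ⟨by simp, fun _ h => absurd h0 h⟩
    obtain ⟨j, hj⟩ : ∃ j, f ≫ p j ≠ 0 := by
      by_contra! hc
      exact h0 ((IsZero.iff_id_eq_zero G).2 ((cancel_mono f).1 (by rw [hjoint f hc]; simp)))
    let φ := f ≫ p j
    let i : Abelian.coimage φ ⟶ Coh.structureModule X := Abelian.factorThruCoimage φ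
    haveI : Mono i := inferInstanceAs (Mono (Abelian.factorThruCoimage φ))
    have hKc : Coh.IsCoh (kernel φ) := QCoh.isCoh_kernel hG hOc φ
    have hIc : Coh.IsCoh (Abelian.coimage φ) := QCoh.isCoh_cokernel hKc.1 hG (kernel.ι φ)
    obtain ⟨pK, hpK, -, -⟩ := HilbPoly.exists_hilb (k := k) hL.1 hKc (dim_le hdim _)
    obtain ⟨-, -, hpI⟩ := cokernel_data hL hKc hG (dim_le hdim _) (kernel.ι φ) hpK hpG
    have hi : i ≠ 0 := fun h => hj (by
      rw [← Abelian.coimage.fac (f ≫ p j)]
      show Abelian.coimage.π φ ≫ i = 0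
      rw [h, Limits.comp_zero])
    have hsurj := surjective_into_line hOi i hi
    have hI2 := coeff_two_eq hdim hL hIc hOc i hpI hpO (notMem_support_cokernel i hsurj)
    have hI1 := coeff_one_le hdim hL hIc hOc i hpI hpO hI2
    rw [coeff_sub] at hI2 hI1
    rw [hp1] at hI1
    have hadd := genRank_kernel_add φ hG
    have hI : CurveCohLib.genRank (cokernel (kernel.ι φ)) = 1 :=
      (genRank_eq_of_surjective i hsurj).trans (finrank_line hOi)
    obtain ⟨hK1, hKex⟩ := ih (CurveCohLib.genRank (kernel φ)) (by omega) (kernel.ι φ ≫ f) hKc hpK rfl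
    refine ⟨by linarith, fun hge _ => ?_⟩
    by_cases hK0 : IsZero (kernel φ)
    · refine ⟨G, 𝟙 G, inferInstance, hG, pG, hpG, ?_, by linarith⟩
      have hz := HilbPoly.isHilbPoly_unique hpK (HilbPoly.hilb_isZero hK0)
      rw [hz, coeff_zero, sub_zero] at hI2
      exact hI2
    · obtain ⟨G₁, g, hg, hG₁, p₁, hp₁, e₂, e₁⟩ := hKex (by linarith) hK0
      haveI := hg
      exact ⟨G₁, g ≫ kernel.ι φ, mono_comp _ _, hG₁, p₁, hp₁, e₂, e₁⟩

include hdim hL hpO hreg hgen hp1 hE htE in
/-- A rank one subsheaf of degree zero of a reflexive module is constant up to a finite set. -/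
theorem exists_const (hEr : RefHull.IsReflexive E) {G : X.Modules} (g : G ⟶ E) [Mono g] (hG : Coh.IsCoh G)
    {pG : ℚ[X]} (hpG : ShStab.IsHilbPoly k X L G pG) (h2 : pG.coeff 2 = pO.coeff 2) (h1 : pG.coeff 1 = 0) :
    ∃ (u : G ⟶ Coh.structureModule X) (v : Coh.structureModule X ⟶ E), u ≫ v = g ∧ v ≠ 0 ∧
      ∀ x : X, Order.coheight x ≤ 1 → Function.Surjective ((DerSch.stalkFunctor X x).map u).hom := by
  haveI : IsNoetherian X := CurveCohLib.isNoetherian_of_proper (k := k)
  have htG := tf_of_mono g htE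
  obtain ⟨R, hR, β, hβ, hβs, a, b, hab, hd⟩ := exists_hull hdim hL hpO hreg hgen hG htG hpG h2
  haveI := hβ
  rw [h1, hp1] at hd
  have h3 : ((a : ℚ) - b) * pO.coeff 2 = 0 := by linarith
  have h4 := (mul_eq_zero.1 h3).resolve_right (coeff_two_pos hdim hL hpO).ne'
  have hab' : a = b := by exact_mod_cast sub_eq_zero.1 h4
  obtain ⟨e⟩ := cl_eq_iff.1 (show PicF.cl R = PicF.cl (Coh.structureModule X) by
    rw [← one_def, eq_pow_of_mul_pow hL.1 hab (c := 0) (by omega), pow_zero])
  let u := β ≫ e.hom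
  have hus := dim_cokernel_comp β e.hom hβs
  have hu : ∀ x : X, Order.coheight x ≤ 1 → Function.Surjective ((DerSch.stalkFunctor X x).map u).hom := by
    intro x hx
    refine surjective_of_notMem u fun hmem => ?_
    have hc := QCoh.isCoh_cokernel hG.1 (QCoh.isCoh_structureModule' (X := X)) u
    exact absurd (one_lt_coheight_of_dim_le_zero (k := k) hdim (QCoh.isClosed_support_of_isFT hc.1 hc.2)
      (by simpa using hus) hmem) (not_lt.2 hx)
  haveI : Mono u := mono_comp _ _
  obtain ⟨v, hv⟩ := exists_factor (normal_of_regular hreg) hE hEr u g (CurveCohLib.stalk_injective u _) hu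
  refine ⟨u, v, hv, fun h0 => ?_, hu⟩
  have hg0 : g = 0 := by rw [← hv, h0, Limits.comp_zero]
  have hz : IsZero G := (IsZero.iff_id_eq_zero G).2 ((cancel_mono g).1 (by rw [hg0]; simp))
  have hc := coeff_two_pos hdim hL hpO
  rw [← h2, HilbPoly.isHilbPoly_unique hpG (HilbPoly.hilb_isZero hz)] at hc
  simp at hc

include hdim hL hpO hp1 in
/-- The free modules. -/
theorem hilb_free (n : ℕ) {p : ℚ[X]} (hp : ShStab.IsHilbPoly k X L (FlatMod.freeMod X n) p) :
    p.coeff 2 = n * pO.coeff 2 ∧ p.coeff 1 = 0 := by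
  haveI : IsNoetherian X := CurveCohLib.isNoetherian_of_proper (k := k)
  have hc : ∀ m, Coh.IsCoh (FlatMod.freeMod X m) := fun m =>
    CurveDeg.isCoh_of_isFinLocFree (GenusOneSS.isFinLocFree_freeMod m)
  induction n generalizing p with
  | zero =>
    rw [HilbPoly.isHilbPoly_unique hp (HilbPoly.hilb_isZero KFlatLib.isZero_freeMod_zero)]
    simp
  | succ n ih =>
    obtain ⟨q, hq, -, -⟩ := HilbPoly.exists_hilb (k := k) hL.1 (hc n) (dim_le hdim _)
    have h := HilbPoly.hilb_add hL.1 (GenusOneSS.shortExact_last (X := X) n) QCoh.isCoh_structureModule'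
      (hc (n + 1)) (hc n) hpO hq
    obtain ⟨h2, h1⟩ := ih hq
    rw [HilbPoly.isHilbPoly_unique hp h, coeff_add, coeff_add, h2, h1, hp1]
    push_cast
    exact ⟨by ring, by ring⟩

end Surface

end Groth.Agent.Synt29.LMStab

end
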