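import Groth.Agent.S3372
import Groth.Agent.H26.FMod.HFCompletionBase
import Groth.Agent.H26.LefAmple.OpenQuot
import Groth.Agent.H26.LefPic.Lift
import Groth.Agent.H26.LefFEt.Hyp
import Groth.Agent.H26.LefIdem
import Groth.Agent.QCoh.DevissageP
import Groth.Agent.SheafHomX.Main
import Groth.Prelude.Def_LefX

/-!
# The Lefschetz condition from the completeness of the sections of the structure sheaf
-/

noncomputable section

set_option autoImplicit false
set_option linter.style.haveILetI false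
set_option linter.unusedSectionVars false
set_option backward.isDefEq.respectTransparency false
set_option backward.isDefEq.respectTransparency.types false
set_option maxHeartbeats 1000000

universe u

open CategoryTheory CategoryTheory.Limits AlgebraicGeometry TopologicalSpace Opposite
open Groth.Agent Groth.Agent.H26

namespace Groth.Agent.Synt29.LefPunct

section OfLim

variable {A : Type u} [CommRing A] (I : Ideal A) {X : Scheme.{u}} [X.Over (Spec (CommRingCat.of A))]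
  [IsLocallyNoetherian X] (𝓚 : X.IdealSheafData)

/-- Completeness of the sections is the Lefschetz bijection for `D = O`. -/
theorem hb_structure (h𝓚 : 𝓚 = (FSch.idealSpec A I).comap (X ↘ Spec (CommRingCat.of A)))
    (h : Function.Bijective (Formal.toHHlim I (Coh.structureModule X) 0)) :
    Lef.HomToFormalBijective 𝓚 (Coh.structureModule X) := by
  let O := Coh.structureModule X
  have hO : Coh.IsCoh O := QCoh.isCoh_structureModule'
  have key : ∀ k, ∃ c : Formal.modPow I (k + 1) O ⟶ ClSub.quotMod (𝓚 ^ (k + 1)), IsIso c ∧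
      Formal.modPowπ I (k + 1) O ≫ c = ClSub.toSubscheme (𝓚 ^ (k + 1)) := fun k => by
    haveI := H26.FMod.isIso_modPowCmp I 𝓚 h𝓚 hO k
    refine ⟨H26.FMod.modPowCmp I 𝓚 h𝓚 hO.1 k ≫ (Scheme.Modules.pushforward (𝓚 ^ (k + 1)).subschemeι).map
      (LefFEt.uIso (𝓚 ^ (k + 1)).subschemeι).hom, inferInstance, ?_⟩
    rw [LefPic.toSub_eq_homEquiv, Adjunction.homEquiv_unit, ← Category.assoc]
    exact congrArg (· ≫ _) (H26.FMod.π_modPowCmp I 𝓚 h𝓚 hO.1 k)
  choose c hc hπ using key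
  have htr : ∀ k, Formal.modPowTrans I (k + 1) O ≫ c k = c (k + 1) ≫ Lef.quotMap (Lef.pow_succ_le 𝓚 k) := fun k => by
    haveI : Epi (Formal.modPowπ I (k + 1 + 1) O) := inferInstanceAs (Epi (cokernel.π _))
    rw [← cancel_epi (Formal.modPowπ I (k + 1 + 1) O), ← Category.assoc, Formal.modPowπ_trans, hπ, ← Category.assoc,
      hπ (k + 1)]
    exact (LefFEt.toSub_quotMap (Lef.pow_succ_le 𝓚 k)).symm
  refine ⟨fun φ ψ hφψ => SheafHomX.cls_injective (h.1 (Subtype.ext (funext fun k => ?_))), fun y hy => ?_⟩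
  · haveI := hc k
    have e : φ ≫ Formal.modPowπ I (k + 1) O = ψ ≫ Formal.modPowπ I (k + 1) O := by
      rw [← cancel_mono (c k), Category.assoc, Category.assoc, hπ]
      exact hφψ k
    exact (SheafHomX.map_cls φ _).trans ((congrArg SheafHomX.cls e).trans (SheafHomX.map_cls ψ _).symm)
  have hz : ∀ k, (y (k + 1) ≫ @inv _ _ _ _ (c (k + 1)) (hc _)) ≫ Formal.modPowTrans I (k + 1) O =
      y k ≫ @inv _ _ _ _ (c k) (hc k) := fun k => by
    haveI := hc k
    haveI := hc (k + 1)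
    rw [IsIso.eq_comp_inv, Category.assoc, htr, Category.assoc, IsIso.inv_hom_id_assoc]
    exact hy k
  obtain ⟨a, ha⟩ := h.2 ⟨fun k => SheafHomX.cls (y k ≫ @inv _ _ _ _ (c k) (hc k)),
    fun k => (SheafHomX.map_cls _ _).trans (congrArg SheafHomX.cls (hz k))⟩
  obtain ⟨φ, rfl⟩ := SheafHomX.cls_surjective a
  refine ⟨φ, fun k => ?_⟩
  haveI := hc k
  have e : φ ≫ Formal.modPowπ I (k + 1) O = y k ≫ inv (c k) :=
    SheafHomX.cls_injective ((SheafHomX.map_cls φ _).symm.trans (congrFun (congrArg Subtype.val ha) k))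
  rw [← hπ k, ← Category.assoc, e, Category.assoc, IsIso.inv_hom_id, Category.comp_id]

end OfLim

section Open

theorem app_top_congr {W : Scheme.{u}} {M N : W.Modules} {f g : M ⟶ N} (h : f = g) (s : Γ(M, ⊤)) :
    f.app ⊤ s = g.app ⊤ s := by rw [h]

theorem comp_app_one {W : Scheme.{u}} {P Q : W.Modules} (f : Coh.structureModule W ⟶ P) (g : P ⟶ Q) :
    (f ≫ g).app ⊤ (1 : Γ(W, ⊤)) = g.app ⊤ (f.app ⊤ (1 : Γ(W, ⊤))) := rfl

variable {X : Scheme.{u}} (𝓘 : X.IdealSheafData) (U : X.Opens)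

theorem kk_toSub_app (n : ℕ) (a : Γ(X, ⊤)) :
    (LefAmple.kk 𝓘 U n).app ⊤ ((ClSub.toSubscheme (𝓘 ^ (n + 1))).app ⊤ a) =
      (ClSub.toSubscheme ((𝓘.comap U.ι) ^ (n + 1))).app ⊤ (U.ι.appTop a) :=
  congrArg (fun t : Coh.structureModule X ⟶ (Scheme.Modules.pushforward U.ι).obj
    (ClSub.quotMod ((𝓘.comap U.ι) ^ (n + 1))) => Scheme.Modules.Hom.app t ⊤ a) (LefAmple.toSub_kk 𝓘 U n)

theorem kk_app_comm (hU : (𝓘.support : Set X) ⊆ (U : Set X)) (n : ℕ) (z : Γ(ClSub.quotMod ((𝓘.comap U.ι) ^ (n + 2)), ⊤)) :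
    (Lef.quotMap (Lef.pow_succ_le 𝓘 n)).app ⊤
        ((@inv _ _ _ _ (LefAmple.kk 𝓘 U (n + 1)) (LefAmple.isIso_kk 𝓘 U hU _)).app ⊤ z) =
      (@inv _ _ _ _ (LefAmple.kk 𝓘 U n) (LefAmple.isIso_kk 𝓘 U hU _)).app ⊤
        ((Lef.quotMap (Lef.pow_succ_le (𝓘.comap U.ι) n)).app ⊤ z) := by
  haveI := fun k => LefAmple.isIso_kk 𝓘 U hU k
  have h : inv (LefAmple.kk 𝓘 U (n + 1)) ≫ Lef.quotMap (Lef.pow_succ_le 𝓘 n) =
      (Scheme.Modules.pushforward U.ι).map (Lef.quotMap (Lef.pow_succ_le (𝓘.comap U.ι) n)) ≫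
        inv (LefAmple.kk 𝓘 U n) := by
    rw [IsIso.inv_comp_eq, ← Category.assoc, ← LefAmple.quotMap_kk, Category.assoc, IsIso.hom_inv_id,
      Category.comp_id]
  exact congrArg (fun t : (Scheme.Modules.pushforward U.ι).obj (ClSub.quotMod ((𝓘.comap U.ι) ^ (n + 2))) ⟶
    ClSub.quotMod (𝓘 ^ (n + 1)) => Scheme.Modules.Hom.app t ⊤ z) h

theorem kk_inv_app (hU : (𝓘.support : Set X) ⊆ (U : Set X)) (n : ℕ)
    (z : Γ(ClSub.quotMod ((𝓘.comap U.ι) ^ (n + 1)), ⊤)) :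
    (LefAmple.kk 𝓘 U n).app ⊤
      ((@inv _ _ _ _ (LefAmple.kk 𝓘 U n) (LefAmple.isIso_kk 𝓘 U hU _)).app ⊤ z) = z := by
  haveI := LefAmple.isIso_kk 𝓘 U hU n
  exact congrArg (fun t : (Scheme.Modules.pushforward U.ι).obj (ClSub.quotMod ((𝓘.comap U.ι) ^ (n + 1))) ⟶
    (Scheme.Modules.pushforward U.ι).obj (ClSub.quotMod ((𝓘.comap U.ι) ^ (n + 1))) => Scheme.Modules.Hom.app t ⊤ z)
    (IsIso.inv_hom_id (LefAmple.kk 𝓘 U n))

theorem exists_hom_open (hU : (𝓘.support : Set X) ⊆ (U : Set X))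
    (h : Lef.HomToFormalBijective 𝓘 (Coh.structureModule X))
    (y : ∀ n, Coh.structureModule (U : Scheme.{u}) ⟶ ClSub.quotMod ((𝓘.comap U.ι) ^ (n + 1)))
    (hy : Lef.IsFormalHom (𝓘.comap U.ι) (Coh.structureModule (U : Scheme.{u})) y) :
    ∃ φ : Coh.structureModule (U : Scheme.{u}) ⟶ Coh.structureModule (U : Scheme.{u}),
      ∀ n, φ ≫ ClSub.toSubscheme ((𝓘.comap U.ι) ^ (n + 1)) = y n := by
  let z : ∀ n, Γ(ClSub.quotMod ((𝓘.comap U.ι) ^ (n + 1)), ⊤) := fun n =>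
    (y n).app ⊤ (1 : Γ((U : Scheme.{u}), ⊤))
  let w : ∀ n, Γ(ClSub.quotMod (𝓘 ^ (n + 1)), ⊤) := fun n =>
    (@inv _ _ _ _ (LefAmple.kk 𝓘 U n) (LefAmple.isIso_kk 𝓘 U hU _)).app ⊤ (z n)
  have hz : ∀ n, (Lef.quotMap (Lef.pow_succ_le (𝓘.comap U.ι) n)).app ⊤ (z (n + 1)) = z n := fun n =>
    (comp_app_one (y (n + 1)) _).symm.trans (app_top_congr (hy n) _)
  have hw : ∀ n, (Lef.quotMap (Lef.pow_succ_le 𝓘 n)).app ⊤ (w (n + 1)) = w n := fun n =>
    (kk_app_comm 𝓘 U hU n (z (n + 1))).trans (congrArg _ (hz n))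
  have hcompat : Lef.IsFormalHom 𝓘 (Coh.structureModule X) fun n => QCoh.homOfTop (w n) := fun n =>
    LefIdem.hom_ext_one _ _ (by
      rw [comp_app_one, LefIdem.app_homOfTop, LefIdem.app_homOfTop]
      exact hw n)
  obtain ⟨Φ, hΦ⟩ := h.2 _ hcompat
  let a : Γ(X, ⊤) := Φ.app ⊤ (1 : Γ(X, ⊤))
  refine ⟨QCoh.homOfTop (P := Coh.structureModule (U : Scheme.{u})) (U.ι.appTop a),
    fun n => LefIdem.hom_ext_one _ _ ?_⟩
  have e : (ClSub.toSubscheme (𝓘 ^ (n + 1))).app ⊤ a = w n :=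
    ((comp_app_one Φ _).symm.trans (app_top_congr (hΦ n) _)).trans (LefIdem.app_homOfTop (w n))
  refine (comp_app_one _ _).trans ?_
  refine (congrArg _ (LefIdem.app_homOfTop (P := Coh.structureModule (U : Scheme.{u})) (U.ι.appTop a))).trans ?_
  exact (kk_toSub_app 𝓘 U n a).symm.trans ((congrArg _ e).trans (kk_inv_app 𝓘 U hU n (z n)))

/-- The Lefschetz bijection for `O` passes to neighbourhoods with the same functions. -/
theorem hb_open (hU : (𝓘.support : Set X) ⊆ (U : Set X)) (hb : Function.Bijective U.ι.appTop)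
    (h : Lef.HomToFormalBijective 𝓘 (Coh.structureModule X)) :
    Lef.HomToFormalBijective (𝓘.comap U.ι) (Coh.structureModule (U : Scheme.{u})) := by
  haveI := fun k => LefAmple.isIso_kk 𝓘 U hU k
  refine ⟨fun φ ψ hφψ => LefIdem.hom_ext_one _ _ ?_, fun y hy => ?_⟩
  · obtain ⟨a, ha⟩ := hb.2 (φ.app ⊤ (1 : Γ((U : Scheme.{u}), ⊤)))
    obtain ⟨b, hb'⟩ := hb.2 (ψ.app ⊤ (1 : Γ((U : Scheme.{u}), ⊤)))
    have hab : ∀ n, (ClSub.toSubscheme (𝓘 ^ (n + 1))).app ⊤ a = (ClSub.toSubscheme (𝓘 ^ (n + 1))).app ⊤ b := fun n => by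
      refine QCoh.app_injective (LefAmple.kk 𝓘 U n) ⊤ ?_
      rw [kk_toSub_app, kk_toSub_app, ha, hb']
      exact ((comp_app_one φ _).symm.trans (app_top_congr (hφψ n) _)).trans (comp_app_one ψ _)
    have e := h.1 (QCoh.homOfTop (P := Coh.structureModule X) a) (QCoh.homOfTop (P := Coh.structureModule X) b)
      fun n => LefIdem.hom_ext_one _ _ (by
        refine (comp_app_one _ _).trans (Eq.trans ?_ (comp_app_one _ _).symm)
        refine Eq.trans (congrArg _ (LefIdem.app_homOfTop (P := Coh.structureModule X) a)) ?_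
        exact (hab n).trans (congrArg _ (LefIdem.app_homOfTop (P := Coh.structureModule X) b).symm))
    have e' : a = b := ((LefIdem.app_homOfTop (P := Coh.structureModule X) a).symm.trans (app_top_congr e _)).trans
      (LefIdem.app_homOfTop (P := Coh.structureModule X) b)
    rw [← ha, ← hb', e']
  exact exists_hom_open 𝓘 U hU h y hy

end Open

end Groth.Agent.Synt29.LefPunct
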