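import Groth.Prelude.Def_W4swconnpcurvhiggsLogLam
import Groth.Prelude.Def_LogDiff
import Mathlib

/-!
Pieces and layers of a logarithmic λ-connection in coordinates.
-/

universe v u

open TensorProduct

namespace Groth.Agent.Synt29.LogLam

section Product

/-- `∏_{i ∈ K∖F} t i` as a product over positions. -/
lemma prod_sdiff_eq_prod_ite {B : Type u} [CommRing B] {n p : ℕ} (t : Fin n → B)
    (K : Finset (Fin n)) (f : Fin p → Fin n) (hf : Function.Injective f)
    (hK : Finset.univ.image f = K) (F : Finset (Fin n)) :
    ∏ i ∈ K \ F, t i = ∏ j : Fin p, if f j ∈ F then 1 else t (f j) := by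
  subst hK
  rw [Finset.sdiff_eq_filter, Finset.prod_filter, Finset.prod_image (fun a _ b _ h => hf h)]
  refine Finset.prod_congr rfl fun j _ => ?_
  by_cases h : f j ∈ F <;> simp [h]

lemma prod_sdiff_mul_prod_sdiff {B : Type u} [CommRing B] {n : ℕ} (t : Fin n → B)
    {J F K : Finset (Fin n)} (hJF : J ⊆ F) (hFK : F ⊆ K) :
    (∏ i ∈ K \ F, t i) * ∏ i ∈ F \ J, t i = ∏ i ∈ K \ J, t i := by
  rw [← Finset.prod_union (by
    rw [Finset.disjoint_left]
    intro a ha hb
    exact (Finset.mem_sdiff.mp ha).2 (Finset.mem_sdiff.mp hb).1)]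
  congr 1
  ext a
  simp only [Finset.mem_union, Finset.mem_sdiff]
  constructor
  · rintro (⟨h1, h2⟩ | ⟨h1, h2⟩)
    · exact ⟨h1, fun h => h2 (hJF h)⟩
    · exact ⟨hFK h1, h2⟩
  · rintro ⟨h1, h2⟩
    by_cases h : a ∈ F
    · exact Or.inr ⟨h, h2⟩
    · exact Or.inl ⟨h1, h⟩

end Product

section Exterior

variable {B L E : Type u} [CommRing B] [AddCommGroup L] [Module B L] [AddCommGroup E] [Module B E]
variable {n : ℕ} (ω : Module.Basis (Fin n) B L)

lemma coordE_tmul (p : ℕ) (K : Set.powersetCard (Fin n) p) (y : E) (v : Fin p → L) :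
    LogConn.coordE ω p K (y ⊗ₜ[B] exteriorPower.ιMulti B p v) =
      (Matrix.of fun i j => ω.coord (Set.powersetCard.ofFinEmbEquiv.symm K j) (v i)).det • y := by
  rw [LogConn.coordE, LinearMap.comp_apply, TensorProduct.map_tmul, LinearMap.id_apply,
    exteriorPower.basis_coord, exteriorPower.ιMultiDual_apply_ιMulti, LinearEquiv.coe_coe,
    TensorProduct.rid_tmul]

lemma emb_image (p : ℕ) (K : Set.powersetCard (Fin n) p) :
    Finset.univ.image (Set.powersetCard.ofFinEmbEquiv.symm K) = (K : Finset (Fin n)) := by
  rw [Set.powersetCard.ofFinEmbEquiv_symm_apply]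
  exact Finset.image_orderEmbOfFin_univ _ _

lemma sum_coordE (p : ℕ) [Fintype (Set.powersetCard (Fin n) p)] (x : E ⊗[B] ↥(⋀[B]^p L)) :
    ∑ K, LogConn.coordE ω p K x ⊗ₜ[B] (ω.exteriorPower p K) = x := by
  induction x using TensorProduct.induction_on with
  | zero => simp
  | tmul e η =>
      have h : ∀ K, LogConn.coordE ω p K (e ⊗ₜ[B] η) ⊗ₜ[B] (ω.exteriorPower p K) =
          e ⊗ₜ[B] ((ω.exteriorPower p).repr η K • ω.exteriorPower p K) := by
        intro K
        rw [LogConn.coordE, LinearMap.comp_apply, TensorProduct.map_tmul, LinearMap.id_apply,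
          LinearEquiv.coe_coe, TensorProduct.rid_tmul, Module.Basis.coord_apply,
          TensorProduct.smul_tmul]
      rw [Finset.sum_congr rfl fun K _ => h K, ← TensorProduct.tmul_sum, Module.Basis.sum_repr]
  | add x y hx hy =>
      simp only [map_add, TensorProduct.add_tmul, Finset.sum_add_distrib, hx, hy]

lemma basis_eq_ιMulti (p : ℕ) (K : Set.powersetCard (Fin n) p) :
    ω.exteriorPower p K =
      exteriorPower.ιMulti B p (fun j => ω (Set.powersetCard.ofFinEmbEquiv.symm K j)) := by
  rw [exteriorPower.basis_apply]
  rfl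

lemma oneEquiv_symm (a : L) :
    (exteriorPower.oneEquiv B L).symm a = exteriorPower.ιMulti B 1 (fun _ => a) := by
  rw [LinearEquiv.symm_apply_eq, exteriorPower.oneEquiv_ιMulti]

lemma wedge_ιMulti (p : ℕ) (a : L) (v : Fin p → L) :
    Conn.wedge p (exteriorPower.ιMulti B 1 (fun _ => a)) (exteriorPower.ιMulti B p v) =
      exteriorPower.ιMulti B (p + 1) (Fin.cons a v) := by
  apply Subtype.ext
  rw [Conn.wedge_apply_coe, exteriorPower.ιMulti_apply_coe, exteriorPower.ιMulti_apply_coe,
    exteriorPower.ιMulti_apply_coe, ExteriorAlgebra.ιMulti_succ_apply (n := p)]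
  congr 1
  rw [ExteriorAlgebra.ιMulti_succ_apply, ExteriorAlgebra.ιMulti_zero_apply, mul_one,
    Fin.cons_zero]

end Exterior

variable {A : Type v} {B L E : Type u} [CommRing A] [CommRing B] [Algebra A B]
  [AddCommGroup L] [Module B L] [AddCommGroup E] [Module B E] [Module A E] [IsScalarTower A B E]

/-- coordinate data of a logarithmic λ-connection -/
structure Coord (lam : B) (n : ℕ) (t : Fin n → B) (ω : Module.Basis (Fin n) B L)
    (nabla : E →ₗ[A] E ⊗[B] L) where
  der : Fin n → Derivation A B B
  der_t : ∀ i j, der i (t j) = if i = j then 1 else 0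
  comp_smul : ∀ (i : Fin n) (b : B) (e : E), LogConn.comp nabla ω i (b • e) =
    b • LogConn.comp nabla ω i e + (lam * (t i * der i b)) • e

variable {n : ℕ} {t : Fin n → B} {ω : Module.Basis (Fin n) B L} {nabla : E →ₗ[A] E ⊗[B] L}
  {lam : B}

/-- the generator `t_{I∖J} ∇_J e` -/
noncomputable abbrev gen (nabla : E →ₗ[A] E ⊗[B] L) (ω : Module.Basis (Fin n) B L) (t : Fin n → B)
    (I J : Finset (Fin n)) (e : E) : E :=
  (∏ i ∈ I \ J, t i) • LogConn.compProd nabla ω J e

/-- the `B`-span of the generators of the piece -/
noncomputable def pieceB (nabla : E →ₗ[A] E ⊗[B] L) (ω : Module.Basis (Fin n) B L)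
    (t : Fin n → B) (I : Finset (Fin n)) : Submodule B E :=
  Submodule.span B {x | ∃ J, J ⊆ I ∧ ∃ e, x = gen nabla ω t I J e}

lemma gen_mem_pieceB {I J : Finset (Fin n)} (hJ : J ⊆ I) (e : E) :
    gen nabla ω t I J e ∈ pieceB nabla ω t I :=
  Submodule.subset_span ⟨J, hJ, e, rfl⟩

lemma gen_mem_piece {I J : Finset (Fin n)} (hJ : J ⊆ I) (e : E) :
    gen nabla ω t I J e ∈ LogConn.piece nabla ω t I := by
  refine Submodule.mem_iSup_of_mem J (Submodule.mem_iSup_of_mem (Finset.mem_powerset.mpr hJ) ?_)
  exact ⟨e, rfl⟩

lemma compProd_empty (e : E) : LogConn.compProd nabla ω ∅ e = e := by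
  simp [LogConn.compProd]

lemma compProd_insert_min {j : Fin n} {J : Finset (Fin n)} (h : ∀ x ∈ J, j < x) (e : E) :
    LogConn.compProd nabla ω (insert j J) e =
      LogConn.comp nabla ω j (LogConn.compProd nabla ω J e) := by
  have hj : j ∉ J := fun hm => lt_irrefl _ (h j hm)
  rw [LogConn.compProd, Finset.sort_insert (· ≤ ·) (fun b hb => le_of_lt (h b hb)) hj]
  rfl

lemma der_prod (C : Coord lam n t ω nabla) {j : Fin n} {K : Finset (Fin n)} (hj : j ∉ K) :
    C.der j (∏ i ∈ K, t i) = 0 := by
  classical
  induction K using Finset.induction_on with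
  | empty => simp
  | @insert a K ha ih =>
      rw [Finset.prod_insert ha, Derivation.leibniz,
        ih (fun h => hj (Finset.mem_insert_of_mem h)), C.der_t,
        if_neg (fun h : j = a => hj (h ▸ Finset.mem_insert_self a K))]
      simp

/-- the span of the lower generators -/
noncomputable def below (nabla : E →ₗ[A] E ⊗[B] L) (ω : Module.Basis (Fin n) B L)
    (t : Fin n → B) (J : Finset (Fin n)) (e : E) : Submodule B E :=
  Submodule.span B {x | ∃ J', J' ⊂ J ∧ x = gen nabla ω t J J' e}

lemma compProd_smul (C : Coord lam n t ω nabla) (J : Finset (Fin n)) (b : B) (e : E) :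
    LogConn.compProd nabla ω J (b • e) - b • LogConn.compProd nabla ω J e ∈
      below nabla ω t J e := by
  classical
  induction J using Finset.induction_on_min with
  | empty => simp [compProd_empty]
  | insert j J hjJ ih =>
      have hj : j ∉ J := fun hm => lt_irrefl _ (hjJ j hm)
      have key : ∀ r ∈ below nabla ω t J e, ∀ c : B,
          LogConn.comp nabla ω j (c • r) ∈ below nabla ω t (insert j J) e := by
        intro r hr
        induction hr using Submodule.span_induction with
        | mem r hr =>
            obtain ⟨J', hJ', rfl⟩ := hr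
            intro c
            have hjJ' : j ∉ J' := fun hm => hj (hJ'.subset hm)
            rw [gen, smul_smul, C.comp_smul, Derivation.leibniz,
              der_prod C (K := J \ J') (fun hm => hj (Finset.mem_sdiff.mp hm).1),
              smul_eq_mul, smul_eq_mul, mul_zero, zero_add]
            refine add_mem ?_ ?_
            · have e1 : (insert j J) \ (insert j J') = J \ J' := by
                ext a
                simp only [Finset.mem_sdiff, Finset.mem_insert]
                constructor
                · rintro ⟨h1, h2⟩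
                  exact ⟨h1.resolve_left (fun h => h2 (Or.inl h)), fun h => h2 (Or.inr h)⟩
                · rintro ⟨h1, h2⟩
                  exact ⟨Or.inr h1, fun h => h.elim (fun h => hj (h ▸ h1)) h2⟩
              rw [← compProd_insert_min (fun x hx => hjJ x (hJ'.subset hx)), mul_smul]
              refine Submodule.smul_mem _ _ (Submodule.subset_span ⟨insert j J', ?_, ?_⟩)
              · refine Finset.ssubset_iff_subset_ne.mpr
                  ⟨Finset.insert_subset_insert _ hJ'.subset, fun h => hJ'.ne ?_⟩
                have := congrArg (fun s => s.erase j) h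
                simpa [Finset.erase_insert hj, Finset.erase_insert hjJ'] using this
              · rw [gen, e1]
            · have e2 : (insert j J) \ J' = insert j (J \ J') := Finset.insert_sdiff_of_notMem _ hjJ'
              have e3 : (lam * (t j * ((∏ i ∈ J \ J', t i) * C.der j c))) •
                    LogConn.compProd nabla ω J' e =
                  (lam * C.der j c) • gen nabla ω t (insert j J) J' e := by
                rw [gen, e2, Finset.prod_insert (fun hm => hj (Finset.mem_sdiff.mp hm).1), smul_smul]
                congr 1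
                ring
              rw [e3]
              refine Submodule.smul_mem _ _ (Submodule.subset_span ⟨J', ?_, rfl⟩)
              exact lt_of_lt_of_le hJ' (Finset.subset_insert _ _)
        | zero => intro c; simp
        | add x y _ _ hx hy => intro c; rw [smul_add, map_add]; exact add_mem (hx c) (hy c)
        | smul a x _ hx => intro c; rw [smul_smul]; exact hx (c * a)
      have h1 := key _ ih 1
      rw [one_smul, map_sub, C.comp_smul, ← compProd_insert_min hjJ,
        ← compProd_insert_min hjJ] at h1
      have h2 : (lam * (t j * C.der j b)) • LogConn.compProd nabla ω J e ∈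
          below nabla ω t (insert j J) e := by
        have e4 : (lam * (t j * C.der j b)) • LogConn.compProd nabla ω J e =
            (lam * C.der j b) • gen nabla ω t (insert j J) J e := by
          have e5 : (insert j J) \ J = {j} := by
            rw [Finset.insert_sdiff_of_notMem _ hj, Finset.sdiff_self, insert_empty_eq]
          rw [gen, e5, Finset.prod_singleton, smul_smul]
          congr 1
          ring
        rw [e4]
        exact Submodule.smul_mem _ _ (Submodule.subset_span ⟨J, Finset.ssubset_insert hj, rfl⟩)
      convert add_mem h1 h2 using 1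
      abel

lemma pieceB_le_piece_aux (C : Coord lam n t ω nabla) (I : Finset (Fin n)) :
    ∀ J : Finset (Fin n), J ⊆ I → ∀ (b : B) (e : E),
      b • gen nabla ω t I J e ∈ LogConn.piece nabla ω t I := by
  intro J
  induction J using Finset.strongInduction with
  | _ J ih =>
      intro hJ b e
      have hlow : ∀ r ∈ below nabla ω t J e, ∀ c : B,
          c • ((∏ i ∈ I \ J, t i) • r) ∈ LogConn.piece nabla ω t I := by
        intro r hr
        induction hr using Submodule.span_induction with
        | mem r hr =>
            obtain ⟨J', hJ', rfl⟩ := hr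
            intro c
            have := ih J' hJ' (hJ'.subset.trans hJ) c e
            rwa [gen, smul_smul _ _ (LogConn.compProd nabla ω J' e),
              prod_sdiff_mul_prod_sdiff t hJ'.subset hJ]
        | zero => intro c; simp
        | add x y _ _ hx hy => intro c; rw [smul_add, smul_add]; exact add_mem (hx c) (hy c)
        | smul a x _ hx =>
            intro c
            have := hx (c * a)
            rwa [mul_smul, smul_comm a] at this
      have h := sub_mem (gen_mem_piece (nabla := nabla) (ω := ω) (t := t) hJ (b • e))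
        (hlow _ (compProd_smul C J b e) 1)
      rw [one_smul, smul_sub, sub_sub_cancel, smul_comm] at h
      exact h

lemma mem_piece_iff (C : Coord lam n t ω nabla) {I : Finset (Fin n)} {x : E} :
    x ∈ LogConn.piece nabla ω t I ↔ x ∈ pieceB nabla ω t I := by
  constructor
  · intro hx
    have hle : LogConn.piece nabla ω t I ≤ (pieceB nabla ω t I).restrictScalars A := by
      refine iSup₂_le fun J hJ => ?_
      rintro _ ⟨e, rfl⟩
      exact gen_mem_pieceB (Finset.mem_powerset.mp hJ) e
    exact hle hx
  · intro hx
    suffices h : ∀ c : B, c • x ∈ LogConn.piece nabla ω t I by simpa using h 1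
    induction hx using Submodule.span_induction with
    | mem r hr =>
        obtain ⟨J, hJ, e, rfl⟩ := hr
        intro c
        exact pieceB_le_piece_aux C I J hJ c e
    | zero => intro c; simp
    | add x y _ _ hx hy => intro c; rw [smul_add]; exact add_mem (hx c) (hy c)
    | smul a x _ hx => intro c; rw [smul_smul]; exact hx (c * a)

lemma piece_smul_mem (C : Coord lam n t ω nabla) {I : Finset (Fin n)} {x : E} (b : B)
    (hx : x ∈ LogConn.piece nabla ω t I) : b • x ∈ LogConn.piece nabla ω t I :=
  (mem_piece_iff C).mpr (Submodule.smul_mem _ b ((mem_piece_iff C).mp hx))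

lemma piece_eq_span (C : Coord lam n t ω nabla) {m : ℕ} (e : Fin m → E)
    (he : Submodule.span B (Set.range e) = ⊤) (I : Finset (Fin n)) :
    (Submodule.span B (⋃ J ∈ I.powerset, Set.range (fun k : Fin m =>
        gen nabla ω t I J (e k)))).restrictScalars A = LogConn.piece nabla ω t I := by
  set S := Submodule.span B (⋃ J ∈ I.powerset, Set.range (fun k : Fin m =>
        gen nabla ω t I J (e k))) with hS
  apply le_antisymm
  · intro x hx
    have hle : S ≤ pieceB nabla ω t I := by
      refine Submodule.span_le.mpr ?_
      intro y hy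
      simp only [Set.mem_iUnion, Set.mem_range] at hy
      obtain ⟨J, hJ, k, rfl⟩ := hy
      exact gen_mem_pieceB (Finset.mem_powerset.mp hJ) _
    exact (mem_piece_iff C).mpr (hle hx)
  · intro x hx
    have hall : ∀ x : E, ∀ J, J ⊆ I → gen nabla ω t I J x ∈ S := by
      intro x
      have hxe : x ∈ Submodule.span B (Set.range e) := by rw [he]; trivial
      induction hxe using Submodule.span_induction with
      | mem y hy =>
          obtain ⟨k, rfl⟩ := hy
          intro J hJ
          refine Submodule.subset_span ?_
          simp only [Set.mem_iUnion, Set.mem_range]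
          exact ⟨J, Finset.mem_powerset.mpr hJ, k, rfl⟩
      | zero => intro J hJ; simp [gen]
      | add x y _ _ hx hy =>
          intro J hJ
          rw [gen, map_add, smul_add]
          exact add_mem (hx J hJ) (hy J hJ)
      | smul a x _ hx =>
          intro J hJ
          have hlow : ∀ r ∈ below nabla ω t J x, (∏ i ∈ I \ J, t i) • r ∈ S := by
            intro r hr
            induction hr using Submodule.span_induction with
            | mem r hr =>
                obtain ⟨J', hJ', rfl⟩ := hr
                rw [gen, smul_smul, prod_sdiff_mul_prod_sdiff t hJ'.subset hJ]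
                exact hx J' (hJ'.subset.trans hJ)
            | zero => simp
            | add x y _ _ hx hy => rw [smul_add]; exact add_mem hx hy
            | smul b x _ hx => rw [smul_comm]; exact Submodule.smul_mem _ b hx
          have h := add_mem (hlow _ (compProd_smul C J a x)) (S.smul_mem a (hx J hJ))
          rw [smul_comm a, ← smul_add, sub_add_cancel] at h
          exact h
    have hle : pieceB nabla ω t I ≤ S := by
      refine Submodule.span_le.mpr ?_
      rintro _ ⟨J, hJ, y, rfl⟩
      exact hall y J hJ
    exact hle ((mem_piece_iff C).mp hx)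

/-- extending a piece by coefficients -/
lemma prod_smul_mem_pieceB {F K : Finset (Fin n)} (hFK : F ⊆ K) {x : E}
    (hx : x ∈ pieceB nabla ω t F) :
    (∏ i ∈ K \ F, t i) • x ∈ pieceB nabla ω t K := by
  induction hx using Submodule.span_induction with
  | mem r hr =>
      obtain ⟨J, hJ, e, rfl⟩ := hr
      rw [gen, smul_smul, prod_sdiff_mul_prod_sdiff t hJ hFK]
      exact gen_mem_pieceB (hJ.trans hFK) e
  | zero => simp
  | add x y _ _ hx hy => rw [smul_add]; exact add_mem hx hy
  | smul b x _ hx => rw [smul_comm]; exact Submodule.smul_mem _ b hx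

lemma compProd_mem_pieceB (I : Finset (Fin n)) (e : E) :
    LogConn.compProd nabla ω I e ∈ pieceB nabla ω t I := by
  have := gen_mem_pieceB (nabla := nabla) (ω := ω) (t := t) (subset_refl I) e
  simpa [gen] using this

lemma mem_layer_iff (C : Coord lam n t ω nabla) {p : ℕ} {x : E ⊗[B] ↥(⋀[B]^p L)} :
    x ∈ LogConn.layer nabla ω t p ↔ ∀ K : Set.powersetCard (Fin n) p,
      LogConn.coordE ω p K x ∈ pieceB nabla ω t (K : Finset (Fin n)) := by
  simp only [LogConn.layer, Submodule.mem_iInf, Submodule.mem_comap]
  exact forall_congr' fun K => mem_piece_iff C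

lemma layer_smul_mem (C : Coord lam n t ω nabla) {p : ℕ} {x : E ⊗[B] ↥(⋀[B]^p L)} (b : B)
    (hx : x ∈ LogConn.layer nabla ω t p) : b • x ∈ LogConn.layer nabla ω t p := by
  rw [mem_layer_iff C] at hx ⊢
  intro K
  rw [map_smul]
  exact Submodule.smul_mem _ b (hx K)

/-- The main coordinate estimate: the `k`-th factor may have an arbitrary coordinate only at the
`k`-th element of `I`; every other coordinate at `i` is a multiple of `t i`. -/
lemma tmul_ιMulti_mem_layer (C : Coord lam n t ω nabla) {p : ℕ} (I : Finset (Fin n))
    (y : E) (v : Fin p → L)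
    (hv : ∀ (k : Fin p) (i : Fin n),
      (∀ hk : k.val < I.card, i ≠ I.orderEmbOfFin rfl ⟨k.val, hk⟩) → t i ∣ ω.coord i (v k))
    (hy : (∀ F, F ⊆ I → y ∈ pieceB nabla ω t F) ∨ (y ∈ pieceB nabla ω t I ∧ I.card ≤ p ∧
      ∀ (k : Fin p) (hk : k.val < I.card) (i : Fin n),
        i ≠ I.orderEmbOfFin rfl ⟨k.val, hk⟩ → ω.coord i (v k) = 0)) :
    y ⊗ₜ[B] exteriorPower.ιMulti B p v ∈ LogConn.layer nabla ω t p := by
  classical
  rw [mem_layer_iff C]
  intro K
  rw [coordE_tmul, Matrix.det_apply, Finset.sum_smul]
  refine sum_mem fun σ _ => ?_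
  rw [Units.smul_def, smul_assoc]
  refine zsmul_mem ?_ _
  simp only [Matrix.of_apply]
  set f : Fin p → Fin n := fun j => Set.powersetCard.ofFinEmbEquiv.symm K j with hf
  have hinj : Function.Injective f := (Set.powersetCard.ofFinEmbEquiv.symm K).injective
  have hK : Finset.univ.image f = (K : Finset (Fin n)) := emb_image p K
  set a : Fin p → B := fun j => ω.coord (f j) (v (σ j)) with ha
  let cond : Fin p → Prop := fun j =>
    ∃ hk : (σ j).val < I.card, f j = I.orderEmbOfFin rfl ⟨(σ j).val, hk⟩
  set F : Finset (Fin n) := (Finset.univ.filter cond).image f with hF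
  have hFI : F ⊆ I := by
    intro i hi
    obtain ⟨j, hj, rfl⟩ := Finset.mem_image.mp hi
    obtain ⟨hk, he⟩ := (Finset.mem_filter.mp hj).2
    rw [he]
    exact Finset.orderEmbOfFin_mem _ _ _
  have hFK : F ⊆ (K : Finset (Fin n)) := by
    rw [← hK]
    exact Finset.image_subset_image (Finset.filter_subset _ _)
  have hdvd : (∏ i ∈ (K : Finset (Fin n)) \ F, t i) ∣ ∏ j, a j := by
    rw [prod_sdiff_eq_prod_ite t _ f hinj hK]
    refine Finset.prod_dvd_prod_of_dvd _ _ fun j _ => ?_
    by_cases hj : f j ∈ F
    · rw [if_pos hj]; exact one_dvd _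
    · rw [if_neg hj]
      refine hv _ _ fun hk he => hj ?_
      exact Finset.mem_image_of_mem f (Finset.mem_filter.mpr ⟨Finset.mem_univ _, hk, he⟩)
  show (∏ j, a j) • y ∈ _
  obtain ⟨c, hc⟩ := hdvd
  have hgood : y ∈ pieceB nabla ω t F → (∏ j, a j) • y ∈ pieceB nabla ω t (K : Finset (Fin n)) := by
    intro h
    rw [hc, mul_comm, mul_smul]
    exact Submodule.smul_mem _ c (prod_smul_mem_pieceB hFK h)
  rcases hy with hy | ⟨hyI, hle, hex⟩
  · exact hgood (hy F hFI)
  · by_cases hFeq : F = I
    · exact hgood (hFeq.symm ▸ hyI)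
    · obtain ⟨i, hiI, hiF⟩ : ∃ i ∈ I, i ∉ F := by
        by_contra! hcon
        exact hFeq (subset_antisymm hFI hcon)
      obtain ⟨⟨l, hl⟩, rfl⟩ : ∃ l, I.orderEmbOfFin rfl l = i := by
        have hi' := hiI
        rw [← Finset.mem_coe, ← Finset.range_orderEmbOfFin I rfl] at hi'
        exact hi'
      have hzero : ∏ j, a j = 0 := by
        refine Finset.prod_eq_zero (Finset.mem_univ (σ.symm ⟨l, hl.trans_le hle⟩)) ?_
        set j := σ.symm ⟨l, hl.trans_le hle⟩ with hj
        have hσ : σ j = ⟨l, hl.trans_le hle⟩ := Equiv.apply_symm_apply _ _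
        rw [ha]
        simp only
        rw [hσ]
        refine hex _ hl _ fun he => hiF ?_
        rw [← he]
        refine Finset.mem_image_of_mem f (Finset.mem_filter.mpr ⟨Finset.mem_univ _, ?_⟩)
        refine ⟨by rw [hσ]; exact hl, ?_⟩
        simp only [hσ]
        exact he
      rw [hzero, zero_smul]
      exact zero_mem _

/-- `⊆` of the generator description. -/
lemma gens_subset_layer (C : Coord lam n t ω nabla) {Ω : Type u} [AddCommGroup Ω] [Module B Ω]
    (ι : Ω →ₗ[B] L) (hι : ∀ (i : Fin n) (η : Ω), t i ∣ ω.coord i (ι η)) (p : ℕ)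
    {x : E ⊗[B] ↥(⋀[B]^p L)} (hx : x ∈ LogConn.gens nabla ω ι p) :
    x ∈ LogConn.layer nabla ω t p := by
  obtain ⟨I, hI, e, v, h1, h2, rfl⟩ := hx
  have hzero : ∀ (k : Fin p) (hk : k.val < I.card) (i : Fin n),
      i ≠ I.orderEmbOfFin rfl ⟨k.val, hk⟩ → ω.coord i (v k) = 0 := by
    intro k hk i hne
    rw [h1 k hk, Module.Basis.coord_apply, Module.Basis.repr_self, Finsupp.single_eq_of_ne hne]
  refine tmul_ιMulti_mem_layer C I _ v ?_ (Or.inr ⟨compProd_mem_pieceB I e, hI, hzero⟩)
  intro k i hk
  by_cases h : k.val < I.card
  · rw [hzero k h i (hk h)]; exact dvd_zero _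
  · obtain ⟨η, hη⟩ := h2 k (not_lt.mp h)
    rw [← hη]
    exact hι i η

/-- `⊇` of the generator description. -/
lemma layer_le_span_gens (C : Coord lam n t ω nabla) {Ω : Type u} [AddCommGroup Ω] [Module B Ω]
    (ι : Ω →ₗ[B] L) (hι : ∀ i : Fin n, t i • ω i ∈ LinearMap.range ι) (p : ℕ)
    {x : E ⊗[B] ↥(⋀[B]^p L)} (hx : x ∈ LogConn.layer nabla ω t p) :
    x ∈ Submodule.span B (LogConn.gens nabla ω ι p) := by
  classical
  have : Fintype (Set.powersetCard (Fin n) p) := Fintype.ofFinite _
  rw [← sum_coordE ω p x]
  refine sum_mem fun K _ => ?_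
  have hxK := (mem_layer_iff C).mp hx K
  generalize LogConn.coordE ω p K x = y at hxK
  induction hxK using Submodule.span_induction with
  | zero => rw [TensorProduct.zero_tmul]; exact zero_mem _
  | add a b _ _ ha hb => rw [TensorProduct.add_tmul]; exact add_mem ha hb
  | smul c a _ ha => rw [← TensorProduct.smul_tmul']; exact Submodule.smul_mem _ c ha
  | mem y hy =>
      obtain ⟨J, hJ, e, rfl⟩ := hy
      have hKc : (K : Finset (Fin n)).card = p := K.2
      have hle : J.card ≤ p := (Finset.card_le_card hJ).trans_eq hKc
      have hc : ((K : Finset (Fin n)) \ J).card = p - J.card := by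
        rw [Finset.card_sdiff_of_subset hJ, hKc]
      set e₁ := J.orderEmbOfFin rfl with he₁
      set e₂ := ((K : Finset (Fin n)) \ J).orderEmbOfFin hc with he₂
      let g : Fin p → Fin n := fun k =>
        if h : k.val < J.card then e₁ ⟨k.val, h⟩ else e₂ ⟨k.val - J.card, by omega⟩
      have hgJ : ∀ k, g k ∈ J ↔ k.val < J.card := by
        intro k
        by_cases h : k.val < J.card
        · simp only [g, dif_pos h, iff_true, h]
          exact Finset.orderEmbOfFin_mem _ _ _
        · simp only [g, dif_neg h, iff_false, h]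
          exact (Finset.mem_sdiff.mp (Finset.orderEmbOfFin_mem _ _ _)).2
      have hginj : Function.Injective g := by
        intro a b hab
        have hiff : a.val < J.card ↔ b.val < J.card := by rw [← hgJ, ← hgJ, hab]
        by_cases h : a.val < J.card
        · simp only [g, dif_pos h, dif_pos (hiff.mp h)] at hab
          exact Fin.ext (Fin.mk.inj_iff.mp (e₁.injective hab))
        · simp only [g, dif_neg h, dif_neg (fun hb => h (hiff.mpr hb))] at hab
          have := Fin.mk.inj_iff.mp (e₂.injective hab)
          have hb : ¬ b.val < J.card := fun hb => h (hiff.mpr hb)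
          exact Fin.ext (by omega)
      have hgK : Finset.univ.image g = (K : Finset (Fin n)) := by
        refine Finset.eq_of_subset_of_card_le ?_ ?_
        · intro i hi
          obtain ⟨k, -, rfl⟩ := Finset.mem_image.mp hi
          by_cases h : k.val < J.card
          · exact hJ ((hgJ k).mpr h)
          · simp only [g, dif_neg h]
            exact Finset.sdiff_subset (Finset.orderEmbOfFin_mem _ _ _)
        · rw [Finset.card_image_of_injective _ hginj, hKc, Finset.card_univ, Fintype.card_fin]
      set f : Fin p → Fin n := fun j => Set.powersetCard.ofFinEmbEquiv.symm K j with hf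
      have hfK : Finset.univ.image f = (K : Finset (Fin n)) := emb_image p K
      have hgf : ∀ k, ∃ j, f j = g k := by
        intro k
        have : g k ∈ Finset.univ.image f := by
          rw [hfK, ← hgK]
          exact Finset.mem_image_of_mem g (Finset.mem_univ k)
        obtain ⟨j, -, hj⟩ := Finset.mem_image.mp this
        exact ⟨j, hj⟩
      choose s hs using hgf
      have hsbij : Function.Bijective s :=
        (Finite.injective_iff_bijective).mp fun a b h => hginj (by rw [← hs a, ← hs b, h])
      let σ : Equiv.Perm (Fin p) := Equiv.ofBijective s hsbij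
      let v : Fin p → L := fun k => (if g k ∈ J then (1 : B) else t (g k)) • ω (g k)
      have hv : exteriorPower.ιMulti B p v =
          (∏ i ∈ (K : Finset (Fin n)) \ J, t i) •
            exteriorPower.ιMulti B p (fun k => ω (g k)) := by
        rw [prod_sdiff_eq_prod_ite t _ g hginj hgK J]
        exact (exteriorPower.ιMulti B p).toMultilinearMap.map_smul_univ _ _
      have hperm : exteriorPower.ιMulti B p (fun k => ω (g k)) =
          Equiv.Perm.sign σ • ω.exteriorPower p K := by
        rw [basis_eq_ιMulti]
        have : (fun k => ω (g k)) = (fun j => ω (f j)) ∘ σ := by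
          funext k
          simp [σ, hs]
        rw [this, AlternatingMap.map_perm]
      have hmem : LogConn.compProd nabla ω J e ⊗ₜ[B] exteriorPower.ιMulti B p v ∈
          LogConn.gens nabla ω ι p := by
        refine ⟨J, hle, e, v, ?_, ?_, rfl⟩
        · intro k hk
          simp only [v, if_pos ((hgJ k).mpr hk), one_smul]
          simp only [g, dif_pos hk, he₁]
        · intro k hk
          simp only [v, if_neg (fun h => absurd ((hgJ k).mp h) (not_lt.mpr hk))]
          exact hι _
      have h := Submodule.smul_mem _ ((Equiv.Perm.sign σ : ℤˣ) : B) (Submodule.subset_span hmem)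
      rw [hv, hperm, Units.smul_def, ← Int.cast_smul_eq_zsmul B, ← TensorProduct.tmul_smul,
        smul_comm, smul_smul ((Equiv.Perm.sign σ : ℤˣ) : B), ← Int.cast_mul, ← Units.val_mul,
        Int.units_mul_self, Units.val_one, Int.cast_one, one_smul, TensorProduct.tmul_smul,
        TensorProduct.smul_tmul'] at h
      exact h

lemma span_gens_eq_layer (C : Coord lam n t ω nabla) {Ω : Type u} [AddCommGroup Ω] [Module B Ω]
    (ι : Ω →ₗ[B] L) (hι : ∀ (i : Fin n) (η : Ω), t i ∣ ω.coord i (ι η))
    (hι' : ∀ i : Fin n, t i • ω i ∈ LinearMap.range ι) (p : ℕ) :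
    (Submodule.span B (LogConn.gens nabla ω ι p)).restrictScalars A =
      LogConn.layer nabla ω t p := by
  refine le_antisymm ?_ fun x hx => layer_le_span_gens C ι hι' p hx
  intro x hx
  rw [Submodule.restrictScalars_mem] at hx
  suffices h : ∀ c : B, c • x ∈ LogConn.layer nabla ω t p by simpa using h 1
  induction hx using Submodule.span_induction with
  | mem r hr => intro c; exact layer_smul_mem C c (gens_subset_layer C ι hι p hr)
  | zero => intro c; simp
  | add x y _ _ hx hy => intro c; rw [smul_add]; exact add_mem (hx c) (hy c)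
  | smul a x _ hx => intro c; rw [smul_smul]; exact hx (c * a)

end Groth.Agent.Synt29.LogLam
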