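import Groth.Agent.Synt29.SplitLift
import Groth.Agent.Synt29.ArtinLift
import Groth.Agent.CotTLib.SmoothField
import Groth.Agent.LC.GorRows
import Groth.Agent.LC.GorHull
import Groth.Agent.S14424
import Groth.Agent.Alg6.AssDepth

/-!
Determinantal resolutions over Artinian local bases.
-/

universe u

open Matrix

set_option linter.style.haveILetI false

namespace Groth.Agent.Synt29.MinorsLift

/-- The signed maximal minors. -/
def minors {A : Type*} [CommRing A] {r : ℕ} (φ : Matrix (Fin (r + 1)) (Fin r) A) : Fin (r + 1) → A :=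
  fun i => (-1 : A) ^ (i : ℕ) * (φ.submatrix i.succAbove id).det

theorem minors_map {A B : Type*} [CommRing A] [CommRing B] (π : A →+* B) {r : ℕ}
    (φ : Matrix (Fin (r + 1)) (Fin r) A) (i : Fin (r + 1)) : π (minors φ i) = minors (φ.map π) i := by
  simp only [minors, map_mul, map_pow, map_neg, map_one, RingHom.map_det, RingHom.mapMatrix_apply]
  rfl

/-- Cramer: the minors annihilate the columns. -/
theorem minors_dot_col {A : Type*} [CommRing A] {r : ℕ} (φ : Matrix (Fin (r + 1)) (Fin r) A) (j : Fin r) :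
    ∑ i, minors φ i * φ i j = 0 := by
  let M : Matrix (Fin (r + 1)) (Fin (r + 1)) A := Matrix.of fun i => Fin.cons (φ i j) (φ i)
  have h1 : M.det = 0 := Matrix.det_zero_of_column_eq (Fin.succ_ne_zero j).symm (fun i => by simp [M])
  rw [Matrix.det_succ_column_zero] at h1
  refine Eq.trans (Finset.sum_congr rfl fun i _ => ?_) h1
  have h2 : M.submatrix i.succAbove Fin.succ = φ.submatrix i.succAbove id := by
    ext a b; simp [M]
  rw [h2]
  simp [M, minors]
  ring

theorem minors_dot_mulVec {A : Type*} [CommRing A] {r : ℕ} (φ : Matrix (Fin (r + 1)) (Fin r) A) (x : Fin r → A) :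
    ∑ i, minors φ i * (φ *ᵥ x) i = 0 := by
  simp only [Matrix.mulVec, dotProduct, Finset.mul_sum]
  rw [Finset.sum_comm]
  refine Finset.sum_eq_zero fun j _ => ?_
  rw [Finset.sum_congr rfl fun i _ => (mul_assoc _ _ _).symm, ← Finset.sum_mul, minors_dot_col, zero_mul]

theorem linearCombination_eq {A : Type*} [CommRing A] {n : ℕ} (d : Fin n → A) (y : Fin n → A) :
    Fintype.linearCombination A d y = ∑ i, d i * y i := by
  simp [Fintype.linearCombination_apply, mul_comm]

/-- A row killing the syzygies of minors with a regular pair is a multiple of them. -/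
theorem exists_eq_mul_of_vecMul_eq_zero {A : Type*} [CommRing A] {r : ℕ} (φ : Matrix (Fin (r + 1)) (Fin r) A)
    (hex : ∀ z : Fin (r + 1) → A, ∑ i, minors φ i * z i = 0 → ∃ x, φ *ᵥ x = z)
    {x y : A} (hx : x ∈ Ideal.span (Set.range (minors φ))) (hy : y ∈ Ideal.span (Set.range (minors φ)))
    (hxr : IsSMulRegular A x) (hyr : ∀ b, x ∣ y * b → x ∣ b)
    (v : Fin (r + 1) → A) (hv : v ᵥ* φ = 0) : ∃ a, ∀ i, v i = a * minors φ i := by
  have hkill : ∀ z : Fin (r + 1) → A, ∑ i, minors φ i * z i = 0 → ∑ i, v i * z i = 0 := fun z hz => by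
    obtain ⟨w, rfl⟩ := hex z hz
    show v ⬝ᵥ φ *ᵥ w = 0
    rw [Matrix.dotProduct_mulVec, hv, zero_dotProduct]
  obtain ⟨c, rfl⟩ := Ideal.mem_span_range_iff_exists_fun.1 hx
  obtain ⟨e, rfl⟩ := Ideal.mem_span_range_iff_exists_fun.1 hy
  have key : ∀ (c : Fin (r + 1) → A) (i : Fin (r + 1)),
      (∑ l, c l * minors φ l) * v i = minors φ i * ∑ l, v l * c l := fun c i => by
    classical
    have h := hkill (fun l => (∑ m, c m * minors φ m) * (if l = i then 1 else 0) - minors φ i * c l) (by
      simp [mul_sub, Finset.sum_sub_distrib]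
      rw [sub_eq_zero, Finset.mul_sum]
      exact Finset.sum_congr rfl fun l _ => by ring)
    simp [mul_sub, Finset.sum_sub_distrib] at h
    rw [sub_eq_zero] at h
    rw [mul_comm _ (v i), h, Finset.mul_sum]
    exact Finset.sum_congr rfl fun l _ => by ring
  set x := ∑ l, c l * minors φ l
  set y := ∑ l, e l * minors φ l
  have hxy : x * (∑ l, v l * e l) = y * (∑ l, v l * c l) := by
    simp only [Finset.mul_sum]
    calc ∑ l, x * (v l * e l) = ∑ l, e l * (x * v l) := Finset.sum_congr rfl fun l _ => by ring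
      _ = ∑ l, e l * (minors φ l * ∑ m, v m * c m) := Finset.sum_congr rfl fun l _ => by rw [key c l]
      _ = _ := by
        rw [← Finset.mul_sum]
        simp only [← mul_assoc, ← Finset.sum_mul]
        rfl
  obtain ⟨a, ha⟩ := hyr _ ⟨_, hxy.symm⟩
  refine ⟨a, fun i => hxr ?_⟩
  show x * v i = x * (a * minors φ i)
  rw [key c i, ha]
  ring

/-- A regular pair in an ideal of height two of a smooth algebra over a field. -/
theorem exists_regular_pair {k A : Type u} [Field k] [CommRing A] [Algebra k A] [Algebra.Smooth k A] (I : Ideal A)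
    (h : ∀ p : Ideal A, p.IsPrime → I ≤ p → (2 : ℕ∞) ≤ p.height) :
    ∃ x ∈ I, ∃ y ∈ I, IsSMulRegular A x ∧ ∀ b, x ∣ y * b → x ∣ b := by
  by_cases hI : I = ⊤
  · subst hI
    exact ⟨1, trivial, 1, trivial, IsSMulRegular.one A, fun b hb => by rwa [one_mul] at hb⟩
  haveI : IsNoetherianRing A := Algebra.FiniteType.isNoetherianRing k A
  haveI : LocCoh.IsCohenMacaulayRing A := by
    refine { isCohenMacaulayLocalRing_localization := fun p _ => ?_ }
    haveI : Algebra.IsSmoothAt k p :=
      Algebra.FormallySmooth.comp k A (Localization.AtPrime p)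
    haveI := Groth.Agent.CotTLib.isRegularLocalRing_of_isSmoothAt (k := k) p
    haveI := Groth.Agent.LC.gorenstein_of_isRegularLocalRing (R := Localization.AtPrime p)
    exact Groth.Agent.LC.isCohenMacaulayLocalRing_of_gorenstein
  have h2 : (2 : ℕ∞) ≤ LocCoh.idealDepth I A := by
    rw [(Groth.Agent.S14424.result A).1 inferInstance I hI, Ideal.height_eq_inf_minimalPrimes I]
    exact le_iInf₂ fun J hJ => h J hJ.1.1 hJ.1.2
  obtain ⟨rs, hrs, hmem, hlen⟩ := Groth.Agent.Alg6.exists_length_ge_of_le_idealDepth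
    (M := A) (I := I) (by rwa [Ideal.smul_eq_mul, Ideal.mul_top]) (n := 2) (by exact_mod_cast h2)
  match rs, hlen with
  | x :: y :: rest, _ =>
    obtain ⟨hx, hrest⟩ := (RingTheory.Sequence.isWeaklyRegular_cons_iff A x (y :: rest)).1 hrs
    obtain ⟨hy, -⟩ := (RingTheory.Sequence.isWeaklyRegular_cons_iff _ y rest).1 hrest
    refine ⟨x, hmem _ (by simp), y, hmem _ (by simp), hx, fun b hb => ?_⟩
    have hmemiff : ∀ z : A, (Submodule.Quotient.mk z : QuotSMulTop x A) = 0 ↔ x ∣ z := fun z => by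
      rw [Submodule.Quotient.mk_eq_zero, Submodule.mem_smul_pointwise_iff_exists]
      exact ⟨fun ⟨w, _, hw⟩ => ⟨w, hw.symm⟩, fun ⟨w, hw⟩ => ⟨w, trivial, hw.symm⟩⟩
    rw [← hmemiff]
    refine hy ?_
    show y • (Submodule.Quotient.mk b : QuotSMulTop x A) = y • 0
    rw [smul_zero, ← Submodule.Quotient.mk_smul, hmemiff]
    exact hb

section Artin

variable {C A : Type u} [CommRing C] [IsLocalRing C] [IsArtinianRing C] [CommRing A] [Algebra C A]

local notation "M" => Ideal.map (algebraMap C A) (IsLocalRing.maximalIdeal C)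

theorem mem_pi_smul_top {n : ℕ} (x : Fin n → A) :
    x ∈ (IsLocalRing.maximalIdeal C • ⊤ : Submodule C (Fin n → A)) ↔ ∀ i, x i ∈ M := by
  have h1 : ∀ a : A, a ∈ (IsLocalRing.maximalIdeal C • ⊤ : Submodule C A) ↔ a ∈ M := fun a => by
    rw [Ideal.smul_top_eq_map]
    rfl
  refine ⟨fun h i => (h1 _).1 (SplitLift.smul_top_le_comap _ (LinearMap.proj (R := C) (φ := fun _ : Fin n => A) i) h), fun h => ?_⟩
  classical
  have hx : x = ∑ i, LinearMap.single C (fun _ : Fin n => A) i (x i) := (Finset.univ_sum_single x).symm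
  rw [hx]
  exact Submodule.sum_mem _ fun i _ => SplitLift.smul_top_le_comap _ (LinearMap.single C (fun _ : Fin n => A) i) ((h1 _).2 (h i))

/-- The conditions of exactness on the special fibre. -/
structure SpecialExact {r : ℕ} (φ : Matrix (Fin (r + 1)) (Fin r) A) : Prop where
  inj : ∀ x : Fin r → A, (∀ i, (φ *ᵥ x) i ∈ M) → ∀ j, x j ∈ M
  exact : ∀ z : Fin (r + 1) → A, ∑ i, minors φ i * z i ∈ M → ∃ x, ∀ i, z i - (φ *ᵥ x) i ∈ M

variable [Module.Flat C A]

instance flat_pi (n : ℕ) : Module.Flat C (Fin n → A) :=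
  haveI := Groth.Agent.AffDefLib.free_of_flat_artinian (R := C) A
  inferInstance

/-- A determinantal complex exact on the special fibre is exact, with flat cokernel. -/
theorem exact_of_special {r : ℕ} (φ : Matrix (Fin (r + 1)) (Fin r) A) (h : SpecialExact (C := C) φ) :
    Function.Injective φ.mulVecLin ∧
      LinearMap.range φ.mulVecLin = LinearMap.ker (Fintype.linearCombination A (minors φ)) ∧
      Module.Flat C (A ⧸ Ideal.span (Set.range (minors φ))) := by
  obtain ⟨hi, hex, hfl⟩ := SplitLift.exact_and_flat (φ.mulVecLin.restrictScalars C)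
    ((Fintype.linearCombination A (minors φ)).restrictScalars C) (fun x => by
      show Fintype.linearCombination A (minors φ) (φ *ᵥ x) = 0
      rw [linearCombination_eq]
      exact minors_dot_mulVec φ x)
    (fun x hx => (mem_pi_smul_top x).2 (h.inj x ((mem_pi_smul_top _).1 hx)))
    (fun z hz => by
      rw [Ideal.smul_top_eq_map] at hz
      have hz' : ∑ i, minors φ i * z i ∈ M := by
        rw [← linearCombination_eq]
        exact hz
      obtain ⟨x, hx⟩ := h.exact z hz'
      exact ⟨x, (mem_pi_smul_top _).2 hx⟩)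
  refine ⟨hi, le_antisymm ?_ fun z hz => ?_, ?_⟩
  · rintro _ ⟨x, rfl⟩
    rw [LinearMap.mem_ker, linearCombination_eq]
    exact minors_dot_mulVec φ x
  · obtain ⟨x, hx⟩ := hex z hz
    exact ⟨x, hx⟩
  · have he : LinearMap.range ((Fintype.linearCombination A (minors φ)).restrictScalars C) =
        (Ideal.span (Set.range (minors φ))).restrictScalars C := by
      rw [LinearMap.range_restrictScalars, Fintype.range_linearCombination A (minors φ)]
    exact Module.Flat.of_linearEquiv ((Submodule.quotEquivOfEq _ _ he).trans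
      (Submodule.Quotient.restrictScalarsEquiv C (Ideal.span (Set.range (minors φ))))).symm

/-- A flat ideal with the same special fibre as a determinantal one is determinantal. -/
theorem exists_lift_matrix [Algebra.Smooth (C ⧸ IsLocalRing.maximalIdeal C) (A ⧸ M)]
    (J : Ideal C) (hJm : J ≤ IsLocalRing.maximalIdeal C) {r : ℕ} (φ₀ : Matrix (Fin (r + 1)) (Fin r) A)
    (hsp : SpecialExact (C := C) φ₀)
    (hcodim : ∀ p : Ideal (A ⧸ M), p.IsPrime →
      (Ideal.span (Set.range (minors φ₀))).map (Ideal.Quotient.mk M) ≤ p → (2 : ℕ∞) ≤ p.height)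
    (I : Ideal A) [Module.Flat C (A ⧸ I)]
    (hI : I.map (Ideal.Quotient.mk (J.map (algebraMap C A))) =
      (Ideal.span (Set.range (minors φ₀))).map (Ideal.Quotient.mk (J.map (algebraMap C A)))) :
    ∃ φ : Matrix (Fin (r + 1)) (Fin r) A, (∀ i j, φ i j - φ₀ i j ∈ J.map (algebraMap C A)) ∧
      Ideal.span (Set.range (minors φ)) = I ∧ SpecialExact (C := C) φ := by
  set JA := J.map (algebraMap C A) with hJA
  have hJM : JA ≤ M := Ideal.map_mono hJm
  obtain ⟨t, ht⟩ := (isArtinianRing_iff_isNilpotent_maximalIdeal C).1 inferInstance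
  have hJnil : IsNilpotent J := ⟨t, le_bot_iff.1 ((Ideal.pow_right_mono hJm t).trans ht.le)⟩
  -- lifts of the minors inside I
  have hg : ∀ i, ∃ g ∈ I, g - minors φ₀ i ∈ JA := fun i => by
    obtain ⟨g, hg, hgi⟩ := (Ideal.mem_map_iff_of_surjective _ Ideal.Quotient.mk_surjective).1
      (hI ▸ Ideal.mem_map_of_mem (Ideal.Quotient.mk JA) (Ideal.subset_span ⟨i, rfl⟩) :
        Ideal.Quotient.mk JA (minors φ₀ i) ∈ I.map (Ideal.Quotient.mk JA))
    exact ⟨g, hg, Ideal.Quotient.eq.1 hgi⟩
  choose g hgI hgJ using hg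
  have hgspan : Ideal.span (Set.range g) = I := by
    refine ArtinLift.eq_of_map_eq J hJnil I _ (Ideal.span_le.2 (by rintro _ ⟨i, rfl⟩; exact hgI i)) ?_
    rw [hI, Ideal.map_span, Ideal.map_span, ← Set.range_comp, ← Set.range_comp]
    refine le_of_eq (congrArg (fun F => Ideal.span (Set.range F)) (funext fun i => ?_))
    exact (Ideal.Quotient.eq.2 (hgJ i)).symm
  -- relations
  have hcol : ∀ j, ∃ v : Fin (r + 1) → A, (∀ i, v i - φ₀ i j ∈ JA) ∧ ∑ i, g i * v i = 0 := fun j => by
    have hs : ∑ i, g i * φ₀ i j ∈ JA * I := by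
      refine ArtinLift.inf_le_mul J I ⟨?_, Ideal.sum_mem _ fun i _ => I.mul_mem_right _ (hgI i)⟩
      have h0 := minors_dot_col φ₀ j
      rw [← sub_zero (∑ i, g i * φ₀ i j), ← h0, ← Finset.sum_sub_distrib]
      exact Ideal.sum_mem _ fun i _ => by rw [← sub_mul]; exact JA.mul_mem_right _ (hgJ i)
    have hs' : ∃ c : Fin (r + 1) → A, (∀ i, c i ∈ JA) ∧ ∑ i, c i * g i = ∑ i, g i * φ₀ i j := by
      rw [← hgspan, ← smul_eq_mul] at hs
      obtain ⟨c, hc, he⟩ := (Submodule.mem_ideal_smul_span_iff_exists_sum JA g _).1 hs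
      refine ⟨c, hc, ?_⟩
      rw [← he, Finsupp.sum_fintype _ _ (fun i => zero_smul A (g i))]
      simp only [smul_eq_mul]
    obtain ⟨c, hc, he⟩ := hs'
    refine ⟨fun i => φ₀ i j - c i, fun i => by simpa using JA.neg_mem (hc i), ?_⟩
    simp only [mul_sub, Finset.sum_sub_distrib, ← he]
    rw [sub_eq_zero]
    exact Finset.sum_congr rfl fun i _ => mul_comm _ _
  choose v hvJ hv0 using hcol
  let φ : Matrix (Fin (r + 1)) (Fin r) A := Matrix.of fun i j => v j i
  have hφJ : ∀ i j, φ i j - φ₀ i j ∈ JA := fun i j => hvJ j i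
  have hmap : ∀ (π : A →+* A ⧸ M), π = Ideal.Quotient.mk M → φ.map π = φ₀.map π := fun π hπ => by
    subst hπ
    ext i j
    exact Ideal.Quotient.eq.2 (hJM (hφJ i j))
  have hmvec : ∀ x i, (φ *ᵥ x) i - (φ₀ *ᵥ x) i ∈ M := fun x i => by
    simp only [Matrix.mulVec, dotProduct, ← Finset.sum_sub_distrib, ← sub_mul]
    exact Ideal.sum_mem _ fun j _ => Ideal.mul_mem_right _ _ (hJM (hφJ i j))
  have hminM : ∀ i, minors φ i - minors φ₀ i ∈ M := fun i => by
    rw [← Ideal.Quotient.eq, minors_map, minors_map, hmap _ rfl]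
  have hspφ : SpecialExact (C := C) φ := by
    refine ⟨fun x hx => hsp.inj x fun i => ?_, fun z hz => ?_⟩
    · have := (M).sub_mem (hx i) (hmvec x i)
      rwa [sub_sub_cancel] at this
    · obtain ⟨x, hx⟩ := hsp.exact z (by
        have := (M).sub_mem hz (Ideal.sum_mem (M) fun i (_ : i ∈ Finset.univ) => Ideal.mul_mem_right (z i) _ (hminM i))
        rw [← Finset.sum_sub_distrib] at this
        simpa [← sub_mul, sub_sub_cancel] using this)
      refine ⟨x, fun i => ?_⟩
      have := (M).sub_mem (hx i) (hmvec x i)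
      rwa [sub_sub_sub_cancel_right] at this
  refine ⟨φ, hφJ, ?_, hspφ⟩
  -- the dual complex on the special fibre
  letI : Field (C ⧸ IsLocalRing.maximalIdeal C) := Ideal.Quotient.field _
  set π := Ideal.Quotient.mk (M) with hπ
  let ψ := φ.map π
  have hmin : ∀ i, π (minors φ i) = minors ψ i := minors_map π φ
  have hspan0 : (Ideal.span (Set.range (minors φ₀))).map π = Ideal.span (Set.range (minors ψ)) := by
    rw [Ideal.map_span, ← Set.range_comp]
    refine congrArg (fun F => Ideal.span (Set.range F)) (funext fun i => ?_)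
    rw [Function.comp_apply, ← hmin]
    exact (Ideal.Quotient.eq.2 (hminM i)).symm
  obtain ⟨x, hx, y, hy, hxr, hyr⟩ := exists_regular_pair (k := C ⧸ IsLocalRing.maximalIdeal C)
    (Ideal.span (Set.range (minors ψ))) (fun p hp hle => hcodim p hp (hspan0.le.trans hle))
  have hψex : ∀ z : Fin (r + 1) → A ⧸ M, ∑ i, minors ψ i * z i = 0 → ∃ w, ψ *ᵥ w = z := fun z hz => by
    choose z' hz' using fun i => Ideal.Quotient.mk_surjective (z i)
    obtain ⟨w, hw⟩ := hspφ.exact z' (by
      rw [← Ideal.Quotient.eq_zero_iff_mem, ← hπ, map_sum, ← hz]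
      exact Finset.sum_congr rfl fun i _ => by rw [map_mul, hmin, hπ, hz'])
    refine ⟨fun j => π (w j), funext fun i => ?_⟩
    rw [← hz' i, eq_comm]
    refine (Ideal.Quotient.eq.2 (hw i)).trans ?_
    rw [RingHom.map_mulVec]
    rfl
  have hdual : ∀ v : Fin (r + 1) → A, (∀ j, ∑ i, v i * φ i j ∈ M) → ∃ a, ∀ i, v i - a * minors φ i ∈ M :=
    fun v hv => by
      obtain ⟨a, ha⟩ := exists_eq_mul_of_vecMul_eq_zero ψ hψex hx hy hxr hyr (fun i => π (v i)) (funext fun j => by
        simp only [Matrix.vecMul, dotProduct, ψ, Matrix.map_apply, ← map_mul, ← map_sum, Pi.zero_apply]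
        exact Ideal.Quotient.eq_zero_iff_mem.2 (hv j))
      obtain ⟨a, rfl⟩ := Ideal.Quotient.mk_surjective a
      refine ⟨a, fun i => ?_⟩
      rw [← Ideal.Quotient.eq, map_mul, ← hπ, hmin]
      exact ha i
  have hregM : ∀ a : A, (∀ i, a * minors φ i ∈ M) → a ∈ M := fun a ha => by
    rw [← Ideal.Quotient.eq_zero_iff_mem, ← hπ]
    obtain ⟨c, rfl⟩ := Ideal.mem_span_range_iff_exists_fun.1 hx
    refine hxr ?_
    show (∑ i, c i * minors ψ i) * π a = (∑ i, c i * minors ψ i) * 0
    rw [mul_zero, Finset.sum_mul]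
    refine Finset.sum_eq_zero fun i _ => ?_
    rw [mul_assoc, ← hmin, ← map_mul, Ideal.Quotient.eq_zero_iff_mem.2 (by rw [mul_comm]; exact ha i), mul_zero]
  let δ : A →ₗ[A] Fin (r + 1) → A := LinearMap.toSpanSingleton A _ (minors φ)
  obtain ⟨-, hex, -⟩ := SplitLift.exact_and_flat (δ.restrictScalars C) (φ.transpose.mulVecLin.restrictScalars C)
    (fun a => funext fun j => by
      show (φ.transpose *ᵥ (a • minors φ)) j = 0
      simp only [Matrix.mulVec, dotProduct, Matrix.transpose_apply, Pi.smul_apply, smul_eq_mul]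
      rw [← mul_zero a, ← minors_dot_col φ j, Finset.mul_sum]
      exact Finset.sum_congr rfl fun i _ => by ring)
    (fun a ha => by
      rw [Ideal.smul_top_eq_map]
      exact hregM a fun i => (mem_pi_smul_top _).1 ha i)
    (fun z hz => by
      obtain ⟨a, ha⟩ := hdual z (fun j => by
        have := (mem_pi_smul_top _).1 hz j
        show ∑ i, z i * φ i j ∈ _
        rw [show ∑ i, z i * φ i j = (φ.transpose *ᵥ z) j from Finset.sum_congr rfl fun i _ => mul_comm _ _]
        exact this)
      exact ⟨a, (mem_pi_smul_top _).2 ha⟩)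
  obtain ⟨a, ha⟩ := hex g (funext fun j => by
    show (φ.transpose *ᵥ g) j = 0
    simp only [Matrix.mulVec, dotProduct, Matrix.transpose_apply, φ, Matrix.of_apply]
    rw [← hv0 j]
    exact Finset.sum_congr rfl fun i _ => mul_comm _ _)
  have hga : ∀ i, g i = a * minors φ i := fun i => (congrFun ha i).symm
  have hu : IsUnit a := by
    have hm : a - 1 ∈ M := hregM _ fun i => by
      rw [sub_mul, one_mul, ← hga]
      have := (M).sub_mem (hJM (hgJ i)) (hminM i)
      rwa [sub_sub_sub_cancel_right] at this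
    have hnil : IsNilpotent (a - 1) := ⟨t, by
      have h := Ideal.pow_mem_pow hm t
      rwa [← Ideal.map_pow, ht, Ideal.zero_eq_bot, Ideal.map_bot, Ideal.mem_bot] at h⟩
    simpa using hnil.isUnit_add_one
  rw [← hgspan, show g = fun i => a * minors φ i from funext hga]
  refine le_antisymm (Ideal.span_le.2 ?_) (Ideal.span_le.2 ?_)
  · rintro _ ⟨i, rfl⟩
    obtain ⟨u, rfl⟩ := hu
    have : minors φ i = ↑u⁻¹ * (↑u * minors φ i) := by rw [← mul_assoc, Units.inv_mul, one_mul]
    rw [this]
    exact Ideal.mul_mem_left _ _ (Ideal.subset_span ⟨i, rfl⟩)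
  · rintro _ ⟨i, rfl⟩
    exact Ideal.mul_mem_left _ _ (Ideal.subset_span ⟨i, rfl⟩)

end Artin

end Groth.Agent.Synt29.MinorsLift
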