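import Groth.Agent.H23.DiagReg
import Groth.Agent.KRegLib.Closed
import Groth.Agent.H28.PBSect
import Groth.Agent.CurveCohLib.SubBundle
import Groth.Agent.SeesawX.PnProps
import Groth.Agent.S10829
import Groth.Agent.H28.QProjEnough
import Groth.Agent.SeesawX.PnFibre

/-!
# Finite sets of closed points of a smooth variety, as regular centres
-/

set_option autoImplicit false
set_option linter.style.haveILetI false
set_option linter.unusedSectionVars false
set_option backward.isDefEq.respectTransparency false
set_option backward.isDefEq.respectTransparency.types false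
set_option maxHeartbeats 1000000

universe u

open AlgebraicGeometry CategoryTheory CategoryTheory.Limits TopologicalSpace RingTheory.Sequence

noncomputable section

namespace Groth.Agent.Synt29.PointsReg

open Groth.Agent

variable {K : Type u} [Field K] {X Z : Scheme.{u}} (f : X ⟶ Spec (CommRingCat.of K))

theorem isField_stalk [IsReduced Z] [DiscreteTopology Z] (z : Z) : IsField (Z.presheaf.stalk z) := by
  have h := (CurveCohLib.ringKrullDim_stalk_le_topologicalKrullDim z).trans
    (topologicalKrullDim_zero_of_discreteTopology Z)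
  haveI : Ring.KrullDimLE 0 (Z.presheaf.stalk z) := Ring.krullDimLE_iff.2 (by simpa using h)
  exact Ring.KrullDimLE.isField_of_isReduced

/-- A reduced finite set of closed points in a smooth variety of dimension `n` is cut out by regular sequences
of length `n`. -/
theorem exists_seq [Smooth f] [IsIntegral X] {n : ℕ} (hn : topologicalKrullDim X = n) (i : Z ⟶ X)
    [IsClosedImmersion i] [IsReduced Z] [DiscreteTopology Z] (z : Z) :
    ∃ (U : X.Opens) (hU : IsAffineOpen U) (_ : i z ∈ U) (rs : List Γ(X, U)), rs.length = n ∧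
      IsRegular Γ(X, U) rs ∧ i.ker.ideal ⟨U, hU⟩ = Ideal.ofList rs := by
  haveI : IsLocallyNoetherian X := LocallyOfFiniteType.isLocallyNoetherian f
  haveI : IsLocallyNoetherian Z := LocallyOfFiniteType.isLocallyNoetherian i
  have hz : IsClosed ({i z} : Set X) := by
    have := i.isClosedEmbedding.isClosedMap _ (isClosed_discrete ({z} : Set Z))
    rwa [Set.image_singleton] at this
  obtain ⟨D, hD, hzD, -⟩ := exists_isAffineOpen_mem_and_subset (x := i z) (U := ⊤) trivial
  obtain ⟨hD', hDs⟩ := Synt29.surjective_app_of_isClosedImmersion_restrict i D hD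
  haveI := KRegLib.isRegularRing_sections (X := X)
    (fun q => GrpSchLib.isRegularLocalRing_stalk_of_smooth f q) hD
  haveI := KRegLib.isRegularRing_sections (X := Z) (fun q => by
    letI := (isField_stalk q).toField
    infer_instance) hD'
  have hk := KRegLib.kReg_of_regular (i.app D).hom hDs (hD'.primeIdealOf ⟨z, hzD⟩).asIdeal
  have hc := congrArg PrimeSpectrum.asIdeal
    (IsAffineOpen.comap_primeIdealOf_appLE (f := i) D hD (i ⁻¹ᵁ D) hD' le_rfl hzD)
  have he : (i.appLE D (i ⁻¹ᵁ D) le_rfl).hom = (i.app D).hom := by rw [Scheme.Hom.app_eq_appLE]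
  rw [PrimeSpectrum.comap_asIdeal, he] at hc
  rw [hc] at hk
  obtain ⟨U, hzU, hcl, rs, hrs, hker⟩ :=
    KRegLib.regImmAt_of_kReg RegImm.Kind.regular i z hD hzD hk
  obtain ⟨rs', hlen, hreg, hker'⟩ := H23.DiagReg.exists_stalk_seq i U z hzU rs hrs.toIsWeaklyRegular hker
  refine ⟨U.1, U.2, hzU, rs, ?_, hrs, by rw [Scheme.Hom.ker_apply]; exact hker⟩
  have h1 := ringKrullDim_add_length_eq_ringKrullDim_of_isRegular rs' hreg
  rw [← hker', ringKrullDim_eq_of_ringEquiv (RingHom.quotientKerEquivOfSurjective (i.stalkMap_surjective z)),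
    ringKrullDim_eq_zero_of_isField (isField_stalk z), H23.DiagReg.dim_stalk_closed f hn hz, hlen, zero_add] at h1
  exact_mod_cast h1

theorem regClosed [Smooth f] [IsIntegral X] {n : ℕ} (hn : topologicalKrullDim X = n) (i : Z ⟶ X)
    [IsClosedImmersion i] [IsReduced Z] [DiscreteTopology Z] :
    Mor2.IsRegularClosedImmersion i ∧ FlatMod.IsFinLocFreeOfRank n (Omega.conormal i) := by
  haveI : IsLocallyNoetherian X := LocallyOfFiniteType.isLocallyNoetherian f
  refine ⟨⟨inferInstance, fun z => ?_⟩, H28.PBSect.rank_conormal_of_local i fun z => exists_seq f hn i z⟩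
  obtain ⟨U, hU, hzU, rs, -, hrs, hker⟩ := exists_seq f hn i z
  exact ⟨U, hU, hzU, rs, hrs, hker⟩

variable (n : ℕ) (k : Type u) [Field k]

theorem enough_projSpace : KRR.HasEnoughLocFree (CohB1.ProjSpace n k) := by
  obtain ⟨a, -⟩ := SeesawX.PnFibre.exists_iso_std (n := n) k
  let S := Spec (CommRingCat.of k)
  haveI := H28.QProjEnough.isNoetherian_PY n S
  exact KZ.QuasiProj.enough_closed
    (H28.QProjEnough.enough_PY n S (H28.QProjEnough.enough_affine S)) a.inv

theorem topologicalKrullDim_projSpace :
    topologicalKrullDim ↥(CohB1.ProjSpace n k) = (n : WithBot ℕ∞) := S10829.result k n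

end Groth.Agent.Synt29.PointsReg
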