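import Groth.Prelude.Def_Formal2
import Groth.Agent.FFun.Basic
import Groth.Agent.Adic7.Limit
import Groth.Agent.KoszTw16.Elem
import Groth.Agent.QCoh.Support
import Groth.Agent.AModX.Res
import Groth.Agent.Lib.BasisHom

/-!
# The quotients of the limit of a formal system by powers of a finitely generated ideal
-/

set_option autoImplicit false
set_option linter.style.haveILetI false
set_option backward.isDefEq.respectTransparency false
set_option backward.isDefEq.respectTransparency.types false
set_option maxHeartbeats 800000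

universe u

open CategoryTheory CategoryTheory.Limits AlgebraicGeometry TopologicalSpace Opposite
open Groth.Agent

noncomputable section

namespace Groth.Agent.Synt29.QSysQuot

variable {A : Type u} [CommRing A] {X : Scheme.{u}} [X.Over (Spec (CommRingCat.of A))]

/-- The structure map on an open. -/
def str (A : Type u) [CommRing A] {X : Scheme.{u}} [X.Over (Spec (CommRingCat.of A))] (U : X.Opens) : A →+* Γ(X, U) :=
  RingHom.comp (show Coh.Γtop X →+* Γ(X, U) from Coh.resTop X (op U)) (Coh.toGlobal (X ↘ Spec (CommRingCat.of A)))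

theorem smulMod_app (M : X.Modules) (a : A) (U : X.Opens) (m : Γ(M, U)) :
    (Formal.smulMod A M a).app U m = str A U a • m := rfl

/-- A compatible family of sections of a system gives a section of the limit. -/
theorem exists_lift (G : ℕᵒᵖ ⥤ X.Modules) (V : X.Opens) :
    (∀ y : ∀ n, Γ(G.obj (op n), V), (∀ n, (G.map (homOfLE (Nat.le_succ n)).op).app V (y (n + 1)) = y n) →
      ∃ x : Γ(limit G, V), ∀ n, (limit.π G (op n)).app V x = y n) ∧
    ∀ x : Γ(limit G, V), (∀ n, (limit.π G (op n)).app V x = 0) → x = 0 := by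
  let P := Scheme.Modules.toPresheaf X ⋙ (evaluation _ AddCommGrpCat.{u}).obj (op V) ⋙ forget AddCommGrpCat.{u}
  haveI h1 : PreservesLimitsOfShape ℕᵒᵖ (Scheme.Modules.toPresheaf X) :=
    inferInstanceAs (PreservesLimitsOfShape ℕᵒᵖ (SheafOfModules.forget X.ringCatSheaf ⋙ PresheafOfModules.toPresheaf _))
  haveI h2 : PreservesLimitsOfShape ℕᵒᵖ ((evaluation _ AddCommGrpCat.{u}).obj (op V) : ((Opens X)ᵒᵖ ⥤ AddCommGrpCat.{u}) ⥤ AddCommGrpCat.{u}) :=
    evaluation_preservesLimitsOfShape _
  haveI h3 : PreservesLimitsOfShape ℕᵒᵖ (forget AddCommGrpCat.{u}) := inferInstance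
  haveI h23 : PreservesLimitsOfShape ℕᵒᵖ (((evaluation _ AddCommGrpCat.{u}).obj (op V) : ((Opens X)ᵒᵖ ⥤ AddCommGrpCat.{u}) ⥤ AddCommGrpCat.{u}) ⋙ forget AddCommGrpCat.{u}) :=
    @comp_preservesLimitsOfShape _ _ _ _ _ _ _ _ _ _ h2 h3
  haveI : PreservesLimitsOfShape ℕᵒᵖ P := @comp_preservesLimitsOfShape _ _ _ _ _ _ _ _ (Scheme.Modules.toPresheaf X)
    ((evaluation _ AddCommGrpCat.{u}).obj (op V) ⋙ forget AddCommGrpCat.{u}) h1 h23
  let hl := isLimitOfPreserves P (limit.isLimit G)
  refine ⟨fun y hy => ?_, fun x hx => ?_⟩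
  · have hT : ∀ p q (h : q ≤ p), (G.map (homOfLE h).op).app V (y p) = y q := fun p q h => by
      induction p, h using Nat.le_induction with
      | base =>
        rw [show (homOfLE (le_refl q)).op = 𝟙 (op q) from Subsingleton.elim _ _, G.map_id]
        rfl
      | succ p h ih =>
        rw [show (homOfLE (h.trans (Nat.le_succ p))).op = (homOfLE (Nat.le_succ p)).op ≫ (homOfLE h).op from
          Subsingleton.elim _ _, G.map_comp]
        exact (congrArg ((G.map (homOfLE h).op).app V) (hy p)).trans ih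
    let sec : (G ⋙ P).sections := ⟨fun m => y m.unop, by
      rintro ⟨p⟩ ⟨q⟩ h
      have hle : q ≤ p := h.unop.down.down
      rw [Subsingleton.elim h (homOfLE hle).op]
      exact hT p q hle⟩
    exact ⟨(Types.isLimitEquivSections hl).symm sec, fun n => Types.isLimitEquivSections_symm_apply hl sec (op n)⟩
  · have h0 : ∀ m : ℕᵒᵖ, (limit.π G m).app V x = (limit.π G m).app V 0 := fun m => (hx m.unop).trans (map_zero _).symm
    exact (Types.isLimitEquivSections hl).injective (Subtype.ext (funext h0))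

variable {I : Ideal A} {G : ℕᵒᵖ ⥤ X.Modules} (hI : I.FG) (hG : Formal2.IsQCohFormal I G)

/-- The transition maps. -/
abbrev tr (G : ℕᵒᵖ ⥤ X.Modules) (n : ℕ) : G.obj (op (n + 1)) ⟶ G.obj (op n) := G.map (homOfLE (Nat.le_succ n)).op

include hG in
theorem epi_tr (n : ℕ) : Epi (tr G n) := by
  obtain ⟨h, hi⟩ := hG.2.2 n
  haveI := hi
  rw [show tr G n = cokernel.π _ ≫ cokernel.desc _ _ h from (cokernel.π_desc _ _ h).symm]
  exact @epi_comp _ _ _ _ _ _ inferInstance _ (IsIso.epi_of_iso _)

include hI hG in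
/-- The kernels of the transition maps on affine opens. -/
theorem mem_range_of_tr_eq_zero (n : ℕ) {U : X.Opens} (hU : IsAffineOpen U) (x : Γ(G.obj (op (n + 1)), U))
    (hx : (tr G n).app U x = 0) :
    ∃ (r : ℕ) (a : Fin r → A) (y : Fin r → Γ(G.obj (op (n + 1)), U)),
      (∀ i, a i ∈ I ^ (n + 1)) ∧ ∑ i, str A U (a i) • y i = x := by
  classical
  haveI : HasFiniteBiproducts X.Modules := Abelian.hasFiniteBiproducts
  obtain ⟨r, a, ha⟩ : ∃ (r : ℕ) (a : Fin r → A), Submodule.span A (Set.range a) = I ^ (n + 1) :=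
    (Submodule.fg_iff_exists_fin_generating_family.1 (Submodule.FG.pow hI (n + 1)))
  obtain ⟨h, hi⟩ := hG.2.2 n
  haveI := hi
  let M := G.obj (op (n + 1))
  let Φ : (⨁ fun _ : Fin r => M) ⟶ M := biproduct.desc fun i => Formal.smulMod A M (a i)
  have ham : ∀ i, a i ∈ I ^ (n + 1) := fun i => ha ▸ Submodule.subset_span ⟨i, rfl⟩
  have hz : Φ ≫ tr G n = 0 := by
    refine biproduct.hom_ext' _ _ fun i => ?_
    rw [biproduct.ι_desc_assoc, comp_zero]
    have h4 : Sigma.ι (fun _ : ↥(I ^ (n + 1)) => M) ⟨_, ham i⟩ ≫ Formal.smulFamily (I ^ (n + 1)) M =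
        Formal.smulMod A M (a i) := Sigma.ι_desc _ _
    rw [← h4, Category.assoc]
    exact (congrArg _ h).trans comp_zero
  have hex : (ShortComplex.mk Φ (tr G n) hz).Exact := by
    refine ShortComplex.exact_of_g_is_cokernel _ (CokernelCofork.IsColimit.ofπ _ _
      (fun {T} φ hφ => inv (cokernel.desc _ _ h) ≫ cokernel.desc _ φ ?_) (fun φ hφ => ?_) fun φ hφ m hm => ?_)
    · refine Sigma.hom_ext _ _ fun b => ?_
      rw [← Category.assoc, comp_zero, Formal.smulFamily, Sigma.ι_desc]
      have hb : (b : A) ∈ Submodule.span A (Set.range a) := by rw [ha]; exact b.2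
      refine Submodule.span_induction (p := fun c _ => Formal.smulMod A M c ≫ φ = 0) ?_ ?_ ?_ ?_ hb
      · intro c hc
        obtain ⟨i, rfl⟩ := hc
        rw [← biproduct.ι_desc (fun i => Formal.smulMod A M (a i)) i, Category.assoc]
        exact (congrArg _ hφ).trans comp_zero
      · rw [FFun.smulMod_zero, zero_comp]
      · intro c d _ _ hc hd
        rw [FFun.smulMod_add, Preadditive.add_comp, hc, hd, add_zero]
      · intro c d _ hd
        rw [smul_eq_mul, mul_comm, FFun.smulMod_mul, Category.assoc, hd, comp_zero]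
    · have e1 : tr G n ≫ inv (cokernel.desc _ _ h) = cokernel.π _ := by
        rw [IsIso.comp_inv_eq, cokernel.π_desc]
      show tr G n ≫ inv (cokernel.desc _ _ h) ≫ cokernel.desc _ φ _ = φ
      rw [← Category.assoc, e1, cokernel.π_desc]
    · haveI := epi_tr hG n
      refine (cancel_epi (tr G n)).1 (hm.trans ?_)
      have e1 : tr G n ≫ inv (cokernel.desc _ _ h) = cokernel.π _ := by
        rw [IsIso.comp_inv_eq, cokernel.π_desc]
      rw [← Category.assoc, e1, cokernel.π_desc]
  have hB : Coh.IsQCoh (⨁ fun _ : Fin r => M) :=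
    (SheafOfModules.isQuasicoherent X.ringCatSheaf).prop_of_iso (biproduct.isoCoproduct fun _ : Fin r => M).symm (KoszTw16.isQCoh_sigma (fun _ : Fin r => M) fun _ => hG.1 _)
  haveI : Epi (kernel.lift (tr G n) Φ hz) :=
    ((ShortComplex.mk Φ (tr G n) hz).exact_iff_epi_kernel_lift).1 hex
  have hK : Coh.IsQCoh (kernel (tr G n)) := QCoh.isQCoh_kernel (hG.1 _) (hG.1 _) _
  obtain ⟨x', hx'⟩ : ∃ x', (kernel.ι (tr G n)).app U x' = x := by
    exact BasisHom.exists_app_eq_of_exact (S := ShortComplex.mk (kernel.ι (tr G n)) (tr G n) (kernel.condition _))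
      (ShortComplex.exact_of_f_is_kernel _ (kernelIsKernel _)) U x hx
  obtain ⟨w, hw⟩ := QCoh.app_surjective_of_epi hB hK (kernel.lift (tr G n) Φ hz) hU x'
  refine ⟨r, a, fun i => (biproduct.π (fun _ : Fin r => M) i).app U w, ham, ?_⟩
  have e := biproduct.total (f := fun _ : Fin r => M)
  have hw' : Φ.app U w = x := by
    rw [← hx', ← hw]
    exact congr($((kernel.lift_ι (tr G n) Φ hz).symm).app U w)
  rw [← hw']
  let ev : ((⨁ fun _ : Fin r => M) ⟶ M) →+ Γ(M, U) := { toFun := fun f => f.app U w, map_zero' := rfl, map_add' := fun _ _ => rfl }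
  show ∑ i, str A U (a i) • _ = ev Φ
  rw [show Φ = ∑ i, biproduct.π (fun _ : Fin r => M) i ≫ Formal.smulMod A M (a i) from biproduct.desc_eq, map_sum]
  rfl

include hI hG in
/-- The quotients of the limit. -/
theorem isIso_desc (n : ℕ) :
    ∃ h : Formal.smulFamily (I ^ (n + 1)) (limit G) ≫ limit.π G (op n) = 0,
      IsIso (cokernel.desc _ _ h) := by
  classical
  have hz : ∀ a ∈ I ^ (n + 1), Formal.smulMod A (limit G) a ≫ limit.π G (op n) = 0 := fun a ha => by
    rw [FFun.smulMod_naturality, hG.2.1 n a ha, comp_zero]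
  refine ⟨Sigma.hom_ext _ _ fun b => by
    rw [← Category.assoc, comp_zero, Formal.smulFamily, Sigma.ι_desc]; exact hz _ b.2, ?_⟩
  generalize_proofs h
  have key : ∀ (U : X.Opens), IsAffineOpen U →
      Function.Surjective ((limit.π G (op n)).app U) ∧
      ∀ x : Γ(limit G, U), (limit.π G (op n)).app U x = 0 →
        (cokernel.π (Formal.smulFamily (I ^ (n + 1)) (limit G))).app U x = 0 := by
    intro U hU
    let φ := str A U
    letI : ∀ m : ℕ, Module A Γ(G.obj (op m), U) := fun m => Module.compHom _ φ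
    letI : Module A Γ(limit G, U) := Module.compHom _ φ
    let f : ∀ m, Γ(G.obj (op (m + 1)), U) →ₗ[A] Γ(G.obj (op m), U) := fun m =>
      { toFun := (tr G m).app U
        map_add' := map_add _
        map_smul' := fun a x => Scheme.Modules.Hom.app_smul (tr G m) (φ a) x }
    let π : ∀ m, Γ(limit G, U) →ₗ[A] Γ(G.obj (op m), U) := fun m =>
      { toFun := (limit.π G (op m)).app U
        map_add' := map_add _
        map_smul' := fun a x => Scheme.Modules.Hom.app_smul (limit.π G (op m)) (φ a) x }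
    have hsurj : ∀ m, Function.Surjective (f m) := fun m => by
      haveI := epi_tr hG m
      exact QCoh.app_surjective_of_epi (hG.1 (m + 1)) (hG.1 m) (tr G m) hU
    have hker : ∀ m, LinearMap.ker (f m) = I ^ (m + 1) • (⊤ : Submodule A Γ(G.obj (op (m + 1)), U)) := fun m => by
      refine le_antisymm (fun x hx => ?_) (Submodule.smul_le.2 fun a ha x _ => ?_)
      · obtain ⟨r, a, y, ha, hy⟩ := mem_range_of_tr_eq_zero hI hG m hU x hx
        rw [← hy]
        exact Submodule.sum_mem _ fun i _ => Submodule.smul_mem_smul (ha i) Submodule.mem_top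
      · rw [LinearMap.mem_ker]
        show (tr G m).app U (φ a • x) = 0
        rw [← smulMod_app]
        have h' : Formal.smulMod A (G.obj (op (m + 1))) a ≫ tr G m = 0 := by
          rw [FFun.smulMod_naturality, hG.2.1 m a ha, comp_zero]
        exact congr(($h').app U x)
    obtain ⟨-, hq, -⟩ := Adic7.limit_quotient_system A I hI (fun m => Γ(G.obj (op m), U)) f hsurj hker
      Γ(limit G, U) π (fun m => LinearMap.ext fun x => congr($(limit.w G (homOfLE (Nat.le_succ m)).op).app U x))
      (exists_lift G U).2 (exists_lift G U).1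
    refine ⟨(hq n).1, fun x hx => ?_⟩
    have hx' : x ∈ I ^ (n + 1) • (⊤ : Submodule A Γ(limit G, U)) := (hq n).2 ▸ (LinearMap.mem_ker.2 hx)
    refine Submodule.smul_induction_on hx' (fun a ha y _ => ?_) fun y z hy hz => by rw [map_add, hy, hz, add_zero]
    show (cokernel.π (Formal.smulFamily (I ^ (n + 1)) (limit G))).app U (φ a • y) = 0
    rw [← smulMod_app]
    have h' : Formal.smulMod A (limit G) a ≫ cokernel.π (Formal.smulFamily (I ^ (n + 1)) (limit G)) = 0 := by
      have h4 : Sigma.ι (fun _ : ↥(I ^ (n + 1)) => limit G) ⟨a, ha⟩ ≫ Formal.smulFamily (I ^ (n + 1)) (limit G) =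
          Formal.smulMod A (limit G) a := Sigma.ι_desc _ _
      rw [← h4, Category.assoc, cokernel.condition, comp_zero]
    exact congr(($h').app U y)
  haveI : Epi (limit.π G (op n)) := by
    refine Preadditive.epi_of_cancel_zero _ fun {Z} g hg => Scheme.Modules.hom_ext _ _ fun W => ?_
    ext s
    refine AModX.eq_of_locally _ _ fun p hp => ?_
    obtain ⟨_, ⟨V, hV, rfl⟩, hpV, hVW⟩ :=
      X.isBasis_affineOpens.exists_subset_of_mem_open (show p ∈ (W : X.Opens) from hp) W.2
    refine ⟨V, hVW, hpV, ?_⟩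
    rw [← AModX.app_res, show AModX.res Z hVW ((0 : G.obj (op n) ⟶ Z).app W s) = 0 from map_zero _]
    obtain ⟨t, ht⟩ := (key V hV).1 (AModX.res (G.obj (op n)) hVW s)
    rw [← ht]
    exact congr(($hg).app V t)
  have hk0 : kernel.ι (limit.π G (op n)) ≫ cokernel.π (Formal.smulFamily (I ^ (n + 1)) (limit G)) = 0 := by
    refine Scheme.Modules.hom_ext _ _ fun W => ?_
    ext s
    refine AModX.eq_of_locally _ _ fun p hp => ?_
    obtain ⟨_, ⟨V, hV, rfl⟩, hpV, hVW⟩ :=
      X.isBasis_affineOpens.exists_subset_of_mem_open (show p ∈ (W : X.Opens) from hp) W.2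
    refine ⟨V, hVW, hpV, ?_⟩
    rw [← AModX.app_res, show AModX.res _ hVW ((0 : kernel (limit.π G (op n)) ⟶
      cokernel (Formal.smulFamily (I ^ (n + 1)) (limit G))).app W s) = 0 from map_zero _]
    exact (key V hV).2 _ congr(($(kernel.condition (limit.π G (op n)))).app V _)
  refine ⟨⟨Abelian.epiDesc (limit.π G (op n)) _ hk0, ?_, ?_⟩⟩
  · rw [← cancel_epi (cokernel.π (Formal.smulFamily (I ^ (n + 1)) (limit G))), cokernel.π_desc_assoc,
      Abelian.comp_epiDesc, Category.comp_id]
  · rw [← cancel_epi (limit.π G (op n)), Abelian.comp_epiDesc_assoc, cokernel.π_desc, Category.comp_id]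

end Groth.Agent.Synt29.QSysQuot

end
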