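import Groth.Agent.H28.RegRes
import Groth.Agent.H28.PushComp
import Groth.Agent.H28.PushK

/-!
# Cohomology of the line bundles on `P^1 × P^1`, as an iterated projective line
-/

set_option autoImplicit false
set_option linter.style.haveILetI false
set_option linter.unusedSectionVars false
set_option backward.isDefEq.respectTransparency false
set_option backward.isDefEq.respectTransparency.types false
set_option maxHeartbeats 1000000

universe u

open CategoryTheory CategoryTheory.Limits AlgebraicGeometry TopologicalSpace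

noncomputable section

namespace Groth.Agent.Synt29.Quadric

open Groth.Agent Groth.Agent.H28 Groth.Agent.H28.KRRTw Groth.Agent.H28.KRRReg

variable {T Y : Scheme.{u}}

/-- The two coordinates. -/
abbrev two : List (ULift.{u} (Fin (1 + 1))) := [⟨0⟩, ⟨1⟩]

theorem covered_two (N : (KRR.PY 1 T).Modules) (y : KRR.PY 1 T) :
    ∃ j ∈ two.{u}, ∀ d, Function.Bijective ((KFlatLib.stalkAb y).map ((mul j d).app N)) := by
  obtain ⟨j, -, hj⟩ := covered N y
  refine ⟨j, ?_, hj⟩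
  obtain ⟨j⟩ := j
  fin_cases j <;> simp [two]

section Line

variable (f : KRR.PY 1 T ⟶ Y) (N : (KRR.PY 1 T).Modules)

/-- The twists of `N`. -/
abbrev MT (d : ℤ) : (KRR.PY 1 T).Modules := (Tw 1 T d).obj N

/-- The coordinates between the twists of `N`. -/
abbrev xT (j : ULift.{u} (Fin (1 + 1))) (d : ℤ) : MT N (d - 1) ⟶ MT N d := (mul j d).app N

/-- Vanishing moves up along the Koszul sequence. -/
theorem rz_up (d : ℤ) (i : ℕ) (h1 : RKoszul.RZ f (MT N (d - 1)) i)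
    (h2 : RKoszul.RZ f (MT N (d - 2)) (i + 1)) : RKoszul.RZ f (MT N d) i := by
  refine RKoszul.rz_zero f (MT N) (xT N) (mul_comm' N) two (covered_two N) d i fun p => ?_
  rcases p with _ | _ | p
  · exact RKoszul.rz_obj f (MT N) i _ _ _ h1
  · exact RKoszul.rz_obj f (MT N) (i + 1) _ _ _ h2
  · exact RKoszul.rz_of_isZero f (KoszulCone.isZero_obj (MT N) two _ _ (by simp)) _

theorem koszul_shortExact (d : ℤ) :
    (ShortComplex.mk (KoszulCone.dd (MT N) (xT N) two d 1) (KoszulCone.dd (MT N) (xT N) two d 0)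
      (KoszulCone.dd_dd (MT N) (xT N) (mul_comm' N) two d 0)).ShortExact := by
  haveI := KoszulCone.epi_dd (MT N) (xT N) (mul_comm' N) two (covered_two N) d
  have hex := KoszulCone.exact_dd (MT N) (xT N) (mul_comm' N) two (covered_two N) d 1
  haveI : Mono (KoszulCone.dd (MT N) (xT N) two d 1) :=
    hex.mono_g ((KoszulCone.isZero_obj (MT N) two d 3 (by simp)).eq_of_src _ _)
  exact ShortComplex.ShortExact.mk'
    (KoszulCone.exact_dd (MT N) (xT N) (mul_comm' N) two (covered_two N) d 0) inferInstance inferInstance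

theorem rz_retract {A B : (KRR.PY 1 T).Modules} (i : A ⟶ B) [IsSplitMono i] (q : ℕ) (h : RKoszul.RZ f B q) :
    RKoszul.RZ f A q :=
  IsZero.of_mono ((RKoszul.RF f q).map i) h

theorem rz_of_obj_two (d : ℤ) (q : ℕ) (h : RKoszul.RZ f (KoszulCone.obj (MT N) two d 2) q) :
    RKoszul.RZ f (MT N (d - 1 - 1)) q :=
  rz_retract f (biprod.inr : KoszulCone.obj (MT N) [] (d - 1 - 1) 0 ⟶ _) q
    (rz_retract f (biprod.inr : KoszulCone.obj (MT N) [(⟨1⟩ : ULift.{u} (Fin (1 + 1)))] (d - 1) 1 ⟶ _) q h)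

/-- Vanishing moves down along the Koszul sequence. -/
theorem rz_down (d : ℤ) (q : ℕ) (h1 : RKoszul.RZ f (MT N (d - 1)) (q + 1)) (h0 : RKoszul.RZ f (MT N d) q) :
    RKoszul.RZ f (MT N (d - 2)) (q + 1) := by
  have hz : RKoszul.RZ f (KoszulCone.obj (MT N) two d 0) q := by
    haveI := KoszulCone.isIso_e0 (MT N) two d
    exact RKoszul.rz_of_iso f (asIso (KoszulCone.e0 (MT N) two d)).symm q h0
  have hm : RKoszul.RZ f (KoszulCone.obj (MT N) two d 1) (q + 1) := RKoszul.rz_obj f (MT N) (q + 1) _ _ _ h1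
  have h := rz_of_obj_two f N d (q + 1) (RegRes.rz_sub f (koszul_shortExact N d) q hm hz)
  rwa [show d - 1 - 1 = d - 2 by ring] at h

/-- Vanishing of sections moves down. -/
theorem rz_down_zero (d : ℤ) (h1 : RKoszul.RZ f (MT N (d - 1)) 0) : RKoszul.RZ f (MT N (d - 2)) 0 := by
  have hm : RKoszul.RZ f (KoszulCone.obj (MT N) two d 1) 0 := RKoszul.rz_obj f (MT N) 0 _ _ _ h1
  have h := rz_of_obj_two f N d 0 (RegRes.rz_sub_zero f (koszul_shortExact N d) hm)
  rwa [show d - 1 - 1 = d - 2 by ring] at h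

/-- Sections of negative twists vanish once those of `N(-1)` do. -/
theorem rz_zero_neg (h : RKoszul.RZ f (MT N (-1)) 0) : ∀ n : ℕ, RKoszul.RZ f (MT N (-1 - (n : ℤ))) 0
  | 0 => by simpa using h
  | n + 1 => by
    have := rz_down_zero f N (-(n : ℤ)) (by
      rw [show -(n : ℤ) - 1 = -1 - (n : ℤ) by ring]; exact rz_zero_neg h n)
    rwa [show -1 - ((n + 1 : ℕ) : ℤ) = -(n : ℤ) - 2 by omega]

end Line

section Base

variable (g : T ⟶ Y) (G : T.Modules) (hG : Coh.IsQCoh G)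

include hG in
theorem rz_pr_neg_one (q : ℕ) :
    RKoszul.RZ (KRR.pr 1 T) (MT ((Scheme.Modules.pullback (KRR.pr 1 T)).obj G) (-1)) q := by
  rcases q with _ | q
  · have := RegRes.rz_zero_tw_pullback (n := 1) G hG 1 le_rfl le_rfl
    simpa using this
  · exact PnBox.rz_tw_pullback G hG (-1) (q + 1) (by omega) (Or.inl (by norm_num))

include hG in
/-- `O(-1)` on a line is invisible. -/
theorem rz_comp_neg_one (q : ℕ) :
    RKoszul.RZ (KRR.pr 1 T ≫ g) (MT ((Scheme.Modules.pullback (KRR.pr 1 T)).obj G) (-1)) q := by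
  obtain ⟨e⟩ := PushComp.leray (KRR.pr 1 T) g
    (M := MT ((Scheme.Modules.pullback (KRR.pr 1 T)).obj G) (-1)) (fun r => rz_pr_neg_one G hG (r + 1)) q
  exact (RKoszul.rz_of_isZero g
    ((RegRes.isZero_push_iff (KRR.pr 1 T)).1 (rz_pr_neg_one G hG 0)) q).of_iso e.symm

include hG in
/-- Inverse images have the cohomology of the base. -/
theorem nonempty_rf_pullback (q : ℕ) :
    Nonempty ((RKoszul.RF (KRR.pr 1 T ≫ g) q).obj (MT ((Scheme.Modules.pullback (KRR.pr 1 T)).obj G) 0) ≅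
      (RKoszul.RF g q).obj G) := by
  let P := (Scheme.Modules.pullback (KRR.pr 1 T)).obj G
  obtain ⟨e⟩ := PushComp.leray (KRR.pr 1 T) g (M := MT P 0)
    (fun r => PnBox.rz_tw_pullback G hG 0 (r + 1) (by omega) (Or.inl (by norm_num))) q
  haveI := PnH0.isIso_unit (n := 1) G hG
  exact ⟨e.symm ≪≫ (RKoszul.RF g q).mapIso ((Scheme.Modules.pushforward (KRR.pr 1 T)).mapIso (twF_zero P).some ≪≫
    (asIso ((Scheme.Modules.pullbackPushforwardAdjunction (KRR.pr 1 T)).unit.app G)).symm)⟩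

include hG in
theorem rz_comp_zero (q : ℕ) (h : RKoszul.RZ g G q) :
    RKoszul.RZ (KRR.pr 1 T ≫ g) (MT ((Scheme.Modules.pullback (KRR.pr 1 T)).obj G) 0) q :=
  let ⟨e⟩ := nonempty_rf_pullback g G hG q
  h.of_iso e

end Base

section Square

variable {B : Scheme.{u}}

theorem isQCoh_twistOver (b : ℤ) : Coh.IsQCoh (Twist.twistOver 1 B b) :=
  QCoh.isQCoh_pullback _ (PnCoh.isQCoh_twist_mvPolynomial _ _ b)

theorem nonempty_twistOver_iso (b : ℤ) :
    Nonempty (MT ((Scheme.Modules.pullback (KRR.pr 1 B)).obj (Coh.structureModule B)) b ≅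
      Twist.twistOver 1 B b) := by
  obtain ⟨e₁⟩ := PicClLib.nonempty_pullback_structureModule (KRR.pr 1 B)
  obtain ⟨e₂⟩ := H23.PicMul.unit (Twist.twistOver 1 B b)
  exact ⟨(DCoh.tensorBi.obj (Twist.twistOver 1 B b)).mapIso e₁ ≪≫ e₂⟩

theorem rz_line_pos (b : ℤ) (hb : -1 ≤ b) (i : ℕ) (hi : 1 ≤ i) :
    RKoszul.RZ (KRR.pr 1 B) (Twist.twistOver 1 B b) i :=
  RKoszul.rz_of_iso _ (nonempty_twistOver_iso b).some i
    (PnBox.rz_tw_pullback _ (PushK.isQCoh_structure' B) b i hi (Or.inl (by omega)))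

theorem rz_line_neg (b : ℤ) (hb : b ≤ -1) : RKoszul.RZ (KRR.pr 1 B) (Twist.twistOver 1 B b) 0 := by
  refine RKoszul.rz_of_iso _ (nonempty_twistOver_iso b).some 0 ?_
  obtain ⟨n, rfl⟩ : ∃ n : ℕ, b = -1 - (n : ℤ) := ⟨(-1 - b).toNat, by omega⟩
  exact rz_zero_neg _ _ (rz_pr_neg_one _ (PushK.isQCoh_structure' B) 0) n

/-- The iterated line. -/
abbrev sq (B : Scheme.{u}) : Scheme.{u} := KRR.PY 1 (KRR.PY 1 B)

/-- Its structure map. -/
abbrev sqTo (B : Scheme.{u}) : sq B ⟶ B := KRR.pr 1 (KRR.PY 1 B) ≫ KRR.pr 1 B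

/-- `O(a, b)`. -/
abbrev O2 (B : Scheme.{u}) (a b : ℤ) : (sq B).Modules :=
  MT ((Scheme.Modules.pullback (KRR.pr 1 (KRR.PY 1 B))).obj (Twist.twistOver 1 B b)) a

theorem rz_pos (b : ℤ) (hb : -1 ≤ b) :
    ∀ (n : ℕ) (i : ℕ), 1 ≤ i → RKoszul.RZ (sqTo B) (O2 B ((n : ℤ) - 1) b) i := by
  intro n
  induction n using Nat.strong_induction_on with
  | _ n ih =>
    intro i hi
    match n, ih with
    | 0, _ => exact rz_comp_neg_one _ _ (isQCoh_twistOver b) i
    | 1, _ => exact rz_comp_zero _ _ (isQCoh_twistOver b) i (rz_line_pos b hb i hi)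
    | n + 2, ih =>
      refine rz_up _ _ _ i ?_ ?_
      · rw [show ((n + 2 : ℕ) : ℤ) - 1 - 1 = ((n + 1 : ℕ) : ℤ) - 1 by omega]
        exact ih (n + 1) (by omega) i hi
      · rw [show ((n + 2 : ℕ) : ℤ) - 1 - 2 = (n : ℤ) - 1 by omega]
        exact ih n (by omega) (i + 1) (by omega)

/-- No higher cohomology for `a, b ≥ -1`. -/
theorem rz_O2_pos (a b : ℤ) (ha : -1 ≤ a) (hb : -1 ≤ b) (i : ℕ) (hi : 1 ≤ i) :
    RKoszul.RZ (sqTo B) (O2 B a b) i := by
  obtain ⟨n, rfl⟩ : ∃ n : ℕ, a = (n : ℤ) - 1 := ⟨(a + 1).toNat, by omega⟩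
  exact rz_pos b hb n i hi

/-- `O(-1, b)` is acyclic. -/
theorem rz_O2_neg_one (b : ℤ) (i : ℕ) : RKoszul.RZ (sqTo B) (O2 B (-1) b) i :=
  rz_comp_neg_one _ _ (isQCoh_twistOver b) i

/-- No sections for `a ≤ -1`. -/
theorem rz_O2_zero (a b : ℤ) (ha : a ≤ -1) : RKoszul.RZ (sqTo B) (O2 B a b) 0 := by
  obtain ⟨n, rfl⟩ : ∃ n : ℕ, a = -1 - (n : ℤ) := ⟨(-1 - a).toNat, by omega⟩
  exact rz_zero_neg _ _ (rz_O2_neg_one b 0) n

theorem rz_one_neg (b : ℤ) (hb : b ≤ -1) : ∀ n : ℕ, RKoszul.RZ (sqTo B) (O2 B (-1 - (n : ℤ)) b) 1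
  | 0 => by simpa using rz_O2_neg_one (B := B) b 1
  | n + 1 => by
    rw [show -1 - ((n + 1 : ℕ) : ℤ) = -(n : ℤ) - 2 by omega]
    refine rz_down _ _ _ 0 ?_ ?_
    · rw [show -(n : ℤ) - 1 = -1 - (n : ℤ) by ring]
      exact rz_one_neg b hb n
    · rcases n with _ | n
      · simpa using rz_comp_zero (KRR.pr 1 B) _ (isQCoh_twistOver b) 0 (rz_line_neg b hb)
      · exact rz_O2_zero _ b (by omega)

/-- No `H¹` for `a, b ≤ -1`. -/
theorem rz_O2_one (a b : ℤ) (ha : a ≤ -1) (hb : b ≤ -1) : RKoszul.RZ (sqTo B) (O2 B a b) 1 := by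
  obtain ⟨n, rfl⟩ : ∃ n : ℕ, a = -1 - (n : ℤ) := ⟨(-1 - a).toNat, by omega⟩
  exact rz_one_neg b hb n

end Square

end Groth.Agent.Synt29.Quadric
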