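import Groth.Agent.Synt29.QuadricCoh
import Groth.Agent.H28.BlowHH
import Groth.Agent.SeesawX.PnFibre
import Groth.Agent.H28.RegBC
import Groth.Agent.QCoh.RpushAbGod
import Groth.Agent.SeesawX.PnProps
import Groth.Agent.GrpSchLib.AntiAffine
import Groth.Agent.AGFLib.BorelImage
import Groth.Agent.GeomField.GlobalFunctions
import Groth.Agent.Lib.CurveEnd
import Groth.Agent.H28.GenPush

/-!
# Line bundles on the quadric `P^1_k × P^1_k`
-/

set_option autoImplicit false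
set_option linter.style.haveILetI false
set_option linter.unusedSectionVars false
set_option backward.isDefEq.respectTransparency false
set_option backward.isDefEq.respectTransparency.types false
set_option maxHeartbeats 1000000
set_option synthInstance.maxHeartbeats 400000

universe u

open CategoryTheory CategoryTheory.Limits AlgebraicGeometry TopologicalSpace Opposite
open scoped Groth.Agent.H23.PicMul

noncomputable section

namespace Groth.Agent.Synt29.Quadric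

open Groth.Agent Groth.Agent.H28 Groth.Agent.H23.PicMul

variable (k : Type u) [Field k]

/-- The quadric. -/
abbrev XQ : Scheme.{u} := pullback (CohB1.ProjSpace.toSpec 1 k) (CohB1.ProjSpace.toSpec 1 k)

/-- Its structure map. -/
abbrev xTo : XQ k ⟶ Spec (CommRingCat.of k) :=
  pullback.fst (CohB1.ProjSpace.toSpec 1 k) (CohB1.ProjSpace.toSpec 1 k) ≫ CohB1.ProjSpace.toSpec 1 k

/-- `O(a, b)`. -/
abbrev OX (a b : ℤ) : (XQ k).Modules :=
  CohB1.tensorMod
    ((Scheme.Modules.pullback (pullback.fst (CohB1.ProjSpace.toSpec 1 k) (CohB1.ProjSpace.toSpec 1 k))).obj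
      (Twist.twistProjSpace 1 k a))
    ((Scheme.Modules.pullback (pullback.snd (CohB1.ProjSpace.toSpec 1 k) (CohB1.ProjSpace.toSpec 1 k))).obj
      (Twist.twistProjSpace 1 k b))

variable {k}

theorem nonempty_pull_pull {A B C : Scheme.{u}} (f : A ⟶ B) (g : B ⟶ C) (h : A ⟶ C) (w : f ≫ g = h)
    (M : C.Modules) :
    Nonempty ((Scheme.Modules.pullback f).obj ((Scheme.Modules.pullback g).obj M) ≅
      (Scheme.Modules.pullback h).obj M) :=
  ⟨(Scheme.Modules.pullbackComp f g).app M ≪≫ (Scheme.Modules.pullbackCongr w).app M⟩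

theorem isInvertible_OX (a b : ℤ) : PicF.IsInvertible (OX k a b) := by
  obtain ⟨e, he⟩ := SeesawX.PnFibre.exists_iso_std (n := 1) k
  have h : ∀ d : ℤ, PicF.IsInvertible (Twist.twistProjSpace 1 k d) := fun d => by
    obtain ⟨φ⟩ := he d
    obtain ⟨ψ⟩ := nonempty_pull_pull e.inv e.hom (𝟙 _) e.inv_hom_id (Twist.twistProjSpace 1 k d)
    exact isInvertible_of_iso
      ((Scheme.Modules.pullback e.inv).mapIso φ.symm ≪≫ ψ ≪≫ (Scheme.Modules.pullbackId _).app _)
      (PicClLib.isInvertible_pullback e.inv (KRRReg.isInvertible_twistOver d))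
  exact isInvertible_tensor (PicClLib.isInvertible_pullback _ (h a)) (PicClLib.isInvertible_pullback _ (h b))

theorem lf_OX (a b : ℤ) : FlatMod.IsFinLocFree (OX k a b) :=
  H23.PullPush.isFinLocFree_of_isInvertible (isInvertible_OX a b)

theorem isQCoh_OX (a b : ℤ) : Coh.IsQCoh (OX k a b) := QCoh.isQCoh_of_isFinLocFree (lf_OX a b)

/-- The iterated line is the quadric. -/
theorem exists_model :
    ∃ Θ : sq (Spec (CommRingCat.of k)) ≅ XQ k, Θ.hom ≫ xTo k = sqTo (Spec (CommRingCat.of k)) ∧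
      ∀ a b : ℤ, Nonempty ((Scheme.Modules.pullback Θ.hom).obj (OX k a b) ≅ O2 (Spec (CommRingCat.of k)) a b) := by
  obtain ⟨e, he, -⟩ := SeesawX.PnSpec.exists_iso 1 k
  obtain ⟨e', he'⟩ := SeesawX.PnFibre.exists_iso_std (n := 1) k
  let B := Spec (CommRingCat.of k)
  let T := KRR.PY 1 B
  let t := CohB1.ProjSpace.toSpec 1 k
  obtain ⟨a, ha, haO⟩ : ∃ a : T ≅ CohB1.ProjSpace 1 k, a.hom ≫ t = KRR.pr 1 B ∧
      ∀ d : ℤ, Nonempty ((Scheme.Modules.pullback a.hom).obj (Twist.twistProjSpace 1 k d) ≅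
        Twist.twistOver 1 B d) := by
    obtain ⟨a, ha, ⟨τ⟩⟩ := SeesawX.PnSpec.exists_iso 1 k
    refine ⟨a, ha, fun d => cl_eq_iff.1 ?_⟩
    have h : (pullHom a.hom).comp (SeesawX.PnFibre.twistHom 1 k) = SeesawX.PnFibre.twistOverHom 1 B :=
      MonoidHom.ext_mint (cl_eq_iff.2 ⟨τ⟩)
    exact DFunLike.congr_fun h (Multiplicative.ofAdd d)
  let ψ : sq B ⟶ T := KRR.projSpaceMap 1 (KRR.pr 1 B)
  have hsq : IsPullback ψ (KRR.pr 1 T) (KRR.pr 1 B) (KRR.pr 1 B) :=
    RegBC.isPullback_projSpaceMap 1 (KRR.pr 1 B)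
  have hsq' : IsPullback (ψ ≫ a.hom) (KRR.pr 1 T ≫ a.hom) t t :=
    hsq.of_iso (Iso.refl _) a a (Iso.refl _) (by simp) (by simp) (by simpa using ha.symm) (by simpa using ha.symm)
  let Θ := hsq'.isoPullback
  have h1 : Θ.hom ≫ pullback.fst t t = ψ ≫ a.hom := hsq'.isoPullback_hom_fst
  have h2 : Θ.hom ≫ pullback.snd t t = KRR.pr 1 T ≫ a.hom := hsq'.isoPullback_hom_snd
  refine ⟨Θ, ?_, fun m n => ?_⟩
  · show Θ.hom ≫ pullback.fst t t ≫ t = _
    rw [pullback.condition, ← Category.assoc, h2, Category.assoc, ha]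
  · obtain ⟨p⟩ := pull Θ.hom ((Scheme.Modules.pullback (pullback.fst t t)).obj (Twist.twistProjSpace 1 k m))
      ((Scheme.Modules.pullback (pullback.snd t t)).obj (Twist.twistProjSpace 1 k n))
    obtain ⟨u₁⟩ := nonempty_pull_pull Θ.hom (pullback.fst t t) _ h1 (Twist.twistProjSpace 1 k m)
    obtain ⟨u₂⟩ := nonempty_pull_pull Θ.hom (pullback.snd t t) _ h2 (Twist.twistProjSpace 1 k n)
    obtain ⟨v₁⟩ := PnBC.pullback_twistOver (n := 1) (KRR.pr 1 B) m
    let w₁ := u₁ ≪≫ ((Scheme.Modules.pullbackComp ψ a.hom).app _).symm ≪≫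
      (Scheme.Modules.pullback ψ).mapIso (haO m).some ≪≫ v₁
    let w₂ := u₂ ≪≫ ((Scheme.Modules.pullbackComp (KRR.pr 1 T) a.hom).app _).symm ≪≫
      (Scheme.Modules.pullback (KRR.pr 1 T)).mapIso (haO n).some
    exact ⟨p ≪≫ (DCoh.tensorBi.mapIso w₁).app _ ≪≫ (DCoh.tensorBi.obj (Twist.twistOver 1 T m)).mapIso w₂⟩

theorem hh_sq {M : (sq (Spec (CommRingCat.of k))).Modules} (hM : Coh.IsQCoh M) (i : ℕ)
    (h : RKoszul.RZ (sqTo (Spec (CommRingCat.of k))) M i) : Subsingleton (Coh.HH _ M i) := by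
  haveI : IsProper (KRR.pr 1 (Spec (CommRingCat.of k))) :=
    MorphismProperty.pullback_snd _ _ (PnCoh.Chow.isProper_toSpec 1 (ULift.{u} ℤ))
  haveI : IsProper (KRR.pr 1 (KRR.PY 1 (Spec (CommRingCat.of k)))) :=
    MorphismProperty.pullback_snd _ _ (PnCoh.Chow.isProper_toSpec 1 (ULift.{u} ℤ))
  obtain ⟨e⟩ := QCoh.nonempty_HH_equiv_sections (sqTo (Spec (CommRingCat.of k))) hM i
  haveI : Subsingleton (((Coh.RpushAb (sqTo (Spec (CommRingCat.of k))) i).obj (Coh.toAb M)).obj.obj (op ⊤)) :=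
    AddCommGrpCat.subsingleton_of_isZero (Functor.map_isZero
      (sheafToPresheaf _ _ ⋙ (evaluation _ _).obj (op ⊤)) h)
  exact e.injective.subsingleton

theorem hh_OX (a b : ℤ) (i : ℕ) (h : RKoszul.RZ (sqTo (Spec (CommRingCat.of k))) (O2 _ a b) i) :
    Subsingleton (Coh.HH (XQ k) (OX k a b) i) := by
  obtain ⟨Θ, -, hO⟩ := exists_model (k := k)
  exact BlowHH.hh_iso Θ.hom (isQCoh_OX a b) i
    (hh_sq (QCoh.isQCoh_pullback _ (isQCoh_OX a b)) i (RKoszul.rz_of_iso _ (hO a b).some.symm i h))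

/-- No higher cohomology for `a, b ≥ -1`. -/
theorem hh_pos (a b : ℤ) (ha : -1 ≤ a) (hb : -1 ≤ b) (i : ℕ) (hi : 1 ≤ i) :
    Subsingleton (Coh.HH (XQ k) (OX k a b) i) := hh_OX a b i (rz_O2_pos a b ha hb i hi)

theorem hh_neg_one (b : ℤ) (i : ℕ) : Subsingleton (Coh.HH (XQ k) (OX k (-1) b) i) :=
  hh_OX (-1) b i (rz_O2_neg_one b i)

theorem hh_zero_left (a b : ℤ) (ha : a ≤ -1) : Subsingleton (Coh.HH (XQ k) (OX k a b) 0) :=
  hh_OX a b 0 (rz_O2_zero a b ha)

theorem hh_one_neg (a b : ℤ) (ha : a ≤ -1) (hb : b ≤ -1) : Subsingleton (Coh.HH (XQ k) (OX k a b) 1) :=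
  hh_OX a b 1 (rz_O2_one a b ha hb)

/-- Exchanging the factors. -/
abbrev swapIso : XQ k ≅ XQ k := pullbackSymmetry (CohB1.ProjSpace.toSpec 1 k) (CohB1.ProjSpace.toSpec 1 k)

theorem nonempty_swap (a b : ℤ) :
    Nonempty ((Scheme.Modules.pullback (swapIso (k := k)).hom).obj (OX k a b) ≅ OX k b a) := by
  let t := CohB1.ProjSpace.toSpec 1 k
  obtain ⟨p⟩ := pull (swapIso (k := k)).hom ((Scheme.Modules.pullback (pullback.fst t t)).obj (Twist.twistProjSpace 1 k a))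
    ((Scheme.Modules.pullback (pullback.snd t t)).obj (Twist.twistProjSpace 1 k b))
  obtain ⟨u₁⟩ := nonempty_pull_pull (swapIso (k := k)).hom (pullback.fst t t) _
    (pullbackSymmetry_hom_comp_fst t t) (Twist.twistProjSpace 1 k a)
  obtain ⟨u₂⟩ := nonempty_pull_pull (swapIso (k := k)).hom (pullback.snd t t) _
    (pullbackSymmetry_hom_comp_snd t t) (Twist.twistProjSpace 1 k b)
  obtain ⟨c⟩ := comm ((Scheme.Modules.pullback (pullback.snd t t)).obj (Twist.twistProjSpace 1 k a))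
    ((Scheme.Modules.pullback (pullback.fst t t)).obj (Twist.twistProjSpace 1 k b))
  exact ⟨p ≪≫ (DCoh.tensorBi.mapIso u₁).app _ ≪≫ (DCoh.tensorBi.obj _).mapIso u₂ ≪≫ c⟩

theorem hh_swap (a b : ℤ) (i : ℕ) (h : Subsingleton (Coh.HH (XQ k) (OX k b a) i)) :
    Subsingleton (Coh.HH (XQ k) (OX k a b) i) :=
  BlowHH.hh_iso (swapIso (k := k)).hom (isQCoh_OX a b) i
    (QCoh.subsingleton_HH_of_iso (nonempty_swap a b).some.symm i h)

theorem hh_zero_right (a b : ℤ) (hb : b ≤ -1) : Subsingleton (Coh.HH (XQ k) (OX k a b) 0) :=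
  hh_swap a b 0 (hh_zero_left b a hb)

theorem isoSndOfIsZero {C : Type*} [Category C] [Preadditive C] [HasBinaryBiproducts C] {A B : C} (hA : IsZero A) :
    Nonempty (A ⊞ B ≅ B) :=
  ⟨{ hom := biprod.snd
     inv := biprod.inr
     hom_inv_id := biprod.hom_ext' _ _ (hA.eq_of_src _ _) (by simp)
     inv_hom_id := biprod.inr_snd }⟩

/-- The Koszul sequence in the first variable. -/
theorem exists_koszul_left (a b : ℤ) : ∃ S : ShortComplex (XQ k).Modules, S.ShortExact ∧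
    Nonempty (S.X₁ ≅ OX k (a - 2) b) ∧ Nonempty (S.X₂ ≅ OX k (a - 1) b ⊞ OX k (a - 1) b) ∧
    Nonempty (S.X₃ ≅ OX k a b) := by
  obtain ⟨Θ, -, hO⟩ := exists_model (k := k)
  let B := Spec (CommRingCat.of k)
  let N := (Scheme.Modules.pullback (KRR.pr 1 (KRR.PY 1 B))).obj (Twist.twistOver 1 B b)
  let G := Scheme.Modules.pullback Θ.inv
  haveI : G.Additive := by
    haveI := PBAtlas.isLeftAdjoint_pullback Θ.inv
    exact Functor.additive_of_preserves_binary_products _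
  haveI : PreservesBinaryBiproducts G := preservesBinaryBiproducts_of_preservesBiproducts G
  have key : ∀ c, Nonempty (G.obj (O2 B c b) ≅ OX k c b) := fun c => by
    obtain ⟨ψ⟩ := nonempty_pull_pull Θ.inv Θ.hom (𝟙 _) Θ.inv_hom_id (OX k c b)
    exact ⟨G.mapIso (hO c b).some.symm ≪≫ ψ ≪≫ (Scheme.Modules.pullbackId _).app _⟩
  obtain ⟨z₂⟩ := isoSndOfIsZero (B := KoszulCone.obj (MT N) [(⟨1⟩ : ULift.{u} (Fin (1 + 1)))] (a - 1) 1)
    (KoszulCone.isZero_obj (MT N) [(⟨1⟩ : ULift.{u} (Fin (1 + 1)))] a 2 (by simp))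
  obtain ⟨z₁⟩ := isoSndOfIsZero (B := KoszulCone.obj (MT N) [] (a - 1 - 1) 0)
    (KoszulCone.isZero_obj (MT N) [] (a - 1) 1 (by simp))
  obtain ⟨z₀⟩ := isoSndOfIsZero (B := KoszulCone.obj (MT N) [] (a - 1) 0)
    (KoszulCone.isZero_obj (MT N) [] a 1 (by simp))
  haveI := KoszulCone.isIso_e0 (MT N) two.{u} a
  refine ⟨_, PBAtlas.shortExact_pull Θ.inv (koszul_shortExact N a), ⟨?_⟩, ⟨?_⟩, ⟨?_⟩⟩
  · exact G.mapIso (z₂ ≪≫ z₁ ≪≫ eqToIso (congrArg (MT N) (show a - 1 - 1 = a - 2 by ring))) ≪≫ (key (a - 2)).some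
  · exact G.mapIso (biprod.mapIso z₀ (Iso.refl (MT N (a - 1))) :
        KoszulCone.obj (MT N) two.{u} a 1 ≅ MT N (a - 1) ⊞ MT N (a - 1)) ≪≫
      G.mapBiprod _ _ ≪≫ biprod.mapIso (key (a - 1)).some (key (a - 1)).some
  · exact G.mapIso (asIso (KoszulCone.e0 (MT N) two.{u} a)) ≪≫ (key a).some

/-- The Koszul sequence in the second variable. -/
theorem exists_koszul_right (a b : ℤ) : ∃ S : ShortComplex (XQ k).Modules, S.ShortExact ∧
    Nonempty (S.X₁ ≅ OX k a (b - 2)) ∧ Nonempty (S.X₂ ≅ OX k a (b - 1) ⊞ OX k a (b - 1)) ∧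
    Nonempty (S.X₃ ≅ OX k a b) := by
  obtain ⟨S, hS, ⟨e₁⟩, ⟨e₂⟩, ⟨e₃⟩⟩ := exists_koszul_left (k := k) b a
  let G := Scheme.Modules.pullback (swapIso (k := k)).hom
  haveI : G.Additive := by
    haveI := PBAtlas.isLeftAdjoint_pullback (swapIso (k := k)).hom
    exact Functor.additive_of_preserves_binary_products _
  haveI : PreservesBinaryBiproducts G := preservesBinaryBiproducts_of_preservesBiproducts G
  refine ⟨_, PBAtlas.shortExact_pull (swapIso (k := k)).hom hS, ⟨?_⟩, ⟨?_⟩, ⟨?_⟩⟩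
  · exact G.mapIso e₁ ≪≫ (nonempty_swap (b - 2) a).some
  · exact G.mapIso e₂ ≪≫ G.mapBiprod _ _ ≪≫
      biprod.mapIso (nonempty_swap (b - 1) a).some (nonempty_swap (b - 1) a).some
  · exact G.mapIso e₃ ≪≫ (nonempty_swap b a).some

/-- `O(a, b) ⊗ O(c, d) ≅ O(a + c, b + d)`. -/
theorem cl_OX_mul (a b c d : ℤ) :
    PicF.cl (OX k a b) * PicF.cl (OX k c d) = PicF.cl (OX k (a + c) (b + d)) := by
  let t := CohB1.ProjSpace.toSpec 1 k
  let F := (pullHom (pullback.fst t t)).comp (SeesawX.PnFibre.twistHom 1 k)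
  let G := (pullHom (pullback.snd t t)).comp (SeesawX.PnFibre.twistHom 1 k)
  have h : ∀ m n : ℤ, PicF.cl (OX k m n) = F (Multiplicative.ofAdd m) * G (Multiplicative.ofAdd n) :=
    fun m n => cl_tensor _ _
  rw [h, h, h, ofAdd_add, ofAdd_add, map_mul, map_mul, mul_mul_mul_comm]

theorem cl_OX_zero : PicF.cl (OX k 0 0) = 1 := by
  let t := CohB1.ProjSpace.toSpec 1 k
  let F := (pullHom (pullback.fst t t)).comp (SeesawX.PnFibre.twistHom 1 k)
  let G := (pullHom (pullback.snd t t)).comp (SeesawX.PnFibre.twistHom 1 k)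
  show PicF.cl (CohB1.tensorMod _ _) = 1
  rw [cl_tensor]
  exact (congrArg₂ (· * ·) (map_one F) (map_one G)).trans (one_mul 1)

/-- The global functions are constant. -/
theorem bijective_xTo [IsAlgClosed k] : Function.Bijective (xTo k).appTop := by
  let t := CohB1.ProjSpace.toSpec 1 k
  haveI := SeesawX.PnProps.isIntegral_std (n := 1) k
  haveI : IsProper t := PnCoh.Chow.isProper_toSpec 1 k
  have h1 := AGFLib.BorelImage.bijective_appTop_of_isProper t
  have h2 := GrpSchLib.AntiAffine.bijective_appTop_snd h1 t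
  have h3 : xTo k = pullback.snd t t ≫ t := pullback.condition
  rw [h3, Scheme.Hom.comp_appTop]
  exact h2.comp h1

end Groth.Agent.Synt29.Quadric
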