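import Mathlib

/-!
Derivations of a finitely generated extension of a perfect field bound the transcendence degree.
-/

set_option autoImplicit false

universe u v w

namespace Groth.Agent.Synt29.TrdegDer

open scoped IntermediateField.algebraAdjoinAdjoin TensorProduct

variable (k : Type u) (K : Type u) [Field k] [Field K] [Algebra k K]

/-- The module of derivations of a finitely generated extension of a perfect field has dimension
the transcendence degree. -/
theorem exists_basis_derivation [PerfectField k] [Algebra.EssFiniteType k K] :
    ∃ s : Finset K, IsTranscendenceBasis k ((↑) : s → K) ∧ FiniteDimensional K (Derivation k K K) ∧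
      Module.finrank K (Derivation k K K) = s.card := by
  obtain ⟨s, hs, H⟩ := exists_isTranscendenceBasis_and_isSeparable_of_perfectField k K
  refine ⟨s, hs, ?_⟩
  have : Algebra.IsSeparable (↥(IntermediateField.adjoin k (Set.range ((↑) : s → K)))) K := by
    convert! H <;> simp
  let A := Algebra.adjoin k (Set.range ((↑) : s → K))
  let M := IntermediateField.adjoin k (Set.range ((↑) : s → K))
  have : Algebra.FormallyEtale A M := Algebra.FormallyEtale.of_isLocalization (nonZeroDivisors A)
  have : Algebra.FormallyEtale M K := Algebra.FormallyEtale.of_isSeparable _ K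
  have : Algebra.FormallyEtale A K := Algebra.FormallyEtale.comp A M K
  let ev : MvPolynomial s k ≃ₐ[k] A := hs.1.aevalEquiv
  letI : Algebra (MvPolynomial s k) A := ev.toAlgHom.toRingHom.toAlgebra
  letI : Algebra (MvPolynomial s k) K := ((algebraMap A K).comp ev.toAlgHom.toRingHom).toAlgebra
  haveI : IsScalarTower (MvPolynomial s k) A K := IsScalarTower.of_algebraMap_eq' rfl
  haveI : IsScalarTower k (MvPolynomial s k) K := IsScalarTower.of_algebraMap_eq fun r => by
    show algebraMap k K r = algebraMap A K (ev (algebraMap k _ r))
    rw [ev.commutes, ← IsScalarTower.algebraMap_apply k A K]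
  haveI : Algebra.FormallyEtale (MvPolynomial s k) A :=
    Algebra.FormallyEtale.of_equiv
      ({ ev with commutes' := fun r => rfl } : MvPolynomial s k ≃ₐ[MvPolynomial s k] A)
  haveI : Algebra.FormallyEtale (MvPolynomial s k) K := Algebra.FormallyEtale.comp _ A K
  let b : Module.Basis s K Ω[K⁄k] :=
    ((KaehlerDifferential.mvPolynomialBasis k s).baseChange K).map
      (KaehlerDifferential.tensorKaehlerEquivOfFormallyEtale k (MvPolynomial s k) K)
  have : FiniteDimensional K Ω[K⁄k] := Module.Finite.of_basis b
  let e := KaehlerDifferential.linearMapEquivDerivation k K (M := K)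
  refine ⟨e.finiteDimensional, ?_⟩
  rw [← e.finrank_eq, show Module.finrank K (Ω[K⁄k] →ₗ[K] K) = Module.finrank K Ω[K⁄k] from
    Subspace.dual_finrank_eq, Module.finrank_eq_card_basis b, Fintype.card_coe]

theorem card_le_finrank_derivation [PerfectField k] [Algebra.EssFiniteType k K] {ι : Type w} [Fintype ι]
    (a : ι → K) (ha : AlgebraicIndependent k a) :
    FiniteDimensional K (Derivation k K K) ∧ Fintype.card ι ≤ Module.finrank K (Derivation k K K) := by
  obtain ⟨s, hs, hf, hr⟩ := exists_basis_derivation k K
  refine ⟨hf, ?_⟩
  have h := hs.lift_cardinalMk_eq_trdeg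
  have h' := ha.lift_cardinalMk_le_trdeg
  simp only [Cardinal.mk_fintype, Fintype.card_coe, Cardinal.lift_natCast, Cardinal.lift_id] at h h'
  rw [hr]
  have : (Fintype.card ι : Cardinal.{max u w}) ≤ s.card := by
    refine le_trans h' ?_
    rw [← h]; simp
  exact_mod_cast this

/-- Two derivations killing generators vanish. -/
theorem derivation_eq_zero (s : Set K) (hs : IntermediateField.adjoin k s = ⊤) (D : Derivation k K K)
    (hD : ∀ a ∈ s, D a = 0) : D = 0 := by
  ext a
  have ha : a ∈ IntermediateField.adjoin k s := by rw [hs]; exact IntermediateField.mem_top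
  induction ha using IntermediateField.adjoin_induction with
  | mem x hx => exact hD x hx
  | algebraMap x => simp
  | add x y _ _ hx hy => simp_all
  | inv x _ hx => simp_all [Derivation.leibniz_inv]
  | mul x y _ _ hx hy => simp_all [Derivation.leibniz]

end Groth.Agent.Synt29.TrdegDer
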