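import Groth.Agent.Synt29.WronskiMap
import Groth.Agent.Synt29.TrdegDer

/-!
The space of pencils with prescribed tame ramification has dimension at most the number of points.
-/

set_option autoImplicit false

universe u w

open Polynomial

namespace Groth.Agent.Synt29.RamDim

variable {k : Type u} {K : Type u} [Field k] [Field K] [Algebra k K]

/-- A derivation applied to the coefficients of a polynomial. -/
noncomputable def Dc (D : Derivation k K K) (F : K[X]) : K[X] :=
  F.sum fun m a => monomial m (D a)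

theorem coeff_Dc (D : Derivation k K K) (F : K[X]) (j : ℕ) : (Dc D F).coeff j = D (F.coeff j) := by
  rw [Dc, Polynomial.sum_def, finsetSum_coeff]
  simp only [coeff_monomial]
  rw [Finset.sum_ite_eq']
  split_ifs with h
  · rfl
  · rw [notMem_support_iff.1 h, map_zero]

theorem natDegree_Dc_le (D : Derivation k K K) (F : K[X]) : (Dc D F).natDegree ≤ F.natDegree :=
  natDegree_le_iff_coeff_eq_zero.2 fun j hj => by rw [coeff_Dc, coeff_eq_zero_of_natDegree_lt hj, map_zero]

theorem Dc_sub (D : Derivation k K K) (F G : K[X]) : Dc D (F - G) = Dc D F - Dc D G := by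
  ext j; simp [coeff_Dc]

theorem Dc_add (D E : Derivation k K K) (F : K[X]) : Dc (D + E) F = Dc D F + Dc E F := by
  ext j; simp [coeff_Dc]

theorem Dc_smul (c : K) (D : Derivation k K K) (F : K[X]) : Dc (c • D) F = C c * Dc D F := by
  ext j; simp [coeff_Dc]

theorem Dc_C (D : Derivation k K K) (a : K) : Dc D (C a) = C (D a) := by
  ext j; rw [coeff_Dc, coeff_C, coeff_C]; split_ifs <;> simp

theorem Dc_X (D : Derivation k K K) : Dc D (X : K[X]) = 0 := by
  ext j; rw [coeff_Dc, coeff_X]; split_ifs <;> simp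

theorem Dc_mul (D : Derivation k K K) (F G : K[X]) : Dc D (F * G) = Dc D F * G + F * Dc D G := by
  ext j
  simp only [coeff_Dc, coeff_mul, coeff_add, map_sum, ← Finset.sum_add_distrib, Derivation.leibniz,
    smul_eq_mul]
  exact Finset.sum_congr rfl fun x _ => by ring

theorem Dc_pow_succ_mul (D : Derivation k K K) (a : K) (m : ℕ) (H : K[X]) :
    Dc D ((X - C a) ^ (m + 1) * H) =
      (X - C a) ^ m * ((X - C a) * Dc D H - C (((m : K) + 1) * D a) * H) := by
  induction m generalizing H with
  | zero => rw [zero_add, pow_one, Dc_mul, Dc_sub, Dc_X, Dc_C]; simp; ring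
  | succ m ih =>
    rw [pow_succ, mul_assoc, ih, Dc_mul, Dc_sub, Dc_X, Dc_C]
    simp only [map_mul, map_add, Nat.cast_succ, map_one]
    ring

theorem D_eval (D : Derivation k K K) (F : K[X]) (a : K) :
    D (F.eval a) = (Dc D F).eval a + (derivative F).eval a * D a := by
  induction F using Polynomial.induction_on with
  | C c => simp [Dc_C]
  | add f g hf hg =>
    rw [eval_add, map_add, hf, hg, show f + g = f - (-1 : K[X]) * g by ring, Dc_sub, Dc_mul,
      ← C_1, ← C_neg, Dc_C]
    simp; ring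
  | monomial n c h =>
    rw [pow_succ, ← mul_assoc, Dc_mul _ _ X, Dc_X, eval_mul, eval_X, Derivation.leibniz, h]
    simp [derivative_mul]; ring

theorem pow_dvd_iff_taylor {R : Type w} [CommRing R] (F : R[X]) (a : R) (m : ℕ) :
    (X - C a) ^ m ∣ F ↔ ∀ l < m, (taylor a F).coeff l = 0 := by
  rw [← X_pow_dvd_iff]
  constructor
  · rintro ⟨H, rfl⟩
    refine ⟨taylor a H, ?_⟩
    simp [taylor_mul, taylor_pow]
  · rintro ⟨H, hH⟩
    refine ⟨taylor (-a) H, ?_⟩
    have h := congrArg (taylor (-a)) hH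
    rw [taylor_taylor, neg_add_cancel, taylor_zero, taylor_mul, taylor_pow, taylor_X, map_neg,
      ← sub_eq_add_neg] at h
    exact h

variable {d' n : ℕ}

/-- The member of the pencil vanishing at a point. -/
noncomputable def N {R : Type w} [CommRing R] (F G : R[X]) (a : R) : R[X] :=
  C (G.eval a) * F - C (F.eval a) * G

theorem map_N {R S : Type w} [CommRing R] [CommRing S] (f : R →+* S) (F G : R[X]) (a : R) :
    (N F G a).map f = N (F.map f) (G.map f) (f a) := by
  simp [N, Polynomial.map_sub, Polynomial.map_mul, eval_map, eval₂_hom]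

theorem pow_pred_dvd_wronskian_of_N {F G : K[X]} {a : K} {m : ℕ} (hne : G.eval a ≠ 0 ∨ F.eval a ≠ 0)
    (hN : (X - C a) ^ m ∣ N F G a) : (X - C a) ^ (m - 1) ∣ wronskian F G := by
  rcases hne with h | h
  · have e1 : wronskian (N F G a) G = C (G.eval a) * wronskian F G := by
      simp only [N, wronskian, derivative_sub, derivative_mul, derivative_C]; ring
    have := Pencil.pow_pred_dvd_wronskian G hN
    rw [e1] at this
    exact ((isUnit_C.2 h.isUnit).dvd_mul_left).1 this
  · have e1 : wronskian (N F G a) F = C (F.eval a) * wronskian F G := by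
      simp only [N, wronskian, derivative_sub, derivative_mul, derivative_C]; ring
    have := Pencil.pow_pred_dvd_wronskian F hN
    rw [e1] at this
    exact ((isUnit_C.2 h.isUnit).dvd_mul_left).1 this

/-- The conditions on a normalised pair and its ramification points. -/
structure IsRam (x : Fin 2 × Fin d' → K) (P : Fin n → K) (e : Fin n → ℕ) : Prop where
  inj : Function.Injective P
  one_le : ∀ i, 1 ≤ e i
  cast_ne : ∀ i, (e i : K) ≠ 0
  sum_eq : ∑ i, (e i - 1) = 2 * d'
  dvd : ∀ i, (X - C (P i)) ^ e i ∣ N (WronskiMap.spec x 0 (d' + 1)) (WronskiMap.spec x 1 d') (P i)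
  not_dvd : ∀ i, ¬ (X - C (P i)) ^ (e i + 1) ∣ N (WronskiMap.spec x 0 (d' + 1)) (WronskiMap.spec x 1 d') (P i)

theorem IsRam.eval_ne {x : Fin 2 × Fin d' → K} {P : Fin n → K} {e : Fin n → ℕ} (h : IsRam x P e) (i : Fin n) :
    (WronskiMap.spec x 1 d').eval (P i) ≠ 0 ∨ (WronskiMap.spec x 0 (d' + 1)).eval (P i) ≠ 0 := by
  by_contra h'
  push Not at h'
  exact h.not_dvd i (by simp [N, h'.1, h'.2])

theorem IsRam.prod_dvd {x : Fin 2 × Fin d' → K} {P : Fin n → K} {e : Fin n → ℕ} (h : IsRam x P e) (Φ : K[X])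
    (hΦ : ∀ i, (X - C (P i)) ^ (e i - 1) ∣ Φ) : ∏ i, (X - C (P i)) ^ (e i - 1) ∣ Φ :=
  Finset.prod_dvd_of_coprime (fun i _ j _ hij =>
    (isCoprime_X_sub_C_of_isUnit_sub (sub_ne_zero.2 fun h' => hij (h.inj h')).isUnit).pow) fun i _ => hΦ i

theorem IsRam.natDegree_prod {x : Fin 2 × Fin d' → K} {P : Fin n → K} {e : Fin n → ℕ} (h : IsRam x P e) :
    (∏ i, (X - C (P i)) ^ (e i - 1)).natDegree = 2 * d' := by
  rw [natDegree_prod_of_monic _ _ fun i _ => (monic_X_sub_C _).pow _]
  simpa [natDegree_pow] using h.sum_eq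

theorem wronskian_spec_ne_zero (x : Fin 2 × Fin d' → K) :
    wronskian (WronskiMap.spec x 0 (d' + 1)) (WronskiMap.spec x 1 d') ≠ 0 := by
  obtain ⟨hFd, hFm⟩ := WronskiMap.natDegree_spec x (0 : Fin 2) (D := d' + 1) (by omega)
  obtain ⟨hGd, hGm⟩ := WronskiMap.natDegree_spec x (1 : Fin 2) (D := d') le_rfl
  generalize WronskiMap.spec x 0 (d' + 1) = F at hFd hFm ⊢
  generalize WronskiMap.spec x 1 d' = G at hGd hGm ⊢
  have hF1 : F.coeff (d' + 1) = 1 := by rw [← hFd, coeff_natDegree]; exact hFm
  have hG1 : G.coeff d' = 1 := by rw [← hGd, coeff_natDegree]; exact hGm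
  intro h
  have hc : (wronskian F G).coeff (2 * d') = -1 := by
    rw [wronskian, coeff_sub]
    rcases Nat.eq_zero_or_pos d' with h0 | h0
    · have hG1' : G = 1 := hGm.natDegree_eq_zero.1 (hGd.trans h0)
      have : F.coeff 1 = 1 := by simpa [h0] using hF1
      simp [hG1', h0, coeff_derivative, this]
    · rw [show 2 * d' = (d' + 1) + (d' - 1) by omega, coeff_mul_add_eq_of_natDegree_le hFd.le (by
          have := natDegree_derivative_le G; omega),
        show (d' + 1) + (d' - 1) = d' + d' by omega, coeff_mul_add_eq_of_natDegree_le (by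
          have := natDegree_derivative_le F; omega) hGd.le, coeff_derivative, coeff_derivative,
        show d' - 1 + 1 = d' by omega, hF1, hG1,
        show ((d' - 1 : ℕ) : K) + 1 = (d' : K) by rw [← Nat.cast_succ, Nat.succ_eq_add_one, Nat.sub_add_cancel h0]]
      ring
  rw [h, coeff_zero] at hc
  exact one_ne_zero (neg_eq_zero.1 hc.symm)

theorem IsRam.isCoprime {x : Fin 2 × Fin d' → K} {P : Fin n → K} {e : Fin n → ℕ} (h : IsRam x P e) :
    IsCoprime (WronskiMap.spec x 0 (d' + 1)) (WronskiMap.spec x 1 d') := by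
  have hW := wronskian_spec_ne_zero x
  have hne := h.eval_ne
  have hN := h.dvd
  have hQd := h.natDegree_prod
  have hdvd' := h.prod_dvd
  obtain ⟨hFd, hFm⟩ := WronskiMap.natDegree_spec x (0 : Fin 2) (D := d' + 1) (by omega)
  obtain ⟨hGd, hGm⟩ := WronskiMap.natDegree_spec x (1 : Fin 2) (D := d') le_rfl
  generalize WronskiMap.spec x 0 (d' + 1) = F at hFd hFm hW hne hN ⊢
  generalize WronskiMap.spec x 1 d' = G at hGd hGm hW hne hN ⊢
  have hdeg : (wronskian F G).natDegree ≤ 2 * d' := by
    rw [wronskian]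
    refine (natDegree_sub_le _ _).trans (max_le ?_ ?_)
    · rcases Nat.eq_zero_or_pos d' with h0 | h0
      · rw [hGm.natDegree_eq_zero.1 (hGd.trans h0)]; simp
      · have := natDegree_derivative_le G
        exact natDegree_mul_le.trans (by omega)
    · have := natDegree_derivative_le F
      exact natDegree_mul_le.trans (by omega)
  obtain ⟨u, hu⟩ := hdvd' _ fun i => pow_pred_dvd_wronskian_of_N (hne i) (hN i)
  have hu0 : u ≠ 0 := fun h => hW (by rw [hu, h, mul_zero])
  have hud : u.natDegree = 0 := by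
    rw [hu, natDegree_mul (monic_prod_of_monic _ _ fun i _ => (monic_X_sub_C _).pow _).ne_zero hu0] at hdeg; omega
  refine isCoprime_of_prime_dvd (fun h => hGm.ne_zero h.2) fun q hq hqF hqG => ?_
  have hqW : q ∣ (∏ i, (X - C (P i)) ^ (e i - 1)) * u := hu ▸ dvd_sub (hqF.mul_right _) (hqG.mul_left _)
  rcases hq.dvd_or_dvd hqW with h | h
  · obtain ⟨i, -, hi⟩ := hq.exists_mem_finset_dvd h
    have hqi : q ∣ X - C (P i) := hq.dvd_of_dvd_pow hi
    have hass := hq.irreducible.associated_of_dvd (irreducible_X_sub_C _) hqi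
    rcases hne i with h | h
    · exact h (dvd_iff_isRoot.1 (hass.symm.dvd.trans hqG))
    · exact h (dvd_iff_isRoot.1 (hass.symm.dvd.trans hqF))
  · rw [eq_C_of_natDegree_eq_zero hud] at h hu0
    exact hq.not_unit (isUnit_of_dvd_unit h (isUnit_C.2 (by simpa using hu0)))

variable (x : Fin 2 × Fin d' → K) (P : Fin n → K)

/-- The variation of the monic member of larger degree. -/
noncomputable def δF (D : Derivation k K K) (v : Fin 3 → K) : K[X] :=
  Dc D (WronskiMap.spec x 0 (d' + 1)) + C (v 0) * WronskiMap.spec x 0 (d' + 1) + C (v 1) * WronskiMap.spec x 1 d'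

/-- The variation of the monic member of smaller degree. -/
noncomputable def δG (D : Derivation k K K) (v : Fin 3 → K) : K[X] :=
  Dc D (WronskiMap.spec x 1 d') + C (v 2) * WronskiMap.spec x 0 (d' + 1)

/-- The tangent polynomial. -/
noncomputable def Φ (D : Derivation k K K) (v : Fin 3 → K) : K[X] :=
  δF x D v * WronskiMap.spec x 1 d' - WronskiMap.spec x 0 (d' + 1) * δG x D v

/-- The variation of the branch values. -/
noncomputable def w (D : Derivation k K K) (v : Fin 3 → K) (i : Fin n) : K :=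
  (D ((WronskiMap.spec x 0 (d' + 1)).eval (P i)) + v 0 * (WronskiMap.spec x 0 (d' + 1)).eval (P i) +
      v 1 * (WronskiMap.spec x 1 d').eval (P i)) * (WronskiMap.spec x 1 d').eval (P i) -
    (WronskiMap.spec x 0 (d' + 1)).eval (P i) *
      (D ((WronskiMap.spec x 1 d').eval (P i)) + v 2 * (WronskiMap.spec x 0 (d' + 1)).eval (P i))

/-- The tangent map. -/
noncomputable def S (t : Finset (Fin n)) : (Derivation k K K × (Fin 3 → K)) →ₗ[K] (t → K) × (Fin 3 → K) where
  toFun p := (fun i => w x P p.1 p.2 i, fun m => (Φ x p.1 p.2).coeff (2 * d' + m))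
  map_add' p q := by
    refine Prod.ext (funext fun i => ?_) (funext fun m => ?_)
    · simp [w]; ring
    · have : Φ x (p.1 + q.1) (p.2 + q.2) = Φ x p.1 p.2 + Φ x q.1 q.2 := by
        simp [Φ, δF, δG, Dc_add]; ring
      simp [this]
  map_smul' c p := by
    refine Prod.ext (funext fun i => ?_) (funext fun m => ?_)
    · simp [w]; ring
    · have : Φ x (c • p.1) (c • p.2) = C c * Φ x p.1 p.2 := by
        simp [Φ, δF, δG, Dc_smul]; ring
      simp [this]

variable {x P}

theorem IsRam.dvd_aux {e : Fin n → ℕ} (h : IsRam x P e) (D : Derivation k K K) (v : Fin 3 → K) (i : Fin n)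
    (hw : w x P D v i = 0) :
    (X - C (P i)) ^ e i ∣ C ((WronskiMap.spec x 1 d').eval (P i)) * δF x D v -
        C ((WronskiMap.spec x 0 (d' + 1)).eval (P i)) * δG x D v -
          Dc D (N (WronskiMap.spec x 0 (d' + 1)) (WronskiMap.spec x 1 d') (P i)) := by
  have hne := h.eval_ne i
  have hN := h.dvd i
  simp only [w, δF, δG] at hw ⊢
  generalize WronskiMap.spec x 0 (d' + 1) = F at hne hN hw ⊢
  generalize WronskiMap.spec x 1 d' = G at hne hN hw ⊢
  obtain ⟨u, hu⟩ : ∃ u, u = -D (G.eval (P i)) + v 0 * G.eval (P i) - v 2 * F.eval (P i) := ⟨_, rfl⟩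
  obtain ⟨z, hz⟩ : ∃ z, z = D (F.eval (P i)) + v 1 * G.eval (P i) := ⟨_, rfl⟩
  have hR : (X - C (P i)) ^ e i ∣ C u * F + C z * G := by
    have h0 : u * F.eval (P i) + z * G.eval (P i) = 0 := by rw [← hw, hu, hz]; ring
    rcases hne with hG | hF
    · have e1 : C (G.eval (P i)) * (C u * F + C z * G) = C u * N F G (P i) := by
        have : C z * C (G.eval (P i)) = -(C u * C (F.eval (P i))) := by
          rw [← map_mul, ← map_mul, ← map_neg]; congr 1; linear_combination h0
        simp only [N]; linear_combination G * this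
      refine ((isUnit_C.2 hG.isUnit).dvd_mul_left).1 ?_
      rw [e1]; exact hN.mul_left _
    · have e1 : C (F.eval (P i)) * (C u * F + C z * G) = -(C z * N F G (P i)) := by
        have : C u * C (F.eval (P i)) = -(C z * C (G.eval (P i))) := by
          rw [← map_mul, ← map_mul, ← map_neg]; congr 1; linear_combination h0
        simp only [N]; linear_combination F * this
      refine ((isUnit_C.2 hF.isUnit).dvd_mul_left).1 ?_
      rw [e1]; exact (hN.mul_left _).neg_right
  convert hR using 1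
  simp only [hu, hz, N, Dc_sub, Dc_mul, Dc_C, map_sub, map_add, map_neg, map_mul]
  ring

theorem IsRam.Φ_eq_zero {e : Fin n → ℕ} (h : IsRam x P e) (D : Derivation k K K) (v : Fin 3 → K)
    (hw : ∀ i, w x P D v i = 0) (hc : ∀ m : Fin 3, (Φ x D v).coeff (2 * d' + m) = 0) : Φ x D v = 0 := by
  have hne := h.eval_ne
  have haux := fun i => h.dvd_aux D v i (hw i)
  have hN := h.dvd
  have he := h.one_le
  have hQd := h.natDegree_prod
  have hdvd' := h.prod_dvd
  obtain ⟨hFd, hFm⟩ := WronskiMap.natDegree_spec x (0 : Fin 2) (D := d' + 1) (by omega)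
  obtain ⟨hGd, hGm⟩ := WronskiMap.natDegree_spec x (1 : Fin 2) (D := d') le_rfl
  simp only [Φ, δF, δG] at haux hc ⊢
  generalize WronskiMap.spec x 0 (d' + 1) = F at hFd hFm hne hN haux hc ⊢
  generalize WronskiMap.spec x 1 d' = G at hGd hGm hne hN haux hc ⊢
  generalize hf : Dc D F + C (v 0) * F + C (v 1) * G = f at haux hc ⊢
  generalize hg : Dc D G + C (v 2) * F = g at haux hc ⊢
  have h1 : f.natDegree ≤ d' + 1 := hf ▸
    natDegree_add_le_of_degree_le (natDegree_add_le_of_degree_le ((natDegree_Dc_le _ _).trans hFd.le)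
      ((natDegree_C_mul_le _ _).trans hFd.le)) ((natDegree_C_mul_le _ _).trans (by omega))
  have h2 : g.natDegree ≤ d' + 1 := hg ▸
    natDegree_add_le_of_degree_le ((natDegree_Dc_le _ _).trans (by omega)) ((natDegree_C_mul_le _ _).trans hFd.le)
  have hMd : ∀ i, (X - C (P i)) ^ (e i - 1) ∣ C (G.eval (P i)) * f - C (F.eval (P i)) * g := fun i => by
    obtain ⟨H, hH⟩ := hN i
    have h3 : (X - C (P i)) ^ (e i - 1) ∣ Dc D (N F G (P i)) := by
      rw [hH, ← Nat.sub_add_cancel (show 1 ≤ e i by linarith [he i]), Dc_pow_succ_mul, Nat.add_sub_cancel]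
      exact dvd_mul_right _ _
    have := dvd_add ((pow_dvd_pow _ (Nat.sub_le _ _)).trans (haux i)) h3
    rwa [sub_add_cancel] at this
  have hdvd := hdvd' (f * G - F * g) fun i => by
    have hNd := (pow_dvd_pow (X - C (P i)) (Nat.sub_le (e i) 1)).trans (hN i)
    rcases hne i with hG | hF
    · have e1 : C (G.eval (P i)) * (f * G - F * g) =
          G * (C (G.eval (P i)) * f - C (F.eval (P i)) * g) - N F G (P i) * g := by
        simp only [N]; ring
      exact ((isUnit_C.2 hG.isUnit).dvd_mul_left).1 (e1 ▸ dvd_sub ((hMd i).mul_left _) (hNd.mul_right _))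
    · have e1 : C (F.eval (P i)) * (f * G - F * g) =
          F * (C (G.eval (P i)) * f - C (F.eval (P i)) * g) - N F G (P i) * f := by
        simp only [N]; ring
      exact ((isUnit_C.2 hF.isUnit).dvd_mul_left).1 (e1 ▸ dvd_sub ((hMd i).mul_left _) (hNd.mul_right _))
  by_contra hne0
  have hge := natDegree_le_of_dvd hdvd hne0
  rw [hQd] at hge
  have hd : (f * G - F * g).natDegree ≤ 2 * d' + 2 := by
    refine (natDegree_sub_le _ _).trans (max_le (natDegree_mul_le.trans ?_) (natDegree_mul_le.trans ?_)) <;> omega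
  have := hc ⟨(f * G - F * g).natDegree - 2 * d', by omega⟩
  rw [show 2 * d' + ((f * G - F * g).natDegree - 2 * d') = (f * G - F * g).natDegree by omega] at this
  exact hne0 (leadingCoeff_eq_zero.1 this)

theorem IsRam.tangent_eq_zero {e : Fin n → ℕ} (h : IsRam x P e)
    (hgen : IntermediateField.adjoin k (Set.range x ∪ Set.range P) = ⊤) (D : Derivation k K K) (v : Fin 3 → K)
    (hw : ∀ i, w x P D v i = 0) (hc : ∀ m : Fin 3, (Φ x D v).coeff (2 * d' + m) = 0) : D = 0 ∧ v = 0 := by
  have hΦ0 := h.Φ_eq_zero D v hw hc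
  have hco := h.isCoprime
  obtain ⟨hFd, hFm⟩ := WronskiMap.natDegree_spec x (0 : Fin 2) (D := d' + 1) (by omega)
  obtain ⟨hGd, hGm⟩ := WronskiMap.natDegree_spec x (1 : Fin 2) (D := d') le_rfl
  set F := WronskiMap.spec x 0 (d' + 1) with hFdef
  set G := WronskiMap.spec x 1 d' with hGdef
  have hGle : ∀ j, d' < j → G.coeff j = 0 := fun j hj => coeff_eq_zero_of_natDegree_lt (hGd ▸ hj)
  have hF1 : F.coeff (d' + 1) = 1 := by rw [← hFd, coeff_natDegree]; exact hFm
  have hG1 : G.coeff d' = 1 := by rw [← hGd, coeff_natDegree]; exact hGm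
  have hF0 : F.coeff d' = 0 := by
    rw [hFdef, WronskiMap.coeff_spec, if_neg (by omega), dif_neg (lt_irrefl d'), add_zero]
  have heq : δF x D v * G = F * δG x D v := sub_eq_zero.1 hΦ0
  obtain ⟨l, hl⟩ : G ∣ δG x D v := hco.symm.dvd_of_dvd_mul_left (heq ▸ dvd_mul_left _ _)
  have hlF : δF x D v = F * l := mul_right_cancel₀ hGm.ne_zero (by rw [heq, hl]; ring)
  have hld : l.natDegree = 0 := by
    rcases eq_or_ne l 0 with rfl | hl0
    · simp
    have h1 : (δF x D v).natDegree ≤ d' + 1 :=
      natDegree_add_le_of_degree_le (natDegree_add_le_of_degree_le ((natDegree_Dc_le _ _).trans hFd.le)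
        ((natDegree_C_mul_le _ _).trans hFd.le)) ((natDegree_C_mul_le _ _).trans (hGd.le.trans (Nat.le_succ d')))
    rw [hlF, natDegree_mul hFm.ne_zero hl0] at h1
    omega
  rw [eq_C_of_natDegree_eq_zero hld] at hl hlF
  have cF := fun j => congrArg (fun f : K[X] => f.coeff j) hlF
  have cG := fun j => congrArg (fun f : K[X] => f.coeff j) hl
  simp only [δF, δG, ← hFdef, ← hGdef, coeff_add, coeff_C_mul, coeff_Dc, coeff_mul_C] at cF cG
  have a1 := cG (d' + 1)
  rw [hGle _ (by omega), hF1] at a1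
  have a2 := cG d'
  rw [hG1, hF0] at a2
  have a3 := cF (d' + 1)
  rw [hGle _ (by omega), hF1] at a3
  have a4 := cF d'
  rw [hG1, hF0] at a4
  simp at a1 a2 a3 a4
  rw [← a2] at a3
  have hv : v = 0 := by
    funext m; fin_cases m <;> simp [a1, a3, a4]
  have hl0 : l.coeff 0 = 0 := a2.symm
  subst hv
  have hδF : δF x D 0 = 0 := by rw [hlF, hl0, map_zero, mul_zero]
  have hδG : δG x D 0 = 0 := by rw [hl, hl0, map_zero, mul_zero]
  have hxD : ∀ p, D (x p) = 0 := by
    rintro ⟨m, i⟩
    fin_cases m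
    · have h := congrArg (fun f : K[X] => f.coeff i) hδF
      simpa [δF, coeff_Dc, hFdef, WronskiMap.coeff_spec, i.2, show (i : ℕ) ≠ d' + 1 by omega] using h
    · have h := congrArg (fun f : K[X] => f.coeff i) hδG
      simpa [δG, coeff_Dc, hGdef, WronskiMap.coeff_spec, i.2, show (i : ℕ) ≠ d' by omega] using h
  have hPD : ∀ i, D (P i) = 0 := fun i => by
    have hd := h.dvd_aux D 0 i (hw i)
    rw [hδF, hδG, mul_zero, mul_zero, sub_zero, zero_sub, dvd_neg] at hd
    obtain ⟨H, hH⟩ := h.dvd i
    have hnd := h.not_dvd i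
    obtain ⟨m, hm⟩ : ∃ m, e i = m + 1 := ⟨e i - 1, by have := h.one_le i; omega⟩
    rw [hH, hm, Dc_pow_succ_mul, pow_succ, mul_dvd_mul_iff_left (pow_ne_zero _ (X_sub_C_ne_zero _)),
      dvd_sub_right (dvd_mul_right _ _), dvd_iff_isRoot, IsRoot.def, eval_mul, eval_C, mul_eq_zero, mul_eq_zero] at hd
    rcases hd with (hd | hd) | hd
    · exact absurd (by rw [hm, Nat.cast_succ, hd]) (h.cast_ne i)
    · exact hd
    · refine absurd ?_ hnd
      rw [hH, pow_succ]
      exact mul_dvd_mul_left _ (dvd_iff_isRoot.2 hd)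
  exact ⟨TrdegDer.derivation_eq_zero k K _ hgen D (by
    rintro _ (⟨p, rfl⟩ | ⟨i, rfl⟩)
    exacts [hxD p, hPD i]), rfl⟩

/-- The main bound. -/
theorem IsRam.card_le [PerfectField k] {e : Fin n → ℕ} (h : IsRam x P e)
    (hgen : IntermediateField.adjoin k (Set.range x ∪ Set.range P) = ⊤) (t : Finset (Fin n))
    (ht : ∀ j, j ∉ t → ∃ i ∈ t,
      (WronskiMap.spec x 0 (d' + 1)).eval (P i) * (WronskiMap.spec x 1 d').eval (P j) =
        (WronskiMap.spec x 0 (d' + 1)).eval (P j) * (WronskiMap.spec x 1 d').eval (P i))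
    {ι : Type w} [Fintype ι] (a : ι → K) (ha : AlgebraicIndependent k a) :
    Fintype.card ι ≤ t.card := by
  classical
  have hS : Function.Injective (S (k := k) x P t) := by
    rw [injective_iff_map_eq_zero]
    rintro ⟨D, v⟩ hp
    obtain ⟨hw', hc⟩ := Prod.ext_iff.1 hp
    have hw : ∀ j, w x P D v j = 0 := fun j => by
      by_cases hj : j ∈ t
      · exact congrFun hw' ⟨j, hj⟩
      obtain ⟨i, hi, hij⟩ := ht j hj
      have h0 : w x P D v i = 0 := congrFun hw' ⟨i, hi⟩
      have hne := h.eval_ne i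
      simp only [w] at h0 ⊢
      generalize WronskiMap.spec x 0 (d' + 1) = F at hij h0 hne ⊢
      generalize WronskiMap.spec x 1 d' = G at hij h0 hne ⊢
      rcases hne with hG | hF
      · obtain ⟨s, hs⟩ : ∃ s, G.eval (P j) = s * G.eval (P i) := ⟨G.eval (P j) / G.eval (P i), by field_simp⟩
        have hs' : F.eval (P j) = s * F.eval (P i) := mul_right_cancel₀ hG (by rw [← hij, hs]; ring)
        simp only [hs, hs', Derivation.leibniz, smul_eq_mul]
        linear_combination (s * s) * h0
      · obtain ⟨s, hs⟩ : ∃ s, F.eval (P j) = s * F.eval (P i) := ⟨F.eval (P j) / F.eval (P i), by field_simp⟩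
        have hs' : G.eval (P j) = s * G.eval (P i) := mul_left_cancel₀ hF (by rw [hij, hs]; ring)
        simp only [hs, hs', Derivation.leibniz, smul_eq_mul]
        linear_combination (s * s) * h0
    obtain ⟨hD, hv⟩ := h.tangent_eq_zero hgen D v hw fun m => congrFun hc m
    rw [hD, hv]; rfl
  have hEFT : Algebra.EssFiniteType k K := by
    have hfg : (⊤ : IntermediateField k K).FG :=
      hgen ▸ IntermediateField.fg_adjoin_of_finite ((Set.finite_range x).union (Set.finite_range P))
    haveI := IntermediateField.essFiniteType_iff.mpr hfg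
    exact Algebra.EssFiniteType.of_surjective (IntermediateField.topEquiv (F := k) (E := K)).toAlgHom
      IntermediateField.topEquiv.surjective
  obtain ⟨hfin, hcard⟩ := TrdegDer.card_le_finrank_derivation k K a ha
  have h' := LinearMap.finrank_le_finrank_of_injective hS
  simp only [Module.finrank_prod, Module.finrank_pi, Fintype.card_coe, Fintype.card_fin] at h'
  omega

end Groth.Agent.Synt29.RamDim
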