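import Groth.Agent.Synt29.RepOpen

/-!
Gluing charts of a Zariski sheaf on algebras to a scheme.
-/

set_option autoImplicit false
set_option backward.isDefEq.respectTransparency false
set_option linter.style.haveILetI false

universe u

open CategoryTheory CategoryTheory.Limits AlgebraicGeometry

namespace Groth.Agent.Synt29.RepOpen

variable {R : Type u} [CommRing R]

/-- Covering conditions and descent for a functor on algebras with finitely many charts. -/
structure Atlas (F : CommAlgCat.{u} R ⥤ Type u) where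
  /-- The indices. -/
  idx : Type
  fin : Fintype idx
  /-- The charts. -/
  chart : idx → Chart F
  principal : ∀ (i j : idx) (A : CommAlgCat.{u} R) (x : F.obj A), (chart i).P A x →
    ∃ h : A, ∀ (B : CommAlgCat.{u} R) (φ : A ⟶ B), (chart j).P B (F.map φ x) ↔ IsUnit (φ.hom h)
  cover : ∀ (L : CommAlgCat.{u} R), IsField L → ∀ x : F.obj L, ∃ i, (chart i).P L x
  sep : ∀ (A : CommAlgCat.{u} R) (s : Set A), Ideal.span s = ⊤ → ∀ x y : F.obj A,
    (∀ h ∈ s, F.map (toAway A h) x = F.map (toAway A h) y) → x = y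
  glue : ∀ (A : CommAlgCat.{u} R) (s : Finset A), Ideal.span (s : Set A) = ⊤ →
    ∀ xs : ∀ h ∈ s, F.obj (CommAlgCat.of R (Localization.Away h)),
    (∀ (h) (hh : h ∈ s) (h') (hh' : h' ∈ s) (B : CommAlgCat.{u} R)
      (φ : CommAlgCat.of R (Localization.Away h) ⟶ B) (ψ : CommAlgCat.of R (Localization.Away h') ⟶ B),
        toAway A h ≫ φ = toAway A h' ≫ ψ → F.map φ (xs h hh) = F.map ψ (xs h' hh')) →
    ∃ x : F.obj A, ∀ (h) (hh : h ∈ s), F.map (toAway A h) x = xs h hh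

variable {F : CommAlgCat.{u} R ⥤ Type u}

theorem Chart.map_eq (c : Chart F) {A : CommAlgCat.{u} R} {φ ψ : c.C ⟶ A} (h : F.map φ c.univ = F.map ψ c.univ) :
    φ = ψ :=
  (c.lift (c.map_mem ψ c.mem_univ)).unique h rfl

theorem map_map {A B C : CommAlgCat.{u} R} (φ : A ⟶ B) (ψ : B ⟶ C) (x : F.obj A) :
    F.map ψ (F.map φ x) = F.map (φ ≫ ψ) x := (FunctorToTypes.map_comp_apply F φ ψ x).symm

theorem map_one {A : CommAlgCat.{u} R} (x : F.obj A) : F.map (𝟙 A) x = x :=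
  FunctorToTypes.map_id_apply F x

/-- Extension to a localization. -/
theorem exists_away {A B : CommAlgCat.{u} R} (φ : A ⟶ B) (h : A) (hu : IsUnit (φ.hom h)) :
    ∃ ψ : CommAlgCat.of R (Localization.Away h) ⟶ B, toAway A h ≫ ψ = φ := by
  refine ⟨CommAlgCat.ofHom (IsLocalization.liftAlgHom (M := Submonoid.powers h) (f := φ.hom)
    (fun y => ?_)), CommAlgCat.hom_ext (AlgHom.ext fun x => IsLocalization.lift_eq _ _)⟩
  obtain ⟨k, hk⟩ := y.2
  rw [← hk, map_pow]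
  exact hu.pow k

theorem away_hom_ext {A B : CommAlgCat.{u} R} {h : A} {ψ ψ' : CommAlgCat.of R (Localization.Away h) ⟶ B}
    (e : toAway A h ≫ ψ = toAway A h ≫ ψ') : ψ = ψ' :=
  CommAlgCat.hom_ext (IsLocalization.algHom_ext (Submonoid.powers h) (congrArg CommAlgCat.Hom.hom e))

theorem spMap_range_away {A : CommAlgCat.{u} R} (h : A) :
    Set.range (spMap (toAway A h)) = {p : PrimeSpectrum A | h ∉ p.asIdeal} :=
  PrimeSpectrum.localization_away_comap_range (Localization.Away h) h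

/-- Morphisms to a spectrum as homomorphisms. -/
noncomputable def spEquiv (C A : CommAlgCat.{u} R) : (sp A ⟶ sp C) ≃ (C ⟶ A) :=
  (Equiv.ofBijective (fun φ : C ⟶ A => spOver φ)
    ⟨fun φ ψ h => CommAlgCat.hom_ext (AlgHom.ext fun x => by
      have := congrArg CommaMorphism.left h
      exact RingHom.congr_fun (congrArg CommRingCat.Hom.hom (Spec.map_injective this)) x),
    fun g => (exists_spMap g).imp fun _ h => h.symm⟩).symm

theorem spEquiv_spOver {C A : CommAlgCat.{u} R} (φ : C ⟶ A) : spEquiv C A (spOver φ) = φ :=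
  (Equiv.symm_apply_eq _).2 rfl

/-- A smaller chart inside a chart. -/
noncomputable def subChart (c c' : Chart F) (hle : ∀ A x, c'.P A x → c.P A x) :
    Chart (coyoneda.obj (Opposite.op c.C)) where
  P A φ := c'.P A (F.map φ c.univ)
  C := c'.C
  univ := (c.lift (hle _ _ c'.mem_univ)).exists.choose
  mem_univ := by
    rw [(c.lift (hle _ _ c'.mem_univ)).exists.choose_spec]
    exact c'.mem_univ
  map_mem {A B} ψ {φ} h := by
    show c'.P B (F.map (φ ≫ ψ) c.univ)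
    rw [← map_map]
    exact c'.map_mem ψ h
  lift {A φ} h := by
    obtain ⟨χ, hχ, huniq⟩ := c'.lift h
    refine ⟨χ, c.map_eq ?_, fun χ' hχ' => huniq χ' ?_⟩
    · show F.map ((c.lift (hle _ _ c'.mem_univ)).exists.choose ≫ χ) c.univ = _
      rw [← map_map, (c.lift (hle _ _ c'.mem_univ)).exists.choose_spec, hχ]
    · rw [← show (c.lift (hle _ _ c'.mem_univ)).exists.choose ≫ χ' = φ from hχ', ← map_map,
        (c.lift (hle _ _ c'.mem_univ)).exists.choose_spec]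
  isOpen {A} φ L hL ψ h := by
    have h' : c'.P L (F.map ψ (F.map φ c.univ)) := by rw [map_map]; exact h
    obtain ⟨a, ha, ha'⟩ := c'.isOpen (F.map φ c.univ) L hL ψ h'
    refine ⟨a, ha, ?_⟩
    show c'.P _ (F.map (φ ≫ toAway A a) c.univ)
    rw [← map_map]
    exact ha'

theorem isNat_spEquiv (C : CommAlgCat.{u} R) :
    IsNat (sp C) (coyoneda.obj (Opposite.op C)) (fun A => spEquiv C A) := by
  intro A B φ g
  obtain ⟨χ, rfl⟩ := exists_spMap g
  rw [← spOver_comp, spEquiv_spOver, spEquiv_spOver]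
  rfl

theorem hom_subChart (c c' : Chart F) (hle : ∀ A x, c'.P A x → c.P A x) :
    (subChart c c' hle).hom (fun A => spEquiv c.C A) = spOver (subChart c c' hle).univ :=
  (Equiv.symm_apply_eq _).2 (spEquiv_spOver _).symm

namespace Atlas

variable (𝒜 : Atlas F)

/-- Being in all the charts of a set. -/
def PT (T : Finset 𝒜.idx) (A : CommAlgCat.{u} R) (x : F.obj A) : Prop := ∀ j ∈ T, (𝒜.chart j).P A x

theorem exists_conj (T : Finset 𝒜.idx) (hT : T.Nonempty) :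
    ∃ c : Chart F, ∀ A x, c.P A x ↔ 𝒜.PT T A x := by
  classical
  obtain ⟨i, hi⟩ := hT
  let c := 𝒜.chart i
  choose h hh using fun j => 𝒜.principal i j c.C c.univ c.mem_univ
  let H : c.C := ∏ j ∈ T, h j
  have key : ∀ (B : CommAlgCat.{u} R) (φ : c.C ⟶ B), 𝒜.PT T B (F.map φ c.univ) ↔ IsUnit (φ.hom H) := fun B φ => by
    rw [map_prod, IsUnit.prod_iff]
    exact forall₂_congr fun j _ => hh j B φ
  let C : CommAlgCat.{u} R := CommAlgCat.of R (Localization.Away H)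
  refine ⟨⟨𝒜.PT T, C, F.map (toAway c.C H) c.univ, (key _ _).2 (IsLocalization.Away.algebraMap_isUnit H),
    fun {_ _} φ {x} hx j hj => (𝒜.chart j).map_mem φ (hx j hj), fun {A x} hx => ?_, fun {A} x L hL ψ hx => ?_⟩,
    fun A x => Iff.rfl⟩
  · obtain ⟨φ, hφ, -⟩ := c.lift (hx i hi)
    obtain ⟨χ, hχ⟩ := exists_away φ H ((key _ φ).1 (by rw [hφ]; exact hx))
    refine ⟨χ, ?_, fun χ' hχ' => away_hom_ext (c.map_eq ?_)⟩
    · show F.map χ _ = x
      rw [map_map, hχ, hφ]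
    · rw [← map_map, ← map_map, hχ', map_map, hχ, hφ]
  · letI := hL.toField
    have hop : ∀ j, ∃ a : A, j ∈ T → ψ.hom a ≠ 0 ∧ (𝒜.chart j).P _ (F.map (toAway A a) x) := fun j => by
      by_cases hj : j ∈ T
      · obtain ⟨a, ha⟩ := (𝒜.chart j).isOpen x L hL ψ (hx j hj)
        exact ⟨a, fun _ => ha⟩
      · exact ⟨1, fun h => absurd h hj⟩
    choose a ha using hop
    refine ⟨∏ j ∈ T, a j, ?_, fun j hj => ?_⟩
    · rw [map_prod]; exact Finset.prod_ne_zero_iff.2 fun j hj => (ha j hj).1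
    · obtain ⟨χ, hχ⟩ := exists_away (toAway A (∏ j ∈ T, a j)) (a j) (by
        refine isUnit_of_dvd_unit (map_dvd _ (Finset.dvd_prod_of_mem a hj)) ?_
        exact IsLocalization.Away.algebraMap_isUnit _)
      have := (𝒜.chart j).map_mem χ (ha j hj).2
      rwa [map_map, hχ] at this

/-- The diagram indices. -/
abbrev J := OrderDual {T : Finset 𝒜.idx // T.Nonempty}

/-- The chart of a set of indices. -/
noncomputable def conj (T : 𝒜.J) : Chart F := (𝒜.exists_conj T.ofDual.1 T.ofDual.2).choose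

theorem conj_P (T : 𝒜.J) (A : CommAlgCat.{u} R) (x : F.obj A) : (𝒜.conj T).P A x ↔ 𝒜.PT T.ofDual.1 A x :=
  (𝒜.exists_conj T.ofDual.1 T.ofDual.2).choose_spec A x

theorem conj_le {T T' : 𝒜.J} (h : T ≤ T') (A : CommAlgCat.{u} R) (x : F.obj A) (hx : (𝒜.conj T).P A x) :
    (𝒜.conj T').P A x :=
  (𝒜.conj_P T' A x).2 fun j hj => (𝒜.conj_P T A x).1 hx j (h hj)

/-- The map between two charts. -/
noncomputable def res {T T' : 𝒜.J} (h : T ≤ T') : (𝒜.conj T').C ⟶ (𝒜.conj T).C :=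
  (subChart (𝒜.conj T') (𝒜.conj T) (𝒜.conj_le h)).univ

theorem res_spec {T T' : 𝒜.J} (h : T ≤ T') : F.map (𝒜.res h) (𝒜.conj T').univ = (𝒜.conj T).univ :=
  ((𝒜.conj T').lift (𝒜.conj_le h _ _ (𝒜.conj T).mem_univ)).exists.choose_spec

/-- The diagram of charts. -/
noncomputable def diagram : 𝒜.J ⥤ Scheme.{u} where
  obj T := (sp (𝒜.conj T).C).left
  map {T T'} f := spMap (𝒜.res f.le)
  map_id T := by
    rw [show 𝒜.res (le_refl T) = 𝟙 _ from (𝒜.conj T).map_eq (by rw [res_spec, map_one])]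
    exact Spec.map_id _
  map_comp {T₁ T₂ T₃} f g := by
    rw [show 𝒜.res ((f ≫ g).le) = 𝒜.res g.le ≫ 𝒜.res f.le from
      (𝒜.conj T₃).map_eq (by rw [res_spec, ← map_map, res_spec, res_spec])]
    exact congrArg CommaMorphism.left (spOver_comp (𝒜.res g.le) (𝒜.res f.le))

theorem diagram_map {T T' : 𝒜.J} (f : T ⟶ T') :
    𝒜.diagram.map f = ((subChart (𝒜.conj T') (𝒜.conj T) (𝒜.conj_le f.le)).hom
      (fun A => spEquiv (𝒜.conj T').C A)).left := by
  rw [hom_subChart]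
  rfl

instance isOpenImmersion_map {T T' : 𝒜.J} (f : T ⟶ T') : IsOpenImmersion (𝒜.diagram.map f) := by
  rw [diagram_map]
  exact isOpenImmersion_hom (isNat_spEquiv _) _

theorem mem_range_map {T T' : 𝒜.J} (f : T ⟶ T') (p : PrimeSpectrum (𝒜.conj T').C) :
    p ∈ Set.range (𝒜.diagram.map f) ↔
      ∃ h, h ∉ p.asIdeal ∧ 𝒜.PT T.ofDual.1 _ (F.map (toAway (𝒜.conj T').C h) (𝒜.conj T').univ) := by
  rw [diagram_map]
  have := mem_range_iff (isNat_spEquiv (𝒜.conj T').C) (subChart (𝒜.conj T') (𝒜.conj T) (𝒜.conj_le f.le))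
    (spOver (𝟙 _)) p
  rw [spEquiv_spOver] at this
  refine Iff.trans ?_ (this.trans (exists_congr fun h => and_congr_right fun _ => ?_))
  · rw [show (spOver (𝟙 (𝒜.conj T').C)).left = 𝟙 _ from Spec.map_id _]
    rfl
  · show (𝒜.conj T).P _ (F.map (𝟙 _ ≫ toAway (𝒜.conj T').C h) _) ↔ _
    rw [Category.id_comp]
    exact 𝒜.conj_P T _ _

instance isLocallyDirected : (𝒜.diagram ⋙ Scheme.forget).IsLocallyDirected := by
  classical
  refine ⟨fun {T₁ T₂ T₀} f₁ f₂ y₁ y₂ hy => ?_⟩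
  have hy' : 𝒜.diagram.map f₁ y₁ = 𝒜.diagram.map f₂ y₂ := hy
  obtain ⟨h₁, hh₁, hP₁⟩ := (𝒜.mem_range_map f₁ _).1 ⟨y₁, rfl⟩
  obtain ⟨h₂, hh₂, hP₂⟩ := (𝒜.mem_range_map f₂ _).1 ⟨y₂, hy'.symm⟩
  let T : 𝒜.J := OrderDual.toDual ⟨T₁.ofDual.1 ∪ T₂.ofDual.1, T₁.ofDual.2.mono Finset.subset_union_left⟩
  let g₁ : T ⟶ T₁ := homOfLE (Finset.subset_union_left : T₁.ofDual.1 ⊆ T.ofDual.1)
  let g₂ : T ⟶ T₂ := homOfLE (Finset.subset_union_right : T₂.ofDual.1 ⊆ T.ofDual.1)
  obtain ⟨w, hw⟩ : 𝒜.diagram.map f₁ y₁ ∈ Set.range (𝒜.diagram.map (g₁ ≫ f₁)) := by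
    refine (𝒜.mem_range_map _ _).2 ⟨h₁ * h₂,
      Ideal.IsPrime.mul_notMem (𝒜.diagram.map f₁ y₁ : PrimeSpectrum (𝒜.conj T₀).C).isPrime hh₁ hh₂, fun j hj => ?_⟩
    have key : ∀ a : (𝒜.conj T₀).C, a ∣ h₁ * h₂ → (𝒜.chart j).P _ (F.map (toAway _ a) (𝒜.conj T₀).univ) →
        (𝒜.chart j).P _ (F.map (toAway _ (h₁ * h₂)) (𝒜.conj T₀).univ) := fun a ha hP => by
      obtain ⟨χ, hχ⟩ := exists_away (toAway _ (h₁ * h₂)) a
        (isUnit_of_dvd_unit (map_dvd _ ha) (IsLocalization.Away.algebraMap_isUnit _))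
      have := (𝒜.chart j).map_mem χ hP
      rwa [map_map, hχ] at this
    rcases Finset.mem_union.1 hj with hj | hj
    · exact key h₁ (dvd_mul_right _ _) (hP₁ j hj)
    · exact key h₂ (dvd_mul_left _ _) (hP₂ j hj)
  refine ⟨T, g₁, g₂, w, (𝒜.diagram.map f₁).isOpenEmbedding.injective ?_,
    (𝒜.diagram.map f₂).isOpenEmbedding.injective ?_⟩
  · show 𝒜.diagram.map f₁ (𝒜.diagram.map g₁ w) = _
    rw [← Scheme.Hom.comp_apply, ← Functor.map_comp]
    exact hw
  · show 𝒜.diagram.map f₂ (𝒜.diagram.map g₂ w) = _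
    rw [← Scheme.Hom.comp_apply, ← Functor.map_comp, ← hy', show g₂ ≫ f₂ = g₁ ≫ f₁ from Subsingleton.elim _ _]
    exact hw

end Atlas

end Groth.Agent.Synt29.RepOpen
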