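import Groth.Agent.Synt29.SerreCrit
import Groth.Agent.Synt29.SerreSocle
import Groth.Agent.Synt29.GenDual
import Groth.Agent.GenusOneSS.Eval
import Groth.Agent.ParShLib.ResStalk
import Groth.Agent.AffCompl.Lift
import Groth.Agent.CurveCohLib.Euler

/-!
The correspondence between finite subschemes with the Cayley--Bacharach property and rank two bundles.
-/

set_option autoImplicit false
set_option linter.style.haveILetI false
set_option linter.unusedSectionVars false
set_option backward.isDefEq.respectTransparency false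
set_option backward.isDefEq.respectTransparency.types false
set_option maxHeartbeats 1000000

universe u

open CategoryTheory CategoryTheory.Limits AlgebraicGeometry TopologicalSpace
open Groth.Agent Groth.Agent.H23 Groth.Agent.Synt29.SerreIdeal Groth.Agent.Synt29.SerreCover

noncomputable section

namespace Groth.Agent.Synt29.SerreCore

/-- A locally free extension of `N` by `M`. -/
def ExistsLF {X : Scheme.{u}} (M N : X.Modules) : Prop :=
  ∃ (F : X.Modules) (a : M ⟶ F) (b : F ⟶ N) (w : a ≫ b = 0),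
    (ShortComplex.mk a b w).ShortExact ∧ FlatMod.IsFinLocFree F

/-- The twist of an ideal sheaf. -/
abbrev tw {X : Scheme.{u}} (Λ : X.Modules) (I : X.IdealSheafData) : X.Modules := (SheafHomX.ten (ClSub.idealMod I)).obj Λ

/-- Its inclusion. -/
abbrev twι {X : Scheme.{u}} (Λ : X.Modules) (I : X.IdealSheafData) : tw Λ I ⟶ Λ := DivisorExt.mulIdeal I Λ

section General

variable {k : Type u} [Field k] {X : Scheme.{u}} [X.Over (Spec (CommRingCat.of k))]
  [Smooth (X ↘ Spec (CommRingCat.of k))] [IsIntegral X]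
  (hdim : topologicalKrullDim X = 2) [HasExt.{u} X.Modules]

include k hdim in
/-- Extending across a strictly larger submodule with finite quotient obstructs local freeness. -/
theorem not_surjective_of_lf [IsProper (X ↘ Spec (CommRingCat.of k))] {M Λ N N' : X.Modules}
    (hM : FlatMod.IsFinLocFree M) (hΛ : FlatMod.IsFinLocFree Λ) (hN' : Coh.IsCoh N') {ι : N ⟶ Λ} [Mono ι]
    {ι' : N' ⟶ Λ} [Mono ι'] (j : N ⟶ N') (hj : j ≫ ι' = ι) (hni : ¬ IsIso j)
    (hQ : ∀ x ∈ CohB1.support (cokernel j), IsClosed ({x} : Set X)) (h : ExistsLF M N) :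
    ¬ Function.Surjective ((Abelian.Ext.mk₀ j).precomp M (zero_add 1)) := fun hsur => by
  haveI : IsNoetherian X := CurveCohLib.isNoetherian_of_proper (k := k)
  obtain ⟨F, a, b, w, hS, hF⟩ := h
  obtain ⟨ξ', hξ⟩ := hsur hS.extClass
  haveI : Mono j := mono_of_mono_fac hj
  refine hni (SerreCrit.isIso_of_mem_range (SurfHodge.regular k) hM hS hF hN'
    (SurfRankOne.tf_of_mono ι' (GenDiff29.isTorsionFree_of_isFinLocFree hΛ)) j (fun x hx => ?_) ξ' hξ.symm)
  refine SurfRankOne.surjective_of_notMem j fun hmem => ?_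
  have := SurfRankOne.one_lt_coheight_of_isClosed (k := k) hdim (hQ x hmem)
  exact absurd hx (not_le.2 this)

include k hdim in
/-- If no member of a cofinal finite family of larger submodules receives all classes, some extension is locally
free. -/
theorem exists_lf [IsAlgClosed k] [IsProper (X ↘ Spec (CommRingCat.of k))] {M Λ N : X.Modules}
    (hM : FlatMod.IsFinLocFree M) (hΛ : FlatMod.IsFinLocFree Λ) (hN : Coh.IsCoh N) (ι : N ⟶ Λ) [Mono ι]
    {T : Type} [Finite T] (Nt : T → X.Modules) (jt : ∀ t, N ⟶ Nt t) (ιt : ∀ t, Nt t ⟶ Λ)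
    (hjt : ∀ t, jt t ≫ ιt t = ι)
    (hcof : ∀ (N' : X.Modules) (j : N ⟶ N') (ι' : N' ⟶ Λ), Coh.IsCoh N' → Mono ι' → j ≫ ι' = ι → ¬ IsIso j →
      ∃ (t : T) (g : Nt t ⟶ N'), g ≫ ι' = ιt t)
    (hns : ∀ t, ¬ Function.Surjective ((Abelian.Ext.mk₀ (jt t)).precomp M (zero_add 1))) : ExistsLF M N := by
  haveI : IsNoetherian X := CurveCohLib.isNoetherian_of_proper (k := k)
  let p : T → Submodule k (Abelian.Ext.{u} N M 1) := fun t =>
    LinearMap.range ((Abelian.Ext.mk₀ (jt t)).precompOfLinear k M (zero_add 1))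
  obtain ⟨ξ, hξ⟩ := Submodule.exists_forall_notMem_of_forall_ne_top p fun t ht => hns t fun x => by
    obtain ⟨y, hy⟩ := LinearMap.range_eq_top.1 ht x
    exact ⟨y, hy⟩
  obtain ⟨F, a, b, w, hS, hcl⟩ := ExtReal.exists_shortExact_extClass_eq ξ
  refine ⟨F, a, b, w, hS, ?_⟩
  by_contra hF
  obtain ⟨N', j, ι', hN', hι', hj, hni, ξ', hξ'⟩ :=
    SerreCrit.exists_larger (SurfHodge.regular k) hdim.le hM hS hF hN hΛ ι
  obtain ⟨t, g, hg⟩ := hcof N' j ι' hN' hι' hj hni
  have hjg : jt t ≫ g = j := by rw [← cancel_mono ι', Category.assoc, hg, hjt, hj]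
  refine hξ t ⟨(Abelian.Ext.mk₀ g).comp ξ' (zero_add 1), ?_⟩
  show (Abelian.Ext.mk₀ (jt t)).comp ((Abelian.Ext.mk₀ g).comp ξ' (zero_add 1)) (zero_add 1) = ξ
  rw [← hcl, hξ', ← hjg, Abelian.Ext.mk₀_comp_mk₀_assoc]

end General

section Covers

variable {k : Type u} [Field k] [IsAlgClosed k] {X : Scheme.{u}} [X.Over (Spec (CommRingCat.of k))]
  [IsProper (X ↘ Spec (CommRingCat.of k))] [Smooth (X ↘ Spec (CommRingCat.of k))] [IsIntegral X]
  (hdim : topologicalKrullDim X = 2) [HasExt.{u} X.Modules]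
  {Λ N : X.Modules} (hΛ : PicF.IsInvertible Λ) (hN : Coh.IsCoh N) {I : X.IdealSheafData}
  (hfin : (I.support : Set X).Finite) {ι : N ⟶ Λ} [Mono ι] (hι : IsTwist I ι)

include k hΛ in
theorem tw_facts (J : X.IdealSheafData) :
    Coh.IsCoh (tw Λ J) ∧ Mono (twι Λ J) ∧ IsTwist J (twι Λ J) := by
  haveI : IsNoetherian X := CurveCohLib.isNoetherian_of_proper (k := k)
  exact ⟨ParShLib.isCoh_tensorMod (CurveDeg.isCoh_of_isInvertible hΛ) (NormalLib.isCoh_idealMod J),
    AffCompl.mono_mulIdeal J hΛ, isTwist_mulIdeal J Λ⟩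

include k hdim hΛ hN hfin hι in
/-- The step from `I` to a cover. -/
theorem exists_step (hsoc : ∀ z ∈ (I.support : Set X), ∃ s, IsSocleGen I z s) {I' : X.IdealSheafData}
    (hI' : I ⋖ I') :
    ∃ (z : X) (j : N ⟶ tw Λ I'), z ∈ (I.support : Set X) ∧ j ≫ twι Λ I' = ι ∧ ¬ IsIso j ∧
      CohB1.support (cokernel j) ⊆ {z} ∧ IsClosed ({z} : Set X) ∧ Coh.IsCoh (cokernel j) ∧
      Module.finrank k (Coh.HH X (cokernel j) 0) = 1 := by
  haveI : JacobsonSpace X := LocallyOfFiniteType.jacobsonSpace (X ↘ Spec (CommRingCat.of k))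
  have hcl := fun y (hy : y ∈ (I.support : Set X)) => SerreCover.isClosed_of_finite hfin hy
  obtain ⟨hNc, hmono, htw⟩ := tw_facts (k := k) hΛ I'
  haveI := hmono
  obtain ⟨j, hj⟩ := (le_iff_factor hΛ hι htw).1 hI'.1.le
  obtain ⟨z, hz, hlt⟩ := exists_lt hI'.1
  obtain ⟨s, hs⟩ := hsoc z hz
  obtain ⟨J, hIJ, hJz, hJne⟩ := exists_enlarge hfin hcl (hcl z hz) s
  have hcov := covBy_enlarge hIJ hs hJz hJne
  have hJI' : J ≤ I' := le_iff_sI.2 fun y => by
    by_cases hy : y = z
    · subst hy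
      rw [hJz]
      exact sup_le hlt.le ((Ideal.span_singleton_le_iff_mem _).2 (hs.2.2 _ hlt))
    · rw [hJne y hy]
      exact le_iff_sI.1 hI'.1.le y
  obtain rfl : J = I' := eq_of_le_of_not_lt hJI' fun h => hI'.2 hcov.1 h
  obtain ⟨hsupp, hQc, h0⟩ := h0_quotient (k := k) (hcl z hz) hs.1 hs.2.1 hJz hJne hΛ hN hNc hι htw j hj
  refine ⟨z, j, hz, hj, fun h => ?_, hsupp, hcl z hz, hQc, h0⟩
  haveI := h
  haveI : IsNoetherian X := CurveCohLib.isNoetherian_of_proper (k := k)
  have hz0 : IsZero (cokernel j) := isZero_cokernel_of_epi j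
  have he := (HilbPoly.additive_euler k).zero_of_isZero hz0
  rw [CurveCohLib.euler_eq_finrank_zero (k := k) hQc (fun x hx => by
    rw [Set.mem_singleton_iff.1 (hsupp hx)]; exact hcl z hz), h0] at he
  exact one_ne_zero he

include k hdim hΛ hN hfin hι in
/-- Local freeness of some extension in terms of the covers. -/
theorem existsLF_iff (hsoc : ∀ z ∈ (I.support : Set X), ∃ s, IsSocleGen I z s) {M : X.Modules}
    (hM : FlatMod.IsFinLocFree M) :
    ExistsLF M N ↔ ∀ I', I ⋖ I' → ∀ j : N ⟶ tw Λ I', j ≫ twι Λ I' = ι →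
      ¬ Function.Surjective ((Abelian.Ext.mk₀ j).precomp M (zero_add 1)) := by
  haveI : IsNoetherian X := CurveCohLib.isNoetherian_of_proper (k := k)
  haveI : JacobsonSpace X := LocallyOfFiniteType.jacobsonSpace (X ↘ Spec (CommRingCat.of k))
  have hΛl := H23.PullPush.isFinLocFree_of_isInvertible hΛ
  refine ⟨fun h I' hI' j hj => ?_, fun h => ?_⟩
  · obtain ⟨hNc, hmono, -⟩ := tw_facts (k := k) hΛ I'
    haveI := hmono
    obtain ⟨z, j', -, hj', hni, hsupp, hzc, -, -⟩ := exists_step (k := k) hdim hΛ hN hfin hι hsoc hI'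
    obtain rfl : j = j' := by rw [← cancel_mono (twι Λ I'), hj, hj']
    exact not_surjective_of_lf (k := k) hdim hM hΛl hNc j hj hni
      (fun x hx => by rw [Set.mem_singleton_iff.1 (hsupp hx)]; exact hzc) h
  classical
  have hcl := fun y (hy : y ∈ (I.support : Set X)) => SerreCover.isClosed_of_finite hfin hy
  haveI : Finite (I.support : Set X) := hfin.to_subtype
  let e := Finite.equivFin (I.support : Set X)
  have key : ∀ z : (I.support : Set X), ∃ (I' : X.IdealSheafData) (s : X.presheaf.stalk z.1) (j : N ⟶ tw Λ I'),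
      IsSocleGen I z.1 s ∧ StalkIdeal.sI I' z.1 = StalkIdeal.sI I z.1 ⊔ Ideal.span {s} ∧
      (∀ y, y ≠ z.1 → StalkIdeal.sI I' y = StalkIdeal.sI I y) ∧ I ⋖ I' ∧ j ≫ twι Λ I' = ι := by
    rintro ⟨z, hz⟩
    obtain ⟨s, hs⟩ := hsoc z hz
    obtain ⟨J, hIJ, hJz, hJne⟩ := exists_enlarge hfin hcl (hcl z hz) s
    obtain ⟨-, hmono, htw⟩ := tw_facts (k := k) hΛ J
    haveI := hmono
    obtain ⟨j, hj⟩ := (le_iff_factor hΛ hι htw).1 hIJ
    exact ⟨J, s, j, hs, hJz, hJne, covBy_enlarge hIJ hs hJz hJne, hj⟩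
  choose It st jt hst hIz hIne hcov hjt using key
  refine exists_lf (k := k) hdim hM hΛl hN ι (fun t => tw Λ (It (e.symm t))) (fun t => jt (e.symm t))
    (fun t => twι Λ (It (e.symm t))) (fun t => hjt _) (fun N' j ι' hN' hι' hj hni => ?_)
    fun t => h _ (hcov _) _ (hjt _)
  haveI := hι'
  obtain ⟨J, hJ⟩ := exists_isTwist hN'.1 hΛ ι'
  have hlt : I < J := by
    refine lt_of_le_of_ne ((le_iff_factor hΛ hι hJ).2 ⟨j, hj⟩) fun hIJ => hni ?_
    subst hIJ
    obtain ⟨g, hg⟩ := (le_iff_factor hΛ hJ hι).1 le_rfl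
    exact ⟨⟨g, by rw [← cancel_mono ι, Category.assoc, hg, hj, Category.id_comp],
      by rw [← cancel_mono ι', Category.assoc, hj, hg, Category.id_comp]⟩⟩
  obtain ⟨z, hz, hzlt⟩ := exists_lt hlt
  refine ⟨e ⟨z, hz⟩, ?_⟩
  obtain ⟨-, -, htw⟩ := tw_facts (k := k) hΛ (It (e.symm (e ⟨z, hz⟩)))
  refine (le_iff_factor hΛ htw hJ).1 ?_
  rw [Equiv.symm_apply_apply, le_iff_sI]
  intro y
  by_cases hy : y = z
  · subst hy
    rw [hIz ⟨y, hz⟩]
    exact sup_le hzlt.le ((Ideal.span_singleton_le_iff_mem _).2 ((hst ⟨y, hz⟩).2.2 _ hzlt))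
  · rw [hIne ⟨z, hz⟩ y hy]
    exact le_iff_sI.1 hlt.le y

end Covers

section Duality

variable {k : Type u} [Field k] [IsAlgClosed k] {X : Scheme.{u}} [X.Over (Spec (CommRingCat.of k))]
  [IsProper (X ↘ Spec (CommRingCat.of k))] [Smooth (X ↘ Spec (CommRingCat.of k))] [IsIntegral X]
  (hdim : topologicalKrullDim X = 2) {H : X.Modules} (hH : CohB1.IsAmple H) [HasExt.{u} X.Modules]
  {ω : X.Modules} (hω : Canon.IsTopDiff (X ↘ Spec (CommRingCat.of k)) 2 ω)

include hdim hH hω in
/-- Dimensions of Ext into the dualising sheaf. -/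
theorem finrank_ext {F : X.Modules} (hF : Coh.IsCoh F) {i : ℕ} (hi : i ≤ 2) :
    Module.Finite k (Abelian.Ext.{u} F ω i) ∧
      Module.finrank k (Abelian.Ext.{u} F ω i) = Module.finrank k (Coh.HH X F (2 - i)) := by
  haveI : IsNoetherian X := CurveCohLib.isNoetherian_of_proper (k := k)
  haveI := CurveFin.smoothOfRelativeDimension_of_dim (f := X ↘ Spec (CommRingCat.of k)) (d := 2) hdim
  obtain ⟨r, ι, hι, hfac⟩ := AmpleEmbed.exists_closedImmersion (X ↘ Spec (CommRingCat.of k)) hH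
  haveI := hι
  obtain ⟨e⟩ := S19675.result k 2 r X ι hfac _ hω F hF i hi
  haveI := CurveCohLib.finite_HH (k := k) hF (2 - i)
  exact ⟨Module.Finite.equiv e.symm, by rw [e.finrank_eq]; exact Subspace.dual_finrank_eq⟩

include hdim hH hω in
/-- Along a step of colength one, all classes extend exactly when a new section appears. -/
theorem surjective_iff {N N' : X.Modules} (hN : Coh.IsCoh N) (hN' : Coh.IsCoh N') (j : N ⟶ N') [Mono j]
    (hQc : Coh.IsCoh (cokernel j)) (hQ : ∀ x ∈ CohB1.support (cokernel j), IsClosed ({x} : Set X))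
    (h1 : Module.finrank k (Coh.HH X (cokernel j) 0) = 1) :
    Function.Surjective ((Abelian.Ext.mk₀ j).precomp ω (zero_add 1)) ↔
      ¬ ∀ σ : Coh.structureModule X ⟶ N', ∃ τ, τ ≫ j = σ := by
  haveI : IsNoetherian X := CurveCohLib.isNoetherian_of_proper (k := k)
  let S : ShortComplex X.Modules := ShortComplex.mk j (cokernel.π j) (cokernel.condition j)
  have hS : S.ShortExact := { exact := ShortComplex.exact_cokernel j }
  haveI hQ1 : Subsingleton (Coh.HH X (cokernel j) 1) := S0047.result X _ hQc hQ 1 (by norm_num)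
  obtain ⟨hfE, hE⟩ := finrank_ext hdim hH hω hN one_le_two
  obtain ⟨hfE', hE'⟩ := finrank_ext hdim hH hω hN' one_le_two
  norm_num at hE hE'
  let P := (Abelian.Ext.mk₀ j).precompOfLinear k ω (zero_add 1)
  haveI : Subsingleton (Abelian.Ext.{u} (cokernel j) ω 1) := by
    obtain ⟨hf, he⟩ := finrank_ext hdim hH hω hQc one_le_two
    haveI := hf
    exact Module.finrank_zero_iff.1 (he.trans Module.finrank_zero_of_subsingleton)
  have hinj : Function.Injective P := (injective_iff_map_eq_zero P).2 fun x hx => by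
    obtain ⟨y, rfl⟩ := Abelian.Ext.contravariant_sequence_exact₂ hS ω x hx
    rw [Subsingleton.elim y 0]
    exact ((Abelian.Ext.mk₀ S.g).precomp ω (zero_add 1)).map_zero
  haveI := CurveCohLib.finite_HH (k := k) hN 1
  haveI := CurveCohLib.finite_HH (k := k) hN' 1
  haveI := CurveCohLib.finite_HH (k := k) hQc 0
  let f1 := PnCoh.Finite.mapLin k S.f 1
  let g0 := PnCoh.Finite.mapLin k S.g 0
  let d := PnCoh.Finite.deltaLin k hS 0
  have hf1 : LinearMap.range f1 = ⊤ := by
    rw [← CurveCohLib.ker_mapLin_g k hS 1]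
    exact LinearMap.ker_eq_top.2 (LinearMap.ext fun _ => Subsingleton.elim (α := Coh.HH X (cokernel j) 1) _ _)
  have hk : LinearMap.ker f1 = LinearMap.range d := CurveCohLib.ker_mapLin_f_succ k hS 0
  have hsum := f1.finrank_range_add_finrank_ker
  rw [hf1, finrank_top, hk] at hsum
  have hiff : Function.Surjective ((Abelian.Ext.mk₀ j).precomp ω (zero_add 1)) ↔ g0 ≠ 0 := by
    have hP : Function.Surjective ((Abelian.Ext.mk₀ j).precomp ω (zero_add 1)) ↔ Function.Surjective P := Iff.rfl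
    have hdim' : Function.Surjective P ↔ d = 0 := by
      constructor
      · intro hs
        have := (LinearEquiv.ofBijective P ⟨hinj, hs⟩).finrank_eq
        have heq : Module.finrank k (Coh.HH X N' 1) = Module.finrank k (Coh.HH X N 1) := hE'.symm.trans (this.trans hE)
        refine LinearMap.range_eq_bot.1 (Submodule.finrank_eq_zero.1 ?_)
        change Module.finrank k (Coh.HH X N' 1) + _ = Module.finrank k (Coh.HH X N 1) at hsum
        exact Nat.add_left_cancel (hsum.trans (heq.symm.trans (Nat.add_zero _).symm))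
      · intro hd0
        haveI := hfE
        haveI := hfE'
        refine (LinearMap.injective_iff_surjective_of_finrank_eq_finrank ?_).1 hinj
        rw [hE, hE']
        rw [show LinearMap.range d = ⊥ from LinearMap.range_eq_bot.2 hd0, finrank_bot, add_zero] at hsum
        exact hsum
    rw [hP, hdim', ← LinearMap.ker_eq_top, CurveCohLib.ker_deltaLin k hS 0]
    refine ⟨fun h hg => ?_, fun hg => ?_⟩
    · rw [LinearMap.range_eq_bot.2 hg] at h
      have h0 := (Submodule.topEquiv (R := k) (M := Coh.HH X (cokernel j) 0)).finrank_eq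
      rw [← h, finrank_bot] at h0
      exact one_ne_zero (h1.symm.trans h0.symm)
    · refine Submodule.eq_top_of_finrank_eq (le_antisymm (Submodule.finrank_le _) ?_)
      rw [h1, Nat.one_le_iff_ne_zero]
      exact fun h => hg (LinearMap.range_eq_bot.1 (Submodule.finrank_eq_zero.1 h))
  rw [hiff, not_iff_not]
  refine ⟨fun hg σ => ?_, fun h => LinearMap.ext fun t => ?_⟩
  · have hz : σ ≫ cokernel.π j = 0 := GenusOneSS.toH_injective (by
      rw [← GenusOneSS.toH_comp (k := k)]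
      show g0 (GenusOneSS.toH σ) = _
      rw [hg]
      exact (map_zero (Sheaf.H.equiv₀ (Coh.toAb (cokernel j)) isTerminalTop).symm).symm)
    exact ⟨hS.exact.lift σ hz, hS.exact.lift_f σ hz⟩
  · obtain ⟨τ, hτ⟩ := h (CurveSpecial.homOfClass t)
    show g0 t = 0
    rw [← GenusOneSS.toH_homOfClass (M := N') t]
    show PnCoh.Finite.mapLin k (cokernel.π j) 0 _ = 0
    rw [GenusOneSS.toH_comp, ← hτ, Category.assoc, cokernel.condition, comp_zero]
    exact map_zero (Sheaf.H.equiv₀ (Coh.toAb (cokernel j)) isTerminalTop).symm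

variable {Λ : X.Modules} (hΛ : PicF.IsInvertible Λ) {N : X.Modules} (hN : Coh.IsCoh N) {I : X.IdealSheafData}
  (hfin : (I.support : Set X).Finite) {ι : N ⟶ Λ} [Mono ι] (hι : IsTwist I ι)

include hdim hH hω hΛ hN hfin hι in
/-- The Cayley--Bacharach property is the existence of a locally free extension. -/
theorem existsLF_dualizing_iff (hsoc : ∀ z ∈ (I.support : Set X), ∃ s, IsSocleGen I z s) :
    ExistsLF ω N ↔ ∀ I', I ⋖ I' → ∀ σ : Coh.structureModule X ⟶ Λ,
      PicF2.zeroScheme Λ σ ≤ I' → PicF2.zeroScheme Λ σ ≤ I := by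
  haveI := CurveFin.smoothOfRelativeDimension_of_dim (f := X ↘ Spec (CommRingCat.of k)) (d := 2) hdim
  rw [existsLF_iff (k := k) hdim hΛ hN hfin hι hsoc
    (H23.PullPush.isFinLocFree_of_isInvertible (SmoothTop.isInvertible_top (X ↘ Spec (CommRingCat.of k)) 2 hω))]
  refine forall₂_congr fun I' hI' => ?_
  obtain ⟨hNc, hmono, htw⟩ := tw_facts (k := k) hΛ I'
  haveI := hmono
  obtain ⟨z, j, -, hj, -, hsupp, hzc, hQc, h0⟩ := exists_step (k := k) hdim hΛ hN hfin hι hsoc hI'
  haveI : Mono j := mono_of_mono_fac hj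
  have hiff := surjective_iff hdim hH hω hN hNc j hQc
    (fun x hx => by rw [Set.mem_singleton_iff.1 (hsupp hx)]; exact hzc) h0
  refine ⟨fun h σ hσ => ?_, fun h j' hj' hsur => ?_⟩
  · have hall := not_not.1 fun hc => h j hj (hiff.2 hc)
    obtain ⟨σ', hσ'⟩ := (le_iff_factor hΛ (isTwist_zeroScheme hΛ σ) htw).1 hσ
    obtain ⟨τ, hτ⟩ := hall σ'
    exact (le_iff_factor hΛ (isTwist_zeroScheme hΛ σ) hι).2 ⟨τ, by rw [← hσ', ← hτ, Category.assoc, hj]⟩
  · obtain rfl : j' = j := by rw [← cancel_mono (twι Λ I'), hj, hj']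
    refine hiff.1 hsur fun σ' => ?_
    obtain ⟨τ, hτ⟩ := (le_iff_factor hΛ (isTwist_zeroScheme hΛ (σ' ≫ twι Λ I')) hι).1
      (h _ ((le_iff_factor hΛ (isTwist_zeroScheme hΛ (σ' ≫ twι Λ I')) htw).2 ⟨σ', rfl⟩))
    exact ⟨τ, by rw [← cancel_mono (twι Λ I'), Category.assoc, hj, hτ]⟩

end Duality

end Groth.Agent.Synt29.SerreCore

end
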