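import Groth.Agent.Synt29.SerreIdeal
import Groth.Agent.Synt29.SurfRankOne
import Groth.Agent.Lib.CurveSection
import Groth.Agent.CurveCohLib.Skyscraper
import Groth.Agent.NormalLib.Finite

/-!
One-step enlargements of ideal sheaves with finite support.
-/

set_option autoImplicit false
set_option linter.style.haveILetI false
set_option linter.unusedSectionVars false
set_option backward.isDefEq.respectTransparency false
set_option backward.isDefEq.respectTransparency.types false
set_option maxHeartbeats 1000000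

universe u

open CategoryTheory CategoryTheory.Limits AlgebraicGeometry TopologicalSpace
open Groth.Agent Groth.Agent.H23 Groth.Agent.Synt29.SerreIdeal

noncomputable section

namespace Groth.Agent.Synt29.SerreCover

variable {X : Scheme.{u}}

theorem mem_support_iff {I : X.IdealSheafData} {x : X} :
    x ∈ (I.support : Set X) ↔ StalkIdeal.sI I x ≠ ⊤ := by
  obtain ⟨_, ⟨U, hU, rfl⟩, hx, -⟩ := X.isBasis_affineOpens.exists_subset_of_mem_open (Set.mem_univ x) isOpen_univ
  rw [CDivEq.mem_support_iff I ⟨U, hU⟩ hx, StalkIdeal.sI_eq I ⟨U, hU⟩ hx]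

theorem isClosed_of_finite {I : X.IdealSheafData} (hfin : (I.support : Set X).Finite) [JacobsonSpace X]
    {z : X} (hz : z ∈ (I.support : Set X)) : IsClosed ({z} : Set X) :=
  InterFinite.isClosed_singleton_of_finite I.support.isClosed hfin hz

/-- Adding one germ at a closed point of a finite support. -/
theorem exists_enlarge {I : X.IdealSheafData} (hfin : (I.support : Set X).Finite)
    (hcl : ∀ y ∈ (I.support : Set X), IsClosed ({y} : Set X)) {z : X} (hz : IsClosed ({z} : Set X))
    (s : X.presheaf.stalk z) :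
    ∃ I' : X.IdealSheafData, I ≤ I' ∧ StalkIdeal.sI I' z = StalkIdeal.sI I z ⊔ Ideal.span {s} ∧
      ∀ y, y ≠ z → StalkIdeal.sI I' y = StalkIdeal.sI I y := by
  classical
  let S : ∀ y : X, Ideal (X.presheaf.stalk y) := fun y =>
    if h : y = z then StalkIdeal.sI I y ⊔ Ideal.span {h ▸ s} else StalkIdeal.sI I y
  have hSz : S z = StalkIdeal.sI I z ⊔ Ideal.span {s} := dif_pos rfl
  have hSne : ∀ y, y ≠ z → S y = StalkIdeal.sI I y := fun y hy => dif_neg hy
  have hS : ∀ x : X, ∃ (U : X.affineOpens) (K : Ideal Γ(X, U.1)), x ∈ U.1 ∧ ModZero.GenI S U K := by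
    intro x
    by_cases hxz : x = z
    · subst hxz
      obtain ⟨V, hxV, b, rfl⟩ := TopCat.Presheaf.exists_germ_eq X.presheaf s
      let O : X.Opens := V ⊓ ⟨((I.support : Set X) \ {x})ᶜ, isOpen_compl_iff.2 (by
        rw [← Set.biUnion_of_singleton ((I.support : Set X) \ {x})]
        exact (hfin.subset Set.sdiff_subset).isClosed_biUnion fun y hy => hcl y hy.1)⟩
      obtain ⟨_, ⟨U, hU, rfl⟩, hxU, hUO⟩ := X.isBasis_affineOpens.exists_subset_of_mem_open
        (show x ∈ O from ⟨hxV, fun h => h.2 rfl⟩) O.2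
      have hUV : U ≤ V := fun y hy => (hUO hy).1
      refine ⟨⟨U, hU⟩, I.ideal ⟨U, hU⟩ ⊔ Ideal.span {X.presheaf.map (homOfLE hUV).op b}, hxU, fun y hy => ?_⟩
      rw [Ideal.map_sup, Ideal.map_span, Set.image_singleton, ← CDivEq.stk, ← StalkIdeal.sI_eq I ⟨U, hU⟩ hy]
      by_cases hyx : y = x
      · subst hyx
        rw [hSz, X.presheaf.germ_res_apply]
      · have htop : StalkIdeal.sI I y = ⊤ := not_not.1 fun h =>
          (hUO hy).2 ⟨mem_support_iff.2 h, hyx⟩
        rw [hSne y hyx, htop, top_sup_eq]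
    · obtain ⟨_, ⟨U, hU, rfl⟩, hxU, hUO⟩ := X.isBasis_affineOpens.exists_subset_of_mem_open
        (show x ∈ ({z} : Set X)ᶜ from hxz) hz.isOpen_compl
      refine ⟨⟨U, hU⟩, I.ideal ⟨U, hU⟩, hxU, fun y hy => ?_⟩
      rw [hSne y (fun h => hUO hy h), StalkIdeal.sI_eq I ⟨U, hU⟩ hy]
  refine ⟨ModZero.ofStalks S hS, le_iff_sI.2 fun y => ?_, by rw [ModZero.sI_ofStalks, hSz],
    fun y hy => by rw [ModZero.sI_ofStalks, hSne y hy]⟩
  rw [ModZero.sI_ofStalks]
  by_cases hy : y = z
  · subst hy; rw [hSz]; exact le_sup_left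
  · rw [hSne y hy]

/-- A strictly larger ideal sheaf is strictly larger at some point of the support. -/
theorem exists_lt {I J : X.IdealSheafData} (h : I < J) :
    ∃ z ∈ (I.support : Set X), StalkIdeal.sI I z < StalkIdeal.sI J z := by
  by_contra! hc
  refine h.ne (StalkIdeal.ext_sI fun x => ?_)
  refine (le_iff_sI.1 h.le x).eq_of_not_lt ?_
  intro hlt
  by_cases hx : x ∈ (I.support : Set X)
  · exact hc x hx hlt
  · rw [mem_support_iff, not_not] at hx
    rw [hx] at hlt
    exact not_top_lt hlt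

/-- Socle generators at every point of the support. -/
def IsSocleGen (I : X.IdealSheafData) (z : X) (s : X.presheaf.stalk z) : Prop :=
  s ∉ StalkIdeal.sI I z ∧ (∀ r ∈ IsLocalRing.maximalIdeal (X.presheaf.stalk z), r * s ∈ StalkIdeal.sI I z) ∧
    ∀ J : Ideal (X.presheaf.stalk z), StalkIdeal.sI I z < J → s ∈ J

/-- An enlargement by a socle generator is a cover. -/
theorem covBy_enlarge {I I' : X.IdealSheafData} (hle : I ≤ I') {z : X} {s : X.presheaf.stalk z}
    (hs : IsSocleGen I z s) (hz : StalkIdeal.sI I' z = StalkIdeal.sI I z ⊔ Ideal.span {s})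
    (hne : ∀ y, y ≠ z → StalkIdeal.sI I' y = StalkIdeal.sI I y) : I ⋖ I' := by
  refine ⟨lt_of_le_of_ne hle fun h => hs.1 ?_, fun J h1 h2 => ?_⟩
  · rw [congrArg (StalkIdeal.sI · z) h, hz]
    exact Ideal.mem_sup_right (Ideal.mem_span_singleton_self s)
  · refine h2.ne (StalkIdeal.ext_sI fun y => ?_)
    by_cases hy : y = z
    · subst hy
      obtain ⟨w, -, hw⟩ := exists_lt h1
      have hwy : w = y := by
        by_contra hwy
        exact absurd (hw.trans_le ((le_iff_sI.1 h2.le w).trans_eq (hne w hwy))) (lt_irrefl _)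
      subst hwy
      refine le_antisymm (le_iff_sI.1 h2.le w) (hz.le.trans (sup_le hw.le ?_))
      exact (Ideal.span_singleton_le_iff_mem _).2 (hs.2.2 _ hw)
    · exact le_antisymm (le_iff_sI.1 h2.le y) ((hne y hy).le.trans (le_iff_sI.1 h1.le y))

variable {k : Type u} [Field k] [IsAlgClosed k] [X.Over (Spec (CommRingCat.of k))]
  [IsProper (X ↘ Spec (CommRingCat.of k))] [IsIntegral X]

include k in
/-- An enlargement by one element killed by the maximal ideal has a one dimensional quotient. -/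
theorem h0_quotient {I I' : X.IdealSheafData} {z : X} (hzc : IsClosed ({z} : Set X)) {s : X.presheaf.stalk z}
    (hs : s ∉ StalkIdeal.sI I z) (hms : ∀ r ∈ IsLocalRing.maximalIdeal (X.presheaf.stalk z), r * s ∈ StalkIdeal.sI I z)
    (hz : StalkIdeal.sI I' z = StalkIdeal.sI I z ⊔ Ideal.span {s})
    (hne : ∀ y, y ≠ z → StalkIdeal.sI I' y = StalkIdeal.sI I y)
    {L N N' : X.Modules} (hL : PicF.IsInvertible L) (hN : Coh.IsCoh N) (hN' : Coh.IsCoh N')
    {ι : N ⟶ L} {ι' : N' ⟶ L} [Mono ι'] (hι : IsTwist I ι) (hι' : IsTwist I' ι') (j : N ⟶ N') (hj : j ≫ ι' = ι) :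
    CohB1.support (cokernel j) ⊆ {z} ∧ Coh.IsCoh (cokernel j) ∧
      Module.finrank k (Coh.HH X (cokernel j) 0) = 1 := by
  classical
  haveI : IsNoetherian X := CurveCohLib.isNoetherian_of_proper (k := k)
  let Φ := fun x : X => DerSch.stalkFunctor X x
  have hQ : Coh.IsCoh (cokernel j) := QCoh.isCoh_cokernel hN.1 hN' j
  have hcomp : ∀ x v, ((Φ x).map ι).hom v = ((Φ x).map ι').hom (((Φ x).map j).hom v) := fun x v => by
    rw [← hj, Functor.map_comp]; rfl
  have hsupp : CohB1.support (cokernel j) ⊆ {z} := fun x hx => by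
    by_contra hxz
    refine SurfRankOne.notMem_support_cokernel j (fun n' => ?_) hx
    have h1 : ((Φ x).map ι').hom n' ∈ LinearMap.range ((Φ x).map ι).hom := by
      rw [hι x, ← hne x hxz, ← hι' x]; exact LinearMap.mem_range_self _ n'
    obtain ⟨n, hn⟩ := h1
    exact ⟨n, CurveCohLib.stalk_injective ι' x ((hcomp x n).symm.trans hn)⟩
  have hfin : ∀ x ∈ CohB1.support (cokernel j), IsClosed ({x} : Set X) := fun x hx => by
    rw [Set.mem_singleton_iff.1 (hsupp hx)]; exact hzc
  obtain ⟨he, hfn⟩ := CurveCohLib.euler_eq_sum_stalks (k := k) hQ hfin {z} (by simpa using hsupp)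
  rw [Finset.sum_singleton, CurveCohLib.euler_eq_finrank_zero hQ hfin] at he
  refine ⟨hsupp, hQ, ?_⟩
  letI := CurveCohLib.stalkModuleK k (cokernel j) z
  suffices Module.finrank k ((cokernel j).presheaf.stalk z) = 1 by rw [this] at he; exact_mod_cast he
  obtain ⟨e, hbe⟩ := exists_gen_stalk hL z
  obtain ⟨n₀, hn₀⟩ : s • e ∈ LinearMap.range ((Φ z).map ι').hom := by
    rw [hι' z, hz]
    exact Submodule.smul_mem_smul (Ideal.mem_sup_right (Ideal.mem_span_singleton_self s)) Submodule.mem_top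
  haveI : (Φ z).Additive := DerSch.additive_stalkFunctor z
  let q : (Φ z).obj N' →ₗ[X.presheaf.stalk z] (Φ z).obj (cokernel j) := ((Φ z).map (cokernel.π j)).hom
  have hq : Function.Surjective q := (ModuleCat.epi_iff_surjective _).1 (inferInstanceAs (Epi ((Φ z).map _)))
  have hexact := ((KFlatLib.exact_iff_stalk (ShortComplex.mk j (cokernel.π j) (cokernel.condition j))).1
    (ShortComplex.exact_cokernel j) z).moduleCat_range_eq_ker
  have hker : ∀ n' : (Φ z).obj N', q n' = 0 ↔ ((Φ z).map ι').hom n' ∈ LinearMap.range ((Φ z).map ι).hom := by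
    intro n'
    refine ⟨fun h => ?_, fun ⟨n, hn⟩ => ?_⟩
    · obtain ⟨n, rfl⟩ : n' ∈ LinearMap.range ((Φ z).map j).hom := hexact.symm ▸ h
      exact ⟨n, hcomp z n⟩
    · rw [← CurveCohLib.stalk_injective ι' z ((hcomp z n).symm.trans hn)]
      show ((Φ z).map j ≫ (Φ z).map (cokernel.π j)).hom n = 0
      rw [← Functor.map_comp, cokernel.condition, Functor.map_zero]
      rfl
  refine finrank_eq_one (q n₀) ?_ fun w => ?_
  · rw [Ne, hker, hn₀, hι z, smul_mem_smul_top_iff hbe]
    exact hs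
  · obtain ⟨n', rfl⟩ := hq w
    obtain ⟨r, hr⟩ := hbe.2 (((Φ z).map ι').hom n')
    have hrI : r ∈ StalkIdeal.sI I z ⊔ Ideal.span {s} := by
      rw [← hz, ← smul_mem_smul_top_iff hbe]
      show (fun r => r • e) r ∈ _
      rw [hr, ← hι' z]
      exact LinearMap.mem_range_self _ n'
    obtain ⟨i, hi, t, ht, rfl⟩ := Submodule.mem_sup.1 hrI
    obtain ⟨a, rfl⟩ := Ideal.mem_span_singleton'.1 ht
    obtain ⟨c, hc⟩ := CurveSection.exists_stalkMap_sub_mem (k := k) hzc a
    refine ⟨c, sub_eq_zero.1 ?_⟩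
    show Curv2.stalkMap k X z c • q n₀ - q n' = 0
    rw [← map_smul, ← map_sub, hker, map_sub, map_smul, hn₀, ← hr, hι z, smul_smul, ← sub_smul,
      smul_mem_smul_top_iff hbe, show Curv2.stalkMap k X z c * s - (i + a * s) =
        -((a - Curv2.stalkMap k X z c) * s) - i by ring]
    exact sub_mem (neg_mem (hms _ hc)) hi

end Groth.Agent.Synt29.SerreCover

end
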