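import Groth.Agent.Synt29.ExtOne
import Groth.Agent.Synt29.ExtReal
import Groth.Agent.Synt29.LMStab
import Groth.Agent.KZ.CohClass

/-!
Extensions of a rank one sheaf on a regular surface by an invertible sheaf: when is the middle term locally free.
-/

set_option autoImplicit false
set_option linter.style.haveILetI false
set_option linter.unusedSectionVars false
set_option backward.isDefEq.respectTransparency false
set_option backward.isDefEq.respectTransparency.types false
set_option maxHeartbeats 1000000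

universe u

open CategoryTheory CategoryTheory.Limits AlgebraicGeometry TopologicalSpace
open Groth.Agent

noncomputable section

namespace Groth.Agent.Synt29.SerreCrit

variable {X : Scheme.{u}}

theorem stalk_comp {A B C : X.Modules} (f : A ⟶ B) (g : B ⟶ C) (x : X) (v) :
    ((DerSch.stalkFunctor X x).map (f ≫ g)).hom v =
      ((DerSch.stalkFunctor X x).map g).hom (((DerSch.stalkFunctor X x).map f).hom v) := by
  rw [Functor.map_comp]
  rfl

/-- A short complex gives surjectivity of the left map off the support of the right term. -/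
theorem surjective_of_subsingleton {S : ShortComplex X.Modules} (hS : S.ShortExact) {x : X}
    (h : Subsingleton (S.X₃.presheaf.stalk x)) :
    Function.Surjective ((DerSch.stalkFunctor X x).map S.f).hom := by
  have hr := ((KFlatLib.exact_iff_stalk S).1 hS.exact x).moduleCat_range_eq_ker
  intro y
  have hy : y ∈ LinearMap.ker ((DerSch.stalkFunctor X x).map S.g).hom := h.elim _ _
  exact LinearMap.mem_range.1 ((hr ▸ hy :))

/-- Extensions of torsion free modules are torsion free. -/
theorem tf_extension {S : ShortComplex X.Modules} (hS : S.ShortExact) (h₁ : TorSh.IsTorsionFree S.X₁)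
    (h₃ : TorSh.IsTorsionFree S.X₃) : TorSh.IsTorsionFree S.X₂ := fun x => by
  haveI : Module.IsTorsionFree (X.presheaf.stalk x) (S.X₁.presheaf.stalk x) := h₁ x
  haveI : Module.IsTorsionFree (X.presheaf.stalk x) (S.X₃.presheaf.stalk x) := h₃ x
  refine Module.IsTorsionFree.mk fun r hr m m' hm => ?_
  have hx : (S.map (DerSch.stalkFunctor X x)).ShortExact := (KFlatLib.shortExact_iff_stalk S).1 hS x
  let f := ((DerSch.stalkFunctor X x).map S.f).hom
  let g := ((DerSch.stalkFunctor X x).map S.g).hom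
  have hg : g (m - m') = 0 := hr.smul_right_injective (S.X₃.presheaf.stalk x) (by
    show r • g (m - m') = r • (0 : S.X₃.presheaf.stalk x)
    rw [← map_smul, smul_sub, show r • m = r • m' from hm, sub_self, map_zero, smul_zero])
  have hk : m - m' ∈ LinearMap.ker g := hg
  rw [show LinearMap.ker g = LinearMap.range f from hx.exact.moduleCat_range_eq_ker.symm] at hk
  obtain ⟨n, hn⟩ := hk
  have h0 : n = 0 := hr.smul_right_injective (S.X₁.presheaf.stalk x) (by
    show r • n = r • (0 : S.X₁.presheaf.stalk x)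
    haveI := hS.mono_f
    refine CurveCohLib.stalk_injective S.f x ?_
    show f (r • n) = f (r • 0)
    rw [smul_zero, map_zero, map_smul, hn, smul_sub, show r • m = r • m' from hm, sub_self])
  rw [← sub_eq_zero, ← hn, h0, map_zero]

section Iso

variable [IsIntegral X] [IsLocallyNoetherian X] (hnorm : Pi1.IsNormalScheme X)

include hnorm in
/-- A reflexive submodule which is everything in codimension one is everything. -/
theorem isIso_of_reflexive {A B : X.Modules} (hA : Coh.IsCoh A) (hAr : RefHull.IsReflexive A) (hB : Coh.IsCoh B)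
    (htB : TorSh.IsTorsionFree B) (u : A ⟶ B) [Mono u]
    (hs : ∀ x : X, Order.coheight x ≤ 1 → Function.Surjective ((DerSch.stalkFunctor X x).map u).hom) : IsIso u := by
  have hη : Function.Injective ((DerSch.stalkFunctor X (genericPoint X)).map u).hom := CurveCohLib.stalk_injective u _
  obtain ⟨v, hv⟩ := LMStab.exists_factor hnorm hA hAr u (𝟙 A) hη hs
  have hη1 : Order.coheight (genericPoint X) ≤ 1 := by rw [RefX.coheight_genericPoint]; exact zero_le
  haveI : Mono v := SurfRankOne.mono_of_generic hB hA htB v fun a b h => by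
    obtain ⟨a', rfl⟩ := hs _ hη1 a
    obtain ⟨b', rfl⟩ := hs _ hη1 b
    rw [← stalk_comp, ← stalk_comp, hv, CategoryTheory.Functor.map_id] at h
    exact congrArg _ (h :)
  refine ⟨⟨v, hv, ?_⟩⟩
  rw [← cancel_mono v, Category.assoc, hv, Category.comp_id, Category.id_comp]

end Iso

variable [HasExt.{u} X.Modules]

/-- A morphism of extensions over a morphism of their quotients. -/
theorem exists_lift {C : Type*} [Category C] [Abelian C] [HasExt.{u} C] {M V V' N N' : C} {a : M ⟶ V} {b : V ⟶ N} {w : a ≫ b = 0}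
    {a' : M ⟶ V'} {b' : V' ⟶ N'} {w' : a' ≫ b' = 0} (hS : (ShortComplex.mk a b w).ShortExact)
    (hS' : (ShortComplex.mk a' b' w').ShortExact) (j : N ⟶ N')
    (hξ : hS.extClass = (Abelian.Ext.mk₀ j).comp hS'.extClass (zero_add 1)) :
    ∃ φ : V ⟶ V', a ≫ φ = a' ∧ φ ≫ b' = b ≫ j := by
  have h0 : (Abelian.Ext.mk₀ (b ≫ j)).comp hS'.extClass (zero_add 1) = 0 := by
    rw [← Abelian.Ext.mk₀_comp_mk₀, Abelian.Ext.comp_assoc_of_second_deg_zero, ← hξ]
    exact hS.comp_extClass
  obtain ⟨e, he⟩ := Abelian.Ext.covariant_sequence_exact₃ _ hS' _ (zero_add 1) h0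
  obtain ⟨φ₀, rfl⟩ := (Abelian.Ext.mk₀_bijective _ _).2 e
  rw [Abelian.Ext.mk₀_comp_mk₀] at he
  have hφ₀ : φ₀ ≫ b' = b ≫ j := (Abelian.Ext.mk₀_bijective _ _).1 he
  haveI : Mono (ShortComplex.mk a' b' w').f := hS'.mono_f
  let c : M ⟶ M := hS'.exact.lift (a ≫ φ₀) (by
    show (a ≫ φ₀) ≫ b' = 0
    rw [Category.assoc, hφ₀, reassoc_of% w, zero_comp])
  have hc : c ≫ a' = a ≫ φ₀ := hS'.exact.lift_f _ _
  let m : ShortComplex.mk a b w ⟶ ShortComplex.mk a' b' w' :=
    { τ₁ := c, τ₂ := φ₀, τ₃ := j, comm₁₂ := hc, comm₂₃ := hφ₀ }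
  have hn := ShortComplex.ShortExact.extClass_naturality hS hS' m
  have h1 : hS.extClass.comp (Abelian.Ext.mk₀ (c - 𝟙 M)) (add_zero 1) = 0 := by
    rw [sub_eq_add_neg, Abelian.Ext.mk₀_add,
      Abelian.Ext.mk₀_neg, Abelian.Ext.comp_add, Abelian.Ext.comp_neg, hn, ← hξ, Abelian.Ext.comp_mk₀_id,
      add_neg_cancel]
  obtain ⟨e', he'⟩ := Abelian.Ext.contravariant_sequence_exact₁ hS M _ (add_zero 1) h1
  obtain ⟨r, rfl⟩ := (Abelian.Ext.mk₀_bijective _ _).2 e'
  rw [Abelian.Ext.mk₀_comp_mk₀] at he'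
  have hr : a ≫ r = c - 𝟙 M := (Abelian.Ext.mk₀_bijective _ _).1 he'
  refine ⟨φ₀ - r ≫ a', ?_, ?_⟩
  · rw [Preadditive.comp_sub, ← Category.assoc, hr, Preadditive.sub_comp, hc, Category.id_comp, sub_sub_cancel]
  · rw [Preadditive.sub_comp, Category.assoc, w', comp_zero, sub_zero, hφ₀]

section Crit

variable [IsIntegral X] [IsLocallyNoetherian X] (hreg : ∀ x : X, IsRegularLocalRing (X.presheaf.stalk x))

include hreg in
/-- A locally free extension does not come from a strictly larger rank one sheaf. -/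
theorem isIso_of_mem_range {M V N N' : X.Modules} (hM : FlatMod.IsFinLocFree M) {a : M ⟶ V} {b : V ⟶ N}
    {w : a ≫ b = 0} (hS : (ShortComplex.mk a b w).ShortExact) (hV : FlatMod.IsFinLocFree V)
    (hN' : Coh.IsCoh N') (htN' : TorSh.IsTorsionFree N') (j : N ⟶ N') [Mono j]
    (hs : ∀ x : X, Order.coheight x ≤ 1 → Function.Surjective ((DerSch.stalkFunctor X x).map j).hom)
    (ξ' : Abelian.Ext.{u} N' M 1) (hξ : hS.extClass = (Abelian.Ext.mk₀ j).comp ξ' (zero_add 1)) : IsIso j := by
  obtain ⟨V', a', b', w', hS', rfl⟩ := ExtReal.exists_shortExact_extClass_eq ξ'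
  obtain ⟨φ, hφ1, hφ2⟩ := exists_lift hS hS' j hξ
  let m : ShortComplex.mk a b w ⟶ ShortComplex.mk a' b' w' :=
    { τ₁ := 𝟙 M, τ₂ := φ, τ₃ := j, comm₁₂ := (Category.id_comp a').trans hφ1.symm, comm₂₃ := hφ2 }
  haveI : Mono m.τ₁ := inferInstanceAs (Mono (𝟙 M))
  haveI : Mono m.τ₃ := ‹Mono j›
  haveI : Mono (ShortComplex.mk a' b' w').f := hS'.mono_f
  haveI : Mono (ShortComplex.mk a b w).f := hS.mono_f
  haveI : Mono φ := ShortComplex.mono_τ₂_of_exact_of_mono m hS.exact
  have hV'c : Coh.IsCoh V' := KZ.isCoh_X₂ hS' (CurveDeg.isCoh_of_isFinLocFree hM) hN'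
  have htV' : TorSh.IsTorsionFree V' := tf_extension hS' (GenDiff29.isTorsionFree_of_isFinLocFree hM) htN'
  have hφs : ∀ x : X, Order.coheight x ≤ 1 → Function.Surjective ((DerSch.stalkFunctor X x).map φ).hom := by
    intro x hx
    let Φ := DerSch.stalkFunctor X x
    have h' := (KFlatLib.shortExact_iff_stalk _).1 hS' x
    have hb : Function.Surjective (Φ.map b).hom := ((KFlatLib.shortExact_iff_stalk _).1 hS x).moduleCat_surjective_g
    intro y
    obtain ⟨z, hz⟩ := hs x hx ((Φ.map b').hom y)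
    obtain ⟨v, rfl⟩ := hb z
    have hk : y - (Φ.map φ).hom v ∈ LinearMap.ker (Φ.map b').hom := by
      rw [LinearMap.mem_ker, map_sub, ← stalk_comp, hφ2, stalk_comp, hz, sub_self]
    rw [show LinearMap.ker (Φ.map b').hom = LinearMap.range (Φ.map a').hom from
      h'.exact.moduleCat_range_eq_ker.symm] at hk
    obtain ⟨t, ht⟩ := hk
    refine ⟨(Φ.map a).hom t + v, ?_⟩
    rw [map_add, ← stalk_comp, hφ1, ht, sub_add_cancel]
  haveI := isIso_of_reflexive (SurfRankOne.normal_of_regular hreg) (CurveDeg.isCoh_of_isFinLocFree hV)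
    (LMStab.reflexive_of_lf (CurveDeg.isCoh_of_isFinLocFree hV) hV) hV'c htV' φ hφs
  haveI : Epi b' := hS'.epi_g
  haveI : Epi (b ≫ j) := hφ2 ▸ epi_comp φ b'
  haveI : Epi j := epi_of_epi b j
  exact isIso_of_mono_of_epi j

variable (hdim : topologicalKrullDim X ≤ 2)

include hreg hdim in
/-- A torsion free coherent module is everything in codimension one in its double dual, which is locally free. -/
theorem exists_hull {V : X.Modules} (hV : Coh.IsCoh V) (htV : TorSh.IsTorsionFree V) :
    ∃ (D : X.Modules) (β : V ⟶ D), FlatMod.IsFinLocFree D ∧ Mono β ∧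
      ∀ x : X, Order.coheight x ≤ 1 → Function.Bijective ((DerSch.stalkFunctor X x).map β).hom := by
  have hnorm := SurfRankOne.normal_of_regular hreg
  have hDc : Coh.IsCoh (RefHull.ddual V) := RefX.isCoh_dual (RefX.isCoh_dual hV)
  have hbij : ∀ x : X, Order.coheight x ≤ 1 →
      Function.Bijective ((DerSch.stalkFunctor X x).map (RefHull.bidualMap V)).hom := by
    intro x hx
    have hr : RefHull.IsReflexiveAt V x := by
      haveI := (hnorm x).1
      haveI := (hnorm x).2
      haveI := QCoh.finite_stalk_of_isFT hV.1 hV.2 x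
      haveI : Module.IsTorsionFree (X.presheaf.stalk x) (V.presheaf.stalk x) := htV x
      rcases lt_or_eq_of_le hx with h | h
      · have hxη : x = genericPoint X := by
          rw [ENat.lt_one_iff_eq_zero, Order.coheight_eq_zero] at h
          exact (Specializes.antisymm (h (RefX.specializes_genericPoint x)) (RefX.specializes_genericPoint x)).eq
        subst hxη
        letI : Field (X.presheaf.stalk (genericPoint X)) := inferInstanceAs (Field X.functionField)
        show Module.IsReflexive (X.presheaf.stalk (genericPoint X)) (V.presheaf.stalk (genericPoint X))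
        infer_instance
      · have hd : ringKrullDim (X.presheaf.stalk x) = 1 := by
          rw [ringKrullDim_stalk_eq_coheight, h]
          rfl
        haveI := CDiv6.isDVR_of_dim_eq_one (X.presheaf.stalk x) hd
        haveI : Module.Free (X.presheaf.stalk x) (V.presheaf.stalk x) := Module.free_of_finite_type_torsion_free'
        show Module.IsReflexive (X.presheaf.stalk x) (V.presheaf.stalk x)
        infer_instance
    have h := (RefX.stalkMap_bidual_bijective_iff hV x).2 hr
    exact ⟨fun a b hab => h.1 (((LMStab.stalkMap_eq _ x a).trans hab).trans (LMStab.stalkMap_eq _ x b).symm), fun y => by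
      obtain ⟨a, ha⟩ := h.2 y
      exact ⟨a, (LMStab.stalkMap_eq _ x a).symm.trans ha⟩⟩
  refine ⟨RefHull.ddual V, RefHull.bidualMap V, ?_,
    SurfRankOne.mono_of_generic hV hDc htV _ (hbij _ (by rw [RefX.coheight_genericPoint]; exact zero_le)).1, hbij⟩
  exact (S1689.result X hreg hdim _ hDc).1 fun x => RefX.isReflexiveAt_dual (RefX.isCoh_dual hV) x

include hreg hdim in
/-- An extension which is not locally free comes from a strictly larger rank one sheaf. -/
theorem exists_larger {M V N L : X.Modules} (hM : FlatMod.IsFinLocFree M) {a : M ⟶ V} {b : V ⟶ N}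
    {w : a ≫ b = 0} (hS : (ShortComplex.mk a b w).ShortExact) (hV : ¬ FlatMod.IsFinLocFree V) (hN : Coh.IsCoh N)
    (hL : FlatMod.IsFinLocFree L) (ι : N ⟶ L) [Mono ι] :
    ∃ (N' : X.Modules) (j : N ⟶ N') (ι' : N' ⟶ L), Coh.IsCoh N' ∧ Mono ι' ∧ j ≫ ι' = ι ∧ ¬ IsIso j ∧
      ∃ ξ' : Abelian.Ext.{u} N' M 1, hS.extClass = (Abelian.Ext.mk₀ j).comp ξ' (zero_add 1) := by
  have hnorm := SurfRankOne.normal_of_regular hreg
  have hMc := CurveDeg.isCoh_of_isFinLocFree hM
  have hLc := CurveDeg.isCoh_of_isFinLocFree hL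
  have htM := GenDiff29.isTorsionFree_of_isFinLocFree hM
  have htL := GenDiff29.isTorsionFree_of_isFinLocFree hL
  have hVc : Coh.IsCoh V := KZ.isCoh_X₂ hS hMc hN
  have htV : TorSh.IsTorsionFree V := tf_extension hS htM (SurfRankOne.tf_of_mono ι htL)
  obtain ⟨D, β, hD, hβ, hbij⟩ := exists_hull hreg hdim hVc htV
  have hDc := CurveDeg.isCoh_of_isFinLocFree hD
  have hη : Order.coheight (genericPoint X) ≤ 1 := by rw [RefX.coheight_genericPoint]; exact zero_le
  obtain ⟨v, hv⟩ := LMStab.exists_factor hnorm hLc (LMStab.reflexive_of_lf hLc hL) β (b ≫ ι) (hbij _ hη).1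
    fun x hx => (hbij x hx).2
  haveI : Mono a := hS.mono_f
  haveI : Epi b := hS.epi_g
  have hz : (a ≫ β) ≫ v = 0 := by rw [Category.assoc, hv, reassoc_of% w, zero_comp]
  haveI : IsIso (kernel.lift v (a ≫ β) hz) := by
    haveI : Mono (kernel.lift v (a ≫ β) hz) := mono_of_mono_fac (kernel.lift_ι v (a ≫ β) hz)
    refine isIso_of_reflexive hnorm hMc (LMStab.reflexive_of_lf hMc hM) (QCoh.isCoh_kernel hDc hLc v)
      (SurfRankOne.tf_of_mono (kernel.ι v) (GenDiff29.isTorsionFree_of_isFinLocFree hD)) _ fun x hx y => ?_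
    let Φ := DerSch.stalkFunctor X x
    haveI : Φ.Additive := DerSch.additive_stalkFunctor x
    obtain ⟨v', hv'⟩ := (hbij x hx).2 ((Φ.map (kernel.ι v)).hom y)
    have h0 : (Φ.map (b ≫ ι)).hom v' = 0 := by
      rw [← hv, stalk_comp, hv', ← stalk_comp, kernel.condition, Functor.map_zero]
      rfl
    rw [stalk_comp] at h0
    have h1 : v' ∈ LinearMap.ker (Φ.map b).hom :=
      CurveCohLib.stalk_injective ι x (h0.trans (map_zero _).symm)
    rw [show LinearMap.ker (Φ.map b).hom = LinearMap.range (Φ.map a).hom from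
      ((KFlatLib.shortExact_iff_stalk _).1 hS x).exact.moduleCat_range_eq_ker.symm] at h1
    obtain ⟨m, rfl⟩ := h1
    refine ⟨m, CurveCohLib.stalk_injective (kernel.ι v) x ?_⟩
    show (Φ.map (kernel.ι v)).hom ((Φ.map (kernel.lift v (a ≫ β) hz)).hom m) = (Φ.map (kernel.ι v)).hom y
    rw [← stalk_comp, kernel.lift_ι, stalk_comp, hv']
  haveI : Mono β := hβ
  let N' := cokernel (a ≫ β)
  let S' := ShortComplex.mk (a ≫ β) (cokernel.π (a ≫ β)) (cokernel.condition _)
  have hS' : S'.ShortExact :=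
    { exact := ShortComplex.exact_cokernel _, mono_f := mono_comp a β, epi_g := inferInstanceAs (Epi (cokernel.π _)) }
  let ι' : N' ⟶ L := cokernel.desc _ v hz
  have hker : (ShortComplex.mk (a ≫ β) v hz).Exact := by
    refine ShortComplex.exact_of_f_is_kernel _ (KernelFork.IsLimit.ofι' _ _ fun {A} t ht =>
      ⟨kernel.lift v t ht ≫ inv (kernel.lift v (a ≫ β) hz), ?_⟩)
    show (kernel.lift v t ht ≫ inv (kernel.lift v (a ≫ β) hz)) ≫ (a ≫ β) = t
    conv_lhs => arg 2; rw [← kernel.lift_ι v (a ≫ β) hz]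
    rw [Category.assoc, IsIso.inv_hom_id_assoc, kernel.lift_ι]
  haveI hι' : Mono ι' := hker.mono_cokernelDesc
  let j : N ⟶ N' := hS.exact.desc (β ≫ cokernel.π (a ≫ β)) (by
    show a ≫ β ≫ cokernel.π (a ≫ β) = 0
    rw [← Category.assoc, cokernel.condition])
  have hj : b ≫ j = β ≫ cokernel.π (a ≫ β) := hS.exact.g_desc _ _
  have hjι : j ≫ ι' = ι := by
    rw [← cancel_epi b, ← Category.assoc, hj, Category.assoc, cokernel.π_desc, hv]
  let m : ShortComplex.mk a b w ⟶ S' :=
    { τ₁ := 𝟙 M, τ₂ := β, τ₃ := j, comm₁₂ := Category.id_comp _, comm₂₃ := hj.symm }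
  refine ⟨N', j, ι', QCoh.isCoh_cokernel hMc.1 hDc _, hι', hjι, fun h => hV ?_, hS'.extClass, ?_⟩
  · haveI : IsIso m.τ₁ := inferInstanceAs (IsIso (𝟙 M))
    haveI : IsIso m.τ₃ := h
    haveI : IsIso β := ShortComplex.isIso₂_of_shortExact_of_isIso₁₃ m hS hS'
    exact H23.PullPush.isFinLocFree_of_iso (asIso β).symm hD
  · have := ShortComplex.ShortExact.extClass_naturality hS hS' m
    rwa [show m.τ₁ = 𝟙 M from rfl, Abelian.Ext.comp_mk₀_id] at this

end Crit

end Groth.Agent.Synt29.SerreCrit

end
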