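import Groth.Agent.Lib.DivisorExt
import Groth.Agent.H23.ModZero
import Groth.Agent.ZeroSchX.Basic
import Groth.Agent.InvX.Tensor
import Groth.Agent.KFlatLib.Scheme.TensorStalk

/-!
Submodules of invertible modules given by ideal sheaves, on stalks.
-/

set_option autoImplicit false
set_option linter.style.haveILetI false
set_option linter.unusedSectionVars false
set_option backward.isDefEq.respectTransparency false
set_option backward.isDefEq.respectTransparency.types false
set_option maxHeartbeats 1000000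

universe u

open CategoryTheory CategoryTheory.Limits AlgebraicGeometry TopologicalSpace MonoidalCategory
open Groth.Agent Groth.Agent.H23

noncomputable section

namespace Groth.Agent.Synt29.SerreIdeal

variable {X : Scheme.{u}}

/-- `φ` has as image the multiples of the ideal sheaf `I`. -/
def IsTwist (I : X.IdealSheafData) {N L : X.Modules} (φ : N ⟶ L) : Prop :=
  ∀ x : X, LinearMap.range ((DerSch.stalkFunctor X x).map φ).hom =
    StalkIdeal.sI I x • (⊤ : Submodule (X.presheaf.stalk x) ((DerSch.stalkFunctor X x).obj L))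

theorem stalk_structure_germ {x : X} (V : X.Opens) (hx : x ∈ V) (w : Γ(Coh.structureModule X, V)) :
    (Coh.structureModule X).presheaf.germ V x hx w =
      X.presheaf.germ V x hx (OmegaSh.fnSect X V w) •
        (Coh.structureModule X).presheaf.germ V x hx (OmegaSh.strSect X V 1) := by
  rw [← QCoh.germ_smul', ← OmegaSh.strSect_mul, mul_one]
  rfl

/-- The ideal module has the stalks of the ideal sheaf. -/
theorem isTwist_idealModι (I : X.IdealSheafData) : IsTwist I (ClSub.idealModι I) := fun x => by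
  let Φ := DerSch.stalkFunctor X x
  refine le_antisymm ?_ (Submodule.smul_le.2 fun i hi o _ => ?_)
  · rintro _ ⟨n, rfl⟩
    obtain ⟨V, hxV, s, rfl⟩ := (ClSub.idealMod I).presheaf.germ_exist n
    obtain ⟨_, ⟨W, hW, rfl⟩, hxW, hWV⟩ :=
      X.isBasis_affineOpens.exists_subset_of_mem_open (show x ∈ V from hxV) V.2
    rw [← (ClSub.idealMod I).presheaf.germ_res_apply (homOfLE (show W ≤ V from hWV)) x hxW s]
    rw [DerSch.stalkFunctor_map_germ x (ClSub.idealModι I) W hxW]
    show (Coh.structureModule X).presheaf.germ W x hxW _ ∈ _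
    rw [stalk_structure_germ]
    refine Submodule.smul_mem_smul ?_ Submodule.mem_top
    rw [StalkIdeal.sI_eq I ⟨W, hW⟩ hxW, CDivEq.stk]
    exact Ideal.mem_map_of_mem _ (OmegaLib.idealSect_mem I ⟨W, hW⟩ _)
  · obtain ⟨V, hxV, w, rfl⟩ := (Coh.structureModule X).presheaf.germ_exist o
    obtain ⟨_, ⟨W, hW, rfl⟩, hxW, hWV⟩ :=
      X.isBasis_affineOpens.exists_subset_of_mem_open (show x ∈ V from hxV) V.2
    rw [← (Coh.structureModule X).presheaf.germ_res_apply (homOfLE (show W ≤ V from hWV)) x hxW w]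
    rw [StalkIdeal.sI_eq I ⟨W, hW⟩ hxW, CDivEq.stk, Ideal.map] at hi
    induction hi using Submodule.span_induction with
    | mem r hr =>
      obtain ⟨c, hc, rfl⟩ := hr
      obtain ⟨s, hs⟩ := OmegaLib.exists_of_mem I ⟨W, hW⟩ _
        (Ideal.mul_mem_right (OmegaSh.fnSect X W
          ((Coh.structureModule X).presheaf.map (homOfLE (show W ≤ V from hWV)).op w)) _ hc)
      refine ⟨(ClSub.idealMod I).presheaf.germ W x hxW s, ?_⟩
      rw [DerSch.stalkFunctor_map_germ x (ClSub.idealModι I) W hxW]
      refine Eq.trans ?_ (QCoh.germ_smul' (Coh.structureModule X) hxW c _)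
      exact congrArg ((Coh.structureModule X).presheaf.germ W x hxW) hs
    | zero => rw [zero_smul]; exact zero_mem _
    | add a b _ _ ha hb => rw [add_smul]; exact add_mem ha hb
    | smul a b _ hb => rw [smul_assoc]; exact Submodule.smul_mem _ a hb

theorem range_lTensor_smul {R : Type u} [CommRing R] {A J O : Type u} [AddCommGroup A] [Module R A] [AddCommGroup J]
    [Module R J] [AddCommGroup O] [Module R O] (g : J →ₗ[R] O) (I : Ideal R)
    (hg : LinearMap.range g = I • ⊤) : LinearMap.range (g.lTensor A) = I • ⊤ := by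
  refine le_antisymm ?_ (Submodule.smul_le.2 fun i hi t _ => ?_)
  · rintro _ ⟨t, rfl⟩
    induction t using TensorProduct.induction_on with
    | zero => rw [map_zero]; exact zero_mem _
    | tmul a j =>
      rw [LinearMap.lTensor_tmul]
      have h : g j ∈ I • (⊤ : Submodule R O) := hg ▸ LinearMap.mem_range_self g j
      refine Submodule.smul_induction_on h (fun r hr o _ => ?_) (fun b c hb hc => ?_)
      · rw [TensorProduct.tmul_smul]; exact Submodule.smul_mem_smul hr Submodule.mem_top
      · rw [TensorProduct.tmul_add]; exact add_mem hb hc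
    | add a b ha hb => rw [map_add]; exact add_mem ha hb
  · induction t using TensorProduct.induction_on with
    | zero => rw [smul_zero]; exact zero_mem _
    | tmul a o =>
      obtain ⟨j, hj⟩ : i • o ∈ LinearMap.range g := hg ▸ Submodule.smul_mem_smul hi Submodule.mem_top
      exact ⟨a ⊗ₜ[R] j, by rw [LinearMap.lTensor_tmul, hj, TensorProduct.tmul_smul]⟩
    | add a b ha hb => rw [smul_add]; exact add_mem (ha trivial) (hb trivial)

theorem range_comp_iso {R : Type u} [CommRing R] {A B B' : Type u} [AddCommGroup A] [Module R A] [AddCommGroup B]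
    [Module R B] [AddCommGroup B'] [Module R B'] (f : A →ₗ[R] B) (e : B →ₗ[R] B') (he : Function.Surjective e)
    (I : Ideal R) (hf : LinearMap.range f = I • ⊤) : LinearMap.range (e.comp f) = I • ⊤ := by
  rw [LinearMap.range_comp, hf, Submodule.map_smul'', Submodule.map_top, LinearMap.range_eq_top.2 he]

theorem surjective_of_iso {R : Type u} [CommRing R] {A B : ModuleCat.{u} R} (e : A ≅ B) :
    Function.Surjective e.hom.hom := e.toLinearEquiv.surjective

theorem isTwist_comp_iso {I : X.IdealSheafData} {N L L' : X.Modules} {φ : N ⟶ L} (h : IsTwist I φ) (e : L ≅ L') :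
    IsTwist I (φ ≫ e.hom) := fun x => by
  rw [Functor.map_comp, ModuleCat.hom_comp]
  exact range_comp_iso _ _ (surjective_of_iso ((DerSch.stalkFunctor X x).mapIso e)) _ (h x)

theorem isTwist_iso_comp {I : X.IdealSheafData} {N N' L : X.Modules} {φ : N ⟶ L} (h : IsTwist I φ) (e : N' ≅ N) :
    IsTwist I (e.hom ≫ φ) := fun x => by
  have hs : LinearMap.range ((DerSch.stalkFunctor X x).map e.hom).hom = ⊤ :=
    LinearMap.range_eq_top.2 (surjective_of_iso ((DerSch.stalkFunctor X x).mapIso e))
  rw [Functor.map_comp, ModuleCat.hom_comp, LinearMap.range_comp, hs, Submodule.map_top]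
  exact h x

/-- Multiplication by an ideal. -/
theorem isTwist_mulIdeal (I : X.IdealSheafData) (A : X.Modules) : IsTwist I (DivisorExt.mulIdeal I A) := by
  refine isTwist_comp_iso (φ := (DCoh.tensorBi.obj A).map (ClSub.idealModι I)) (fun x => ?_) _
  let Φ := DerSch.stalkFunctor X x
  have hn := KFlatLib.stalkTensorIso_naturality (x := x) (𝟙 A) (ClSub.idealModι I)
  rw [CategoryTheory.Functor.map_id, CategoryTheory.Functor.map_id, NatTrans.id_app, Category.id_comp] at hn
  have h1 : LinearMap.range (((Φ.obj A) ◁ Φ.map (ClSub.idealModι I)) ≫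
      (KFlatLib.stalkTensorIso x A (Coh.structureModule X)).hom).hom = StalkIdeal.sI I x • ⊤ := by
    rw [ModuleCat.hom_comp]
    exact range_comp_iso _ _ (surjective_of_iso _) _ (range_lTensor_smul _ _ (isTwist_idealModι I x))
  rw [← MonoidalCategory.id_tensorHom, hn, ModuleCat.hom_comp, LinearMap.range_comp,
    LinearMap.range_eq_top.2 (surjective_of_iso _), Submodule.map_top] at h1
  exact h1

/-- The zero scheme of a section. -/
theorem isTwist_zeroScheme {L : X.Modules} (hL : PicF.IsInvertible L) (σ : Coh.structureModule X ⟶ L) :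
    IsTwist (PicF2.zeroScheme L σ) σ := fun x => by
  obtain ⟨U₀, hx₀, ε₀, hε₀⟩ := InvX.exists_frame hL x
  obtain ⟨_, ⟨W, hW, rfl⟩, hxW, hWU⟩ :=
    X.isBasis_affineOpens.exists_subset_of_mem_open (show x ∈ U₀ from hx₀) U₀.2
  let ε := AModX.res L (show W ≤ U₀ from hWU) ε₀
  have hε : InvX.IsFrame ε := hε₀.res _
  obtain ⟨g, hg⟩ := hε.exists_coord le_rfl (ZeroSchX.sv σ W)
  rw [AModX.res_self] at hg
  have hb := hε.germ_bijective hxW
  have hI : StalkIdeal.sI (PicF2.zeroScheme L σ) x = Ideal.span {X.presheaf.germ W x hxW g} := by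
    rw [StalkIdeal.sI_eq _ ⟨W, hW⟩ hxW, CDivEq.stk, ZeroSchX.ideal_zeroScheme hL,
      ZeroSchX.zeroIdealOn_eq_span σ hε hg, Ideal.map_span, Set.image_singleton]
  have h1 : ((DerSch.stalkFunctor X x).map σ).hom
      ((Coh.structureModule X).presheaf.germ W x hxW (OmegaSh.strSect X W 1)) =
      X.presheaf.germ W x hxW g • L.presheaf.germ W x hxW ε := by
    rw [← QCoh.germ_smul', ← hg]
    exact DerSch.stalkFunctor_map_germ x σ W hxW _
  rw [hI]
  refine le_antisymm ?_ (Submodule.smul_le.2 fun i hi v _ => ?_)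
  · rintro _ ⟨o, rfl⟩
    obtain ⟨V, hxV, w, rfl⟩ := (Coh.structureModule X).presheaf.germ_exist o
    let O : X.Opens := V ⊓ W
    have hxO : x ∈ O := ⟨hxV, hxW⟩
    have hone : (Coh.structureModule X).presheaf.germ O x hxO (OmegaSh.strSect X O 1) =
        (Coh.structureModule X).presheaf.germ W x hxW (OmegaSh.strSect X W 1) := by
      rw [← (Coh.structureModule X).presheaf.germ_res_apply (homOfLE (inf_le_right : O ≤ W)) x hxO]
      congr 1
      exact (map_one (X.presheaf.map (homOfLE (inf_le_right : O ≤ W)).op).hom).symm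
    rw [← (Coh.structureModule X).presheaf.germ_res_apply (homOfLE (inf_le_left : O ≤ V)) x hxO w,
      stalk_structure_germ, hone, map_smul, h1]
    exact Submodule.smul_mem _ _ (Submodule.smul_mem_smul (Ideal.mem_span_singleton_self _) Submodule.mem_top)
  · obtain ⟨c, rfl⟩ := Ideal.mem_span_singleton'.1 hi
    obtain ⟨a, rfl⟩ := hb.2 v
    refine ⟨(c * a) • (Coh.structureModule X).presheaf.germ W x hxW (OmegaSh.strSect X W 1), ?_⟩
    rw [map_smul, h1, smul_smul]
    show _ = (c * _) • (a • L.presheaf.germ W x hxW ε)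
    rw [smul_smul]
    congr 1
    ring

/-- A generator of an invertible stalk. -/
theorem exists_gen_stalk {L : X.Modules} (hL : PicF.IsInvertible L) (x : X) :
    ∃ e : (DerSch.stalkFunctor X x).obj L, Function.Bijective fun r : X.presheaf.stalk x => r • e := by
  obtain ⟨U, hxU, ε, hε⟩ := InvX.exists_frame hL x
  exact ⟨_, hε.germ_bijective hxU⟩

theorem smul_mem_smul_top_iff {R : Type u} [CommRing R] {M : Type u} [AddCommGroup M] [Module R M] {e : M}
    (he : Function.Bijective fun r : R => r • e) (I : Ideal R) (r : R) :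
    r • e ∈ I • (⊤ : Submodule R M) ↔ r ∈ I := by
  refine ⟨fun h => ?_, fun h => Submodule.smul_mem_smul h Submodule.mem_top⟩
  let f := LinearEquiv.ofBijective (LinearMap.toSpanSingleton R M e) he
  have h1 : f.symm (r • e) ∈ Submodule.map f.symm.toLinearMap (I • ⊤) := ⟨_, h, rfl⟩
  rw [Submodule.map_smul'', Submodule.map_top, LinearEquiv.range] at h1
  rw [show f.symm (r • e) = r from f.symm_apply_apply r, Ideal.smul_eq_mul, Ideal.mul_top] at h1
  exact h1

theorem smul_top_le_iff {L : X.Modules} (hL : PicF.IsInvertible L) {x : X} {I J : Ideal (X.presheaf.stalk x)} :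
    I • (⊤ : Submodule (X.presheaf.stalk x) ((DerSch.stalkFunctor X x).obj L)) ≤
        J • (⊤ : Submodule (X.presheaf.stalk x) ((DerSch.stalkFunctor X x).obj L)) ↔ I ≤ J := by
  refine ⟨fun h r hr => ?_, fun h => Submodule.smul_mono_left h⟩
  obtain ⟨e, he⟩ := exists_gen_stalk hL x
  exact (smul_mem_smul_top_iff he J r).1 (h (Submodule.smul_mem_smul hr Submodule.mem_top))

/-- Factorisation through a submodule is checked on stalks. -/
theorem exists_factor {A N L : X.Modules} (f : A ⟶ L) (ι : N ⟶ L) [Mono ι]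
    (h : ∀ x : X, LinearMap.range ((DerSch.stalkFunctor X x).map f).hom ≤
      LinearMap.range ((DerSch.stalkFunctor X x).map ι).hom) : ∃ g : A ⟶ N, g ≫ ι = f := by
  have hz : f ≫ cokernel.π ι = 0 := by
    refine Synt29.ConormalExact.hom_ext_stalk _ _ fun x m => ?_
    let Φ := DerSch.stalkFunctor X x
    haveI : Φ.Additive := DerSch.additive_stalkFunctor x
    obtain ⟨n, hn⟩ := h x ⟨m, rfl⟩
    show (Φ.map (f ≫ cokernel.π ι)).hom m = (Φ.map (0 : A ⟶ cokernel ι)).hom m
    rw [Functor.map_comp, ModuleCat.hom_comp, LinearMap.comp_apply, ← hn]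
    show (Φ.map ι ≫ Φ.map (cokernel.π ι)).hom n = _
    rw [← Functor.map_comp, cokernel.condition, Functor.map_zero, Functor.map_zero]
    rfl
  exact ⟨(ShortComplex.exact_cokernel ι).lift f hz, (ShortComplex.exact_cokernel ι).lift_f f hz⟩

theorem range_le_of_comp {A N L : X.Modules} {g : A ⟶ N} {ι : N ⟶ L} {f : A ⟶ L} (h : g ≫ ι = f) (x : X) :
    LinearMap.range ((DerSch.stalkFunctor X x).map f).hom ≤
      LinearMap.range ((DerSch.stalkFunctor X x).map ι).hom := by
  rw [← h, Functor.map_comp, ModuleCat.hom_comp]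
  exact LinearMap.range_comp_le_range _ _

/-- Membership of ideal sheaves is checked on stalks. -/
theorem le_iff_sI {I J : X.IdealSheafData} : I ≤ J ↔ ∀ x, StalkIdeal.sI I x ≤ StalkIdeal.sI J x := by
  refine ⟨fun h x => ?_, fun h => Scheme.IdealSheafData.le_def.2 fun U => CDivEq.le_of_stk _ _ U fun x hx => ?_⟩
  · obtain ⟨_, ⟨W, hW, rfl⟩, hx, -⟩ := X.isBasis_affineOpens.exists_subset_of_mem_open (Set.mem_univ x) isOpen_univ
    rw [StalkIdeal.sI_eq I ⟨W, hW⟩ hx, StalkIdeal.sI_eq J ⟨W, hW⟩ hx, CDivEq.stk, CDivEq.stk]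
    exact Ideal.map_mono (h _)
  · rw [← StalkIdeal.sI_eq, ← StalkIdeal.sI_eq]
    exact h x

/-- Factorisation between twists is inclusion of ideals. -/
theorem le_iff_factor {L A N : X.Modules} (hL : PicF.IsInvertible L) {I J : X.IdealSheafData} {f : A ⟶ L}
    {ι : N ⟶ L} [Mono ι] (hf : IsTwist I f) (hι : IsTwist J ι) : I ≤ J ↔ ∃ g : A ⟶ N, g ≫ ι = f := by
  rw [le_iff_sI]
  refine ⟨fun h => exists_factor f ι fun x => ?_, ?_⟩
  · rw [hf x, hι x]
    exact Submodule.smul_mono_left (h x)
  · rintro ⟨g, hg⟩ x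
    have := range_le_of_comp hg x
    rwa [hf x, hι x, smul_top_le_iff hL] at this

/-- Every map into an invertible module has an ideal sheaf. -/
theorem exists_isTwist {N L : X.Modules} (hN : Coh.IsQCoh N) (hL : PicF.IsInvertible L) (φ : N ⟶ L) :
    ∃ J : X.IdealSheafData, IsTwist J φ := by
  refine ⟨ModZero.zeroIdeal φ hN (InvEnd.isFinLocFreeOfRank_one hL), fun x => ?_⟩
  rw [ModZero.zeroIdeal, ModZero.sI_ofStalks]
  obtain ⟨e, he⟩ := exists_gen_stalk hL x
  let f : X.presheaf.stalk x ≃ₗ[X.presheaf.stalk x] (DerSch.stalkFunctor X x).obj L :=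
    LinearEquiv.ofBijective (LinearMap.toSpanSingleton _ _ e) he
  refine le_antisymm ?_ (Submodule.smul_le.2 fun i hi v _ => ?_)
  · rintro _ ⟨n, rfl⟩
    obtain ⟨r, hr⟩ := he.2 (((DerSch.stalkFunctor X x).map φ).hom n)
    rw [← hr]
    refine Submodule.smul_mem_smul ?_ Submodule.mem_top
    refine Submodule.mem_iSup_of_mem f.symm.toLinearMap ⟨n, ?_⟩
    show f.symm (Algz.stalkMapₗ φ x n) = r
    rw [LinearEquiv.symm_apply_eq]
    exact hr.symm
  · induction hi using Submodule.iSup_induction' with
    | mem μ r hr =>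
      obtain ⟨n, rfl⟩ := hr
      obtain ⟨a, rfl⟩ := he.2 v
      obtain ⟨b, hb⟩ := he.2 (((DerSch.stalkFunctor X x).map φ).hom n)
      refine ⟨(μ e * a) • n, ?_⟩
      rw [map_smul, ← hb]
      show (μ e * a) • b • e = μ (Algz.stalkMapₗ φ x n) • a • e
      rw [show Algz.stalkMapₗ φ x n = b • e from hb.symm, map_smul, smul_smul, smul_smul, smul_eq_mul]
      congr 1
      ring
    | zero => rw [zero_smul]; exact zero_mem _
    | add a b _ _ ha hb => rw [add_smul]; exact add_mem ha hb

end Groth.Agent.Synt29.SerreIdeal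

end
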