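import Groth.Agent.AffDefLib.Obstruction
import Mathlib

/-!
Exact sequences of flat modules over an Artinian local ring, tested modulo the maximal ideal.
-/

universe u

open IsLocalRing

namespace Groth.Agent.Synt29.SplitLift

variable {C : Type u} [CommRing C] [IsLocalRing C] [IsArtinianRing C]

local notation "𝔪" => maximalIdeal C

theorem smul_top_le_comap {P Q : Type u} [AddCommGroup P] [Module C P] [AddCommGroup Q] [Module C Q]
    (I : Ideal C) (u : P →ₗ[C] Q) : (I • ⊤ : Submodule C P) ≤ (I • ⊤ : Submodule C Q).comap u := by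
  refine Submodule.smul_le.2 fun c hc y _ => ?_
  rw [Submodule.mem_comap, map_smul]
  exact Submodule.smul_mem_smul hc trivial

theorem exists_leftInverse {P Q : Type u} [AddCommGroup P] [Module C P] [Module.Flat C P]
    [AddCommGroup Q] [Module C Q] [Module.Flat C Q] (u : P →ₗ[C] Q)
    (hu : ∀ x, u x ∈ (𝔪 • ⊤ : Submodule C Q) → x ∈ (𝔪 • ⊤ : Submodule C P)) :
    ∃ r : Q →ₗ[C] P, r ∘ₗ u = LinearMap.id := by
  haveI := Groth.Agent.AffDefLib.free_of_flat_artinian (R := C) Q
  letI : Field (C ⧸ 𝔪) := Ideal.Quotient.field 𝔪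
  let ū₀ := (𝔪 • ⊤ : Submodule C P).mapQ (𝔪 • ⊤) u (smul_top_le_comap 𝔪 u)
  let ū : (P ⧸ (𝔪 • ⊤ : Submodule C P)) →ₗ[C ⧸ 𝔪] (Q ⧸ (𝔪 • ⊤ : Submodule C Q)) :=
    { toFun := ū₀
      map_add' := map_add ū₀
      map_smul' := fun c z => by
        obtain ⟨c, rfl⟩ := Ideal.Quotient.mk_surjective c
        obtain ⟨z, rfl⟩ := Submodule.Quotient.mk_surjective _ z
        exact map_smul ū₀ c (Submodule.Quotient.mk z) }
  have hker : LinearMap.ker ū = ⊥ := by
    refine LinearMap.ker_eq_bot'.2 fun z hz => ?_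
    obtain ⟨z, rfl⟩ := Submodule.Quotient.mk_surjective _ z
    exact (Submodule.Quotient.mk_eq_zero _).2 (hu z ((Submodule.Quotient.mk_eq_zero _).1 hz))
  obtain ⟨rb, hrb⟩ := ū.exists_leftInverse_of_injective hker
  let r₀ : Q →ₗ[C] P ⧸ (𝔪 • ⊤ : Submodule C P) :=
    { toFun := fun q => rb (Submodule.Quotient.mk q)
      map_add' := fun a b => by rw [Submodule.Quotient.mk_add, map_add]
      map_smul' := fun c q => by
        rw [Submodule.Quotient.mk_smul]
        exact map_smul rb (Ideal.Quotient.mk 𝔪 c) (Submodule.Quotient.mk q) }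
  obtain ⟨r, hr⟩ := Module.projective_lifting_property (𝔪 • ⊤ : Submodule C P).mkQ r₀
    (Submodule.mkQ_surjective _)
  let nl : P →ₗ[C] P := LinearMap.id - r ∘ₗ u
  have hn : ∀ x, nl x ∈ (𝔪 • ⊤ : Submodule C P) := fun x => by
    rw [← Submodule.Quotient.mk_eq_zero, show nl x = x - r (u x) from rfl, Submodule.Quotient.mk_sub, sub_eq_zero]
    have h1 : Submodule.Quotient.mk (r (u x)) = r₀ (u x) := LinearMap.congr_fun hr (u x)
    rw [h1]
    exact (LinearMap.congr_fun hrb (Submodule.Quotient.mk x)).symm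
  have hpow : ∀ (t : ℕ) (x : P), (nl ^ t) x ∈ (𝔪 ^ t • ⊤ : Submodule C P) := by
    intro t
    induction t with
    | zero => intro x; simp
    | succ t ih =>
      intro x
      rw [pow_succ nl t, Module.End.mul_apply]
      have h2 : nl x ∈ (𝔪 • ⊤ : Submodule C P) := hn x
      have h3 : (𝔪 • ⊤ : Submodule C P) ≤ (𝔪 ^ (t + 1) • ⊤ : Submodule C P).comap (nl ^ t) := by
        refine Submodule.smul_le.2 fun c hc y _ => ?_
        rw [Submodule.mem_comap, map_smul, pow_succ', Submodule.mul_smul]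
        exact Submodule.smul_mem_smul hc (ih y)
      exact h3 h2
  obtain ⟨t, ht⟩ := (isArtinianRing_iff_isNilpotent_maximalIdeal C).1 inferInstance
  have hnil : IsNilpotent nl := ⟨t, LinearMap.ext fun x => by
    have := hpow t x
    rw [ht, Ideal.zero_eq_bot, Submodule.bot_smul, Submodule.mem_bot] at this
    exact this⟩
  obtain ⟨e, he⟩ := hnil.isUnit_one_sub
  refine ⟨(↑e⁻¹ : Module.End C P) ∘ₗ r, LinearMap.ext fun x => ?_⟩
  show (↑e⁻¹ : Module.End C P) (r (u x)) = x
  have h1 : (↑e : Module.End C P) x = r (u x) := by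
    rw [he]
    show x - (x - r (u x)) = r (u x)
    abel
  rw [← h1, ← Module.End.mul_apply, Units.inv_mul, Module.End.one_apply]

/-- A complex exact modulo the maximal ideal is split exact with flat cokernel. -/
theorem exact_and_flat {P Q N : Type u} [AddCommGroup P] [Module C P] [Module.Flat C P]
    [AddCommGroup Q] [Module C Q] [Module.Flat C Q] [AddCommGroup N] [Module C N] [Module.Flat C N]
    (f : P →ₗ[C] Q) (g : Q →ₗ[C] N) (hgf : ∀ x, g (f x) = 0)
    (hf : ∀ x, f x ∈ (𝔪 • ⊤ : Submodule C Q) → x ∈ (𝔪 • ⊤ : Submodule C P))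
    (hg : ∀ y, g y ∈ (𝔪 • ⊤ : Submodule C N) → ∃ x, y - f x ∈ (𝔪 • ⊤ : Submodule C Q)) :
    Function.Injective f ∧ (∀ y, g y = 0 → ∃ x, f x = y) ∧ Module.Flat C (N ⧸ LinearMap.range g) := by
  obtain ⟨r, hr⟩ := exists_leftInverse f hf
  have hrf : ∀ x, r (f x) = x := LinearMap.congr_fun hr
  let s : (Q ⧸ LinearMap.range f) →ₗ[C] Q := (LinearMap.range f).liftQ (LinearMap.id - f ∘ₗ r) (by
    rintro _ ⟨x, rfl⟩
    simp [hrf])
  haveI : Module.Flat C (Q ⧸ LinearMap.range f) := by
    refine Module.Flat.of_retract s (LinearMap.range f).mkQ ?_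
    ext y
    simp [s]
  let g' : (Q ⧸ LinearMap.range f) →ₗ[C] N := (LinearMap.range f).liftQ g (by
    rintro _ ⟨x, rfl⟩
    exact hgf x)
  obtain ⟨t, ht⟩ := exists_leftInverse g' (fun z hz => by
    obtain ⟨y, rfl⟩ := Submodule.Quotient.mk_surjective _ z
    obtain ⟨x, hx⟩ := hg y hz
    have h := smul_top_le_comap 𝔪 (LinearMap.range f).mkQ hx
    rw [Submodule.mem_comap, map_sub, Submodule.mkQ_apply, Submodule.mkQ_apply,
      (Submodule.Quotient.mk_eq_zero _).2 (LinearMap.mem_range_self f x), sub_zero] at h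
    exact h)
  have htg : ∀ z, t (g' z) = z := LinearMap.congr_fun ht
  refine ⟨Function.LeftInverse.injective hrf, fun y hy => ?_, ?_⟩
  · have h := htg (Submodule.Quotient.mk y)
    rw [show g' (Submodule.Quotient.mk y) = g y from rfl, hy, map_zero, eq_comm,
      Submodule.Quotient.mk_eq_zero] at h
    exact h
  · let w : (N ⧸ LinearMap.range g) →ₗ[C] N := (LinearMap.range g).liftQ (LinearMap.id - g' ∘ₗ t) (by
      rintro _ ⟨y, rfl⟩
      have : g y = g' (Submodule.Quotient.mk y) := rfl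
      simp [this, htg])
    refine Module.Flat.of_retract w (LinearMap.range g).mkQ ?_
    ext y
    have hmem : g' (t y) ∈ LinearMap.range g := by
      obtain ⟨z, hz⟩ := Submodule.Quotient.mk_surjective _ (t y)
      rw [← hz]
      exact ⟨z, rfl⟩
    simp [w, (Submodule.Quotient.mk_eq_zero _).2 hmem]

end Groth.Agent.Synt29.SplitLift
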