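import Groth.Agent.Synt29.ExtBC
import Mathlib.RingTheory.IsTensorProduct

/-! Alternating maps along a base change. -/

set_option autoImplicit false

universe u

open scoped TensorProduct

namespace Groth.Agent.Synt29.WedgeBC

variable {A B M M' : Type u} [CommRing A] [CommRing B] [Algebra A B] [AddCommGroup M] [Module A M]
  [AddCommGroup M'] [Module A M'] [Module B M'] [IsScalarTower A B M'] {l : M →ₗ[A] M'} (hl : IsBaseChange B l)
  (p : ℕ)

include hl in
/-- `⋀^p` commutes with base change. -/
theorem exists_wedgeEquiv :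
    ∃ E : B ⊗[A] ↥(⋀[A]^p M) ≃ₗ[B] ↥(⋀[B]^p M'),
      ∀ v : Fin p → M, E ((1 : B) ⊗ₜ[A] exteriorPower.ιMulti A p v) = exteriorPower.ιMulti B p (fun i => l (v i)) := by
  let q : B ⊗[A] M ≃ₗ[B] M' := hl.equiv
  have hq : Function.Bijective (exteriorPower.map p q.toLinearMap) :=
    ⟨exteriorPower.map_injective q.symm.toLinearMap (by ext; simp), exteriorPower.map_surjective q.surjective⟩
  refine ⟨LinearEquiv.ofBijective ((exteriorPower.map p q.toLinearMap).comp (ExtBC.fwd A B M p))
    (hq.comp (ExtBC.bijective_fwd p)), fun v => ?_⟩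
  refine (congrArg (exteriorPower.map p q.toLinearMap)
    ((ExtBC.fwd_tmul p _ _).trans (one_smul _ _))).trans ?_
  refine (exteriorPower.map_apply_ιMulti _ _).trans (congrArg _ (funext fun k => ?_))
  exact (hl.equiv_tmul 1 (v k)).trans (one_smul _ _)

/-- linear maps on a base change are determined by the generators -/
theorem baseChange_ext {N : Type u} [AddCommGroup N] [Module B N]
    (f g : B ⊗[A] ↥(⋀[A]^p M) →ₗ[B] N)
    (h : ∀ v : Fin p → M, f ((1 : B) ⊗ₜ[A] exteriorPower.ιMulti A p v) =
      g ((1 : B) ⊗ₜ[A] exteriorPower.ιMulti A p v)) : f = g := by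
  letI : Module A N := Module.compHom N (algebraMap A B)
  haveI : IsScalarTower A B N := IsScalarTower.of_algebraMap_smul fun _ _ => rfl
  refine LinearMap.ext fun z => ?_
  induction z using TensorProduct.induction_on with
  | zero => rw [map_zero, map_zero]
  | add x y hx hy => rw [map_add, map_add, hx, hy]
  | tmul b w =>
    have e : (f.restrictScalars A).comp (TensorProduct.mk A B _ 1) =
        (g.restrictScalars A).comp (TensorProduct.mk A B _ 1) :=
      exteriorPower.linearMap_ext (AlternatingMap.ext h)
    rw [← mul_one b, ← smul_eq_mul, ← TensorProduct.smul_tmul', map_smul, map_smul]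
    exact congrArg (b • ·) (LinearMap.congr_fun e w)

include hl in
/-- alternating maps on a base change are determined by the generators -/
theorem alt_ext {N : Type u} [AddCommGroup N] [Module B N] (a b : M' [⋀^Fin p]→ₗ[B] N)
    (h : ∀ v : Fin p → M, a (fun i => l (v i)) = b (fun i => l (v i))) : a = b := by
  obtain ⟨E, hE⟩ := exists_wedgeEquiv hl p
  have key : (exteriorPower.alternatingMapLinearEquiv a).comp E.toLinearMap =
      (exteriorPower.alternatingMapLinearEquiv b).comp E.toLinearMap :=
    baseChange_ext p _ _ fun v => by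
      simp only [LinearMap.comp_apply, LinearEquiv.coe_coe, hE, exteriorPower.alternatingMapLinearEquiv_apply_ιMulti, h]
  refine AlternatingMap.ext fun w => ?_
  obtain ⟨z, hz⟩ := E.surjective (exteriorPower.ιMulti B p w)
  have := LinearMap.congr_fun key z
  simpa [hz] using this

include hl in
/-- extension of an alternating map along a base change -/
theorem exists_alt {N : Type u} [AddCommGroup N] [Module A N] [Module B N] [IsScalarTower A B N]
    (a : M [⋀^Fin p]→ₗ[A] N) : ∃ b : M' [⋀^Fin p]→ₗ[B] N, ∀ v : Fin p → M, b (fun i => l (v i)) = a v := by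
  obtain ⟨E, hE⟩ := exists_wedgeEquiv hl p
  refine ⟨exteriorPower.alternatingMapLinearEquiv.symm
    ((LinearMap.liftBaseChange B (exteriorPower.alternatingMapLinearEquiv a)).comp E.symm.toLinearMap), fun v => ?_⟩
  rw [exteriorPower.alternatingMapLinearEquiv_symm_apply]
  show LinearMap.liftBaseChange B (exteriorPower.alternatingMapLinearEquiv a)
    (E.symm (exteriorPower.ιMulti B p fun i => l (v i))) = a v
  rw [← hE v, LinearEquiv.symm_apply_apply, LinearMap.liftBaseChange_tmul, one_smul,
    exteriorPower.alternatingMapLinearEquiv_apply_ιMulti]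

variable {L L' : Type u} [AddCommGroup L] [Module A L] [AddCommGroup L'] [Module A L'] [Module B L']
  [IsScalarTower A B L'] (φ : ↥(⋀[A]^p M) ≃ₗ[A] L) (lL : L →ₗ[A] L')

include hl in
/-- an exterior power of a base change is a base change -/
theorem isBaseChange_of_wedge (φ' : ↥(⋀[B]^p M') ≃ₗ[B] L')
    (h : ∀ v : Fin p → M, lL (φ (exteriorPower.ιMulti A p v)) = φ' (exteriorPower.ιMulti B p (fun i => l (v i)))) :
    IsBaseChange B lL := by
  obtain ⟨E, hE⟩ := exists_wedgeEquiv hl p
  let e := (LinearEquiv.baseChange A B _ _ φ.symm).trans (E.trans φ')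
  refine IsBaseChange.of_equiv e fun x => ?_
  obtain ⟨w, rfl⟩ := φ.surjective x
  show φ' (E ((1 : B) ⊗ₜ[A] φ.symm (φ w))) = lL (φ w)
  rw [LinearEquiv.symm_apply_apply]
  have e2 : (φ'.toLinearMap.comp E.toLinearMap).restrictScalars A ∘ₗ TensorProduct.mk A B _ 1 = lL ∘ₗ φ.toLinearMap :=
    exteriorPower.linearMap_ext (AlternatingMap.ext fun v => (congrArg φ' (hE v)).trans (h v).symm)
  exact LinearMap.congr_fun e2 w

include hl in
/-- the lift of the extended alternating map of a base change is bijective -/
theorem bijective_of_baseChange (hL : IsBaseChange B lL) (b : M' [⋀^Fin p]→ₗ[B] L')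
    (h : ∀ v : Fin p → M, b (fun i => l (v i)) = lL (φ (exteriorPower.ιMulti A p v))) :
    Function.Bijective (exteriorPower.alternatingMapLinearEquiv b) := by
  obtain ⟨E, hE⟩ := exists_wedgeEquiv hl p
  let e := (LinearEquiv.baseChange A B _ _ φ).trans hL.equiv
  have key : (exteriorPower.alternatingMapLinearEquiv b).comp E.toLinearMap = e.toLinearMap :=
    baseChange_ext p _ _ fun v => by
      show exteriorPower.alternatingMapLinearEquiv b (E _) = hL.equiv ((1 : B) ⊗ₜ[A] φ _)
      rw [hE, exteriorPower.alternatingMapLinearEquiv_apply_ιMulti, h, hL.equiv_tmul, one_smul]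
  refine (Function.Bijective.of_comp_iff _ E.bijective).1 ?_
  exact (congrArg (fun t : B ⊗[A] ↥(⋀[A]^p M) →ₗ[B] L' => Function.Bijective t) key).mpr e.bijective

end Groth.Agent.Synt29.WedgeBC
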